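import Cfsg.Agent.Lib.Aschbacher.Clifford

/-!
Envelopes and commutants of matrix groups over a finite field: the commutant of an irreducible
group is a field, an absolutely irreducible group spans the whole matrix algebra, and dimensions
of minimal invariant subspaces divide the degree.
-/

set_option autoImplicit false

namespace CfsgLib.Aschbacher

open Matrix Module

variable {ι : Type} [Fintype ι] [DecidableEq ι] {F : Type*} [Field F]

lemma mem_envelope {A : Subgroup (GL ι F)} {a : GL ι F} (ha : a ∈ A) :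
    (a : Matrix ι ι F) ∈ envelope A :=
  Submodule.subset_span ⟨a, ha, rfl⟩

lemma one_mem_envelope (A : Subgroup (GL ι F)) : (1 : Matrix ι ι F) ∈ envelope A :=
  mem_envelope A.one_mem

lemma mul_mem_envelope {A : Subgroup (GL ι F)} {M N : Matrix ι ι F} (hM : M ∈ envelope A)
    (hN : N ∈ envelope A) : M * N ∈ envelope A := by
  refine Submodule.span_induction ?_ ?_ ?_ ?_ hM
  · rintro x ⟨a, ha, rfl⟩
    refine Submodule.span_induction ?_ ?_ ?_ ?_ hN
    · rintro y ⟨b, hb, rfl⟩
      exact Submodule.subset_span ⟨a * b, A.mul_mem ha hb, Units.val_mul a b⟩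
    · simp
    · intro y z _ _ hy hz; rw [mul_add]; exact add_mem hy hz
    · intro c y _ hy; rw [Matrix.mul_smul]; exact Submodule.smul_mem _ c hy
  · simp
  · intro x y _ _ hx hy; rw [add_mul]; exact add_mem hx hy
  · intro c x _ hx; rw [Matrix.smul_mul]; exact Submodule.smul_mem _ c hx

lemma envelope_mono {A B : Subgroup (GL ι F)} (h : A ≤ B) : envelope A ≤ envelope B :=
  Submodule.span_mono (Set.image_mono h)

/-- The commutant of a matrix group. -/
def commutant (A : Subgroup (GL ι F)) : Subalgebra F (Matrix ι ι F) :=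
  Subalgebra.centralizer F (Cfsg.Geo.matrixSet A)

lemma mem_commutant {A : Subgroup (GL ι F)} {M : Matrix ι ι F} :
    M ∈ commutant A ↔ ∀ a ∈ A, (a : Matrix ι ι F) * M = M * a := by
  rw [commutant, Subalgebra.mem_centralizer_iff]
  constructor
  · intro h a ha; exact h _ ⟨a, ha, rfl⟩
  · rintro h _ ⟨a, ha, rfl⟩; exact h a ha

lemma mem_commutant_comm {A : Subgroup (GL ι F)} {M : Matrix ι ι F} (hM : M ∈ commutant A)
    {X : Matrix ι ι F} (hX : X ∈ envelope A) : X * M = M * X := by
  refine Submodule.span_induction ?_ ?_ ?_ ?_ hX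
  · rintro x ⟨a, ha, rfl⟩; exact mem_commutant.1 hM a ha
  · simp
  · intro x y _ _ hx hy; rw [add_mul, mul_add, hx, hy]
  · intro c x _ hx; rw [Matrix.smul_mul, Matrix.mul_smul, hx]

/-- `A` acts irreducibly. -/
abbrev Irr (A : Subgroup (GL ι F)) : Prop := Cfsg.Geo.ActsIrreducibly (Cfsg.Geo.matrixSet A)

/-- `A` acts absolutely irreducibly. -/
abbrev AbsIrr (A : Subgroup (GL ι F)) : Prop :=
  Cfsg.Geo.ActsAbsolutelyIrreducibly (Cfsg.Geo.matrixSet A)

lemma irr_iff {A : Subgroup (GL ι F)} : Irr A ↔ ∀ W, Inv A W → W = ⊥ ∨ W = ⊤ := by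
  constructor
  · intro h W hW
    refine h W ?_
    rintro s ⟨a, ha, rfl⟩ v ⟨w, hw, rfl⟩
    simpa [Matrix.toLin'_apply] using hW a ha w hw
  · intro h W hW
    refine h W fun a ha w hw => ?_
    have := hW _ ⟨a, ha, rfl⟩ (Submodule.mem_map_of_mem hw)
    simpa [Matrix.toLin'_apply] using this

lemma inv_top (A : Subgroup (GL ι F)) : Inv A (⊤ : Submodule F (ι → F)) :=
  fun _ _ _ _ => Submodule.mem_top

lemma irr_minInv [Nonempty ι] {A : Subgroup (GL ι F)} (hA : Irr A) :
    MinInv A (⊤ : Submodule F (ι → F)) :=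
  ⟨top_ne_bot, inv_top A, fun U _ hU => irr_iff.1 hA U hU⟩

lemma irr_of_le {A B : Subgroup (GL ι F)} (h : A ≤ B) (hA : Irr A) : Irr B :=
  irr_iff.2 fun W hW => irr_iff.1 hA W fun a ha => hW a (h ha)

lemma minInv_eq_top {A : Subgroup (GL ι F)} (hA : Irr A) {S : Submodule F (ι → F)}
    (hS : MinInv A S) : S = ⊤ :=
  (irr_iff.1 hA S hS.inv).resolve_left hS.ne_bot

/-- A non-zero element of the commutant of an irreducible group is injective. -/
lemma commutant_injective {A : Subgroup (GL ι F)} (hA : Irr A) {M : Matrix ι ι F}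
    (hM : M ∈ commutant A) (hM0 : M ≠ 0) {v : ι → F} (hv : M *ᵥ v = 0) : v = 0 := by
  have hinv : Inv A (LinearMap.ker (Matrix.toLin' M)) := by
    intro a ha w hw
    rw [LinearMap.mem_ker, Matrix.toLin'_apply] at hw ⊢
    rw [Matrix.mulVec_mulVec, ← mem_commutant.1 hM a ha, ← Matrix.mulVec_mulVec, hw,
      Matrix.mulVec_zero]
  rcases irr_iff.1 hA _ hinv with h | h
  · exact (Submodule.mem_bot F).1 (h ▸ by rw [LinearMap.mem_ker, Matrix.toLin'_apply]; exact hv)
  · refine absurd (Matrix.toLin'.injective ?_) hM0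
    rw [LinearMap.ker_eq_top.1 h, map_zero]

lemma commutant_isUnit {A : Subgroup (GL ι F)} (hA : Irr A) {M : Matrix ι ι F}
    (hM : M ∈ commutant A) (hM0 : M ≠ 0) : IsUnit M := by
  rw [← Matrix.mulVec_injective_iff_isUnit]
  intro u v h
  have h' : M *ᵥ (u - v) = 0 := by rw [Matrix.mulVec_sub]; exact sub_eq_zero.2 h
  exact sub_eq_zero.1 (commutant_injective hA hM hM0 h')

/-- The commutant of an irreducible group over a finite field is a field. -/
theorem commutant_isField [Finite F] [Nonempty ι] {A : Subgroup (GL ι F)} (hA : Irr A) :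
    Cfsg.Geo.IsFieldSubalgebra (Module.finrank F (commutant A)) (commutant A) := by
  haveI : Finite ↥(commutant A) := inferInstance
  haveI : Nontrivial ↥(commutant A) :=
    ⟨⟨0, 1, fun h => zero_ne_one (congrArg (fun x : ↥(commutant A) => (x : Matrix ι ι F)) h)⟩⟩
  haveI : NoZeroDivisors ↥(commutant A) := ⟨fun {x y} h => by
    by_contra hne
    push Not at hne
    obtain ⟨u, hu⟩ := commutant_isUnit hA x.2 (fun h' => hne.1 (Subtype.ext h'))
    have h' : (x : Matrix ι ι F) * y = 0 := congrArg Subtype.val h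
    rw [← hu, Units.mul_right_eq_zero] at h'
    exact hne.2 (Subtype.ext h')⟩
  haveI : IsDomain ↥(commutant A) := NoZeroDivisors.to_isDomain _
  have hF := Finite.isDomain_to_isField ↥(commutant A)
  refine ⟨fun x hx y hy => congrArg Subtype.val (hF.mul_comm ⟨x, hx⟩ ⟨y, hy⟩), fun x hx hx0 => ?_,
    rfl⟩
  obtain ⟨y, hy⟩ := hF.mul_inv_cancel (a := ⟨x, hx⟩) (fun h => hx0 (congrArg Subtype.val h))
  exact ⟨y, y.2, congrArg Subtype.val hy⟩

lemma le_normalizer_commutant {H A : Subgroup (GL ι F)}
    (hn : ∀ g ∈ H, ∀ a ∈ A, g * a * g⁻¹ ∈ A) :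
    H ≤ Cfsg.Geo.subalgebraNormalizer (commutant A) := by
  have key : ∀ g ∈ H, ∀ M ∈ commutant A,
      (g : Matrix ι ι F) * M * ((g⁻¹ : GL ι F) : Matrix ι ι F) ∈ commutant A := by
    intro g hg M hM
    refine mem_commutant.2 fun a ha => ?_
    have h1 := mem_commutant.1 hM (g⁻¹ * a * g) (by simpa using hn g⁻¹ (H.inv_mem hg) a ha)
    simp only [Units.val_mul] at h1
    have h2 := congrArg (fun X => (g : Matrix ι ι F) * X * ((g⁻¹ : GL ι F) : Matrix ι ι F)) h1
    simpa [mul_assoc, Units.mul_inv_cancel_left, Units.inv_mul_cancel_left] using h2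
  intro g hg k
  refine ⟨key g hg k, fun h => ?_⟩
  have := key g⁻¹ (H.inv_mem hg) _ h
  simpa [mul_assoc, Units.inv_mul_cancel_left] using this

/-- If every member of a family of `d`-dimensional subspaces is contained in or disjoint from the
sum of any subfamily and the family spans everything, then `d` divides the dimension. -/
lemma dvd_card_of_family [Finite F] {T : Set (Submodule F (ι → F))} {d : ℕ}
    (hd : ∀ X ∈ T, finrank F X = d)
    (hdisj : ∀ U ⊆ T, ∀ X ∈ T, X ≤ sSup U ∨ sSup U ⊓ X = ⊥) (htop : sSup T = ⊤) :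
    d ∣ Fintype.card ι := by
  obtain ⟨U, ⟨hUT, hUd⟩, hmax⟩ :=
    (Set.toFinite {U | U ⊆ T ∧ d ∣ finrank F ↥(sSup U : Submodule F (ι → F))}).exists_maximal
      ⟨∅, Set.empty_subset T, by rw [sSup_empty, finrank_bot]; exact dvd_zero d⟩
  by_cases h : sSup U = ⊤
  · rw [h, finrank_top] at hUd
    simpa using hUd
  · obtain ⟨X, hX, hXU⟩ : ∃ X ∈ T, ¬ X ≤ sSup U := by
      by_contra h'
      push Not at h'
      exact h (eq_top_iff.2 (htop ▸ sSup_le h'))
    have hinf := (hdisj U hUT X hX).resolve_left hXU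
    have h1 := Submodule.finrank_sup_add_finrank_inf_eq (sSup U) X
    rw [hinf, finrank_bot, add_zero, hd X hX] at h1
    have h2 : insert X U ≤ U := hmax ⟨Set.insert_subset hX hUT, by
      rw [sSup_insert, sup_comm, h1]; exact dvd_add hUd dvd_rfl⟩ (Set.subset_insert X U)
    exact absurd (le_sSup (h2 (Set.mem_insert X U))) hXU

lemma finrank_dvd_card [Finite F] {H A : Subgroup (GL ι F)} (hirr : Irr H)
    (hn : ∀ g ∈ H, ∀ a ∈ A, g * a * g⁻¹ ∈ A) {S : Submodule F (ι → F)} (hS : MinInv A S) :
    finrank F S ∣ Fintype.card ι := by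
  refine dvd_card_of_family (T := {W | ∃ g ∈ H, W = tr g S}) ?_ ?_ (sSup_translates hirr hS)
  · rintro W ⟨g, -, rfl⟩; exact finrank_tr g S
  · rintro U hU X ⟨g, hg, rfl⟩
    by_cases h : tr g S ≤ sSup U
    · exact Or.inl h
    · refine Or.inr ((minInv_tr hn hg hS).disjoint (inv_sSup A _ fun Y hY => ?_) h)
      obtain ⟨g', hg', rfl⟩ := hU hY
      exact inv_tr hn hg' hS.inv

/-- The degree of a field of matrices divides the dimension. -/
theorem fieldSubalgebra_dvd [Finite F] {r : ℕ} {K : Subalgebra F (Matrix ι ι F)}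
    (hK : Cfsg.Geo.IsFieldSubalgebra r K) : r ∣ Fintype.card ι := by
  let orb : (ι → F) → Submodule F (ι → F) := fun v =>
    (Subalgebra.toSubmodule K).map ((Matrix.mulVecBilin F F).flip v)
  have hmem : ∀ v u, u ∈ orb v ↔ ∃ k ∈ K, k *ᵥ v = u := by
    intro v u; simp [orb, Submodule.mem_map]
  refine dvd_card_of_family (T := {W | ∃ v, v ≠ 0 ∧ W = orb v}) ?_ ?_ ?_
  · rintro W ⟨v, hv, rfl⟩
    rw [← hK.finrank_eq, ← Subalgebra.finrank_toSubmodule]
    let f : Subalgebra.toSubmodule K →ₗ[F] orb v :=
      LinearMap.codRestrict _ (((Matrix.mulVecBilin F F).flip v).domRestrict _)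
        (fun k => Submodule.mem_map_of_mem k.2)
    have hsurj : Function.Surjective f := by
      rintro ⟨u, hu⟩
      obtain ⟨k, hk, rfl⟩ := (hmem v u).1 hu
      exact ⟨⟨k, hk⟩, rfl⟩
    have hinj : Function.Injective f := by
      intro a b hab
      by_contra hne
      obtain ⟨y, -, hy⟩ := hK.inv ((a : Matrix ι ι F) - (b : Matrix ι ι F))
        (sub_mem a.2 b.2)
        (fun h => hne (Subtype.ext (sub_eq_zero.1 h)))
      have h0 : ((a : Matrix ι ι F) - (b : Matrix ι ι F)) *ᵥ v = 0 := by
        rw [Matrix.sub_mulVec, sub_eq_zero]; exact congrArg Subtype.val hab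
      have hy' : y * ((a : Matrix ι ι F) - (b : Matrix ι ι F)) = 1 := by
        rw [← mul_eq_one_comm]; exact hy
      apply hv
      rw [← Matrix.one_mulVec v, ← hy', ← Matrix.mulVec_mulVec, h0, Matrix.mulVec_zero]
    exact (LinearEquiv.ofBijective f ⟨hinj, hsurj⟩).finrank_eq.symm
  · rintro U hU X ⟨v, hv, rfl⟩
    refine or_iff_not_imp_right.2 fun h => ?_
    obtain ⟨w, ⟨hwU, hwX⟩, hw0⟩ := Submodule.exists_mem_ne_zero_of_ne_bot h
    obtain ⟨k, hk, rfl⟩ := (hmem v w).1 hwX
    have hk0 : k ≠ 0 := fun hk0 => hw0 (by rw [hk0, Matrix.zero_mulVec])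
    obtain ⟨y, hy, hky⟩ := hK.inv k hk hk0
    have hinvU : ∀ z ∈ K, ∀ u ∈ sSup U, z *ᵥ u ∈ sSup U := by
      intro z hz u hu
      have hle : sSup U ≤ (sSup U).comap (Matrix.toLin' z) := by
        refine sSup_le fun Y hY x hx => ?_
        obtain ⟨v', -, rfl⟩ := hU hY
        obtain ⟨k', hk', rfl⟩ := (hmem v' x).1 hx
        rw [Submodule.mem_comap, Matrix.toLin'_apply, Matrix.mulVec_mulVec]
        have h2 : (z * k') *ᵥ v' ∈ orb v' := (hmem v' _).2 ⟨z * k', mul_mem hz hk', rfl⟩
        exact le_sSup hY h2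
      simpa [Submodule.mem_comap, Matrix.toLin'_apply] using hle hu
    intro u hu
    obtain ⟨z, hz, rfl⟩ := (hmem v u).1 hu
    have hyk : y * k = 1 := by rw [← mul_eq_one_comm]; exact hky
    have := hinvU (z * y) (mul_mem hz hy) _ hwU
    rwa [Matrix.mulVec_mulVec, mul_assoc, hyk, mul_one] at this
  · refine eq_top_iff.2 fun v _ => ?_
    by_cases hv : v = 0
    · rw [hv]; exact zero_mem _
    · have h1 : v ∈ orb v := (hmem v v).2 ⟨1, one_mem K, Matrix.one_mulVec v⟩
      have h2 : orb v ∈ {W | ∃ u, u ≠ 0 ∧ W = orb u} := ⟨v, hv, rfl⟩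
      exact le_sSup h2 h1

/-- Burnside: an absolutely irreducible group spans the whole matrix algebra. -/
theorem envelope_eq_top {A : Subgroup (GL ι F)} (hA : AbsIrr A) : envelope A = ⊤ := by
  have hirr : Irr A := hA.1
  have key : ∀ (k : ℕ) (v : Fin k → ι → F), LinearIndependent F v →
      ∀ w : Fin k → ι → F, ∃ M ∈ envelope A, ∀ i, M *ᵥ v i = w i := by
    intro k
    induction k with
    | zero => exact fun _ _ _ => ⟨0, zero_mem _, fun i => i.elim0⟩
    | succ k ih =>
      intro v hv w
      let v' : Fin k → ι → F := fun i => v i.castSucc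
      have hv' : LinearIndependent F v' := hv.comp _ (Fin.castSucc_injective k)
      let I : Submodule F (Matrix ι ι F) :=
        envelope A ⊓ ⨅ i, LinearMap.ker ((Matrix.mulVecBilin F F).flip (v' i))
      have hI : ∀ M, M ∈ I ↔ M ∈ envelope A ∧ ∀ i, M *ᵥ v' i = 0 := by
        intro M; simp [I, Submodule.mem_iInf]
      let W : Submodule F (ι → F) := I.map ((Matrix.mulVecBilin F F).flip (v (Fin.last k)))
      have hW : Inv A W := by
        intro a ha x hx
        obtain ⟨M, hM, rfl⟩ := Submodule.mem_map.1 hx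
        refine Submodule.mem_map.2 ⟨(a : Matrix ι ι F) * M, (hI _).2
          ⟨mul_mem_envelope (mem_envelope ha) ((hI M).1 hM).1, fun i => ?_⟩, ?_⟩
        · rw [← Matrix.mulVec_mulVec, ((hI M).1 hM).2 i, Matrix.mulVec_zero]
        · simp [Matrix.mulVec_mulVec]
      rcases irr_iff.1 hirr W hW with hbot | htop
      · exfalso
        choose M hM hMv using fun (i : Fin k) (x : ι → F) =>
          ih v' hv' (Function.update 0 i x)
        have hzero : ∀ N ∈ envelope A, (∀ i, N *ᵥ v' i = 0) → N *ᵥ v (Fin.last k) = 0 := by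
          intro N hN h0
          have : N *ᵥ v (Fin.last k) ∈ W := Submodule.mem_map.2 ⟨N, (hI N).2 ⟨hN, h0⟩, by simp⟩
          rwa [hbot, Submodule.mem_bot] at this
        let φ : Fin k → (ι → F) →ₗ[F] (ι → F) := fun i =>
          { toFun := fun x => M i x *ᵥ v (Fin.last k)
            map_add' := fun x y => by
              have := hzero (M i (x + y) - (M i x + M i y))
                (sub_mem (hM i _) (add_mem (hM i x) (hM i y))) (fun j => by
                  rw [Matrix.sub_mulVec, Matrix.add_mulVec, hMv, hMv, hMv]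
                  simp only [Function.update_apply, Pi.zero_apply]
                  split <;> simp)
              rwa [Matrix.sub_mulVec, Matrix.add_mulVec, sub_eq_zero] at this
            map_smul' := fun c x => by
              have := hzero (M i (c • x) - c • M i x)
                (sub_mem (hM i _) (Submodule.smul_mem _ c (hM i x))) (fun j => by
                  rw [Matrix.sub_mulVec, Matrix.smul_mulVec, hMv, hMv]
                  simp only [Function.update_apply, Pi.zero_apply]
                  split <;> simp)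
              rwa [Matrix.sub_mulVec, Matrix.smul_mulVec, sub_eq_zero] at this }
        have hc : ∀ i, ∃ c : F, ∀ x, φ i x = c • x := by
          intro i
          obtain ⟨c, hc⟩ := hA.2 (LinearMap.toMatrix' (φ i)) (by
            rintro _ ⟨a, ha, rfl⟩
            refine Matrix.toLin'.injective (LinearMap.ext fun x => ?_)
            simp only [Matrix.toLin'_mul, Matrix.toLin'_toMatrix', LinearMap.comp_apply,
              Matrix.toLin'_apply]
            show M i _ *ᵥ v (Fin.last k) = (a : Matrix ι ι F) *ᵥ (M i x *ᵥ v (Fin.last k))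
            have := hzero (M i ((a : Matrix ι ι F) *ᵥ x) - (a : Matrix ι ι F) * M i x)
              (sub_mem (hM i _) (mul_mem_envelope (mem_envelope ha) (hM i x))) (fun j => by
                rw [Matrix.sub_mulVec, ← Matrix.mulVec_mulVec, hMv, hMv]
                simp only [Function.update_apply, Pi.zero_apply]
                split <;> simp)
            rwa [Matrix.sub_mulVec, ← Matrix.mulVec_mulVec, sub_eq_zero] at this)
          refine ⟨c, fun x => ?_⟩
          rw [← Matrix.toLin'_toMatrix' (φ i), hc, Matrix.toLin'_apply, Matrix.smul_mulVec,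
            Matrix.one_mulVec]
        choose c hc using hc
        have h1 := hzero (1 - ∑ i, M i (v' i))
          (sub_mem (one_mem_envelope A) (sum_mem fun i _ => hM i _)) (fun j => by
            rw [Matrix.sub_mulVec, Matrix.one_mulVec, Matrix.sum_mulVec]
            simp only [hMv, Function.update_apply, Pi.zero_apply]
            rw [Finset.sum_ite_eq Finset.univ j fun i => v' i]
            simp)
        rw [Matrix.sub_mulVec, Matrix.one_mulVec, Matrix.sum_mulVec, sub_eq_zero] at h1
        have h2 : v (Fin.last k) = ∑ i, c i • v' i := by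
          rw [h1]; exact Finset.sum_congr rfl fun i _ => hc i (v' i)
        have h3 : v (Fin.last k) ∈ Submodule.span F (Set.range v') := by
          rw [h2]; exact sum_mem fun i _ => Submodule.smul_mem _ _ (Submodule.subset_span ⟨i, rfl⟩)
        exact hv.notMem_span_image (s := Set.range Fin.castSucc) (x := Fin.last k)
          (by simp [Fin.castSucc_ne_last]) (by rwa [← Set.range_comp])
      · obtain ⟨M₀, hM₀, hM₀v⟩ := ih v' hv' (fun i => w i.castSucc)
        have : w (Fin.last k) - M₀ *ᵥ v (Fin.last k) ∈ W := htop ▸ Submodule.mem_top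
        obtain ⟨N, hN, hNv⟩ := Submodule.mem_map.1 this
        refine ⟨M₀ + N, add_mem hM₀ ((hI N).1 hN).1, fun i => ?_⟩
        rw [Matrix.add_mulVec]
        refine Fin.lastCases ?_ (fun j => ?_) i
        · simp only [LinearMap.flip_apply, Matrix.mulVecBilin_apply] at hNv
          rw [hNv, add_sub_cancel]
        · rw [((hI N).1 hN).2 j, add_zero]; exact hM₀v j
  refine eq_top_iff.2 fun X _ => ?_
  let e := Fintype.equivFin ι
  have hli : LinearIndependent F (fun i => (Pi.single (e.symm i) (1 : F) : ι → F)) :=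
    by
    have := (Pi.basisFun F ι).linearIndependent.comp _ e.symm.injective
    simpa [Function.comp_def] using this
  obtain ⟨M, hM, hMv⟩ := key _ _ hli (fun i => X *ᵥ Pi.single (e.symm i) 1)
  have : M = X := by
    refine Matrix.ext_of_mulVec_single fun i => ?_
    simpa using hMv (e i)
  exact this ▸ hM

end CfsgLib.Aschbacher
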