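import Cfsg.Agent.Lib.Aschbacher.Basic

/-!
Invariant forms of absolutely irreducible groups: uniqueness up to a scalar, and its consequence
that a normalising group consists of similarities.
-/

set_option autoImplicit false

namespace CfsgLib.Aschbacher

open Matrix Module

variable {ι : Type} [Fintype ι] [DecidableEq ι] {F : Type*} [Field F]

/-- A form linear in the first and `σ`-semilinear in the second argument. -/
structure IsSesq (σ : F ≃+* F) (f : (ι → F) → (ι → F) → F) : Prop where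
  add_left : ∀ x y v, f (x + y) v = f x v + f y v
  smul_left : ∀ (c : F) x v, f (c • x) v = c * f x v
  add_right : ∀ v x y, f v (x + y) = f v x + f v y
  smul_right : ∀ (c : F) v x, f v (c • x) = σ c * f v x

lemma isSesq_of_bilinear {f : (ι → F) → (ι → F) → F} (h : Cfsg.Geo.IsBilinearForm f) :
    IsSesq (RingEquiv.refl F) f :=
  ⟨h.add_left, h.smul_left, h.add_right, fun c v x => h.smul_right c v x⟩

lemma isSesq_of_unitary {σ : F ≃+* F} {f : (ι → F) → (ι → F) → F}
    (h : Cfsg.Geo.IsUnitaryForm σ f) : IsSesq σ f :=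
  ⟨h.add_left, h.smul_left, fun v x y => by rw [h.herm, h.add_left, map_add, ← h.herm, ← h.herm],
    fun c v x => by rw [h.herm, h.smul_left, map_mul, ← h.herm]⟩

lemma IsSesq.eq_dot {σ : F ≃+* F} {f : (ι → F) → (ι → F) → F} (h : IsSesq σ f) (u v : ι → F) :
    f u v = u ⬝ᵥ (Cfsg.Geo.gramMatrix f *ᵥ (σ ∘ v)) := by
  let L : (ι → F) →+ F :=
    AddMonoidHom.mk' (fun x => f x v) (fun x y => h.add_left x y v)
  let R : ι → (ι → F) →+ F := fun a =>
    AddMonoidHom.mk' (fun x => f (Pi.single a 1) x) (fun x y => h.add_right _ x y)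
  have hu : u = ∑ a, u a • (Pi.single a 1 : ι → F) := pi_eq_sum_univ' u
  have hv : v = ∑ b, v b • (Pi.single b 1 : ι → F) := pi_eq_sum_univ' v
  calc f u v = L u := rfl
    _ = ∑ a, L (u a • (Pi.single a 1 : ι → F)) := by conv_lhs => rw [hu, map_sum]
    _ = ∑ a, u a * R a v := Finset.sum_congr rfl fun a _ => h.smul_left _ _ _
    _ = u ⬝ᵥ (Cfsg.Geo.gramMatrix f *ᵥ (σ ∘ v)) := by
      refine Finset.sum_congr rfl fun a _ => ?_
      congr 1
      conv_lhs => rw [hv, map_sum]
      refine Finset.sum_congr rfl fun b _ => ?_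
      show f (Pi.single a 1) (v b • Pi.single b 1) = _
      rw [h.smul_right, mul_comm]
      rfl

lemma comp_mulVec (σ : F ≃+* F) (x : Matrix ι ι F) (v : ι → F) :
    σ ∘ (x *ᵥ v) = x.map σ *ᵥ (σ ∘ v) :=
  funext fun i => RingHom.map_mulVec σ.toRingHom x v i

lemma IsSesq.gram_comp {σ : F ≃+* F} {f : (ι → F) → (ι → F) → F} (h : IsSesq σ f)
    (x : Matrix ι ι F) :
    Cfsg.Geo.gramMatrix (fun u v => f (x *ᵥ u) (x *ᵥ v)) =
      xᵀ * Cfsg.Geo.gramMatrix f * x.map σ := by
  ext a b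
  show f (x *ᵥ Pi.single a 1) (x *ᵥ Pi.single b 1) = _
  have hb : σ ∘ (Pi.single b (1 : F) : ι → F) = (Pi.single b 1 : ι → F) := by
    funext i
    by_cases hi : i = b <;> simp [Function.comp, hi, map_zero, map_one]
  rw [h.eq_dot, comp_mulVec, hb, Matrix.mulVec_single_one, Matrix.mulVec_single_one]
  simp [Matrix.mul_apply, dotProduct, Matrix.mulVec, Matrix.col, Finset.mul_sum, Finset.sum_mul,
    mul_assoc]
  exact Finset.sum_comm

lemma isSesq_comp {σ : F ≃+* F} {f : (ι → F) → (ι → F) → F} (h : IsSesq σ f) (x : Matrix ι ι F) :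
    IsSesq σ (fun u v => f (x *ᵥ u) (x *ᵥ v)) :=
  ⟨fun u u' v => by simp only [Matrix.mulVec_add, h.add_left],
    fun c u v => by simp only [Matrix.mulVec_smul, h.smul_left],
    fun v u u' => by simp only [Matrix.mulVec_add, h.add_right],
    fun c v u => by simp only [Matrix.mulVec_smul, h.smul_right]⟩

lemma IsSesq.gram_isUnit {σ : F ≃+* F} {f : (ι → F) → (ι → F) → F} (h : IsSesq σ f)
    (hnd : Cfsg.Geo.IsNondegenerateForm f) : IsUnit (Cfsg.Geo.gramMatrix f) := by
  rw [← Matrix.mulVec_injective_iff_isUnit]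
  intro w w' hw
  by_contra hne
  have h0 : Cfsg.Geo.gramMatrix f *ᵥ (w - w') = 0 := by
    rw [Matrix.mulVec_sub]; exact sub_eq_zero.2 hw
  let z : ι → F := σ.symm ∘ (w - w')
  have hz : σ ∘ z = w - w' := funext fun i => σ.apply_symm_apply _
  obtain ⟨⟨x, hx⟩, -⟩ := hnd z (fun hz0 => hne (sub_eq_zero.1 (funext fun i => by
    rw [← hz, hz0]; simp)))
  exact hx (by rw [h.eq_dot, hz, h0, dotProduct_zero])

/-- Two forms fixed by an absolutely irreducible group are proportional. -/
theorem exists_eq_smul [Nonempty ι] {P : Subgroup (GL ι F)} (hP : AbsIrr P) {σ : F ≃+* F}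
    {f f' : (ι → F) → (ι → F) → F} (hf : IsSesq σ f) (hf' : IsSesq σ f')
    (hnd : Cfsg.Geo.IsNondegenerateForm f) (hPf : Cfsg.Geo.FixesForm (Cfsg.Geo.matrixSet P) f)
    (hPf' : Cfsg.Geo.FixesForm (Cfsg.Geo.matrixSet P) f') :
    ∃ c : F, ∀ u v, f' u v = c * f u v := by
  set G := Cfsg.Geo.gramMatrix f with hG
  set G' := Cfsg.Geo.gramMatrix f' with hG'
  obtain ⟨Gu, hGu⟩ := hf.gram_isUnit hnd
  let M : Matrix ι ι F := (Gu⁻¹ : (Matrix ι ι F)ˣ) * G'
  have hM : ∀ s ∈ Cfsg.Geo.matrixSet P, M * s.map σ = s.map σ * M := by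
    intro s hs
    have h1 : sᵀ * G * s.map σ = G := by
      rw [← hf.gram_comp]; ext a b; exact hPf s hs _ _
    have h2 : sᵀ * G' * s.map σ = G' := by
      rw [← hf'.gram_comp]; ext a b; exact hPf' s hs _ _
    rw [← hG] at hGu
    have h3 : ((Gu⁻¹ : (Matrix ι ι F)ˣ) : Matrix ι ι F) * sᵀ * G * s.map σ = 1 := by
      rw [mul_assoc, mul_assoc, ← mul_assoc sᵀ, h1, ← hGu, Units.inv_mul]
    have h4 : s.map σ * (((Gu⁻¹ : (Matrix ι ι F)ˣ) : Matrix ι ι F) * sᵀ * G) = 1 :=
      mul_eq_one_comm.1 h3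
    calc M * s.map σ = ((Gu⁻¹ : (Matrix ι ι F)ˣ) : Matrix ι ι F) * G' * s.map σ := rfl
      _ = (s.map σ * (((Gu⁻¹ : (Matrix ι ι F)ˣ) : Matrix ι ι F) * sᵀ * G)) *
            (((Gu⁻¹ : (Matrix ι ι F)ˣ) : Matrix ι ι F) * G' * s.map σ) := by rw [h4, one_mul]
      _ = s.map σ * (((Gu⁻¹ : (Matrix ι ι F)ˣ) : Matrix ι ι F) * (sᵀ * G' * s.map σ)) := by
            simp only [mul_assoc, ← hGu, Units.mul_inv_cancel_left]
      _ = s.map σ * M := by rw [h2]
  have hcomm : ∀ s ∈ Cfsg.Geo.matrixSet P, M.map σ.symm * s = s * M.map σ.symm := by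
    intro s hs
    have h := congrArg (fun X : Matrix ι ι F => X.map σ.symm) (hM s hs)
    simp only [Matrix.map_mul, Matrix.map_map] at h
    have hid : (σ.symm : F → F) ∘ σ = id := funext σ.symm_apply_apply
    simpa [hid] using h
  obtain ⟨c, hc⟩ := hP.2 _ hcomm
  refine ⟨σ c, fun u v => ?_⟩
  have hM' : M = σ c • (1 : Matrix ι ι F) := by
    ext a b
    have h := congrArg σ (congrFun (congrFun hc a) b)
    simp only [Matrix.map_apply, σ.apply_symm_apply, Matrix.smul_apply, smul_eq_mul, map_mul] at h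
    rw [h, Matrix.smul_apply, smul_eq_mul, Matrix.one_apply]
    split <;> simp
  have hG'eq : G' = σ c • G := by
    have h : (Gu : Matrix ι ι F) * M = G' := by simp [M, ← mul_assoc]
    rw [← h, hM', Matrix.mul_smul, mul_one, hGu]
  rw [hf'.eq_dot, hf.eq_dot, ← hG', hG'eq, Matrix.smul_mulVec, dotProduct_smul, smul_eq_mul]

/-- A group normalising an absolutely irreducible group that fixes a form consists of similarities
of that form. -/
theorem le_similarityGroup [Nonempty ι] {H P : Subgroup (GL ι F)} (hP : AbsIrr P)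
    (hn : ∀ g ∈ H, ∀ a ∈ P, g * a * g⁻¹ ∈ P) {σ : F ≃+* F} {f : (ι → F) → (ι → F) → F}
    (hf : IsSesq σ f) (hnd : Cfsg.Geo.IsNondegenerateForm f)
    (hPf : Cfsg.Geo.FixesForm (Cfsg.Geo.matrixSet P) f) :
    H ≤ Cfsg.Geo.similarityGroup f := by
  intro g hg
  let f' : (ι → F) → (ι → F) → F :=
    fun u v => f ((g : Matrix ι ι F) *ᵥ u) ((g : Matrix ι ι F) *ᵥ v)
  have hPf' : Cfsg.Geo.FixesForm (Cfsg.Geo.matrixSet P) f' := by
    rintro _ ⟨a, ha, rfl⟩ u v
    have h := hPf _ ⟨g * a * g⁻¹, hn g hg a ha, rfl⟩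
      ((g : Matrix ι ι F) *ᵥ u) ((g : Matrix ι ι F) *ᵥ v)
    have e : ∀ w, ((g * a * g⁻¹ : GL ι F) : Matrix ι ι F) *ᵥ ((g : Matrix ι ι F) *ᵥ w)
        = (g : Matrix ι ι F) *ᵥ ((a : Matrix ι ι F) *ᵥ w) := by
      intro w
      rw [mul_mulVec, mul_mulVec, inv_mulVec_cancel]
    rw [e, e] at h
    exact h
  obtain ⟨c, hc⟩ := exists_eq_smul hP hf (isSesq_comp hf _) hnd hPf hPf'
  have hc0 : c ≠ 0 := by
    intro h0
    obtain ⟨v⟩ := (inferInstance : Nonempty ι)
    obtain ⟨⟨x, hx⟩, -⟩ := hnd (Pi.single v (1 : F)) (by simp)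
    apply hx
    have := hc (((g⁻¹ : GL ι F) : Matrix ι ι F) *ᵥ x)
      (((g⁻¹ : GL ι F) : Matrix ι ι F) *ᵥ Pi.single v 1)
    simp only [mulVec_inv_cancel, h0, zero_mul] at this
    exact this
  exact ⟨Units.mk0 c hc0, fun u v => hc u v⟩

lemma fixesForm_polar {S : Set (Matrix ι ι F)} {Q : (ι → F) → F}
    (h : Cfsg.Geo.FixesQuadForm S Q) : Cfsg.Geo.FixesForm S (QuadraticMap.polar Q) := by
  intro s hs u v
  simp only [QuadraticMap.polar, ← Matrix.mulVec_add, h s hs]

lemma polar_self {Q : (ι → F) → F} (hQ : Cfsg.Geo.IsNondegenerateQuadraticForm Q) (v : ι → F) :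
    QuadraticMap.polar Q v v = 2 * Q v := by
  rw [QuadraticMap.polar, ← two_smul F v, hQ.smul]; ring

theorem le_quadSimilarityGroup [Nonempty ι] {H P : Subgroup (GL ι F)} (hP : AbsIrr P)
    (hn : ∀ g ∈ H, ∀ a ∈ P, g * a * g⁻¹ ∈ P) (h2 : (2 : F) ≠ 0) {Q : (ι → F) → F}
    (hQ : Cfsg.Geo.IsNondegenerateQuadraticForm Q)
    (hPQ : Cfsg.Geo.FixesQuadForm (Cfsg.Geo.matrixSet P) Q) :
    H ≤ Cfsg.Geo.quadSimilarityGroup Q := by
  intro g hg
  obtain ⟨c, hc⟩ := le_similarityGroup hP hn (isSesq_of_bilinear hQ.polar_bilinear)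
    hQ.nondegenerate (fixesForm_polar hPQ) hg
  refine ⟨c, fun v => ?_⟩
  have := hc v v
  rw [polar_self hQ, polar_self hQ] at this
  exact mul_left_cancel₀ h2 (by linear_combination this)

/-- A subspace on which an alternating bilinear form is non-degenerate has even dimension. -/
theorem even_finrank_of_alternating {f : (ι → F) → (ι → F) → F} (hb : Cfsg.Geo.IsBilinearForm f)
    (halt : ∀ v, f v v = 0) :
    ∀ (d : ℕ) (W : Submodule F (ι → F)), finrank F W = d →
      (∀ w ∈ W, w ≠ 0 → ∃ x ∈ W, f w x ≠ 0) → Even d := by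
  have hskew : ∀ u v, f u v = - f v u := by
    intro u v
    have := halt (u + v)
    rw [hb.add_left, hb.add_right, hb.add_right, halt, halt] at this
    linear_combination this
  intro d
  induction d using Nat.strong_induction_on with
  | _ d ih =>
    intro W hW hnd
    by_cases h0 : W = ⊥
    · subst h0; rw [finrank_bot] at hW; exact hW ▸ Even.zero
    obtain ⟨u, hu, hu0⟩ := Submodule.exists_mem_ne_zero_of_ne_bot h0
    obtain ⟨v, hv, huv⟩ := hnd u hu hu0
    let φ : W →ₗ[F] F × F :=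
      { toFun := fun w => (f u w, f v w)
        map_add' := fun a b => by simp [hb.add_right]
        map_smul' := fun c a => by simp [hb.smul_right] }
    have hsurj : Function.Surjective φ := by
      rintro ⟨a, b⟩
      refine ⟨⟨(a / f u v) • v + (-(b / f u v)) • u,
        add_mem (W.smul_mem _ hv) (W.smul_mem _ hu)⟩, ?_⟩
      simp only [φ, LinearMap.coe_mk, AddHom.coe_mk, hb.add_right, hb.smul_right, halt, hskew v u]
      ext <;> field_simp <;> ring
    have hrn := LinearMap.finrank_range_add_finrank_ker φ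
    rw [LinearMap.range_eq_top.2 hsurj, finrank_top, finrank_prod, finrank_self, hW] at hrn
    let W' := (LinearMap.ker φ).map W.subtype
    have hW' : finrank F W' = finrank F (LinearMap.ker φ) :=
      (Submodule.equivMapOfInjective _ W.subtype_injective _).finrank_eq.symm
    have heven := ih (finrank F (LinearMap.ker φ)) (by omega) W' hW' (by
      rintro _ ⟨w, hw, rfl⟩ hw0
      have hw' : f u w = 0 ∧ f v w = 0 := by
        have h := LinearMap.mem_ker.1 hw
        exact ⟨congrArg Prod.fst h, congrArg Prod.snd h⟩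
      obtain ⟨x, hx, hwx⟩ := hnd _ w.2 hw0
      let x' : ι → F := x + (-(f u x / f u v)) • v + (f v x / f u v) • u
      have hx'W : x' ∈ W :=
        add_mem (add_mem hx (W.smul_mem _ hv)) (W.smul_mem _ hu)
      have hker : φ ⟨x', hx'W⟩ = 0 := by
        simp only [φ, x', LinearMap.coe_mk, AddHom.coe_mk, hb.add_right, hb.smul_right, halt,
          hskew v u]
        ext <;> simp <;> field_simp <;> ring
      refine ⟨x', ⟨⟨x', hx'W⟩, hker, rfl⟩, ?_⟩
      show f w x' ≠ 0
      simp only [x', hb.add_right, hb.smul_right]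
      rw [hskew (w : ι → F) v, hskew (w : ι → F) u, hw'.1, hw'.2]
      simpa using hwx)
    rw [show d = finrank F (LinearMap.ker φ) + 2 by omega]
    exact heven.add even_two

/-- In odd dimension there is no symplectic form. -/
theorem not_isSymplecticForm_of_odd (ho : Odd (Fintype.card ι)) (f : (ι → F) → (ι → F) → F) :
    ¬ Cfsg.Geo.IsSymplecticForm f := by
  intro h
  have := even_finrank_of_alternating h.bilinear h.alternating (Fintype.card ι) ⊤ (by simp)
    (fun w _ hw => by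
      obtain ⟨-, x, hx⟩ := h.nondegenerate w hw
      exact ⟨x, Submodule.mem_top, hx⟩)
  exact (Nat.not_odd_iff_even.2 this) ho

/-- In characteristic two and odd dimension there is no non-degenerate quadratic form. -/
theorem two_ne_zero_of_quadratic (ho : Odd (Fintype.card ι)) {Q : (ι → F) → F}
    (hQ : Cfsg.Geo.IsNondegenerateQuadraticForm Q) : (2 : F) ≠ 0 := by
  intro h2
  have := even_finrank_of_alternating hQ.polar_bilinear
    (fun v => by rw [polar_self hQ, h2, zero_mul]) (Fintype.card ι) ⊤ (by simp)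
    (fun w _ hw => by
      obtain ⟨-, x, hx⟩ := hQ.nondegenerate w hw
      exact ⟨x, Submodule.mem_top, hx⟩)
  exact (Nat.not_odd_iff_even.2 this) ho

end CfsgLib.Aschbacher
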