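import Cfsg.Agent.Lib.Aschbacher.Tensor
import Cfsg.Agent.Lib.Aschbacher.Forms

/-!
Linear classes 4, 7 and 8 from normalised tensor structures and from invariant matrices of forms.
-/

set_option autoImplicit false

namespace CfsgLib.Aschbacher

open Matrix Module

open scoped Kronecker

variable {F : Type*} [Field F] {ι : Type} [Fintype ι] [DecidableEq ι]

section refined

open Cfsg.Geo in
/-- The eight classes, with the degree recorded in the sixth. -/
def InLinearClass' (n : ℕ) (F : Type*) [Field F] [Fintype F] (M : Subgroup (GL (Fin n) F)) : Prop :=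
  (∃ W : Submodule F (Fin n → F), W ≠ ⊥ ∧ W ≠ ⊤ ∧ M = subspaceStabilizer W) ∨
  (∃ W U : Submodule F (Fin n → F), W ≠ ⊥ ∧ W < U ∧ Module.finrank F W + Module.finrank F U = n ∧
      M = subspaceStabilizer W ⊓ subspaceStabilizer U) ∨
  (∃ W U : Submodule F (Fin n → F), W ≠ ⊥ ∧ W ⊓ U = ⊥ ∧ W ⊔ U = ⊤ ∧
      Module.finrank F W < Module.finrank F U ∧ M = subspaceStabilizer W ⊓ subspaceStabilizer U) ∨
  (∃ (t m : ℕ) (D : Fin t → Submodule F (Fin n → F)), IsMDecomposition m D ∧ M = decompositionStabilizer D) ∨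
  (∃ (r : ℕ) (K : Subalgebra F (Matrix (Fin n) (Fin n) F)), r.Prime ∧ IsFieldSubalgebra r K ∧
      M = subalgebraNormalizer K) ∨
  (∃ (n₁ n₂ : ℕ) (e : Fin n ≃ Fin n₁ × Fin n₂) (P : GL (Fin n) F), 2 ≤ n₁ ∧ n₁ < n₂ ∧
      M = tensorProductSubgroup n₁ n₂ e P) ∨
  (∃ (F₀ : Subfield F) (r : ℕ) (P : GL (Fin n) F), r.Prime ∧ Fintype.card F = Nat.card F₀ ^ r ∧
      M = subfieldSubgroup F₀ P) ∨
  (∃ (r : ℕ) (R : Subgroup (GL (Fin n) F)), IsLinearSymplecticTypeData r R ∧ (∃ m, n = r ^ m) ∧ M = subgroupNormalizer R) ∨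
  (∃ (m t : ℕ) (e : Fin n ≃ (Fin t → Fin m)) (P : GL (Fin n) F), 3 ≤ m ∧ 2 ≤ t ∧
      M = tensorWreathSubgroup m t e P) ∨
  (∃ f : (Fin n → F) → (Fin n → F) → F, IsSymplecticForm f ∧ Even n ∧ 4 ≤ n ∧ M = similarityGroup f) ∨
  (∃ (σ : F ≃+* F) (f : (Fin n → F) → (Fin n → F) → F), IsUnitaryForm σ f ∧ 3 ≤ n ∧ M = similarityGroup f) ∨
  (∃ Q : (Fin n → F) → F, IsNondegenerateQuadraticForm Q ∧ Odd (Fintype.card F) ∧ 3 ≤ n ∧
      M = quadSimilarityGroup Q)

lemma InLinearClass'.toClass [Fintype F] {n : ℕ} {M : Subgroup (GL (Fin n) F)}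
    (h : InLinearClass' n F M) : Cfsg.Geo.InLinearClass n F M := by
  unfold InLinearClass' at h
  unfold Cfsg.Geo.InLinearClass
  exact h.imp id (Or.imp id (Or.imp id (Or.imp id (Or.imp id (Or.imp id (Or.imp id
    (Or.imp (fun ⟨r, R, hR, _, hM⟩ => ⟨r, R, hR, hM⟩) id)))))))

end refined

/-- The similitudes of the form with matrix `J`. -/
def simSubgroup (J : Matrix ι ι F) : Subgroup (GL ι F) where
  carrier := {g | ∃ c : Fˣ, (g : Matrix ι ι F)ᵀ * J * (g : Matrix ι ι F) = (c : F) • J}
  one_mem' := ⟨1, by simp⟩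
  mul_mem' {a b} ha hb := by
    obtain ⟨c, hc⟩ := ha
    obtain ⟨d, hd⟩ := hb
    refine ⟨c * d, ?_⟩
    calc ((a * b : GL ι F) : Matrix ι ι F)ᵀ * J * ((a * b : GL ι F) : Matrix ι ι F)
        = (b : Matrix ι ι F)ᵀ * ((a : Matrix ι ι F)ᵀ * J * a) * b := by
          simp [Matrix.transpose_mul, mul_assoc]
      _ = _ := by rw [hc, Matrix.mul_smul, Matrix.smul_mul, hd, smul_smul, Units.val_mul]
  inv_mem' {a} ha := by
    obtain ⟨c, hc⟩ := ha
    refine ⟨c⁻¹, ?_⟩
    calc ((a⁻¹ : GL ι F) : Matrix ι ι F)ᵀ * J * ((a⁻¹ : GL ι F) : Matrix ι ι F)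
        = ((a⁻¹ : GL ι F) : Matrix ι ι F)ᵀ * (((c⁻¹ : Fˣ) : F) • ((c : F) • J)) *
            ((a⁻¹ : GL ι F) : Matrix ι ι F) := by rw [smul_smul, ← Units.val_mul]; simp
      _ = ((c⁻¹ : Fˣ) : F) • (((a : Matrix ι ι F) * ((a⁻¹ : GL ι F) : Matrix ι ι F))ᵀ * J *
            ((a : Matrix ι ι F) * ((a⁻¹ : GL ι F) : Matrix ι ι F))) := by
          rw [← hc, Matrix.mul_smul, Matrix.smul_mul, Matrix.transpose_mul]; simp only [mul_assoc]
      _ = _ := by simp

lemma mem_simSubgroup [Nonempty ι] {J : Matrix ι ι F} (hJ : IsUnit J) {g : GL ι F} {c : F}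
    (h : (g : Matrix ι ι F)ᵀ * J * (g : Matrix ι ι F) = c • J) : g ∈ simSubgroup J := by
  refine ⟨Units.mk0 c fun h0 => ?_, h⟩
  have hu : IsUnit ((g : Matrix ι ι F)ᵀ * J * (g : Matrix ι ι F)) :=
    (((Matrix.isUnit_transpose _).2 g.isUnit).mul hJ).mul g.isUnit
  rw [h, h0, zero_smul] at hu
  exact hu.ne_zero rfl

theorem exists_class_of_form [Fintype F] {n : ℕ} (hn : 3 ≤ n) {H : Subgroup (GL (Fin n) F)}
    {J : Matrix (Fin n) (Fin n) F} (hJ : IsUnit J) {ε : F} (hε : ε = 1 ∨ ε = -1)
    (hsym : Jᵀ = ε • J) (hdiag : (2 : F) = 0 → ∀ i, J i i = 0) (hH : H ≤ simSubgroup J) :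
    ∃ M : Subgroup (GL (Fin n) F), InLinearClass' n F M ∧ H ≤ M := by
  have : Nonempty (Fin n) := ⟨⟨0, by omega⟩⟩
  let f : (Fin n → F) → (Fin n → F) → F := fun u v => u ⬝ᵥ (J *ᵥ v)
  have hb : Cfsg.Geo.IsBilinearForm f := by
    refine ⟨fun x y v => add_dotProduct _ _ _, fun c x v => smul_dotProduct _ _ _,
      fun v x y => ?_, fun c v x => ?_⟩
    · simp [f, Matrix.mulVec_add, dotProduct_add]
    · simp [f, Matrix.mulVec_smul]
  have hswap : ∀ u v, f v u = ε * f u v := by
    intro u v
    show v ⬝ᵥ (J *ᵥ u) = ε * (u ⬝ᵥ (J *ᵥ v))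
    rw [dotProduct_comm, ← Matrix.vecMul_transpose, ← Matrix.dotProduct_mulVec, hsym,
      Matrix.smul_mulVec, dotProduct_smul, smul_eq_mul]
  have hε0 : ε ≠ 0 := by rcases hε with h | h <;> simp [h]
  have hnd : Cfsg.Geo.IsNondegenerateForm f := by
    intro v hv
    obtain ⟨i, hi⟩ : ∃ i, (J *ᵥ v) i ≠ 0 := by
      by_contra h
      push Not at h
      refine hv (Matrix.mulVec_injective_iff_isUnit.2 hJ (?_ : J *ᵥ v = J *ᵥ 0))
      rw [Matrix.mulVec_zero]
      exact funext h
    have h1 : f (Pi.single i 1) v ≠ 0 := by simpa [f] using hi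
    exact ⟨⟨_, h1⟩, ⟨Pi.single i 1, by rw [hswap]; exact mul_ne_zero hε0 h1⟩⟩
  have hsim : H ≤ Cfsg.Geo.similarityGroup f := by
    intro g hg
    obtain ⟨c, hc⟩ := hH hg
    refine ⟨c, fun u v => ?_⟩
    show ((g : Matrix _ _ F) *ᵥ u) ⬝ᵥ (J *ᵥ ((g : Matrix _ _ F) *ᵥ v)) = (c : F) * (u ⬝ᵥ (J *ᵥ v))
    rw [← Matrix.vecMul_transpose, ← Matrix.dotProduct_mulVec, Matrix.mulVec_mulVec,
      Matrix.mulVec_mulVec, hc, Matrix.smul_mulVec, dotProduct_smul, smul_eq_mul]
  have hskew_class : (∀ v, f v v = 0) → ∃ M : Subgroup (GL (Fin n) F),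
      InLinearClass' n F M ∧ H ≤ M := by
    intro halt
    have hskew : ∀ u v, f u v = - f v u := by
      intro u v
      have := halt (u + v)
      rw [hb.add_left, hb.add_right, hb.add_right, halt, halt] at this
      linear_combination this
    have hev := even_finrank_of_alternating hb halt n ⊤ (by simp) fun w _ hw => by
      obtain ⟨-, x, hx⟩ := hnd w hw
      exact ⟨x, Submodule.mem_top, hx⟩
    refine ⟨_, ?_, hsim⟩
    iterate 9 right
    left
    exact ⟨f, ⟨hb, hskew, halt, hnd⟩, hev, by obtain ⟨k, hk⟩ := hev; omega, rfl⟩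
  by_cases h2 : (2 : F) = 0
  · refine hskew_class fun v => ?_
    have hε1 : ε = 1 := by
      rcases hε with h | h
      · exact h
      · rw [h]; linear_combination -h2
    let q : (Fin n → F) →+ F := AddMonoidHom.mk' (fun v => f v v) fun u v => by
      rw [hb.add_left, hb.add_right, hb.add_right, hswap u v, hε1]
      linear_combination f u v * h2
    show q v = 0
    conv_lhs => rw [pi_eq_sum_univ' v, map_sum]
    refine Finset.sum_eq_zero fun i _ => ?_
    show f (v i • (Pi.single i (1 : F) : Fin n → F)) (v i • (Pi.single i (1 : F) : Fin n → F)) = 0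
    rw [hb.smul_left, hb.smul_right]
    simp [f, hdiag h2 i]
  rcases hε with hε | hε
  · -- orthogonal
    let Q : (Fin n → F) → F := fun v => f v v
    have hpolar : ∀ u v, QuadraticMap.polar Q u v = 2 * f u v := by
      intro u v
      simp only [QuadraticMap.polar, Q, hb.add_left, hb.add_right, hswap u v, hε]
      ring
    have hQ : Cfsg.Geo.IsNondegenerateQuadraticForm Q := by
      refine ⟨fun c v => ?_, ⟨?_, ?_, ?_, ?_⟩, fun v hv => ?_⟩
      · show f (c • v) (c • v) = c ^ 2 * f v v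
        rw [hb.smul_left, hb.smul_right]; ring
      · intro x y v; simp only [hpolar, hb.add_left]; ring
      · intro c x v; simp only [hpolar, hb.smul_left]; ring
      · intro v x y; simp only [hpolar, hb.add_right]; ring
      · intro c v x; simp only [hpolar, hb.smul_right]; ring
      · obtain ⟨⟨x, hx⟩, ⟨y, hy⟩⟩ := hnd v hv
        exact ⟨⟨x, by rw [hpolar]; exact mul_ne_zero h2 hx⟩,
          ⟨y, by rw [hpolar]; exact mul_ne_zero h2 hy⟩⟩
    have hodd : Odd (Fintype.card F) := by
      rw [Nat.odd_iff]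
      exact FiniteField.odd_card_of_char_ne_two fun hc => h2 (by
        have : CharP F 2 := ringChar.of_eq hc
        exact CharTwo.two_eq_zero)
    refine ⟨Cfsg.Geo.quadSimilarityGroup Q, ?_, fun g hg => ?_⟩
    · iterate 11 right
      exact ⟨Q, hQ, hodd, hn, rfl⟩
    · obtain ⟨c, hc⟩ := hsim hg
      exact ⟨c, fun v => hc v v⟩
  · refine hskew_class fun v => ?_
    have h := hswap v v
    rw [hε] at h
    exact (mul_eq_zero.1 (show (2 : F) * f v v = 0 by linear_combination h)).resolve_left h2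

/-! ### The tensor power with factors of dimension two -/

section two

variable {t : ℕ}

/-- The matrix of the alternating form in dimension two. -/
def omega2 (F : Type*) [Field F] : Matrix (Fin 2) (Fin 2) F := !![0, 1; -1, 0]

lemma omega2_transpose : (omega2 F)ᵀ = (-1 : F) • omega2 F := by
  ext i j; fin_cases i <;> fin_cases j <;> simp [omega2]

lemma omega2_sim (A : Matrix (Fin 2) (Fin 2) F) : Aᵀ * omega2 F * A = A.det • omega2 F := by
  ext i j
  fin_cases i <;> fin_cases j <;>
    simp [omega2, Matrix.mul_apply, Fin.sum_univ_two, Matrix.det_fin_two] <;> ring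

lemma omega2_isUnit : IsUnit (omega2 F) := by
  rw [Matrix.isUnit_iff_isUnit_det, Matrix.det_fin_two]
  simp [omega2]

/-- The tensor power of the alternating form. -/
noncomputable def omegaPow (F : Type*) [Field F] (t : ℕ) :
    Matrix (Fin t → Fin 2) (Fin t → Fin 2) F :=
  pureMat fun _ => omega2 F

lemma pureMat_transpose {m : ℕ} (A : Fin t → Matrix (Fin m) (Fin m) F) :
    (pureMat A)ᵀ = pureMat fun i => (A i)ᵀ := rfl

lemma omegaPow_transpose : (omegaPow F t)ᵀ = ((-1 : F) ^ t) • omegaPow F t := by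
  rw [omegaPow, pureMat_transpose]
  simp only [omega2_transpose]
  rw [pureMat_smul, Finset.prod_const, Finset.card_univ, Fintype.card_fin]

lemma omegaPow_isUnit : IsUnit (omegaPow F t) := by
  obtain ⟨u, hu⟩ := omega2_isUnit (F := F)
  refine ⟨pureGL fun _ => u, ?_⟩
  show pureMat _ = _
  simp only [hu]; rfl

theorem tensorWreathStandard_le_sim [NeZero t] :
    Cfsg.Geo.tensorWreathStandard 2 t F ≤ simSubgroup (omegaPow F t) := by
  rw [Cfsg.Geo.tensorWreathStandard, Subgroup.closure_le]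
  rintro g (⟨gs, hgs⟩ | ⟨σ, hσ⟩)
  · refine mem_simSubgroup omegaPow_isUnit (c := ∏ i, (gs i : Matrix (Fin 2) (Fin 2) F).det) ?_
    rw [show (g : Matrix (Fin t → Fin 2) (Fin t → Fin 2) F) =
      pureMat fun i => (gs i : Matrix (Fin 2) (Fin 2) F) from Matrix.ext hgs, pureMat_transpose,
      omegaPow, pureMat_mul, pureMat_mul, ← pureMat_smul]
    exact congrArg pureMat (funext fun i => omega2_sim _)
  · refine mem_simSubgroup omegaPow_isUnit (c := 1) ?_
    rw [show (g : Matrix (Fin t → Fin 2) (Fin t → Fin 2) F) = permMat 2 F σ from Matrix.ext hσ]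
    have ht : (permMat 2 F σ)ᵀ = permMat 2 F σ⁻¹ := by
      ext x y
      simp only [permMat, Matrix.transpose_apply, Matrix.of_apply]
      refine if_congr ⟨fun h => ?_, fun h => ?_⟩ rfl rfl
      · subst h; funext i; simp
      · subst h; funext i; simp
    rw [ht, omegaPow, mul_assoc, ← show permMat 2 F σ * pureMat (fun _ => omega2 F) =
      pureMat (fun _ => omega2 F) * permMat 2 F σ from permMat_mul_pureMat σ _, ← mul_assoc,
      permMat_mul, inv_mul_cancel, permMat_one, one_mul, one_smul]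

end two

/-- A group permuting a generating family of commuting full matrix algebras of equal size. -/
theorem exists_class_of_family [Fintype F] {n t m : ℕ} (hn : 3 ≤ n) (ht : 2 ≤ t) (hm : 2 ≤ m)
    {E : Fin t → Fin m → Fin m → Matrix (Fin n) (Fin n) F} (hE : ∀ i, IsUnits (E i))
    (hc : ∀ i j, i ≠ j → ∀ k l k' l', Commute (E i k l) (E j k' l'))
    (hscalar : ∀ M : Matrix (Fin n) (Fin n) F, (∀ i k l, Commute M (E i k l)) →
      ∃ c : F, M = c • (1 : Matrix (Fin n) (Fin n) F))
    {H : Subgroup (GL (Fin n) F)}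
    (hH : ∀ g ∈ H, ∃ σ : Equiv.Perm (Fin t), ∀ i k l,
      (g : Matrix (Fin n) (Fin n) F) * E i k l *
        ((g⁻¹ : GL (Fin n) F) : Matrix (Fin n) (Fin n) F) ∈
        Submodule.span F (Set.range fun p : Fin m × Fin m => E (σ i) p.1 p.2)) :
    ∃ M : Subgroup (GL (Fin n) F), InLinearClass' n F M ∧ H ≤ M := by
  classical
  have : Nonempty (Fin n) := ⟨⟨0, by omega⟩⟩
  have : NeZero m := ⟨by omega⟩
  have : NeZero t := ⟨by omega⟩
  obtain ⟨b, hb, hcard, hfr⟩ := (isUnits_prodUnits hc hE).exists_frame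
  have hb1 : b = 1 := by
    by_contra hne
    let e : Fin n ≃ (Fin t → Fin m) × Fin b := Fintype.equivOfCardEq
      (by rw [hcard, Fintype.card_prod, Fintype.card_fin b])
    obtain ⟨P, hP⟩ := hfr e
    let j0 : Fin b := ⟨0, hb⟩
    let j1 : Fin b := ⟨1, by omega⟩
    let D : Matrix ((Fin t → Fin m) × Fin b) ((Fin t → Fin m) × Fin b) F :=
      (1 : Matrix (Fin t → Fin m) (Fin t → Fin m) F) ⊗ₖ Matrix.single j0 j0 1
    obtain ⟨c, hcD⟩ := hscalar (frAlg e P D) fun i k l => by
      rw [eq_sum_prodUnits hc hE i k l]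
      refine Commute.sum_right _ _ _ fun x _ => ?_
      rw [hP]
      refine Commute.map ?_ (frAlg e P)
      show D * _ = _ * D
      simp only [D, ← Matrix.mul_kronecker_mul, one_mul, mul_one]
    have hD : D = c • 1 := (frAlg e P).injective (by rw [hcD, map_smul, map_one])
    have h0 := congrFun (congrFun hD (0, j0)) (0, j0)
    have h1 := congrFun (congrFun hD (0, j1)) (0, j1)
    have hj : j0 ≠ j1 := fun h => by simp [j0, j1, Fin.ext_iff] at h
    simp [D, hj] at h0 h1
    exact one_ne_zero (h0.trans h1.symm)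
  subst hb1
  rw [mul_one] at hcard
  let e : Fin n ≃ (Fin t → Fin m) := Fintype.equivOfCardEq (by simp [← hcard])
  obtain ⟨P, hP⟩ := hfr (e.trans (Equiv.prodUnique _ (Fin 1)).symm)
  have hP' : ∀ y z, prodUnits hc y z = frAlg e P (Matrix.single y z (1 : F)) := by
    intro y z
    rw [hP, frAlg_apply, frAlg_apply]
    congr 2
    ext a c
    simp
  have hEfac : ∀ i k l, E i k l = frAlg e P (factor i (Matrix.single k l (1 : F))) := by
    intro i k l
    rw [eq_sum_prodUnits hc hE, factor_single, map_sum]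
    exact Finset.sum_congr rfl fun x _ => hP' _ _
  have hle : H ≤ Cfsg.Geo.tensorWreathSubgroup m t e P := by
    intro g hg
    obtain ⟨σ, hσ⟩ := hH g hg
    rw [Cfsg.Geo.tensorWreathSubgroup, map_glReindex_conj]
    refine ⟨(frU e P).symm g, mem_tensorWreathStandard_of_permuting (σ := σ) fun i k l => ?_,
      (frU e P).apply_symm_apply g⟩
    obtain ⟨c, hcoef⟩ := (Submodule.mem_span_range_iff_exists_fun F).1 (hσ i k l)
    refine ⟨∑ p : Fin m × Fin m, c p • Matrix.single p.1 p.2 1, (frAlg e P).injective ?_⟩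
    rw [map_mul, map_mul, ← frU_val, ← frU_val, map_inv, (frU e P).apply_symm_apply, ← hEfac,
      ← hcoef]
    show _ = frAlg e P (factorLin (σ i) _)
    simp only [map_sum, map_smul]
    exact Finset.sum_congr rfl fun p _ => by rw [hEfac]; rfl
  by_cases hm3 : 3 ≤ m
  · refine ⟨_, ?_, hle⟩
    iterate 8 right
    left
    exact ⟨m, t, e, P, hm3, ht, rfl⟩
  obtain rfl : m = 2 := by omega
  let Pi' : Matrix (Fin n) (Fin n) F := ((P⁻¹ : GL (Fin n) F) : Matrix (Fin n) (Fin n) F)
  let J : Matrix (Fin n) (Fin n) F := Pi'ᵀ * (omegaPow F t).submatrix e e * Pi'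
  have hJu : IsUnit J := by
    refine (((Matrix.isUnit_transpose _).2 (P⁻¹).isUnit).mul ?_).mul (P⁻¹).isUnit
    exact (Matrix.isUnit_submatrix_equiv e e).2 omegaPow_isUnit
  refine exists_class_of_form hn (J := J) hJu (ε := (-1) ^ t) (neg_one_pow_eq_or F t) ?_ ?_
    (hle.trans ?_)
  · simp only [J, Matrix.transpose_mul, Matrix.transpose_transpose, Matrix.transpose_submatrix,
      omegaPow_transpose, mul_assoc]
    rw [← Matrix.mul_smul, ← Matrix.smul_mul, Matrix.submatrix_smul]
    rfl
  · intro h2 i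
    let w : (Fin t → Fin 2) → F := fun x => Pi' (e.symm x) i
    have hq : J i i = ∑ x, ∑ y, w x * omegaPow F t x y * w y := by
      simp only [J, Matrix.mul_apply, Matrix.transpose_apply, Matrix.submatrix_apply,
        Finset.sum_mul, w]
      rw [Finset.sum_comm, ← e.symm.sum_comp]
      refine Finset.sum_congr rfl fun x _ => ?_
      rw [← e.symm.sum_comp]
      simp
    rw [hq, ← Fintype.sum_prod_type']
    refine Finset.sum_ninvolution Prod.swap (fun p => ?_) (fun p hp hne => ?_) (by simp)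
      (fun p => Prod.swap_swap p)
    · have hs := congrFun (congrFun (omegaPow_transpose (F := F) (t := t)) p.1) p.2
      have hm1 : (-1 : F) = 1 := by linear_combination -h2
      rw [hm1, one_pow, one_smul, Matrix.transpose_apply] at hs
      simp only [Prod.fst_swap, Prod.snd_swap, hs]
      linear_combination w p.1 * omegaPow F t p.1 p.2 * w p.2 * h2
    · apply hp
      have h12 : p.1 = p.2 := (congrArg Prod.fst hne).symm
      rw [← h12]
      have : omegaPow F t p.1 p.1 = 0 := by
        refine Finset.prod_eq_zero (Finset.mem_univ (0 : Fin t)) ?_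
        generalize p.1 0 = a
        fin_cases a <;> simp [omega2]
      rw [this, mul_zero, zero_mul]
  · rw [Cfsg.Geo.tensorWreathSubgroup, map_glReindex_conj, Subgroup.map_le_iff_le_comap]
    refine tensorWreathStandard_le_sim.trans fun g hg => ?_
    obtain ⟨c, hc⟩ := hg
    refine mem_simSubgroup hJu (c := (c : F)) ?_
    rw [MulEquiv.coe_toMonoidHom, frU_val, frAlg_apply]
    simp only [J, Matrix.transpose_mul, Matrix.transpose_submatrix]
    calc _ = Pi'ᵀ * (((g : Matrix (Fin t → Fin 2) (Fin t → Fin 2) F)ᵀ.submatrix e e) *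
          ((omegaPow F t).submatrix e e) *
          ((g : Matrix (Fin t → Fin 2) (Fin t → Fin 2) F).submatrix e e)) * Pi' := by
            have h1 : (P : Matrix (Fin n) (Fin n) F)ᵀ * Pi'ᵀ = 1 := by
              rw [← Matrix.transpose_mul, Units.inv_mul, Matrix.transpose_one]
            have h2 : Pi' * (P : Matrix (Fin n) (Fin n) F) = 1 := Units.inv_mul P
            simp only [Pi', mul_assoc] at h1 h2 ⊢
            rw [← mul_assoc ((P : Matrix (Fin n) (Fin n) F)ᵀ), h1, one_mul,
              ← mul_assoc ((P⁻¹ : GL (Fin n) F) : Matrix (Fin n) (Fin n) F) (P : Matrix (Fin n) (Fin n) F), h2,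
              one_mul]
      _ = _ := by
            rw [Matrix.submatrix_mul_equiv, Matrix.submatrix_mul_equiv, hc,
              Matrix.submatrix_smul]
            simp [mul_assoc]

/-- A group normalising a full matrix algebra which is neither the scalars nor everything. -/
theorem exists_class_of_units [Fintype F] {n a : ℕ} (hn : 3 ≤ n) (ha : 2 ≤ a) (han : a < n)
    {E : Fin a → Fin a → Matrix (Fin n) (Fin n) F} (hE : IsUnits E)
    {H : Subgroup (GL (Fin n) F)}
    (hH : ∀ g ∈ H, ∀ k l, (g : Matrix (Fin n) (Fin n) F) * E k l *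
        ((g⁻¹ : GL (Fin n) F) : Matrix (Fin n) (Fin n) F) ∈
      Submodule.span F (Set.range fun p : Fin a × Fin a => E p.1 p.2)) :
    ∃ M : Subgroup (GL (Fin n) F), InLinearClass' n F M ∧ H ≤ M := by
  have : Nonempty (Fin n) := ⟨⟨0, by omega⟩⟩
  obtain ⟨b, e, P, hb, hcard, hle⟩ := le_tensorProduct_of_units hE hH
  rw [Fintype.card_fin] at hcard
  have hb2 : 2 ≤ b := by
    by_contra h
    obtain rfl : b = 1 := by omega
    omega
  rcases lt_trichotomy a b with h | h | h
  · refine ⟨_, ?_, hle⟩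
    iterate 5 right
    left
    exact ⟨a, b, e, P, ha, h, rfl⟩
  swap
  · refine ⟨_, ?_, hle.trans (tensorProductSubgroup_swap e P)⟩
    iterate 5 right
    left
    exact ⟨b, a, _, P, hb2, h, rfl⟩
  subst h
  let e' : Fin n ≃ (Fin 2 → Fin a) := e.trans (finTwoArrowEquiv (Fin a)).symm
  let EE : Fin 2 → Fin a → Fin a → Matrix (Fin n) (Fin n) F :=
    fun i k l => frAlg e' P (factor i (Matrix.single k l (1 : F)))
  have hEE : ∀ i, IsUnits (EE i) := by
    intro i
    refine ⟨fun p q r s => ?_, ?_⟩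
    · simp only [EE, ← map_mul, factor_mul]
      split <;> rename_i hqr
      · subst hqr; simp
      · rw [Matrix.single_mul_single_of_ne _ _ _ _ hqr]
        show frAlg e' P (factorLin i 0) = 0
        simp
    · show ∑ k, frAlg e' P (factorLin i (Matrix.single k k (1 : F))) = 1
      rw [← map_sum, ← map_sum, isUnits_single.sum]
      show frAlg e' P (factor i 1) = 1
      rw [factor_one, map_one]
  have hcomm : ∀ i j, i ≠ j → ∀ k l k' l', Commute (EE i k l) (EE j k' l') := by
    intro i j hij k l k' l'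
    refine Commute.map ?_ (frAlg e' P)
    show _ = _
    simp only [factor, pureMat_mul]
    congr 1
    funext p
    by_cases hp : p = i
    · subst hp; simp [hij]
    · simp [hp]
  refine exists_class_of_family hn le_rfl ha hEE hcomm ?_ ?_
  · intro M hM
    obtain ⟨N, rfl⟩ := (frAlg e' P).surjective M
    have hN : ∀ i X, Commute N (factor i X) := by
      intro i X
      rw [Matrix.matrix_eq_sum_single X]
      show Commute N (factorLin i _)
      simp only [map_sum]
      refine Commute.sum_right _ _ _ fun k _ => Commute.sum_right _ _ _ fun l _ => ?_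
      have : Matrix.single k l (X k l) = X k l • Matrix.single k l (1 : F) := by simp
      rw [this, map_smul]
      refine Commute.smul_right ?_ _
      exact (frAlg e' P).injective (by
        show frAlg e' P (N * _) = _
        rw [map_mul, map_mul]; exact (hM i k l).eq)
    obtain ⟨c, hc⟩ := Matrix.mem_range_scalar_of_commute_single (M := N) fun x y _ => by
      show Commute (Matrix.single x y (1 : F)) N
      rw [single_eq_pureMat]; exact (commute_pureMat hN _).symm
    refine ⟨c, ?_⟩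
    rw [← hc, ← map_one (frAlg e' P), ← map_smul]
    congr 1
    simp [Matrix.smul_one_eq_diagonal]
  · intro g hg
    refine ⟨1, fun i k l => ?_⟩
    have hmem := hle hg
    rw [Cfsg.Geo.tensorProductSubgroup, map_glReindex_conj] at hmem
    obtain ⟨k₀, ⟨c, d, hcd⟩, rfl⟩ := hmem
    let G : GL (Fin 2 → Fin a) F := pureGL ![c, d]
    have hG : frU e P k₀ = frU e' P G := by
      refine Units.ext ?_
      rw [frU_val, frU_val, frAlg_apply, frAlg_apply, hcd]
      congr 2
      ext x y
      simp [G, e', pureGL, pureMat_apply, Fin.prod_univ_two]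
    show ((frU e P k₀ : GL (Fin n) F) : Matrix (Fin n) (Fin n) F) * EE i k l * _ ∈ _
    rw [MulEquiv.coe_toMonoidHom, hG, frU_val, ← map_inv, frU_val]
    simp only [EE, ← map_mul, Equiv.Perm.one_apply]
    let X : Matrix (Fin a) (Fin a) F := ((![c, d] i : GL (Fin a) F) : Matrix (Fin a) (Fin a) F) *
      Matrix.single k l (1 : F) * (((![c, d] i)⁻¹ : GL (Fin a) F) : Matrix (Fin a) (Fin a) F)
    have hX : (G : Matrix (Fin 2 → Fin a) (Fin 2 → Fin a) F) * factor i (Matrix.single k l (1 : F)) *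
        ((G⁻¹ : GL (Fin 2 → Fin a) F) : Matrix (Fin 2 → Fin a) (Fin 2 → Fin a) F) = factor i X := by
      show pureMat _ * pureMat _ * pureMat _ = pureMat _
      rw [pureMat_mul, pureMat_mul]
      congr 1
      funext p
      by_cases hp : p = i
      · subst hp; simp [X]
      · simp [hp]
    rw [hX, Matrix.matrix_eq_sum_single X]
    show frAlg e' P (factorLin i _) ∈ _
    simp only [map_sum]
    refine sum_mem fun p _ => sum_mem fun q _ => ?_
    have : Matrix.single p q (X p q) = X p q • Matrix.single p q (1 : F) := by simp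
    rw [this, map_smul, map_smul]
    exact Submodule.smul_mem _ _ (Submodule.subset_span ⟨(p, q), rfl⟩)

end CfsgLib.Aschbacher
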