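import Cfsg.Agent.Lib.Aschbacher.PrimeDim
import Cfsg.Agent.Lib.Aschbacher.TensorClass

/-!
Absolutely irreducible matrix groups that are abelian modulo scalars: commutation scalars, linear
independence of representatives, and the invariant bilinear form when `-1` is not a square.
-/

set_option autoImplicit false

namespace CfsgLib.Aschbacher

open Matrix Module

variable {F : Type*} [Field F] {ι : Type} [Fintype ι] [DecidableEq ι]

/-- Eigenvectors with pairwise different systems of eigenvalues are independent. -/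
theorem linearIndependent_of_eigen {V J K : Type*} [AddCommGroup V] [Module F V]
    (T : J → V →ₗ[F] V) (v : K → V) (μ : K → J → F) (h0 : ∀ k, v k ≠ 0)
    (hev : ∀ k j, T j (v k) = μ k j • v k) (hinj : Function.Injective μ) :
    LinearIndependent F v := by
  classical
  rw [linearIndependent_iff']
  intro s
  induction s using Finset.induction_on with
  | empty => simp
  | @insert a s ha ih =>
    intro g hg
    have hothers : ∀ b ∈ s, g b = 0 := by
      intro b hb
      obtain ⟨j, hj⟩ := Function.ne_iff.1 (fun h => ha (hinj h ▸ hb) : μ a ≠ μ b)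
      have h1 : ∑ k ∈ s, (g k * (μ k j - μ a j)) • v k = 0 := by
        have h2 := congrArg (fun u => T j u - μ a j • u) hg
        simp only [map_sum, map_smul, hev, smul_smul, map_zero, smul_zero, sub_zero,
          Finset.smul_sum, ← Finset.sum_sub_distrib, ← sub_smul] at h2
        rw [Finset.sum_insert ha] at h2
        simp only [mul_comm (μ a j) (g a), sub_self, zero_smul, zero_add] at h2
        rw [← h2]
        refine Finset.sum_congr rfl fun k _ => ?_
        congr 1
        ring
      exact (mul_eq_zero.1 (ih _ h1 b hb)).resolve_right (sub_ne_zero.2 (Ne.symm hj))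
    intro i hi
    rcases Finset.mem_insert.1 hi with rfl | hi
    · rw [Finset.sum_insert ha, Finset.sum_eq_zero fun k hk => by rw [hothers k hk, zero_smul],
        add_zero] at hg
      exact (smul_eq_zero.1 hg).resolve_right (h0 i)
    · exact hothers i hi

lemma scalarGL_injective [Nonempty ι] : Function.Injective (scalarGL (F := F) ι) := by
  intro a b h
  obtain ⟨i⟩ := (inferInstance : Nonempty ι)
  refine Units.ext ?_
  simpa [scalarGL_val] using congrArg (fun g : GL ι F => (g : Matrix ι ι F) i i) h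

lemma scalarGL_mul (a b : Fˣ) : scalarGL ι (a * b) = scalarGL ι a * scalarGL ι b :=
  map_mul _ _ _

lemma scalarGL_pow (a : Fˣ) (k : ℕ) : scalarGL ι (a ^ k) = scalarGL ι a ^ k := map_pow _ _ _

lemma scalarGL_one : scalarGL ι (1 : Fˣ) = 1 := map_one _

lemma scalarGL_inv (a : Fˣ) : scalarGL ι a⁻¹ = (scalarGL ι a)⁻¹ := map_inv _ _

lemma pow_comm_scalar {x y : GL ι F} {c : Fˣ} (h : x * y = scalarGL ι c * (y * x)) (k : ℕ) :
    x ^ k * y = scalarGL ι (c ^ k) * (y * x ^ k) := by
  induction k with
  | zero => simp [scalarGL_one]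
  | succ k ih =>
    calc x ^ (k + 1) * y = x ^ k * (x * y) := by rw [pow_succ, mul_assoc]
      _ = (x ^ k * scalarGL ι c) * y * x := by rw [h]; group
      _ = scalarGL ι c * (x ^ k * y) * x := by rw [← scalarGL_comm]; group
      _ = scalarGL ι (c ^ (k + 1)) * (y * x ^ (k + 1)) := by
        rw [ih, pow_succ' c, scalarGL_mul, pow_succ]; group

lemma mul_pow_scalar {x y : GL ι F} {c : Fˣ} (h : x * y = scalarGL ι c * (y * x)) (k : ℕ) :
    (x * y) ^ k = scalarGL ι (c⁻¹ ^ k.choose 2) * (x ^ k * y ^ k) := by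
  have hyx : y * x = scalarGL ι c⁻¹ * (x * y) := by
    rw [h, ← mul_assoc, ← scalarGL_mul, inv_mul_cancel, scalarGL_one, one_mul]
  induction k with
  | zero => simp [scalarGL_one]
  | succ k ih =>
    have hy := pow_comm_scalar hyx k
    calc (x * y) ^ (k + 1)
        = scalarGL ι (c⁻¹ ^ k.choose 2) * (x ^ k * (y ^ k * x) * y) := by rw [pow_succ, ih]; group
      _ = scalarGL ι (c⁻¹ ^ k.choose 2) * ((x ^ k * scalarGL ι (c⁻¹ ^ k)) * x * (y ^ k * y)) := by
          rw [hy]; group
      _ = scalarGL ι (c⁻¹ ^ k.choose 2) * scalarGL ι (c⁻¹ ^ k) * (x ^ (k + 1) * y ^ (k + 1)) := by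
          rw [← scalarGL_comm, pow_succ, pow_succ]; group
      _ = scalarGL ι (c⁻¹ ^ (k + 1).choose 2) * (x ^ (k + 1) * y ^ (k + 1)) := by
          rw [← scalarGL_mul, ← pow_add, Nat.choose_succ_succ k 1, Nat.choose_one_right,
            Nat.add_comm (k.choose 2) k]

/-- `A` is abelian modulo scalars. -/
def ScalarCommutators (A : Subgroup (GL ι F)) : Prop :=
  ∀ a ∈ A, ∀ b ∈ A, a * b * a⁻¹ * b⁻¹ ∈ Cfsg.Geo.scalars ι F

lemma ScalarCommutators.exists_comm {A : Subgroup (GL ι F)} (h : ScalarCommutators A)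
    {x y : GL ι F} (hx : x ∈ A) (hy : y ∈ A) : ∃ c : Fˣ, x * y = scalarGL ι c * (y * x) := by
  obtain ⟨c, hc⟩ := mem_scalars.1 (h x hx y hy)
  exact ⟨c, by rw [← hc]; group⟩

/-- Elements in pairwise different cosets of the scalars are independent. -/
theorem linearIndependent_cosets [Nonempty ι] {A : Subgroup (GL ι F)} (hA : AbsIrr A)
    (h : ScalarCommutators A) {K : Type*} (v : K → GL ι F) (hv : ∀ k, v k ∈ A)
    (hne : ∀ k l, (v k)⁻¹ * v l ∈ Cfsg.Geo.scalars ι F → k = l) :
    LinearIndependent F fun k => (v k : Matrix ι ι F) := by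
  choose c hc using fun (k : K) (a : A) => h.exists_comm a.2 (hv k)
  refine linearIndependent_of_eigen
    (fun a : A => (LinearMap.mulLeft F ((a : GL ι F) : Matrix ι ι F)).comp
      (LinearMap.mulRight F (((a : GL ι F)⁻¹ : GL ι F) : Matrix ι ι F)))
    _ (fun k a => ((c k a : Fˣ) : F)) (fun k => (v k).ne_zero) (fun k a => ?_) fun k l hkl => ?_
  · simp only [LinearMap.comp_apply, LinearMap.mulRight_apply, LinearMap.mulLeft_apply]
    rw [← mul_assoc, ← Units.val_mul, hc k a, Units.val_mul, scalarGL_val, Units.val_mul,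
      Matrix.smul_mul, one_mul, Matrix.smul_mul, mul_assoc, Units.mul_inv, mul_one]
  · refine hne k l (hA.mem_scalars fun a ha => ?_)
    have hkl' : c k ⟨a, ha⟩ = c l ⟨a, ha⟩ := Units.ext (congrFun hkl ⟨a, ha⟩)
    have hk : a * v k = scalarGL ι (c l ⟨a, ha⟩) * (v k * a) := hkl' ▸ hc k ⟨a, ha⟩
    have hl : a * v l = scalarGL ι (c l ⟨a, ha⟩) * (v l * a) := hc l ⟨a, ha⟩
    set s := scalarGL ι (c l ⟨a, ha⟩) with hs
    have hsc : ∀ g, s * g = g * s := fun g => scalarGL_comm _ g
    symm
    calc a * ((v k)⁻¹ * v l) = ((v k)⁻¹ * (v k * a)) * (v k)⁻¹ * v l := by group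
      _ = ((v k)⁻¹ * (s⁻¹ * (a * v k))) * (v k)⁻¹ * v l := by rw [hk]; group
      _ = (v k)⁻¹ * s⁻¹ * (a * v l) := by group
      _ = _ := by rw [hl]; group

/-- The invariant form when `-1` is not a square. -/
theorem exists_class_of_nonsquare [Fintype F] {n : ℕ} (hn : 3 ≤ n)
    (hq : Fintype.card F % 4 = 3) {H N : Subgroup (GL (Fin n) F)} (hN : AbsIrr N)
    (hnorm : ∀ g ∈ H, ∀ a ∈ N, g * a * g⁻¹ ∈ N) (hcomm : ScalarCommutators N)
    (hsq : ∀ x ∈ N, x ^ 2 ∈ Cfsg.Geo.scalars (Fin n) F) :
    ∃ M : Subgroup (GL (Fin n) F), InLinearClass' n F M ∧ H ≤ M := by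
  classical
  have : Nonempty (Fin n) := ⟨⟨0, by omega⟩⟩
  set q := Fintype.card F with hqdef
  set h := (q - 1) / 2 with hh
  have hodd : Odd h := by rw [Nat.odd_iff]; omega
  have hq1 : 2 * h = q - 1 := by omega
  have h2 : (2 : F) ≠ 0 := by
    intro h0
    have : ringChar F = 2 := CharP.ringChar_of_prime_eq_zero Nat.prime_two (by exact_mod_cast h0)
    have := FiniteField.even_card_of_char_two this
    omega
  let s : GL (Fin n) F → F := fun x =>
    if hx : ∃ a, x ^ 2 = scalarGL (Fin n) a then (hx.choose : F) ^ h else 1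
  have hs : ∀ x a, x ^ 2 = scalarGL (Fin n) a → s x = (a : F) ^ h := by
    intro x a hxa
    have hx : ∃ b, x ^ 2 = scalarGL (Fin n) b := ⟨a, hxa⟩
    simp only [s, dif_pos hx]
    rw [scalarGL_injective (hx.choose_spec.symm.trans hxa)]
  have hfl : ∀ u : Fˣ, ((u : F) ^ h) ^ 2 = 1 := by
    intro u
    rw [← pow_mul, mul_comm, hq1]
    exact FiniteField.pow_card_sub_one_eq_one _ u.ne_zero
  have hmul : ∀ x ∈ N, ∀ y ∈ N, ∀ c : Fˣ, x * y = scalarGL (Fin n) c * (y * x) →
      s (x * y) = (c : F) * (s x * s y) := by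
    intro x hx y hy c hc
    obtain ⟨a, ha⟩ := mem_scalars.1 (hsq x hx)
    obtain ⟨b, hb⟩ := mem_scalars.1 (hsq y hy)
    have hc2 : c ^ 2 = 1 := by
      apply scalarGL_injective (ι := Fin n)
      have h1 := pow_comm_scalar hc 2
      rw [ha] at h1
      rw [scalarGL_one]
      exact (mul_right_cancel (b := y * scalarGL (Fin n) a) (by rw [← h1, one_mul, scalarGL_comm]))
    have hcinv : c⁻¹ = c := inv_eq_of_mul_eq_one_right (by rw [← sq, hc2])
    have hpow := mul_pow_scalar hc 2
    rw [ha, hb, Nat.choose_self, pow_one, hcinv, ← scalarGL_mul, ← scalarGL_mul] at hpow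
    rw [hs _ _ hpow, hs x a ha, hs y b hb, Units.val_mul, Units.val_mul, mul_pow, mul_pow]
    congr 1
    obtain ⟨k, hk⟩ := hodd
    have h3 : ((c : F)) ^ 2 = 1 := by rw [← Units.val_pow_eq_pow_val, hc2, Units.val_one]
    rw [hk, pow_add, pow_mul, h3, one_pow, one_mul, pow_one]
  have hscale : ∀ x ∈ N, ∀ z : Fˣ, s (scalarGL (Fin n) z * x) = s x := by
    intro x hx z
    obtain ⟨a, ha⟩ := mem_scalars.1 (hsq x hx)
    have : (scalarGL (Fin n) z * x) ^ 2 = scalarGL (Fin n) (z ^ 2 * a) := by
      rw [Commute.mul_pow (scalarGL_comm z x), ha, ← scalarGL_pow, scalarGL_mul]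
    rw [hs _ _ this, hs x a ha, Units.val_mul, mul_pow, Units.val_pow_eq_pow_val, ← pow_mul,
      mul_comm 2, pow_mul, hfl, one_mul]
  -- a basis made of group elements
  obtain ⟨B, hBsub, hBspan, hBli⟩ := exists_linearIndependent F (Cfsg.Geo.matrixSet N)
  have htop : Submodule.span F B = ⊤ := hBspan.trans (envelope_eq_top hN)
  let b : Module.Basis B F (Matrix (Fin n) (Fin n) F) :=
    Module.Basis.mk hBli (by rw [Subtype.range_coe_subtype]; exact htop.ge)
  choose el helN helv' using fun v : B => hBsub v.2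
  have helv : ∀ v : B, (el v : Matrix (Fin n) (Fin n) F) = v := helv'
  let θ : Matrix (Fin n) (Fin n) F →ₗ[F] Matrix (Fin n) (Fin n) F :=
    b.constr F fun v : B => s (el v) • (v : Matrix (Fin n) (Fin n) F)
  have hθ : ∀ x ∈ N, θ (x : Matrix (Fin n) (Fin n) F) = s x • (x : Matrix (Fin n) (Fin n) F) := by
    intro x hx
    obtain ⟨v, hv⟩ : ∃ v : B, (el v)⁻¹ * x ∈ Cfsg.Geo.scalars (Fin n) F := by
      by_contra hno
      push Not at hno
      have hne : ∀ k l : Option B, (Option.elim k x el)⁻¹ * Option.elim l x el ∈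
          Cfsg.Geo.scalars (Fin n) F → k = l := by
        rintro (_ | k) (_ | l) hkl
        · rfl
        · exfalso; refine hno l ?_
          have := Subgroup.inv_mem _ hkl
          simpa using this
        · exact absurd hkl (hno k)
        · obtain ⟨z, hz⟩ := mem_scalars.1 hkl
          congr 1
          refine Subtype.ext ?_
          have hl : (l : Matrix (Fin n) (Fin n) F) = (z : F) • (k : Matrix (Fin n) (Fin n) F) := by
            rw [← helv l, ← helv k]
            simp only [Option.elim_some] at hz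
            have : el l = scalarGL (Fin n) z * el k := by rw [scalarGL_comm, ← hz]; group
            rw [this, Units.val_mul, scalarGL_val, Matrix.smul_mul, one_mul]
          by_contra hkl'
          have hkl'' : k ≠ l := fun h => hkl' (congrArg Subtype.val h)
          have h0 := linearIndependent_iff'.1 hBli {k, l}
            (fun i => if i = k then (z : F) else -1) (by
              rw [Finset.sum_pair hkl'', if_pos rfl, if_neg hkl''.symm, hl, neg_smul, one_smul,
                add_neg_cancel]) k (Finset.mem_insert_self _ _)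
          rw [if_pos rfl] at h0
          exact z.ne_zero h0
      have hli := linearIndependent_cosets hN hcomm (fun k : Option B => Option.elim k x el)
        (by rintro (_ | k); exacts [hx, helN k]) hne
      have hmem : (x : Matrix (Fin n) (Fin n) F) ∈ Submodule.span F
          ((fun k : Option B => ((Option.elim k x el : GL (Fin n) F) :
            Matrix (Fin n) (Fin n) F)) '' {k | k ≠ none}) := by
        have hB : ((fun k : Option B => ((Option.elim k x el : GL (Fin n) F) :
            Matrix (Fin n) (Fin n) F)) '' {k | k ≠ none}) = B := by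
          ext v
          constructor
          · rintro ⟨_ | k, hk, rfl⟩
            · exact absurd rfl hk
            · simp [helv]
          · intro hv; exact ⟨some ⟨v, hv⟩, by simp, helv _⟩
        rw [hB, htop]
        exact Submodule.mem_top
      exact hli.notMem_span_image (x := none) (by simp) hmem
    obtain ⟨z, hz⟩ := mem_scalars.1 hv
    have hx' : x = scalarGL (Fin n) z * el v := by rw [scalarGL_comm, ← hz]; group
    rw [hx', hscale _ (helN v), Units.val_mul, scalarGL_val, Matrix.smul_mul, one_mul,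
      map_smul, helv v]
    have hb : θ (v : Matrix (Fin n) (Fin n) F) = s (el v) • (v : Matrix (Fin n) (Fin n) F) := by
      have hbv : b v = (v : Matrix (Fin n) (Fin n) F) := Module.Basis.mk_apply _ _ _
      conv_lhs => rw [← hbv]
      exact b.constr_basis F _ v
    rw [hb, smul_comm]
  have hanti : ∀ X Y, θ (X * Y) = θ Y * θ X := by
    intro X Y
    have hX : X ∈ envelope N := (envelope_eq_top hN).ge Submodule.mem_top
    have hY : Y ∈ envelope N := (envelope_eq_top hN).ge Submodule.mem_top
    refine Submodule.span_induction (p := fun X _ => θ (X * Y) = θ Y * θ X) ?_ ?_ ?_ ?_ hX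
    · rintro _ ⟨x, hx, rfl⟩
      refine Submodule.span_induction (p := fun Y _ => θ (_ * Y) = θ Y * θ _) ?_ ?_ ?_ ?_ hY
      · rintro _ ⟨y, hy, rfl⟩
        obtain ⟨c, hc⟩ := hcomm.exists_comm hx hy
        rw [← Units.val_mul, hθ _ (N.mul_mem hx hy), hθ _ hx, hθ _ hy, hmul x hx y hy c hc,
          Matrix.smul_mul, Matrix.mul_smul, smul_smul, Units.val_mul]
        have hyx : (y : Matrix (Fin n) (Fin n) F) * x =
            ((c⁻¹ : Fˣ) : F) • ((x : Matrix (Fin n) (Fin n) F) * y) := by
          rw [← Units.val_mul x y, hc, Units.val_mul, scalarGL_val, Matrix.smul_mul, one_mul,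
            smul_smul, Units.inv_mul, one_smul, Units.val_mul]
        rw [hyx, smul_smul]
        congr 1
        have hc2 : (c : F) * c = 1 := by
          have h1 := hmul x hx y hy c hc
          have h1' := hmul y hy x hx c⁻¹ (by
            rw [hc, ← mul_assoc, ← scalarGL_mul, inv_mul_cancel, scalarGL_one, one_mul])
          have h3 : s (x * y) = s (y * x) := by rw [hc, hscale _ (N.mul_mem hy hx)]
          obtain ⟨a, ha⟩ := mem_scalars.1 (hsq x hx)
          obtain ⟨b', hb⟩ := mem_scalars.1 (hsq y hy)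
          have hne : s y * s x ≠ 0 := by
            rw [hs x a ha, hs y b' hb]
            exact mul_ne_zero (pow_ne_zero _ b'.ne_zero) (pow_ne_zero _ a.ne_zero)
          rw [h1, h1', mul_comm (s x) (s y)] at h3
          have h4 := mul_right_cancel₀ hne h3
          conv_lhs => arg 1; rw [h4]
          exact Units.inv_mul c
        have hcc : ((c⁻¹ : Fˣ) : F) = c := by
          calc ((c⁻¹ : Fˣ) : F) = ((c⁻¹ : Fˣ) : F) * ((c : F) * c) := by rw [hc2, mul_one]
            _ = c := by rw [← mul_assoc, Units.inv_mul, one_mul]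
        rw [hcc]; ring
      · simp
      · intro p q _ _ hp hq; rw [mul_add, map_add, map_add, add_mul, hp, hq]
      · intro c p _ hp; rw [Matrix.mul_smul, map_smul, map_smul, Matrix.smul_mul, hp]
    · simp
    · intro p q _ _ hp hq; rw [add_mul, map_add, map_add, mul_add, hp, hq]
    · intro c p _ hp; rw [Matrix.smul_mul, map_smul, map_smul, Matrix.mul_smul, hp]
  have hs1 : s 1 = 1 := by
    rw [hs 1 1 (by rw [one_pow, scalarGL_one]), Units.val_one, one_pow]
  have hone : θ 1 = 1 := by
    have := hθ 1 N.one_mem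
    rwa [Units.val_one, hs1, one_smul] at this
  let φ : Matrix (Fin n) (Fin n) F →ₐ[F] Matrix (Fin n) (Fin n) F :=
    AlgHom.ofLinearMap ((Matrix.transposeLinearEquiv (Fin n) (Fin n) F F).toLinearMap.comp θ)
      (by simp [hone]) (fun X Y => by simp [hanti, Matrix.transpose_mul])
  have hφ : ∀ X, φ X = (θ X)ᵀ := fun X => rfl
  obtain ⟨J, hJ⟩ := exists_conj_of_algHom φ
  have hJx : ∀ x ∈ N, (J : Matrix (Fin n) (Fin n) F) * (x : Matrix (Fin n) (Fin n) F) =
      s x • ((x : Matrix (Fin n) (Fin n) F)ᵀ * J) := by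
    intro x hx
    rw [hJ, hφ, hθ x hx, Matrix.transpose_smul, Matrix.smul_mul]
  have hs2 : ∀ x ∈ N, s x * s x = 1 := by
    intro x hx
    obtain ⟨a, ha⟩ := mem_scalars.1 (hsq x hx)
    rw [hs x a ha, ← sq, hfl]
  have huniq : ∀ K : Matrix (Fin n) (Fin n) F, (∀ x ∈ N, K * (x : Matrix (Fin n) (Fin n) F) =
      s x • ((x : Matrix (Fin n) (Fin n) F)ᵀ * K)) →
      ∃ c : F, K = c • (J : Matrix (Fin n) (Fin n) F) := by
    intro K hK
    obtain ⟨c, hc⟩ := hN.2 (((J⁻¹ : GL (Fin n) F) : Matrix (Fin n) (Fin n) F) * K) (by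
      rintro _ ⟨x, hx, rfl⟩
      have hxT : (x : Matrix (Fin n) (Fin n) F)ᵀ = s x • ((J : Matrix (Fin n) (Fin n) F) * x *
          ((J⁻¹ : GL (Fin n) F) : Matrix (Fin n) (Fin n) F)) := by
        rw [hJx x hx, Matrix.smul_mul, smul_smul, hs2 x hx, one_smul, mul_assoc, Units.mul_inv,
          mul_one]
      rw [mul_assoc, hK x hx, hxT, Matrix.smul_mul, smul_smul, hs2 x hx, one_smul]
      simp only [mul_assoc, Units.inv_mul_cancel_left])
    refine ⟨c, ?_⟩
    calc K = (J : Matrix (Fin n) (Fin n) F) *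
          (((J⁻¹ : GL (Fin n) F) : Matrix (Fin n) (Fin n) F) * K) := by simp [← mul_assoc]
      _ = _ := by rw [hc, Matrix.mul_smul, mul_one]
  obtain ⟨ε, hε⟩ := huniq (J : Matrix (Fin n) (Fin n) F)ᵀ (by
    intro x hx
    have h1 := congrArg Matrix.transpose (hJx x hx)
    rw [Matrix.transpose_mul, Matrix.transpose_smul, Matrix.transpose_mul,
      Matrix.transpose_transpose] at h1
    rw [h1, smul_smul, hs2 x hx, one_smul])
  have hε2 : ε = 1 ∨ ε = -1 := by
    have h1 := congrArg Matrix.transpose hε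
    rw [Matrix.transpose_transpose, Matrix.transpose_smul, hε, smul_smul] at h1
    obtain ⟨i, j, hij⟩ : ∃ i j, (J : Matrix (Fin n) (Fin n) F) i j ≠ 0 := by
      by_contra h0
      push Not at h0
      exact J.ne_zero (Matrix.ext h0)
    have h3 := congrFun (congrFun h1 i) j
    rw [Matrix.smul_apply, smul_eq_mul] at h3
    exact mul_self_eq_one_iff.1 ((mul_eq_right₀ hij).1 h3.symm)
  refine exists_class_of_form hn J.isUnit hε2 hε (fun h0 => absurd h0 h2) fun g hg => ?_
  obtain ⟨c, hc⟩ := huniq ((g : Matrix (Fin n) (Fin n) F)ᵀ * J * (g : Matrix (Fin n) (Fin n) F)) (by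
    intro x hx
    have hx' := hnorm g hg x hx
    have hsx : s (g * x * g⁻¹) = s x := by
      obtain ⟨a, ha⟩ := mem_scalars.1 (hsq x hx)
      refine (hs _ a ?_).trans (hs x a ha).symm
      rw [conj_pow, ha, ← scalarGL_comm, mul_inv_cancel_right]
    have hgx : (g : Matrix (Fin n) (Fin n) F) * x =
        ((g * x * g⁻¹ : GL (Fin n) F) : Matrix (Fin n) (Fin n) F) * g := by
      rw [← Units.val_mul, ← Units.val_mul, inv_mul_cancel_right]
    rw [mul_assoc, hgx, ← mul_assoc, mul_assoc _ (J : Matrix (Fin n) (Fin n) F), hJx _ hx', hsx,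
      Matrix.mul_smul, Matrix.smul_mul, ← mul_assoc, ← Matrix.transpose_mul, ← hgx,
      Matrix.transpose_mul]
    simp only [mul_assoc])
  exact mem_simSubgroup J.isUnit hc

end CfsgLib.Aschbacher
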