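import Cfsg.Agent.Lib.Aschbacher.SymplecticType

/-!
A minimal normal absolutely irreducible subgroup that is abelian modulo scalars leads to the
geometric classes 5, 6 or 8.
-/

set_option autoImplicit false

namespace CfsgLib.Aschbacher

open Matrix Module

open scoped commutatorElement

variable {F : Type*} [Field F]

/-- The arithmetic of the field containing the roots of unity of order `E`. -/
lemma field_trichotomy [Fintype F] {p f r : ℕ} (hpp : p.Prime) (hF : Fintype.card F = p ^ f)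
    (hr : r.Prime) {ω : Fˣ} (hω : IsPrimitiveRoot ω (r * Nat.gcd 2 r)) (hrp : r ≠ p) :
    (∃ e, e ∣ f ∧ e ≠ f ∧ (ω : F) ^ (p ^ e) = ω) ∨
    (∃ h, f = h + h ∧ (ω : F) * (ω : F) ^ (p ^ h) = 1 ∧ 0 < h) ∨
    ((∀ d, 0 < d → d < f → ¬ r * Nat.gcd 2 r ∣ p ^ d - 1) ∧ r * Nat.gcd 2 r ∣ p ^ f - 1 ∧
      ((Odd r ∧ Odd f) ∨ (r = 2 ∧ f = 1))) := by
  classical
  set E := r * Nat.gcd 2 r with hE
  have hdvd : ∀ d, E ∣ p ^ d - 1 ↔ ω ^ (p ^ d - 1) = 1 := fun d => hω.pow_eq_one_iff_dvd _ |>.symm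
  have hf : E ∣ p ^ f - 1 := by
    rw [hdvd, ← hF]
    exact Units.ext (by simpa using FiniteField.pow_card_sub_one_eq_one (ω : F) ω.ne_zero)
  have hf0 : 0 < f := by
    rcases Nat.eq_zero_or_pos f with h | h
    · exfalso
      have := Fintype.one_lt_card (α := F)
      rw [hF, h, pow_zero] at this
      omega
    · exact h
  have hfix : ∀ d, E ∣ p ^ d - 1 → (ω : F) ^ (p ^ d) = ω := by
    intro d hd
    have h1 := congrArg (fun x : Fˣ => (x : F)) ((hdvd d).1 hd)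
    simp only [Units.val_pow_eq_pow_val, Units.val_one] at h1
    rw [← Nat.sub_add_cancel (Nat.one_le_pow d p hpp.pos), pow_succ, h1, one_mul]
  by_cases hmin : ∀ d, 0 < d → d < f → ¬ E ∣ p ^ d - 1
  swap
  · push Not at hmin
    obtain ⟨d, hd0, hdf, hd⟩ := hmin
    refine Or.inl ⟨Nat.gcd d f, Nat.gcd_dvd_right d f, ?_, hfix _ ?_⟩
    · exact fun h => absurd (h ▸ Nat.gcd_le_left f hd0) (by omega)
    · rw [← Nat.pow_sub_one_gcd_pow_sub_one]
      exact Nat.dvd_gcd hd hf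
  rcases Nat.even_or_odd f with ⟨h, hh⟩ | hodd
  · refine Or.inr (Or.inl ⟨h, hh, ?_, by omega⟩)
    have hmul : (p ^ h + 1) * (p ^ h - 1) = p ^ f - 1 := by
      rw [hh, pow_add, ← Nat.sq_sub_sq, one_pow, sq]
    have hh1 := hmin h (by omega) (by omega)
    have h1 : E ∣ p ^ h + 1 := by
      rw [← hmul] at hf
      rcases hr.eq_two_or_odd with h2 | h2
      · have hE4 : E = 4 := by rw [hE, h2]; rfl
        rw [hE4] at hh1 hf ⊢
        have hpo : (p ^ h) % 2 = 1 := by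
          rw [Nat.pow_mod, (hpp.eq_two_or_odd).resolve_left (h2 ▸ hrp.symm), one_pow, Nat.one_mod_eq_one]
          decide
        omega
      · have hE1 : E = r := by
          rw [hE, Nat.Coprime.gcd_eq_one (Nat.coprime_two_left.2 (Nat.odd_iff.2 h2)), mul_one]
        rw [hE1] at hh1 hf ⊢
        exact (hr.dvd_mul.1 hf).resolve_right hh1
    obtain ⟨k, hk⟩ := h1
    rw [← pow_succ', hk, pow_mul, (IsPrimitiveRoot.coe_units_iff.2 hω).pow_eq_one, one_pow]
  · refine Or.inr (Or.inr ⟨hmin, hf, ?_⟩)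
    rcases hr.eq_two_or_odd with h2 | h2
    · refine Or.inr ⟨h2, ?_⟩
      by_contra hne
      have hE4 : E = 4 := by rw [hE, h2]; rfl
      refine hmin 1 one_pos (by omega) ?_
      rw [hE4] at hf ⊢
      obtain ⟨k, hk⟩ := hodd
      have hpo : p % 2 = 1 := (hpp.eq_two_or_odd).resolve_left (h2 ▸ hrp.symm)
      have h1 : p ^ f % 4 = p % 4 := by
        have hsq : p ^ 2 % 4 = 1 := by
          rw [Nat.pow_mod]
          rcases (show p % 4 = 1 ∨ p % 4 = 3 by omega) with h | h <;> simp [h]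
        rw [hk, pow_succ, pow_mul, Nat.mul_mod, Nat.pow_mod, hsq, one_pow]
        simp
      rw [pow_one]
      have : 0 < p ^ f := pow_pos hpp.pos f
      omega
    · exact Or.inl ⟨Nat.odd_iff.2 h2, hodd⟩

/-- A group of symplectic type normalised by `H`, with no abelian normalised subgroups beyond the
scalars, has dimension a power of its prime. -/
theorem HeisData.type_data [Finite F] {n r : ℕ} (hn : 2 ≤ n)
    {H R : Subgroup (GL (Fin n) F)} {ω : Fˣ} (D : HeisData n r R ω)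
    (hR : ∀ g ∈ H, ∀ a ∈ R, g * a * g⁻¹ ∈ R)
    (hab : ∀ A ≤ R, (∀ g ∈ H, ∀ a ∈ A, g * a * g⁻¹ ∈ A) → (∀ a ∈ A, ∀ b ∈ A, a * b = b * a) →
      A ≤ Cfsg.Geo.scalars (Fin n) F) :
    ∃ m, 1 ≤ m ∧ n = r ^ m ∧ Cfsg.Geo.IsSymplecticTypeGroup r R ∧
      Nat.card (Subgroup.center R) = r * Nat.gcd 2 r ∧
      Nat.card R = n ^ 2 * (r * Nat.gcd 2 r) := by
  classical
  have : NeZero n := ⟨by omega⟩
  have : Nonempty (Fin n) := ⟨⟨0, by omega⟩⟩
  set E := r * Nat.gcd 2 r with hE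
  obtain ⟨hcz, hcard, hcenter⟩ := D.card_eq
  have hRp : IsPGroup r R := by
    intro w
    obtain ⟨k, -, hk⟩ : ∃ k, k ≤ 2 ∧ E = r ^ k := by
      rcases D.prime.eq_two_or_odd with h2 | h2
      · exact ⟨2, le_rfl, by rw [hE, h2]; rfl⟩
      · exact ⟨1, by omega, by
          rw [hE, Nat.Coprime.gcd_eq_one (Nat.coprime_two_left.2 (Nat.odd_iff.2 h2)), mul_one,
            pow_one]⟩
    exact ⟨k, Subtype.ext (by rw [SubmonoidClass.coe_pow, ← hk]; exact D.pow_exponent w.2)⟩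
  obtain ⟨j, hj⟩ : ∃ j, Nat.card R = r ^ j := by
    have : Fact r.Prime := ⟨D.prime⟩
    exact IsPGroup.iff_card.1 hRp
  obtain ⟨m, -, hm⟩ : ∃ m, m ≤ j ∧ n = r ^ m := (Nat.dvd_prime_pow D.prime).1
    ⟨n * E, by rw [← hj, hcard, sq, mul_assoc]⟩
  have hm1 : 1 ≤ m := by
    by_contra h0
    obtain rfl : m = 0 := by omega
    rw [pow_zero] at hm
    omega
  have htype : Cfsg.Geo.IsSymplecticTypeGroup r R := by
    refine ⟨D.prime, hRp, ?_, ?_⟩
    · intro A hA hcomm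
      have hAc : A.map R.subtype ≤ Cfsg.Geo.scalars (Fin n) F := by
        refine hab _ (Subgroup.map_subtype_le A) ?_ ?_
        · rintro g hg _ ⟨b, hb, rfl⟩
          let φ : R ≃* R :=
            { toFun := fun a => ⟨g * a * g⁻¹, hR g hg a a.2⟩
              invFun := fun a => ⟨g⁻¹ * a * g, by simpa using hR g⁻¹ (H.inv_mem hg) a a.2⟩
              left_inv := fun a => Subtype.ext (by simp [mul_assoc])
              right_inv := fun a => Subtype.ext (by simp [mul_assoc])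
              map_mul' := fun a b => Subtype.ext (by simp [mul_assoc]) }
          have hfix : A.map φ.toMonoidHom = A := Subgroup.characteristic_iff_map_eq.1 hA φ
          exact ⟨φ b, hfix ▸ Subgroup.mem_map_of_mem _ hb, rfl⟩
        · rintro _ ⟨a, ha, rfl⟩ _ ⟨b, hb, rfl⟩
          rw [← map_mul, ← map_mul]
          exact congrArg R.subtype (congrArg Subtype.val (mul_comm' (⟨a, ha⟩ : A) ⟨b, hb⟩))
      have hle : A ≤ Subgroup.center R :=
        fun a ha => (hcenter a).2 (hAc (Subgroup.mem_map_of_mem _ ha))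
      let g : R := ⟨_, D.mem⟩
      have hcyc : IsCyclic (Subgroup.center R) := by
        refine ⟨⟨g, (hcenter g).2 (mem_scalars.2 ⟨ω, rfl⟩)⟩, fun w => ?_⟩
        obtain ⟨a, ha⟩ := mem_scalars.1 ((hcenter w.1).1 w.2)
        obtain ⟨k, rfl⟩ := D.scalar_eq (ha ▸ (w.1).2 : scalarGL (Fin n) a ∈ R)
        refine ⟨k, Subtype.ext (Subtype.ext ?_)⟩
        simp only [zpow_natCast, SubmonoidClass.coe_pow]
        rw [ha, scalarGL_pow]
      exact isCyclic_of_injective (Subgroup.inclusion hle) (Subgroup.inclusion_injective hle)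
    · refine Nat.dvd_antisymm (Monoid.exponent_dvd_of_forall_pow_eq_one fun w =>
        Subtype.ext (by rw [SubmonoidClass.coe_pow]; exact D.pow_exponent w.2)) ?_
      have hord : orderOf (⟨_, D.mem⟩ : R) = E := by
        rw [← Subgroup.orderOf_coe]
        show orderOf (Units.map (Matrix.scalar (Fin n) : F →+* Matrix (Fin n) (Fin n) F).toMonoidHom
          ω) = E
        rw [orderOf_injective _ (scalarGL_injective (ι := Fin n))]
        exact D.root.eq_orderOf.symm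
      show E ∣ _
      rw [← hord]
      exact Monoid.order_dvd_exponent _
  exact ⟨m, hm1, hm, htype, hcz, hcard⟩

/-- The classes of the normaliser of a group of symplectic type. -/
theorem exists_class_of_heis [Fintype F] {n r : ℕ} (hn : 3 ≤ n)
    {H R : Subgroup (GL (Fin n) F)} {ω : Fˣ} (D : HeisData n r R ω)
    (hR : ∀ g ∈ H, ∀ a ∈ R, g * a * g⁻¹ ∈ R)
    (hab : ∀ A ≤ R, (∀ g ∈ H, ∀ a ∈ A, g * a * g⁻¹ ∈ A) → (∀ a ∈ A, ∀ b ∈ A, a * b = b * a) →
      A ≤ Cfsg.Geo.scalars (Fin n) F) :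
    ∃ M : Subgroup (GL (Fin n) F), InLinearClass' n F M ∧ H ≤ M := by
  classical
  have : NeZero n := ⟨by omega⟩
  have : Nonempty (Fin n) := ⟨⟨0, by omega⟩⟩
  obtain ⟨p, hp⟩ := CharP.exists F
  obtain ⟨f, hpp, hF⟩ := FiniteField.card F p
  have : Fact p.Prime := ⟨hpp⟩
  set E := r * Nat.gcd 2 r with hE
  have hωF : IsPrimitiveRoot (ω : F) E := IsPrimitiveRoot.coe_units_iff.2 D.root
  have hrp : r ≠ p := by
    rintro rfl
    have hEpos : 0 < E := Nat.mul_pos D.prime.pos (Nat.gcd_pos_of_pos_left _ (by decide))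
    have : NeZero E := ⟨hEpos.ne'⟩
    have h1 : (E : F) ≠ 0 := (hωF.neZero').out
    exact h1 (by rw [hE, Nat.cast_mul, CharP.cast_eq_zero, zero_mul])
  rcases field_trichotomy hpp hF D.prime D.root hrp with
    ⟨e, hef, hne, hfix⟩ | ⟨h, hh, hu, hh0⟩ | ⟨hmin, hdvd, hcase⟩
  · obtain ⟨L, hL, hmem⟩ := exists_subfield_of_dvd (F := F) hF hef
    have hLtop : L ≠ ⊤ := by
      intro htop
      apply hne
      have h1 : Nat.card L = Fintype.card F := by
        rw [htop, ← Nat.card_eq_fintype_card]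
        exact Nat.card_congr Subfield.topEquiv.toEquiv
      rw [hL, hF] at h1
      exact Nat.pow_right_injective hpp.two_le h1
    obtain ⟨L', r', hle, hr', hc⟩ := exists_subfield_prime hLtop
    obtain ⟨B, hB⟩ := exists_le_subfieldSubgroup hR (envelope_eq_top D.absIrr)
      (realisableOver_mono hle (D.realisable ((hmem _).2 hfix)))
    refine ⟨_, ?_, hB⟩
    iterate 6 right
    left
    exact ⟨L', r', B, hr', hc, rfl⟩
  · let σ : F ≃+* F := RingEquiv.ofBijective (iterateFrobenius F p h)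
      (Finite.injective_iff_bijective.1 (iterateFrobenius F p h).injective)
    have hσ : ∀ a, σ a = a ^ p ^ h := fun a => rfl
    have hne : σ ≠ RingEquiv.refl F := by
      intro hc
      have h2 : (ω : F) * ω = 1 := by
        have h1 := hu
        rw [← hσ, hc] at h1
        exact h1
      have h3 : E ∣ 2 := (hωF.pow_eq_one_iff_dvd 2).1 (by rw [sq, h2])
      have h4 : 3 ≤ E := by
        rcases D.prime.eq_two_or_odd with h2' | h2'
        · rw [hE, h2']; decide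
        · have : Nat.gcd 2 r = 1 := Nat.Coprime.gcd_eq_one (Nat.coprime_two_left.2 (Nat.odd_iff.2 h2'))
          rw [hE, this, mul_one]
          have := D.prime.two_le
          omega
      have := Nat.le_of_dvd two_pos h3
      omega
    obtain ⟨fm, hfm, hfix⟩ := D.exists_unitary (σ := σ) hne
      (fun a => by rw [hσ, hσ, ← pow_mul, ← pow_add, ← hh, ← hF, FiniteField.pow_card])
      (by rw [hσ]; exact hu)
    refine ⟨_, ?_, le_similarityGroup D.absIrr hR (isSesq_of_unitary hfm) hfm.nondegenerate hfix⟩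
    iterate 10 right
    left
    exact ⟨σ, fm, hfm, hn, rfl⟩
  · obtain ⟨m, hm1, hm, htype, hcz, hcard⟩ := D.type_data (by omega) hR hab
    have hdata : Cfsg.Geo.IsLinearSymplecticTypeData r R := by
      refine ⟨htype, D.absIrr, p, f, hrp, ?_, ?_⟩
      · rw [hcz]; exact ⟨hpp, hp, hF, hdvd, hmin⟩
      · rcases hcase with ⟨hro, hfo⟩ | ⟨rfl, hf1⟩
        · have hg : Nat.gcd 2 r = 1 := Nat.Coprime.gcd_eq_one (Nat.coprime_two_left.2 hro)
          rw [hg, mul_one] at hcz hcard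
          exact Or.inl ⟨hro, hfo, hcz, m, hm1, by rw [hcard, hm, ← pow_mul, ← pow_succ]; ring_nf⟩
        · refine Or.inr (Or.inl ⟨rfl, hf1, hcz.trans rfl, ?_, m, ?_⟩)
          · rw [Fintype.card_fin]
            rcases Nat.lt_or_ge m 2 with h2 | h2
            · obtain rfl : m = 1 := by omega
              omega
            · rw [hm]
              calc 4 = 2 ^ 2 := rfl
                _ ≤ 2 ^ m := Nat.pow_le_pow_right two_pos h2
          · rw [hcard, hm, ← pow_mul, show (2 : ℕ) * Nat.gcd 2 2 = 2 ^ 2 from rfl, ← pow_add]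
            ring_nf
    refine ⟨_, ?_, le_subgroupNormalizer hR⟩
    iterate 7 right
    left
    exact ⟨r, R, hdata, ⟨m, hm⟩, rfl⟩

set_option maxHeartbeats 800000 in
/-- A minimal normal subgroup that is abelian modulo scalars gives a group of symplectic type,
once the roots of unity are present. -/
theorem exists_heis_of_abelian [Fintype F] {n : ℕ} (hn : 2 ≤ n)
    {H N : Subgroup (GL (Fin n) F)} (hN : AbsIrr N)
    (hnorm : ∀ g ∈ H, ∀ a ∈ N, g * a * g⁻¹ ∈ N)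
    (hmin : ∀ M ≤ N, (∀ g ∈ H, ∀ a ∈ M, g * a * g⁻¹ ∈ M) →
      (∀ z ∈ N, z ∈ Cfsg.Geo.scalars (Fin n) F → z ∈ M) →
      M ≤ Cfsg.Geo.scalars (Fin n) F ∨ M = N)
    (h2 : ScalarCommutators N) :
    ∃ r, r.Prime ∧ (∃ ζ : Fˣ, orderOf ζ = r) ∧
      (∀ x ∈ N, x ^ r ∈ Cfsg.Geo.scalars (Fin n) F) ∧
      ∀ ω : Fˣ, IsPrimitiveRoot ω (r * Nat.gcd 2 r) →
        ∃ R : Subgroup (GL (Fin n) F), HeisData n r R ω ∧
          (∀ g ∈ H, ∀ a ∈ R, g * a * g⁻¹ ∈ R) ∧
          (∀ A ≤ R, (∀ g ∈ H, ∀ a ∈ A, g * a * g⁻¹ ∈ A) → (∀ a ∈ A, ∀ b ∈ A, a * b = b * a) →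
            A ≤ Cfsg.Geo.scalars (Fin n) F) ∧
          R ≤ N ⊔ Cfsg.Geo.scalars (Fin n) F := by
  classical
  have : NeZero n := ⟨by omega⟩
  have : Nonempty (Fin n) := ⟨⟨0, by omega⟩⟩
  let 𝒵 : Subgroup (GL (Fin n) F) := Cfsg.Geo.scalars (Fin n) F
  have hNs : ¬ N ≤ 𝒵 :=
    not_le_scalars_of_irr (by rw [Fintype.card_fin]; omega) hN.1
  obtain ⟨x₁, hx₁, y₁, hy₁, hne⟩ : ∃ x ∈ N, ∃ y ∈ N, x * y ≠ y * x := by
    by_contra h
    push Not at h
    exact hNs fun a ha => hN.mem_scalars fun b hb => h a ha b hb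
  let π := QuotientGroup.mk' 𝒵
  have hπ : ∀ x, π x = 1 ↔ x ∈ 𝒵 := fun x => QuotientGroup.eq_one_iff _
  have hcomm : ∀ x ∈ N, ∀ y ∈ N, Commute (π x) (π y) := by
    intro x hx y hy
    have h1 : π ⁅x, y⁆ = 1 := (hπ _).2 (h2 x hx y hy)
    rwa [map_commutatorElement, commutatorElement_eq_one_iff_mul_comm] at h1
  -- the prime
  obtain ⟨r, hr, y₀, hy₀, hy₀s, hy₀r⟩ : ∃ r, r.Prime ∧ ∃ y ∈ N, y ∉ 𝒵 ∧ y ^ r ∈ 𝒵 := by
    obtain ⟨x, hx, hxs⟩ := SetLike.not_le_iff_exists.1 hNs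
    have hk : orderOf (π x) ≠ 1 := fun h => hxs ((hπ x).1 (orderOf_eq_one_iff.1 h))
    obtain ⟨r, hr, k, hk'⟩ := Nat.exists_prime_and_dvd hk
    refine ⟨r, hr, x ^ k, N.pow_mem hx k, fun h => ?_, ?_⟩
    · have h1 : π x ^ k = 1 := by rw [← map_pow]; exact (hπ _).2 h
      have h2' := orderOf_dvd_of_pow_eq_one h1
      have hk0 : 0 < k := by
        rcases Nat.eq_zero_or_pos k with h0 | h0
        · exfalso
          rw [h0, mul_zero] at hk'
          exact (orderOf_pos (π x)).ne' hk'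
        · exact h0
      have := Nat.le_of_dvd hk0 h2'
      rw [hk'] at this
      have h3 : k * 2 ≤ k * r := Nat.mul_le_mul_left k hr.two_le
      rw [mul_comm r k] at this
      omega
    · rw [← pow_mul, mul_comm, ← hk']
      exact (hπ _).1 (by rw [map_pow, pow_orderOf_eq_one])
  have : Fact r.Prime := ⟨hr⟩
  have hpow : ∀ x ∈ N, x ^ r ∈ 𝒵 := by
    let M : Subgroup (GL (Fin n) F) :=
      { carrier := {x | x ∈ N ∧ x ^ r ∈ 𝒵}
        one_mem' := ⟨N.one_mem, by rw [one_pow]; exact 𝒵.one_mem⟩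
        mul_mem' := fun {a b} ha hb => ⟨N.mul_mem ha.1 hb.1, (hπ _).1 (by
          rw [map_pow, map_mul, (hcomm a ha.1 b hb.1).mul_pow, ← map_pow, ← map_pow, (hπ _).2 ha.2,
            (hπ _).2 hb.2, mul_one])⟩
        inv_mem' := fun {a} ha => ⟨N.inv_mem ha.1, by rw [inv_pow]; exact 𝒵.inv_mem ha.2⟩ }
    have hM : M = N := by
      refine (hmin M (fun a ha => ha.1) (fun g hg a ha => ⟨hnorm g hg a ha.1, ?_⟩)
        (fun z hz hzs => ⟨hz, 𝒵.pow_mem hzs r⟩)).resolve_left fun h => hy₀s (h ⟨hy₀, hy₀r⟩)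
      rw [conj_pow]
      exact (inferInstance : (Cfsg.Geo.scalars (Fin n) F).Normal).conj_mem _ ha.2 g
    exact fun x hx => (hM.ge hx).2
  have hlam : ∀ x ∈ N, ∀ y ∈ N, ∀ c : Fˣ, x * y = scalarGL (Fin n) c * (y * x) → c ^ r = 1 := by
    intro x hx y hy c hc
    have h1 := pow_comm_scalar hc r
    rw [scalars_comm (hpow x hx) y] at h1
    apply scalarGL_injective (ι := Fin n)
    rw [scalarGL_one]
    exact mul_right_cancel (b := y * x ^ r) (by rw [← h1, one_mul])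
  obtain ⟨ζ, hζ⟩ := h2.exists_comm hx₁ hy₁
  have hζ1 : ζ ≠ 1 := fun h => hne (by rw [hζ, h, scalarGL_one, one_mul])
  have hζr : orderOf ζ = r := orderOf_eq_prime (hlam _ hx₁ _ hy₁ _ hζ) hζ1
  refine ⟨r, hr, ⟨ζ, hζr⟩, hpow, fun ω hω => ?_⟩
  set γ := Nat.gcd 2 r with hγ
  have hγpos : 0 < γ := Nat.gcd_pos_of_pos_left _ (by decide)
  -- `r`-th roots of the defects
  have hroot : ∀ z : Fˣ, z ^ γ = 1 → ∃ d : Fˣ, d ^ r = z := by
    intro z hz
    have h1 : IsPrimitiveRoot (ω ^ r) γ := hω.pow (Nat.mul_pos hr.pos hγpos) rfl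
    have : NeZero γ := ⟨hγpos.ne'⟩
    obtain ⟨i, -, hi⟩ := (IsPrimitiveRoot.coe_units_iff.2 h1).eq_pow_of_pow_eq_one
      (show (z : F) ^ γ = 1 by rw [← Units.val_pow_eq_pow_val, hz, Units.val_one])
    refine ⟨ω ^ i, Units.ext ?_⟩
    rw [← hi]
    simp only [Units.val_pow_eq_pow_val, ← pow_mul, mul_comm]
  have hchoose : ∀ c : Fˣ, c ^ r = 1 → (c⁻¹ ^ r.choose 2) ^ γ = 1 := by
    intro c hc
    rw [← pow_mul]
    obtain ⟨k, hk⟩ : r ∣ r.choose 2 * γ := by
      rcases hr.eq_two_or_odd with h | h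
      · rw [hγ, h]; decide
      · rw [Nat.choose_two_right]
        obtain ⟨k, hk⟩ : 2 ∣ r - 1 := ⟨(r - 1) / 2, by omega⟩
        rw [hk, mul_left_comm, Nat.mul_div_cancel_left _ two_pos, mul_assoc]
        exact dvd_mul_right r _
    rw [hk, pow_mul, inv_pow, hc, inv_one, one_pow]
  -- every class has a representative of order dividing `r * γ`
  have hlift : ∀ x ∈ N, ∃ b : Fˣ, x ^ r = scalarGL (Fin n) (b ^ r) := by
    let K : Subgroup (GL (Fin n) F) :=
      { carrier := {x | x ∈ N ∧ ∃ b : Fˣ, x ^ r = scalarGL (Fin n) (b ^ r)}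
        one_mem' := ⟨N.one_mem, 1, by rw [one_pow, one_pow, scalarGL_one]⟩
        mul_mem' := fun {a b} ha hb => by
          obtain ⟨haN, u, hu⟩ := ha
          obtain ⟨hbN, v, hv⟩ := hb
          obtain ⟨c, hc⟩ := h2.exists_comm haN hbN
          obtain ⟨d, hd⟩ := hroot _ (hchoose c (hlam a haN b hbN c hc))
          refine ⟨N.mul_mem haN hbN, d * (u * v), ?_⟩
          rw [mul_pow_scalar hc r, hu, hv, ← scalarGL_mul, ← scalarGL_mul, mul_pow, hd, mul_pow]
        inv_mem' := fun {a} ha => by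
          obtain ⟨haN, u, hu⟩ := ha
          exact ⟨N.inv_mem haN, u⁻¹, by rw [inv_pow, hu, inv_pow, scalarGL_inv]⟩ }
    obtain ⟨z₁, hz₁, hz₁s⟩ : ∃ z ∈ K, z ∉ 𝒵 := by
      obtain ⟨a, ha⟩ := mem_scalars.1 (hpow x₁ hx₁)
      obtain ⟨b, hb⟩ := mem_scalars.1 (hpow y₁ hy₁)
      have hxs : x₁ ∉ 𝒵 := fun h => hne (scalars_comm h y₁)
      by_cases ha' : ∃ u : Fˣ, a = u ^ r
      · obtain ⟨u, rfl⟩ := ha'
        exact ⟨x₁, ⟨hx₁, u, ha⟩, hxs⟩
      have hidx : Nat.card (Fˣ ⧸ (powMonoidHom r : Fˣ →* Fˣ).range) = r := by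
        rw [← Subgroup.index_eq_card, IsCyclic.index_powMonoidHom_range]
        exact Nat.gcd_eq_right (hζr ▸ orderOf_dvd_natCard ζ)
      have hamem : (QuotientGroup.mk a : Fˣ ⧸ (powMonoidHom r : Fˣ →* Fˣ).range) ≠ 1 := by
        intro h
        obtain ⟨u, hu⟩ := (QuotientGroup.eq_one_iff a).1 h
        exact ha' ⟨u, hu.symm⟩
      obtain ⟨i, hi⟩ := mem_zpowers_of_prime_card (g := (QuotientGroup.mk a : Fˣ ⧸ _))
        (g' := QuotientGroup.mk b) hidx hamem
      simp only at hi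
      rw [← QuotientGroup.mk_zpow, QuotientGroup.eq] at hi
      obtain ⟨u, hu⟩ := hi
      rw [powMonoidHom_apply] at hu
      -- `w = x₁⁻ⁱ y₁` has an `r`-th power in the class of `1`
      obtain ⟨c, hc⟩ := h2.exists_comm (N.zpow_mem hx₁ (-i)) hy₁
      obtain ⟨d, hd⟩ := hroot _ (hchoose c (hlam _ (N.zpow_mem hx₁ (-i)) y₁ hy₁ c hc))
      refine ⟨x₁ ^ (-i) * y₁, ⟨N.mul_mem (N.zpow_mem hx₁ _) hy₁, d * u, ?_⟩, fun h => ?_⟩
      · have h1 : (x₁ ^ (-i)) ^ r = scalarGL (Fin n) (a ^ i)⁻¹ := by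
          rw [← zpow_natCast, ← _root_.zpow_mul, mul_comm, _root_.zpow_mul, zpow_natCast, ha, ← _root_.zpow_neg]
          exact (map_zpow (Units.map
            (Matrix.scalar (Fin n) : F →+* Matrix (Fin n) (Fin n) F).toMonoidHom) a (-i)).symm
        rw [mul_pow_scalar hc r, h1, hb, ← scalarGL_mul, ← scalarGL_mul, mul_pow, hd, ← hu]
      · apply hne
        have h3 := scalars_comm h x₁
        rw [mul_assoc, ← mul_assoc x₁, ← _root_.zpow_one_add, add_comm (1 : ℤ), _root_.zpow_add_one] at h3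
        exact (mul_left_cancel (a := x₁ ^ (-i)) (by rw [h3]; group)).symm
    have hK : K = N := by
      refine (hmin K (fun a ha => ha.1) (fun g hg a ha => ⟨hnorm g hg a ha.1, ?_⟩)
        (fun z hz hzs => ⟨hz, ?_⟩)).resolve_left fun h => hz₁s (h hz₁)
      · obtain ⟨b, hb⟩ := ha.2
        exact ⟨b, by rw [conj_pow, hb, ← scalarGL_comm, mul_inv_cancel_right]⟩
      · obtain ⟨a, rfl⟩ := mem_scalars.1 hzs
        exact ⟨a, by rw [scalarGL_pow]⟩
    exact fun x hx => (hK.ge hx).2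
  -- the symplectic type group
  have hNZ : ∀ x, x ∈ N ⊔ 𝒵 → ∃ a : Fˣ, ∃ y ∈ N, x = scalarGL (Fin n) a * y := by
    intro x hx
    obtain ⟨y, hy, z, hz, rfl⟩ := Subgroup.mem_sup_of_normal_right.1 hx
    obtain ⟨a, rfl⟩ := mem_scalars.1 hz
    exact ⟨a, y, hy, (scalarGL_comm a y).symm⟩
  have hZc : ∀ x ∈ N ⊔ 𝒵, ∀ y ∈ N ⊔ 𝒵, ∃ c : Fˣ, c ^ r = 1 ∧
      x * y = scalarGL (Fin n) c * (y * x) := by
    intro x hx y hy
    obtain ⟨a, x', hx', rfl⟩ := hNZ x hx
    obtain ⟨b, y', hy', rfl⟩ := hNZ y hy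
    obtain ⟨c, hc⟩ := h2.exists_comm hx' hy'
    refine ⟨c, hlam x' hx' y' hy' c hc, ?_⟩
    calc scalarGL (Fin n) a * x' * (scalarGL (Fin n) b * y')
        = scalarGL (Fin n) a * scalarGL (Fin n) b * (x' * y') := by
          rw [mul_assoc, ← mul_assoc x', ← scalarGL_comm b x']; group
      _ = scalarGL (Fin n) c * (scalarGL (Fin n) b * scalarGL (Fin n) a * (y' * x')) := by
          rw [hc, ← scalarGL_mul, ← scalarGL_mul, mul_comm a b, ← mul_assoc, ← scalarGL_mul,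
            mul_comm (b * a) c, scalarGL_mul, mul_assoc]
      _ = _ := by
          rw [mul_assoc (scalarGL (Fin n) b) y', ← mul_assoc y', ← scalarGL_comm a y']; group
  let R : Subgroup (GL (Fin n) F) :=
    { carrier := {x | x ∈ N ⊔ 𝒵 ∧ ∃ z : Fˣ, z ^ γ = 1 ∧ x ^ r = scalarGL (Fin n) z}
      one_mem' := ⟨Subgroup.one_mem _, 1, one_pow _, by rw [one_pow, scalarGL_one]⟩
      mul_mem' := fun {a b} ha hb => by
        obtain ⟨haN, u, hu, hau⟩ := ha
        obtain ⟨hbN, v, hv, hbv⟩ := hb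
        obtain ⟨c, hcr, hc⟩ := hZc a haN b hbN
        refine ⟨Subgroup.mul_mem _ haN hbN, c⁻¹ ^ r.choose 2 * (u * v), ?_, ?_⟩
        · rw [mul_pow, mul_pow, hu, hv, hchoose c hcr, one_mul, one_mul]
        · rw [mul_pow_scalar hc r, hau, hbv, ← scalarGL_mul, ← scalarGL_mul]
      inv_mem' := fun {a} ha => by
        obtain ⟨haN, u, hu, hau⟩ := ha
        exact ⟨Subgroup.inv_mem _ haN, u⁻¹, by rw [inv_pow, hu, inv_one],
          by rw [inv_pow, hau, scalarGL_inv]⟩ }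
  have hrep : ∀ x ∈ N, ∃ b : Fˣ, scalarGL (Fin n) b * x ∈ R := by
    intro x hx
    obtain ⟨b, hb⟩ := hlift x hx
    refine ⟨b⁻¹, Subgroup.mul_mem _ (Subgroup.mem_sup_right (mem_scalars.2 ⟨_, rfl⟩))
      (Subgroup.mem_sup_left hx), 1, one_pow _, ?_⟩
    rw [Commute.mul_pow (scalarGL_comm _ x), hb, ← scalarGL_pow, ← scalarGL_mul, ← mul_pow,
      inv_mul_cancel, one_pow]
  have hRabs : AbsIrr R := by
    refine ⟨irr_iff.2 fun W hW => irr_iff.1 hN.1 W fun a ha w hw => ?_, fun M hM => hN.2 M ?_⟩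
    · obtain ⟨b, hb⟩ := hrep a ha
      have h1 := hW _ hb w hw
      rw [mul_mulVec, scalarGL_mulVec] at h1
      have h3 := W.smul_mem ((b⁻¹ : Fˣ) : F) h1
      rwa [smul_smul, Units.inv_mul, one_smul] at h3
    · rintro _ ⟨a, ha, rfl⟩
      obtain ⟨b, hb⟩ := hrep a ha
      have h1 := hM _ ⟨_, hb, rfl⟩
      simp only [Units.val_mul, scalarGL_val, Matrix.smul_mul, one_mul, Matrix.mul_smul] at h1
      have h3 := congrArg (fun X : Matrix (Fin n) (Fin n) F => ((b⁻¹ : Fˣ) : F) • X) h1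
      simpa [smul_smul] using h3
  have hD : HeisData n r R ω := by
    refine ⟨hr, hRabs, fun a ha b hb => ?_, fun x hx => hx.2, hω, ?_⟩
    · obtain ⟨c, -, hc⟩ := hZc a ha.1 b hb.1
      rw [hc]
      exact mem_scalars.2 ⟨c, by group⟩
    · refine ⟨Subgroup.mem_sup_right (mem_scalars.2 ⟨_, rfl⟩), ω ^ r, ?_, by rw [scalarGL_pow]⟩
      rw [← pow_mul, hω.pow_eq_one]
  have hNZn : ∀ g ∈ H, ∀ a ∈ N ⊔ 𝒵, g * a * g⁻¹ ∈ N ⊔ 𝒵 := by
    intro g hg a ha
    have hle : N ⊔ 𝒵 ≤ (N ⊔ 𝒵).comap (MulAut.conj g).toMonoidHom :=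
      sup_le (fun b hb => Subgroup.mem_sup_left (hnorm g hg b hb))
        (fun b hb => Subgroup.mem_sup_right
          ((inferInstance : (Cfsg.Geo.scalars (Fin n) F).Normal).conj_mem b hb g))
    exact hle ha
  refine ⟨R, hD, fun g hg a ha => ⟨hNZn g hg a ha.1, ?_⟩, fun A hAR hAn hAc => ?_, fun x hx => hx.1⟩
  · obtain ⟨z, hz, haz⟩ := ha.2
    exact ⟨z, hz, by rw [conj_pow, haz, ← scalarGL_comm, mul_inv_cancel_right]⟩
  let M : Subgroup (GL (Fin n) F) := N ⊓ (A ⊔ 𝒵)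
  have hMn : ∀ g ∈ H, ∀ a ∈ M, g * a * g⁻¹ ∈ M := by
    intro g hg a ha
    have hle : A ⊔ 𝒵 ≤ (A ⊔ 𝒵).comap (MulAut.conj g).toMonoidHom :=
      sup_le (fun b hb => Subgroup.mem_sup_left (hAn g hg b hb))
        (fun b hb => Subgroup.mem_sup_right
          ((inferInstance : (Cfsg.Geo.scalars (Fin n) F).Normal).conj_mem b hb g))
    exact ⟨hnorm g hg a ha.1, hle ha.2⟩
  rcases hmin M inf_le_left hMn (fun z hz hzs => ⟨hz, Subgroup.mem_sup_right hzs⟩) with h | h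
  · intro a ha
    obtain ⟨b, y, hy, rfl⟩ := hNZ a (hAR ha).1
    have hym : y ∈ M := ⟨hy, by
      have : y = scalarGL (Fin n) b⁻¹ * (scalarGL (Fin n) b * y) := by
        rw [← mul_assoc, ← scalarGL_mul, inv_mul_cancel, scalarGL_one, one_mul]
      rw [this]
      exact Subgroup.mul_mem _ (Subgroup.mem_sup_right (mem_scalars.2 ⟨_, rfl⟩))
        (Subgroup.mem_sup_left ha)⟩
    exact Subgroup.mul_mem _ (mem_scalars.2 ⟨_, rfl⟩) (h hym)
  · exfalso
    apply hne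
    have hc : ∀ p ∈ A ⊔ 𝒵, ∀ q ∈ A ⊔ 𝒵, p * q = q * p := by
      intro p hp q hq
      obtain ⟨u, hu, z, hz, rfl⟩ := Subgroup.mem_sup_of_normal_right.1 hp
      obtain ⟨v, hv, z', hz', rfl⟩ := Subgroup.mem_sup_of_normal_right.1 hq
      calc u * z * (v * z') = u * v * (z * z') := by
            rw [mul_assoc, ← mul_assoc z, scalars_comm hz v]; group
        _ = v * u * (z' * z) := by rw [hAc u hu v hv, scalars_comm hz z']
        _ = _ := by rw [mul_assoc v, ← mul_assoc u, ← scalars_comm hz' u]; group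
    exact hc _ (h.ge hx₁).2 _ (h.ge hy₁).2

set_option maxHeartbeats 800000 in
/-- The main statement for minimal normal subgroups abelian modulo scalars. -/
theorem exists_class_of_abelian [Fintype F] {n : ℕ} (hn : 3 ≤ n)
    {H N : Subgroup (GL (Fin n) F)} (hN : AbsIrr N)
    (hnorm : ∀ g ∈ H, ∀ a ∈ N, g * a * g⁻¹ ∈ N)
    (hmin : ∀ M ≤ N, (∀ g ∈ H, ∀ a ∈ M, g * a * g⁻¹ ∈ M) →
      (∀ z ∈ N, z ∈ Cfsg.Geo.scalars (Fin n) F → z ∈ M) →
      M ≤ Cfsg.Geo.scalars (Fin n) F ∨ M = N)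
    (h2 : ScalarCommutators N) :
    ∃ M : Subgroup (GL (Fin n) F), InLinearClass' n F M ∧ H ≤ M := by
  classical
  obtain ⟨r, hr, ⟨ζ, hζr⟩, hpow, hmk⟩ := exists_heis_of_abelian (by omega) hN hnorm hmin h2
  by_cases hω : ∃ ω : Fˣ, IsPrimitiveRoot ω (r * Nat.gcd 2 r)
  swap
  · -- `r = 2` and `-1` is not a square
    have hr2 : r = 2 := by
      rcases hr.eq_two_or_odd with h | h
      · exact h
      · refine absurd ⟨ζ, ?_⟩ hω
        rw [Nat.Coprime.gcd_eq_one (Nat.coprime_two_left.2 (Nat.odd_iff.2 h)), mul_one, ← hζr]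
        exact IsPrimitiveRoot.orderOf ζ
    subst hr2
    refine exists_class_of_nonsquare hn ?_ hN hnorm h2 hpow
    have hcard : orderOf ζ ∣ Fintype.card Fˣ := orderOf_dvd_card
    rw [hζr, Fintype.card_units] at hcard
    by_contra h4
    have h1 : (4 : ℕ) ∣ Fintype.card Fˣ := by
      rw [Fintype.card_units]
      have := Fintype.one_lt_card (α := F)
      omega
    apply hω
    obtain ⟨g, hg⟩ := IsCyclic.exists_ofOrder_eq_natCard (α := Fˣ)
    obtain ⟨k, hk⟩ := h1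
    rw [Nat.card_eq_fintype_card, hk] at hg
    have hk0 : 0 < k := by
      rcases Nat.eq_zero_or_pos k with h | h
      · exfalso; have := Fintype.card_pos (α := Fˣ); omega
      · exact h
    refine ⟨g ^ k, ?_⟩
    show IsPrimitiveRoot (g ^ k) 4
    exact (hg ▸ IsPrimitiveRoot.orderOf g).pow (Nat.mul_pos (by decide) hk0) (mul_comm 4 k)
  obtain ⟨ω, hω⟩ := hω
  obtain ⟨R, D, hR, hab, -⟩ := hmk ω hω
  exact exists_class_of_heis hn D hR hab

end CfsgLib.Aschbacher
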