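import Mathlib
import Cfsg.Prelude.Def_GeometricClasses

/-!
Clifford theory by annihilators: if `H` acts irreducibly and normalises `A`, then either `H` fixes a
decomposition into at least two subspaces of equal dimension, or every minimal `A`-invariant
subspace is faithful for the linear span of `A`.
-/

set_option autoImplicit false

namespace CfsgLib.Aschbacher

open Matrix Module

variable {ι : Type} [Fintype ι] [DecidableEq ι] {F : Type*} [Field F]

/-- `W` is mapped into itself by every element of `A`. -/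
def Inv (A : Subgroup (GL ι F)) (W : Submodule F (ι → F)) : Prop :=
  ∀ a ∈ A, ∀ w ∈ W, (a : Matrix ι ι F) *ᵥ w ∈ W

/-- `W` is a minimal non-zero `A`-invariant subspace. -/
structure MinInv (A : Subgroup (GL ι F)) (W : Submodule F (ι → F)) : Prop where
  ne_bot : W ≠ ⊥
  inv : Inv A W
  min : ∀ U : Submodule F (ι → F), U ≤ W → Inv A U → U = ⊥ ∨ U = W

/-- The linear span of the matrices in `A`. -/
def envelope (A : Subgroup (GL ι F)) : Submodule F (Matrix ι ι F) :=
  Submodule.span F (Cfsg.Geo.matrixSet A)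

/-- The elements of the linear span of `A` annihilating `W`. -/
def ann (A : Subgroup (GL ι F)) (W : Submodule F (ι → F)) : Submodule F (Matrix ι ι F) where
  carrier := {M | M ∈ envelope A ∧ ∀ w ∈ W, M *ᵥ w = 0}
  add_mem' {M N} hM hN :=
    ⟨add_mem hM.1 hN.1, fun w hw => by rw [Matrix.add_mulVec, hM.2 w hw, hN.2 w hw, add_zero]⟩
  zero_mem' := ⟨zero_mem _, fun w _ => by simp⟩
  smul_mem' c M hM :=
    ⟨Submodule.smul_mem _ c hM.1, fun w hw => by rw [Matrix.smul_mulVec, hM.2 w hw, smul_zero]⟩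

lemma mem_ann {A : Subgroup (GL ι F)} {W : Submodule F (ι → F)} {M : Matrix ι ι F} :
    M ∈ ann A W ↔ M ∈ envelope A ∧ ∀ w ∈ W, M *ᵥ w = 0 := Iff.rfl

/-- The translate of a subspace by an invertible matrix. -/
noncomputable def tr (g : GL ι F) (W : Submodule F (ι → F)) : Submodule F (ι → F) :=
  W.map (Matrix.toLin' (g : Matrix ι ι F))

lemma mem_tr {g : GL ι F} {W : Submodule F (ι → F)} {v : ι → F} :
    v ∈ tr g W ↔ ∃ w ∈ W, (g : Matrix ι ι F) *ᵥ w = v := by
  simp [tr, Submodule.mem_map, Matrix.toLin'_apply]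

lemma mul_mulVec (a b : GL ι F) (v : ι → F) :
    ((a * b : GL ι F) : Matrix ι ι F) *ᵥ v = (a : Matrix ι ι F) *ᵥ ((b : Matrix ι ι F) *ᵥ v) := by
  rw [Units.val_mul, Matrix.mulVec_mulVec]

lemma inv_mulVec_cancel (a : GL ι F) (v : ι → F) :
    ((a⁻¹ : GL ι F) : Matrix ι ι F) *ᵥ ((a : Matrix ι ι F) *ᵥ v) = v := by
  rw [← mul_mulVec, inv_mul_cancel, Units.val_one, Matrix.one_mulVec]

lemma mulVec_inv_cancel (a : GL ι F) (v : ι → F) :
    (a : Matrix ι ι F) *ᵥ (((a⁻¹ : GL ι F) : Matrix ι ι F) *ᵥ v) = v := by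
  rw [← mul_mulVec, mul_inv_cancel, Units.val_one, Matrix.one_mulVec]

lemma mulVec_injective (a : GL ι F) : Function.Injective fun v => (a : Matrix ι ι F) *ᵥ v :=
  Function.LeftInverse.injective (inv_mulVec_cancel a)

lemma tr_one (W : Submodule F (ι → F)) : tr (1 : GL ι F) W = W := by
  ext v; simp [mem_tr]

lemma tr_mul (g h : GL ι F) (W : Submodule F (ι → F)) : tr (g * h) W = tr g (tr h W) := by
  rw [tr, tr, tr, Units.val_mul, Matrix.toLin'_mul, Submodule.map_comp]

lemma tr_mono (g : GL ι F) {W U : Submodule F (ι → F)} (h : W ≤ U) : tr g W ≤ tr g U :=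
  Submodule.map_mono h

lemma finrank_tr (g : GL ι F) (W : Submodule F (ι → F)) : finrank F (tr g W) = finrank F W := by
  have hinj : Function.Injective (Matrix.toLin' (g : Matrix ι ι F)) := by
    intro u v h
    simp only [Matrix.toLin'_apply] at h
    exact mulVec_injective g h
  exact (Submodule.equivMapOfInjective _ hinj W).finrank_eq.symm

lemma inv_sSup (A : Subgroup (GL ι F)) (T : Set (Submodule F (ι → F)))
    (hT : ∀ W ∈ T, Inv A W) : Inv A (sSup T) := by
  intro a ha w hw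
  have hle : sSup T ≤ (sSup T).comap (Matrix.toLin' (a : Matrix ι ι F)) := by
    refine sSup_le fun W hW v hv => ?_
    rw [Submodule.mem_comap, Matrix.toLin'_apply]
    exact le_sSup hW (hT W hW a ha v hv)
  have := hle hw
  rwa [Submodule.mem_comap, Matrix.toLin'_apply] at this

lemma inv_sup (A : Subgroup (GL ι F)) {W U : Submodule F (ι → F)} (hW : Inv A W) (hU : Inv A U) :
    Inv A (W ⊔ U) := by
  rw [← sSup_pair]
  exact inv_sSup A _ (by rintro X (rfl | rfl) <;> assumption)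

lemma inv_inf (A : Subgroup (GL ι F)) {W U : Submodule F (ι → F)} (hW : Inv A W) (hU : Inv A U) :
    Inv A (W ⊓ U) := fun a ha w hw => ⟨hW a ha w hw.1, hU a ha w hw.2⟩

lemma envelope_mulVec_mem {A : Subgroup (GL ι F)} {W : Submodule F (ι → F)} (hW : Inv A W)
    {M : Matrix ι ι F} (hM : M ∈ envelope A) {w : ι → F} (hw : w ∈ W) : M *ᵥ w ∈ W := by
  refine Submodule.span_induction ?_ ?_ ?_ ?_ hM
  · rintro x ⟨a, ha, rfl⟩; exact hW a ha w hw
  · simp
  · intro x y _ _ hx hy; rw [Matrix.add_mulVec]; exact add_mem hx hy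
  · intro c x _ hx; rw [Matrix.smul_mulVec]; exact W.smul_mem c hx

/-- An invariant non-zero subspace contains a minimal one. -/
lemma exists_minInv {A : Subgroup (GL ι F)} {W : Submodule F (ι → F)} (hW : Inv A W)
    (h0 : W ≠ ⊥) : ∃ S, S ≤ W ∧ MinInv A S := by
  induction hd : finrank F W using Nat.strong_induction_on generalizing W with
  | _ d ih =>
    by_cases hm : ∀ U : Submodule F (ι → F), U ≤ W → Inv A U → U = ⊥ ∨ U = W
    · exact ⟨W, le_rfl, h0, hW, hm⟩
    · push Not at hm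
      obtain ⟨U, hUW, hUi, hU0, hUne⟩ := hm
      have hlt : finrank F U < d :=
        hd ▸ Submodule.finrank_lt_finrank_of_lt (lt_of_le_of_ne hUW hUne)
      obtain ⟨S, hS, hmin⟩ := ih _ hlt hUi hU0 rfl
      exact ⟨S, hS.trans hUW, hmin⟩

lemma MinInv.disjoint {A : Subgroup (GL ι F)} {S U : Submodule F (ι → F)} (hS : MinInv A S)
    (hU : Inv A U) (h : ¬ S ≤ U) : U ⊓ S = ⊥ := by
  rcases hS.min (U ⊓ S) inf_le_right (inv_inf A hU hS.inv) with h' | h'
  · exact h'
  · exact absurd (h' ▸ inf_le_left) h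

section normalised

variable {H A : Subgroup (GL ι F)} (hn : ∀ g ∈ H, ∀ a ∈ A, g * a * g⁻¹ ∈ A)
include hn

lemma conj_mem_envelope {g : GL ι F} (hg : g ∈ H) {M : Matrix ι ι F} (hM : M ∈ envelope A) :
    (g : Matrix ι ι F) * M * ((g⁻¹ : GL ι F) : Matrix ι ι F) ∈ envelope A := by
  refine Submodule.span_induction ?_ ?_ ?_ ?_ hM
  · rintro x ⟨a, ha, rfl⟩
    exact Submodule.subset_span ⟨g * a * g⁻¹, hn g hg a ha, by simp [Units.val_mul]⟩
  · simp
  · intro x y _ _ hx hy; rw [mul_add, add_mul]; exact add_mem hx hy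
  · intro c x _ hx; rw [Matrix.mul_smul, Matrix.smul_mul]; exact Submodule.smul_mem _ c hx

lemma inv_tr {g : GL ι F} (hg : g ∈ H) {W : Submodule F (ι → F)} (hW : Inv A W) :
    Inv A (tr g W) := by
  intro a ha v hv
  obtain ⟨w, hw, rfl⟩ := mem_tr.1 hv
  have ha' : g⁻¹ * a * g ∈ A := by simpa using hn g⁻¹ (H.inv_mem hg) a ha
  refine mem_tr.2 ⟨_, hW _ ha' w hw, ?_⟩
  rw [← mul_mulVec, ← mul_mulVec]
  group

lemma minInv_tr {g : GL ι F} (hg : g ∈ H) {S : Submodule F (ι → F)} (hS : MinInv A S) :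
    MinInv A (tr g S) := by
  refine ⟨fun h => hS.ne_bot ?_, inv_tr hn hg hS.inv, fun U hU hUi => ?_⟩
  · rw [← tr_one S, ← inv_mul_cancel g, tr_mul, h]
    simp [tr]
  · have hle : tr g⁻¹ U ≤ S := by
      have := tr_mono g⁻¹ hU
      rwa [← tr_mul, inv_mul_cancel, tr_one] at this
    have hUeq : tr g (tr g⁻¹ U) = U := by rw [← tr_mul, mul_inv_cancel, tr_one]
    rcases hS.min _ hle (inv_tr hn (H.inv_mem hg) hUi) with h | h
    · left; rw [← hUeq, h]; simp [tr]
    · right; rw [← hUeq, h]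

lemma conj_mem_ann {g : GL ι F} (hg : g ∈ H) {S : Submodule F (ι → F)} {M : Matrix ι ι F}
    (hM : M ∈ ann A S) :
    (g : Matrix ι ι F) * M * ((g⁻¹ : GL ι F) : Matrix ι ι F) ∈ ann A (tr g S) := by
  refine ⟨conj_mem_envelope hn hg hM.1, fun v hv => ?_⟩
  obtain ⟨w, hw, rfl⟩ := mem_tr.1 hv
  rw [← Matrix.mulVec_mulVec, inv_mulVec_cancel, ← Matrix.mulVec_mulVec, hM.2 w hw,
    Matrix.mulVec_zero]

lemma finrank_ann_tr_le {g : GL ι F} (hg : g ∈ H) (S : Submodule F (ι → F)) :
    finrank F (ann A S) ≤ finrank F (ann A (tr g S)) := by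
  let f : ann A S →ₗ[F] ann A (tr g S) :=
    { toFun := fun M => ⟨_, conj_mem_ann hn hg M.2⟩
      map_add' := fun M N => Subtype.ext (by simp [mul_add, add_mul])
      map_smul' := fun c M => Subtype.ext (by simp) }
  refine LinearMap.finrank_le_finrank_of_injective (f := f) fun M N h => ?_
  have h1 : (g : Matrix ι ι F) * M.1 * ((g⁻¹ : GL ι F) : Matrix ι ι F)
      = (g : Matrix ι ι F) * N.1 * ((g⁻¹ : GL ι F) : Matrix ι ι F) := congrArg Subtype.val h
  have h2 := congrArg (fun X => ((g⁻¹ : GL ι F) : Matrix ι ι F) * X * (g : Matrix ι ι F)) h1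
  simp only [← mul_assoc, Units.inv_mul, one_mul] at h2
  simp only [mul_assoc, Units.inv_mul, mul_one] at h2
  exact Subtype.ext h2

lemma finrank_ann_tr {g : GL ι F} (hg : g ∈ H) (S : Submodule F (ι → F)) :
    finrank F (ann A (tr g S)) = finrank F (ann A S) := by
  refine le_antisymm ?_ (finrank_ann_tr_le hn hg S)
  have := finrank_ann_tr_le hn (H.inv_mem hg) (tr g S)
  rwa [← tr_mul, inv_mul_cancel, tr_one] at this

end normalised

/-- A minimal invariant subspace of a sum of minimal invariant subspaces has the annihilator of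
one of them. -/
lemma exists_ann_eq [Finite F] {A : Subgroup (GL ι F)} {T : Set (Submodule F (ι → F))}
    (hT : ∀ S ∈ T, MinInv A S) {S' : Submodule F (ι → F)} (hS' : MinInv A S') (hle : S' ≤ sSup T) :
    ∃ S ∈ T, ann A S' = ann A S := by
  obtain ⟨U, ⟨hUT, hU⟩, hmax⟩ := (Set.toFinite {U | U ⊆ T ∧ ¬ S' ≤ sSup U}).exists_maximal
    ⟨∅, Set.empty_subset T, by simpa using hS'.ne_bot⟩
  obtain ⟨S, hST, hSU⟩ : ∃ S ∈ T, S ∉ U := by
    by_contra h
    push Not at h
    exact hU (hle.trans (sSup_le_sSup h))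
  set W := sSup U
  have hW : Inv A W := inv_sSup A _ fun X hX => (hT X (hUT hX)).inv
  have hS'le : S' ≤ W ⊔ S := by
    by_contra h
    have : insert S U ≤ U := hmax ⟨Set.insert_subset hST hUT, by rwa [sSup_insert, sup_comm]⟩
      (Set.subset_insert S U)
    exact hSU (this (Set.mem_insert S U))
  have hd' : W ⊓ S' = ⊥ := hS'.disjoint hW hU
  have hSW : ¬ S ≤ W := fun h => hU (hS'le.trans (sup_le le_rfl h))
  have hd : W ⊓ S = ⊥ := (hT S hST).disjoint hW hSW
  have hSle : S ≤ W ⊔ S' := by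
    rcases (hT S hST).min ((W ⊔ S') ⊓ S) inf_le_right
      (inv_inf A (inv_sup A hW hS'.inv) (hT S hST).inv) with h | h
    · exfalso
      obtain ⟨v, hv, hv0⟩ := Submodule.exists_mem_ne_zero_of_ne_bot hS'.ne_bot
      obtain ⟨u, hu, x, hx, hux⟩ := Submodule.mem_sup.1 (hS'le hv)
      have hxm : x ∈ (W ⊔ S') ⊓ S := ⟨Submodule.mem_sup.2 ⟨-u, neg_mem hu, v, hv, by
        rw [← hux]; abel⟩, hx⟩
      rw [h] at hxm
      have hx0 : x = 0 := (Submodule.mem_bot F).1 hxm
      have hvW : v ∈ W ⊓ S' := ⟨by rw [← hux, hx0, add_zero]; exact hu, hv⟩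
      rw [hd'] at hvW
      exact hv0 ((Submodule.mem_bot F).1 hvW)
    · exact h ▸ inf_le_left
  have key : ∀ X Y : Submodule F (ι → F), Inv A X → W ⊓ X = ⊥ → X ≤ W ⊔ Y → ann A Y ≤ ann A X := by
    intro X Y hX hd hXY M hM
    refine ⟨hM.1, fun v hv => ?_⟩
    obtain ⟨u, hu, y, hy, huy⟩ := Submodule.mem_sup.1 (hXY hv)
    have h1 : M *ᵥ v ∈ X := envelope_mulVec_mem hX hM.1 hv
    have h2 : M *ᵥ v ∈ W := by
      rw [← huy, Matrix.mulVec_add, hM.2 y hy, add_zero]
      exact envelope_mulVec_mem hW hM.1 hu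
    exact (Submodule.mem_bot F).1 (hd ▸ ⟨h2, h1⟩)
  exact ⟨S, hST, le_antisymm (key S S' (hT S hST).inv hd hSle) (key S' S hS'.inv hd' hS'le)⟩

/-- If `H` acts irreducibly, `A` is normalised by `H` and `S` is minimal invariant for `A`, then the
translates of `S` span everything. -/
lemma sSup_translates {H A : Subgroup (GL ι F)}
    (hirr : Cfsg.Geo.ActsIrreducibly (Cfsg.Geo.matrixSet H)) {S : Submodule F (ι → F)}
    (hS : MinInv A S) : sSup {W | ∃ g ∈ H, W = tr g S} = ⊤ := by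
  refine (hirr _ ?_).resolve_left fun h => hS.ne_bot ?_
  · rintro s ⟨h, hh, rfl⟩
    rw [sSup_eq_iSup, Submodule.map_iSup]
    refine iSup_le fun W => ?_
    rw [Submodule.map_iSup]
    refine iSup_le fun hW => ?_
    obtain ⟨g, hg, rfl⟩ := hW
    exact le_iSup₂_of_le (tr (h * g) S) ⟨h * g, H.mul_mem hh hg, rfl⟩ (le_of_eq (tr_mul h g S).symm)
  · exact eq_bot_iff.2 (h ▸ le_sSup ⟨1, H.one_mem, (tr_one S).symm⟩)

/-- Clifford's dichotomy, with the homogeneous components: the minimal invariant subspaces inside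
one part span it and have one annihilator, and different parts have different annihilators. -/
theorem components_or_faithful [Finite F] {H A : Subgroup (GL ι F)}
    (hirr : Cfsg.Geo.ActsIrreducibly (Cfsg.Geo.matrixSet H))
    (hn : ∀ g ∈ H, ∀ a ∈ A, g * a * g⁻¹ ∈ A) :
    (∃ (t m : ℕ) (D : Fin t → Submodule F (ι → F))
        (K : Fin t → Submodule F (Matrix ι ι F)),
        Cfsg.Geo.IsMDecomposition m D ∧ H ≤ Cfsg.Geo.decompositionStabilizer D ∧
          (∀ i, Inv A (D i)) ∧ Function.Injective K ∧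
          (∀ i S, MinInv A S → S ≤ D i → ann A S = K i) ∧
          ∀ i, sSup {S | MinInv A S ∧ S ≤ D i} = D i) ∨
      ∀ S, MinInv A S → ann A S = ⊥ := by
  by_cases hex : ∀ S, MinInv A S → ann A S = ⊥
  · exact Or.inr hex
  left
  push Not at hex
  obtain ⟨S, hS, hann⟩ := hex
  let T : Set (Submodule F (ι → F)) := {W | ∃ g ∈ H, W = tr g S}
  have htop : sSup T = ⊤ := sSup_translates hirr hS
  have hTmin : ∀ W ∈ T, MinInv A W := by
    rintro W ⟨g, hg, rfl⟩; exact minInv_tr hn hg hS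
  let 𝒦 : Set (Submodule F (Matrix ι ι F)) := ann A '' T
  have : Finite 𝒦 := (Set.toFinite 𝒦).to_subtype
  let _ : Fintype 𝒦 := Fintype.ofFinite _
  let comp : 𝒦 → Submodule F (ι → F) := fun K => sSup {W | W ∈ T ∧ ann A W = K.1}
  let e := Fintype.equivFin 𝒦
  let D : Fin (Fintype.card 𝒦) → Submodule F (ι → F) := fun i => comp (e.symm i)
  let K₀ : 𝒦 := ⟨ann A S, ⟨S, ⟨1, H.one_mem, (tr_one S).symm⟩, rfl⟩⟩
  -- translates permute the components
  have hperm : ∀ h ∈ H, ∀ K : 𝒦, ∃ K' : 𝒦, tr h (comp K) = comp K' ∧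
      ∀ W ∈ T, ann A W = K.1 → ann A (tr h W) = K'.1 := by
    intro h hh K
    obtain ⟨W₀, hW₀, hK⟩ := K.2
    have hW₀' : tr h W₀ ∈ T := by
      obtain ⟨g, hg, rfl⟩ := hW₀
      exact ⟨h * g, H.mul_mem hh hg, (tr_mul _ _ _).symm⟩
    have hstep : ∀ (a : GL ι F), a ∈ H → ∀ W W' : Submodule F (ι → F),
        ann A W = ann A W' → ann A (tr a W) ≤ ann A (tr a W') := by
      intro a ha W W' heq M hM
      have h1 := conj_mem_ann hn (H.inv_mem ha) hM
      rw [← tr_mul, inv_mul_cancel, tr_one, heq] at h1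
      have h2 := conj_mem_ann hn ha h1
      simpa [← mul_assoc] using h2
    refine ⟨⟨ann A (tr h W₀), ⟨_, hW₀', rfl⟩⟩, ?_, ?_⟩
    · apply le_antisymm
      · rw [tr, Submodule.map_le_iff_le_comap]
        refine sSup_le fun W hW => ?_
        rw [← Submodule.map_le_iff_le_comap]
        refine le_sSup ⟨?_, le_antisymm (hstep h hh _ _ (hW.2.trans hK.symm))
          (hstep h hh _ _ (hK.trans hW.2.symm))⟩
        obtain ⟨g, hg, rfl⟩ := hW.1
        exact ⟨h * g, H.mul_mem hh hg, (tr_mul _ _ _).symm⟩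
      · refine sSup_le fun W hW => ?_
        have hW' : tr h⁻¹ W ∈ {X | X ∈ T ∧ ann A X = K.1} := by
          refine ⟨?_, ?_⟩
          · obtain ⟨g, hg, rfl⟩ := hW.1
            exact ⟨h⁻¹ * g, H.mul_mem (H.inv_mem hh) hg, (tr_mul _ _ _).symm⟩
          · rw [← hK]
            have := le_antisymm (hstep h⁻¹ (H.inv_mem hh) W (tr h W₀) hW.2)
              (hstep h⁻¹ (H.inv_mem hh) (tr h W₀) W hW.2.symm)
            rwa [← tr_mul h⁻¹ h W₀, inv_mul_cancel, tr_one] at this
        have := tr_mono h (le_sSup hW' : tr h⁻¹ W ≤ comp K)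
        rwa [← tr_mul, mul_inv_cancel, tr_one] at this
    · intro W hW hWK
      exact le_antisymm (hstep h hh _ _ (hWK.trans hK.symm)) (hstep h hh _ _ (hK.trans hWK.symm))
  have hrank : ∀ K : 𝒦, finrank F (comp K) = finrank F (comp K₀) := by
    intro K
    obtain ⟨W, hW, hK⟩ := K.2
    obtain ⟨g, hg, rfl⟩ := hW
    obtain ⟨K', hK', hann'⟩ := hperm g hg K₀
    have : K' = K := Subtype.ext ((hann' S ⟨1, H.one_mem, (tr_one S).symm⟩ rfl).symm.trans hK)
    rw [← this, ← hK', finrank_tr]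
  have hsup : iSup comp = ⊤ := by
    refine eq_top_iff.2 (htop ▸ sSup_le fun W hW => ?_)
    exact le_trans (le_sSup (show W ∈ {X | X ∈ T ∧ ann A X = ann A W} from ⟨hW, rfl⟩))
      (le_iSup comp ⟨ann A W, ⟨W, hW, rfl⟩⟩)
  have hindep : iSupIndep comp := by
    intro K
    rw [disjoint_iff]
    by_contra hne
    have hcomp : ∀ K', Inv A (comp K') := fun K' => inv_sSup A _ fun X hX => (hTmin X hX.1).inv
    have hrest : (⨆ j, ⨆ (_ : j ≠ K), comp j) ≤ sSup {X | X ∈ T ∧ ann A X ≠ K.1} := by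
      refine iSup₂_le fun j hj => sSup_le fun X hX => le_sSup ⟨hX.1, ?_⟩
      rw [hX.2]
      exact fun h => hj (Subtype.ext h)
    have hrest_inv : Inv A (comp K ⊓ ⨆ j, ⨆ (_ : j ≠ K), comp j) := by
      refine inv_inf A (hcomp K) ?_
      have heq : (⨆ j, ⨆ (_ : j ≠ K), comp j) = sSup (comp '' {j | j ≠ K}) := by
        rw [sSup_image]; rfl
      rw [heq]
      exact inv_sSup A _ (by rintro X ⟨j, -, rfl⟩; exact hcomp j)
    obtain ⟨S', hS'le, hS'⟩ := exists_minInv hrest_inv hne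
    obtain ⟨X, hX, hXe⟩ := exists_ann_eq (T := {X | X ∈ T ∧ ann A X = K.1})
      (fun X hX => hTmin X hX.1) hS' (hS'le.trans inf_le_left)
    obtain ⟨Y, hY, hYe⟩ := exists_ann_eq (T := {X | X ∈ T ∧ ann A X ≠ K.1})
      (fun X hX => hTmin X hX.1) hS' ((hS'le.trans inf_le_right).trans hrest)
    exact hY.2 (hYe ▸ hXe.trans hX.2)
  have h0 : 0 < finrank F (comp K₀) := by
    rw [Nat.pos_iff_ne_zero]
    intro h
    have hle : S ≤ comp K₀ := le_sSup ⟨⟨1, H.one_mem, (tr_one S).symm⟩, rfl⟩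
    rw [Submodule.finrank_eq_zero.1 h] at hle
    exact hS.ne_bot (eq_bot_iff.2 hle)
  have htwo : 2 ≤ Fintype.card 𝒦 := by
    by_contra hlt
    push Not at hlt
    have : Subsingleton 𝒦 := Fintype.card_le_one_iff_subsingleton.1 (by omega)
    refine hann (eq_bot_iff.2 fun M hM => (Submodule.mem_bot F).2 ?_)
    have hker : (⊤ : Submodule F (ι → F)) ≤ LinearMap.ker (Matrix.toLin' M) := by
      rw [← htop]
      refine sSup_le fun W hW w hw => ?_
      have : ann A W = ann A S :=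
        congrArg Subtype.val (Subsingleton.elim (⟨ann A W, W, hW, rfl⟩ : 𝒦) K₀)
      rw [LinearMap.mem_ker, Matrix.toLin'_apply]
      exact (this ▸ hM : M ∈ ann A W).2 w hw
    refine Matrix.toLin'.injective ?_
    rw [map_zero]
    exact LinearMap.ext fun v => LinearMap.mem_ker.1 (hker (Submodule.mem_top (x := v)))
  refine ⟨Fintype.card 𝒦, finrank F (comp K₀), D, fun i => (e.symm i).1,
    ⟨htwo, h0, fun i => hrank _, ?_, ?_⟩, ?_⟩
  · exact hindep.comp e.symm.injective
  · rw [← hsup]; exact e.symm.surjective.iSup_comp comp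
  refine ⟨?_, fun i => inv_sSup A _ fun X hX => (hTmin X hX.1).inv,
    fun i j h => e.symm.injective (Subtype.ext h), fun i S' hS' hle => ?_, fun i => ?_⟩
  rotate_left
  · obtain ⟨X, hX, hXe⟩ := exists_ann_eq (fun X hX => hTmin X hX.1) hS' hle
    exact hXe.trans hX.2
  · exact le_antisymm (sSup_le fun X hX => hX.2)
      (sSup_le fun X hX => le_sSup ⟨hTmin X hX.1, le_sSup hX⟩)
  · intro h hh
    choose σ hσ _hσ' using hperm h hh
    have hσinj : Function.Injective σ := by
      intro K K' hKK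
      have h1 : comp K = comp K' := by
        have := congrArg (tr h⁻¹) ((hσ K).trans ((congrArg comp hKK).trans (hσ K').symm))
        simpa [← tr_mul, tr_one] using this
      by_contra hne
      have h2 : Disjoint (comp K) (comp K) := (hindep.pairwiseDisjoint hne).mono_right h1.le
      have h3 := disjoint_self.1 h2
      have := hrank K
      rw [h3, finrank_bot] at this
      omega
    refine ⟨e.symm.trans ((Equiv.ofBijective σ (Finite.injective_iff_bijective.1 hσinj)).trans e),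
      fun i => ?_⟩
    simpa [D, tr] using hσ (e.symm i)

/-- Clifford's dichotomy, with the parts invariant under the normalised group. -/
theorem decomposition_or_faithful' [Finite F] {H A : Subgroup (GL ι F)}
    (hirr : Cfsg.Geo.ActsIrreducibly (Cfsg.Geo.matrixSet H))
    (hn : ∀ g ∈ H, ∀ a ∈ A, g * a * g⁻¹ ∈ A) :
    (∃ (t m : ℕ) (D : Fin t → Submodule F (ι → F)),
        Cfsg.Geo.IsMDecomposition m D ∧ H ≤ Cfsg.Geo.decompositionStabilizer D ∧
          ∀ i, Inv A (D i)) ∨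
      ∀ S, MinInv A S → ann A S = ⊥ :=
  (components_or_faithful hirr hn).imp_left fun ⟨t, m, D, _, h1, h2, h3, _⟩ =>
    ⟨t, m, D, h1, h2, h3⟩

/-- Clifford's dichotomy. -/
theorem decomposition_or_faithful [Finite F] {H A : Subgroup (GL ι F)}
    (hirr : Cfsg.Geo.ActsIrreducibly (Cfsg.Geo.matrixSet H))
    (hn : ∀ g ∈ H, ∀ a ∈ A, g * a * g⁻¹ ∈ A) :
    (∃ (t m : ℕ) (D : Fin t → Submodule F (ι → F)),
        Cfsg.Geo.IsMDecomposition m D ∧ H ≤ Cfsg.Geo.decompositionStabilizer D) ∨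
      ∀ S, MinInv A S → ann A S = ⊥ :=
  (decomposition_or_faithful' hirr hn).imp_left fun ⟨t, m, D, h1, h2, _⟩ => ⟨t, m, D, h1, h2⟩

/-- In the primitive case every non-zero element of the span of an abelian normalised subgroup is
injective. -/
theorem mulVec_eq_zero_of_commutative [Finite F] {H A : Subgroup (GL ι F)}
    (hirr : Cfsg.Geo.ActsIrreducibly (Cfsg.Geo.matrixSet H))
    (hn : ∀ g ∈ H, ∀ a ∈ A, g * a * g⁻¹ ∈ A) (hA : ∀ a ∈ A, ∀ b ∈ A, a * b = b * a)
    (hprim : ¬ ∃ (t m : ℕ) (D : Fin t → Submodule F (ι → F)),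
        Cfsg.Geo.IsMDecomposition m D ∧ H ≤ Cfsg.Geo.decompositionStabilizer D)
    {M : Matrix ι ι F} (hM : M ∈ envelope A) (hM0 : M ≠ 0) {v : ι → F} (hv : M *ᵥ v = 0) :
    v = 0 := by
  by_contra hv0
  have hcomm : ∀ a ∈ A, M * (a : Matrix ι ι F) = (a : Matrix ι ι F) * M := by
    intro a ha
    refine Submodule.span_induction ?_ ?_ ?_ ?_ hM
    · rintro x ⟨b, hb, rfl⟩; exact congrArg Units.val (hA b hb a ha)
    · simp
    · intro x y _ _ hx hy; rw [add_mul, mul_add, hx, hy]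
    · intro c x _ hx; rw [Matrix.smul_mul, Matrix.mul_smul, hx]
  have hker : Inv A (LinearMap.ker (Matrix.toLin' M)) := by
    intro a ha w hw
    rw [LinearMap.mem_ker, Matrix.toLin'_apply] at hw ⊢
    rw [Matrix.mulVec_mulVec, hcomm a ha, ← Matrix.mulVec_mulVec, hw, Matrix.mulVec_zero]
  obtain ⟨S, hSle, hS⟩ := exists_minInv hker (fun h => hv0 (by
    have : v ∈ LinearMap.ker (Matrix.toLin' M) := by
      rw [LinearMap.mem_ker, Matrix.toLin'_apply]; exact hv
    rwa [h, Submodule.mem_bot] at this))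
  have hann := ((decomposition_or_faithful hirr hn).resolve_left hprim) S hS
  refine hM0 ((Submodule.mem_bot F).1 (hann ▸ (⟨hM, fun w hw => ?_⟩ : M ∈ ann A S)))
  have := hSle hw
  rwa [LinearMap.mem_ker, Matrix.toLin'_apply] at this

end CfsgLib.Aschbacher
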