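import Cfsg.Agent.Lib.Aschbacher.Subfield

/-!
A normalised field of matrices of degree above one contains a normalised one of prime degree.
-/

set_option autoImplicit false

namespace CfsgLib.Aschbacher

open Matrix Module

variable {ι : Type} [Fintype ι] [DecidableEq ι] {F : Type*} [Field F]

lemma mem_subalgebraNormalizer_of {K : Subalgebra F (Matrix ι ι F)} {H : Subgroup (GL ι F)}
    (h : ∀ g ∈ H, ∀ k ∈ K, (g : Matrix ι ι F) * k * ((g⁻¹ : GL ι F) : Matrix ι ι F) ∈ K) :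
    H ≤ Cfsg.Geo.subalgebraNormalizer K := by
  intro g hg k
  refine ⟨h g hg k, fun hk => ?_⟩
  have := h g⁻¹ (H.inv_mem hg) _ hk
  simpa [mul_assoc] using this

/-- A commutative subalgebra of matrices without zero divisors is a field. -/
theorem isFieldSubalgebra_of_noZeroDivisors [Finite F] [Nonempty ι]
    {K : Subalgebra F (Matrix ι ι F)} (hcomm : ∀ x ∈ K, ∀ y ∈ K, x * y = y * x)
    (hzd : ∀ x ∈ K, ∀ y ∈ K, x * y = 0 → x = 0 ∨ y = 0) :
    Cfsg.Geo.IsFieldSubalgebra (Module.finrank F K) K := by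
  have : Finite ↥K := inferInstance
  have : Nontrivial ↥K :=
    ⟨⟨0, 1, fun h => zero_ne_one (congrArg (fun x : ↥K => (x : Matrix ι ι F)) h)⟩⟩
  have : NoZeroDivisors ↥K := ⟨fun {x y} h =>
    (hzd x x.2 y y.2 (congrArg Subtype.val h)).imp (fun h' => Subtype.ext h') fun h' => Subtype.ext h'⟩
  have : IsDomain ↥K := NoZeroDivisors.to_isDomain _
  have hF := Finite.isDomain_to_isField ↥K
  refine ⟨hcomm, fun x hx hx0 => ?_, rfl⟩
  obtain ⟨y, hy⟩ := hF.mul_inv_cancel (a := ⟨x, hx⟩) (fun h => hx0 (congrArg Subtype.val h))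
  exact ⟨y, y.2, congrArg Subtype.val hy⟩

/-- A normalised field of degree above one contains one of prime degree, made of the fixed points
of a power map. -/
theorem exists_prime_subfield [Fintype F] [Nonempty ι] {e : ℕ} {K : Subalgebra F (Matrix ι ι F)}
    (hK : Cfsg.Geo.IsFieldSubalgebra e K) (he : 1 < e) {H : Subgroup (GL ι F)}
    (hH : H ≤ Cfsg.Geo.subalgebraNormalizer K) :
    ∃ (r Q : ℕ) (K₀ : Subalgebra F (Matrix ι ι F)), r.Prime ∧ r ∣ e ∧
      Cfsg.Geo.IsFieldSubalgebra r K₀ ∧ (∀ M, M ∈ K₀ ↔ M ∈ K ∧ M ^ Q = M) ∧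
      H ≤ Cfsg.Geo.subalgebraNormalizer K₀ := by
  classical
  obtain ⟨p, hp⟩ := CharP.exists F
  obtain ⟨f, hpp, hF⟩ := FiniteField.card F p
  have : Fact p.Prime := ⟨hpp⟩
  have : CharP (Matrix ι ι F) p := charP_of_injective_algebraMap (algebraMap F (Matrix ι ι F)).injective p
  obtain ⟨r, hr, hre⟩ := Nat.exists_prime_and_dvd he.ne'
  let Q : ℕ := p ^ ((f : ℕ) * r)
  have hQ : ∀ c : F, c ^ Q = c := fun c => by
    show c ^ (p ^ ((f : ℕ) * r)) = c
    rw [pow_mul, ← hF, FiniteField.pow_card_pow]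
  let K₀ : Subalgebra F (Matrix ι ι F) :=
    { carrier := {M | M ∈ K ∧ M ^ Q = M}
      mul_mem' := fun {a b} ha hb => ⟨mul_mem ha.1 hb.1, by
        rw [Commute.mul_pow (hK.comm a ha.1 b hb.1), ha.2, hb.2]⟩
      add_mem' := fun {a b} ha hb => ⟨add_mem ha.1 hb.1, by
        show (a + b) ^ (p ^ ((f : ℕ) * r)) = a + b
        rw [add_pow_char_pow_of_commute p _ (hK.comm a ha.1 b hb.1)]
        exact congrArg₂ (· + ·) ha.2 hb.2⟩
      algebraMap_mem' := fun c => ⟨K.algebraMap_mem c, by rw [← map_pow, hQ]⟩ }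
  refine ⟨r, Q, K₀, hr, hre, ?_, fun _ => Iff.rfl, mem_subalgebraNormalizer_of fun g hg k hk => ⟨(hH hg k).1 hk.1, ?_⟩⟩
  swap
  · rw [Units.conj_pow, hk.2]
  -- the degree
  have hfield : IsField ↥K := by
    refine ⟨⟨0, 1, fun h => zero_ne_one (congrArg (fun x : ↥K => (x : Matrix ι ι F)) h)⟩,
      fun x y => Subtype.ext (hK.comm x x.2 y y.2), fun {a} ha => ?_⟩
    obtain ⟨y, hy, hay⟩ := hK.inv a a.2 fun h => ha (Subtype.ext h)
    exact ⟨⟨y, hy⟩, Subtype.ext hay⟩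
  letI : Field ↥K := hfield.toField
  letI : Fintype ↥K := Fintype.ofFinite _
  have : CharP ↥K p := charP_of_injective_algebraMap (algebraMap F ↥K).injective p
  have hcardK : Fintype.card ↥K = p ^ ((f : ℕ) * e) := by
    rw [pow_mul, ← hF, ← hK.finrank_eq]
    exact Module.card_eq_pow_finrank
  obtain ⟨L, hL, hLmem⟩ := exists_subfield_of_dvd (F := ↥K) hcardK (e := (f : ℕ) * r)
    (mul_dvd_mul_left _ hre)
  have hcard : Nat.card ↥K₀ = p ^ ((f : ℕ) * r) := by
    rw [← hL]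
    refine Nat.card_congr
      { toFun := fun M => ⟨⟨(M : Matrix ι ι F), M.2.1⟩, (hLmem _).2 (Subtype.ext M.2.2)⟩
        invFun := fun x => ⟨((x : ↥K) : Matrix ι ι F), (x : ↥K).2,
          congrArg Subtype.val ((hLmem _).1 x.2)⟩
        left_inv := fun _ => rfl
        right_inv := fun _ => rfl }
  refine ⟨fun x hx y hy => hK.comm x hx.1 y hy.1, fun x hx hx0 => ?_, ?_⟩
  · obtain ⟨y, hy, hxy⟩ := hK.inv x hx.1 hx0
    refine ⟨y, ⟨hy, ?_⟩, hxy⟩
    calc y ^ Q = y ^ Q * (x * y) := by rw [hxy, mul_one]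
      _ = (x ^ Q * y ^ Q) * y := by
          rw [hx.2, hK.comm x hx.1 (y ^ Q) (pow_mem hy _), mul_assoc]
      _ = y := by rw [← Commute.mul_pow (hK.comm x hx.1 y hy), hxy, one_pow, one_mul]
  · have h1 : Nat.card ↥K₀ = Nat.card F ^ Module.finrank F ↥K₀ := by
      letI : Fintype ↥K₀ := Fintype.ofFinite _
      rw [Nat.card_eq_fintype_card, Nat.card_eq_fintype_card]
      exact Module.card_eq_pow_finrank
    rw [hcard, pow_mul, ← hF, ← Nat.card_eq_fintype_card] at h1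
    exact (Nat.pow_right_injective Finite.one_lt_card h1).symm

/-- A normalised field of degree above one contains one of prime degree. -/
theorem exists_prime_field [Fintype F] [Nonempty ι] {e : ℕ} {K : Subalgebra F (Matrix ι ι F)}
    (hK : Cfsg.Geo.IsFieldSubalgebra e K) (he : 1 < e) {H : Subgroup (GL ι F)}
    (hH : H ≤ Cfsg.Geo.subalgebraNormalizer K) :
    ∃ (r : ℕ) (K₀ : Subalgebra F (Matrix ι ι F)), r.Prime ∧ Cfsg.Geo.IsFieldSubalgebra r K₀ ∧
      H ≤ Cfsg.Geo.subalgebraNormalizer K₀ :=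
  let ⟨r, _, K₀, hr, _, hK₀, _, hle⟩ := exists_prime_subfield hK he hH
  ⟨r, K₀, hr, hK₀, hle⟩

end CfsgLib.Aschbacher
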