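import Cfsg.Agent.Lib.Aschbacher.Units
import Cfsg.Agent.Lib.Aschbacher.FieldExt

/-!
The linear span of a group acting faithfully on a minimal invariant subspace: its centre is a field
and, when the centre is the scalars, it is a full matrix algebra.
-/

set_option autoImplicit false

namespace CfsgLib.Aschbacher

open Matrix Module

variable {ι : Type} [Fintype ι] [DecidableEq ι] {F : Type*} [Field F]

/-- The linear span of a matrix group as a subalgebra. -/
def envAlg (A : Subgroup (GL ι F)) : Subalgebra F (Matrix ι ι F) :=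
  (envelope A).toSubalgebra (one_mem_envelope A) fun _ _ => mul_mem_envelope

lemma mem_envAlg {A : Subgroup (GL ι F)} {M : Matrix ι ι F} : M ∈ envAlg A ↔ M ∈ envelope A :=
  Iff.rfl

lemma faithful_apply {A : Subgroup (GL ι F)} {S : Submodule F (ι → F)} (hf : ann A S = ⊥)
    {M : Matrix ι ι F} (hM : M ∈ envelope A) (h : ∀ w ∈ S, M *ᵥ w = 0) : M = 0 :=
  (Submodule.mem_bot F).1 (hf ▸ mem_ann.2 ⟨hM, h⟩)

/-- The centre of the span is a field. -/
theorem centre_isField [Finite F] [Nonempty ι] {A : Subgroup (GL ι F)} {S : Submodule F (ι → F)}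
    (hS : MinInv A S) (hf : ann A S = ⊥) :
    Cfsg.Geo.IsFieldSubalgebra (Module.finrank F ↥(envAlg A ⊓ commutant A)) (envAlg A ⊓ commutant A) := by
  refine isFieldSubalgebra_of_noZeroDivisors
    (fun x hx y hy => (mem_commutant_comm hy.2 hx.1)) fun x hx y hy hxy => ?_
  by_contra h
  push Not at h
  obtain ⟨hx0, hy0⟩ := h
  refine hy0 (faithful_apply hf hy.1 fun w hw => ?_)
  have hinv : Inv A (S ⊓ LinearMap.ker (Matrix.toLin' x)) := by
    refine inv_inf A hS.inv fun a ha v hv => ?_
    rw [LinearMap.mem_ker, Matrix.toLin'_apply] at hv ⊢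
    rw [Matrix.mulVec_mulVec, ← mem_commutant.1 hx.2 a ha, ← Matrix.mulVec_mulVec, hv,
      Matrix.mulVec_zero]
  have hw' : y *ᵥ w ∈ S ⊓ LinearMap.ker (Matrix.toLin' x) := by
    refine ⟨envelope_mulVec_mem hS.inv hy.1 hw, ?_⟩
    rw [SetLike.mem_coe, LinearMap.mem_ker, Matrix.toLin'_apply, Matrix.mulVec_mulVec, hxy,
      Matrix.zero_mulVec]
  rcases hS.min _ inf_le_left hinv with h | h
  · exact (Submodule.mem_bot F).1 (h ▸ hw')
  · refine absurd (faithful_apply hf hx.1 fun v hv => ?_) hx0
    have h1 : v ∈ LinearMap.ker (Matrix.toLin' x) := (h.ge hv).2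
    rwa [LinearMap.mem_ker, Matrix.toLin'_apply] at h1

lemma centre_normalised {H A : Subgroup (GL ι F)} (hn : ∀ g ∈ H, ∀ a ∈ A, g * a * g⁻¹ ∈ A) :
    H ≤ Cfsg.Geo.subalgebraNormalizer (envAlg A ⊓ commutant A) :=
  mem_subalgebraNormalizer_of fun g hg k hk =>
    ⟨conj_mem_envelope hn hg hk.1, ((le_normalizer_commutant hn hg) k).1 hk.2⟩

set_option backward.isDefEq.respectTransparency false in
/-- With scalar centre the span is a full matrix algebra. -/
theorem exists_units_of_faithful [Finite F] {A : Subgroup (GL ι F)} {S : Submodule F (ι → F)}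
    (hS : MinInv A S) (hf : ann A S = ⊥)
    (hcen : ∀ M ∈ envelope A, M ∈ commutant A → ∃ c : F, M = c • (1 : Matrix ι ι F)) :
    ∃ E : Fin (finrank F S) → Fin (finrank F S) → Matrix ι ι F, IsUnits E ∧
      (∀ k l, E k l ∈ envelope A) ∧
      envelope A ≤ Submodule.span F
        (Set.range fun p : Fin (finrank F S) × Fin (finrank F S) => E p.1 p.2) := by
  classical
  have hmaps : ∀ M : envAlg A, ∀ w ∈ S, (M : Matrix ι ι F) *ᵥ w ∈ S :=
    fun M w hw => envelope_mulVec_mem hS.inv M.2 hw
  let ρ : envAlg A →ₐ[F] Module.End F S :=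
    AlgHom.ofLinearMap
      { toFun := fun M => (Matrix.toLin' (M : Matrix ι ι F)).restrict fun w hw => hmaps M w hw
        map_add' := fun M N =>
          LinearMap.ext fun w => Subtype.ext (Matrix.add_mulVec _ _ _)
        map_smul' := fun c M =>
          LinearMap.ext fun w => Subtype.ext (Matrix.smul_mulVec c _ _) }
      (LinearMap.ext fun w => Subtype.ext (Matrix.one_mulVec _))
      (fun M N => LinearMap.ext fun w => Subtype.ext (Matrix.mulVec_mulVec _ _ _).symm)
  have hρ : ∀ (M : envAlg A) (w : S), ((ρ M w : S) : ι → F) = (M : Matrix ι ι F) *ᵥ (w : ι → F) :=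
    fun M w => Matrix.toLin'_apply _ _
  have hinj : Function.Injective ρ := by
    rw [injective_iff_map_eq_zero]
    intro M hM
    refine Subtype.ext (faithful_apply hf M.2 fun w hw => ?_)
    rw [← hρ M ⟨w, hw⟩, hM]
    simp
  let R : Subalgebra F (Module.End F S) := ρ.range
  letI : Ring R := Algebra.semiringToRing F
  have : Nontrivial S := Submodule.nontrivial_iff_ne_bot.2 hS.ne_bot
  have hsimple : IsSimpleModule R S := by
    rw [isSimpleModule_iff, isSimpleOrder_iff]
    refine ⟨inferInstance, fun U => ?_⟩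
    let W : Submodule F (ι → F) := (U.restrictScalars F).map S.subtype
    have hW : Inv A W := by
      rintro a ha _ ⟨u, hu, rfl⟩
      exact ⟨ρ ⟨_, mem_envelope ha⟩ u,
        U.smul_mem (⟨ρ ⟨_, mem_envelope ha⟩, ⟨_, rfl⟩⟩ : R) hu, hρ _ _⟩
    rcases hS.min W (Submodule.map_subtype_le _ _) hW with h | h
    · left
      refine eq_bot_iff.2 fun u hu => ?_
      have h1 : (u : ι → F) ∈ W := ⟨u, hu, rfl⟩
      rw [h, Submodule.mem_bot] at h1
      exact Subtype.ext h1
    · right
      refine eq_top_iff.2 fun u _ => ?_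
      obtain ⟨v, hv, hvu⟩ : (u : ι → F) ∈ W := h.symm ▸ u.2
      exact (Subtype.ext hvu : v = u) ▸ hv
  have : Finite S := inferInstance
  have : Fintype S := Fintype.ofFinite _
  have hcommE : ∀ x y : Module.End R S, x * y = y * x := by
    have hfin : Finite (Module.End R S) :=
      Finite.of_injective (fun f => (f : S → S)) DFunLike.coe_injective
    have : NoZeroDivisors (Module.End R S) := ⟨fun {x y} h => by
      by_contra hne
      push Not at hne
      rcases LinearMap.bijective_or_eq_zero x with hb | hb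
      · exact hne.2 (LinearMap.ext fun v => hb.1
          ((LinearMap.congr_fun h v).trans (map_zero x).symm))
      · exact hne.1 hb⟩
    have : Nontrivial (Module.End R S) := by
      refine ⟨⟨0, 1, fun h => ?_⟩⟩
      obtain ⟨v, hv⟩ := exists_ne (0 : S)
      exact hv (LinearMap.congr_fun h v).symm
    letI : Ring (Module.End R S) := Module.End.instRing
    have : IsDomain (Module.End R S) := NoZeroDivisors.to_isDomain (Module.End R S)
    exact (Finite.isDomain_to_isField (Module.End R S)).mul_comm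
  have hscal : ∀ f : Module.End R S, ∃ c : F, ∀ v, f v = c • v := by
    intro f
    let f' : Module.End (Module.End R S) S :=
      { toFun := f
        map_add' := map_add f
        map_smul' := fun φ v => LinearMap.congr_fun (hcommE f φ) v }
    obtain ⟨⟨r, M, rfl⟩, hr⟩ := jacobson_density f' (Finset.univ : Finset S)
    have hfM : ∀ v, f v = ρ M v := fun v => hr v (Finset.mem_univ v)
    obtain ⟨c, hc⟩ := hcen M M.2 (mem_commutant.2 fun a ha => by
      refine sub_eq_zero.1 (faithful_apply hf (sub_mem (mul_mem_envelope (mem_envelope ha) M.2)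
        (mul_mem_envelope M.2 (mem_envelope ha))) fun w hw => ?_)
      have h1 : f (ρ ⟨_, mem_envelope ha⟩ ⟨w, hw⟩) = ρ ⟨_, mem_envelope ha⟩ (f ⟨w, hw⟩) :=
        f.map_smul (⟨ρ ⟨_, mem_envelope ha⟩, ⟨_, rfl⟩⟩ : R) ⟨w, hw⟩
      have h2 := congrArg (Subtype.val : S → ι → F) h1
      rw [hfM, hfM, hρ, hρ, hρ, hρ] at h2
      rw [Matrix.sub_mulVec, ← Matrix.mulVec_mulVec, ← Matrix.mulVec_mulVec, h2, sub_self])
    refine ⟨c, fun v => Subtype.ext ?_⟩
    rw [hfM, hρ, hc, Matrix.smul_mulVec, Matrix.one_mulVec, Submodule.coe_smul]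
  have hsurj : Function.Surjective ρ := by
    intro f
    let f' : Module.End (Module.End R S) S :=
      { toFun := f
        map_add' := map_add f
        map_smul' := fun φ v => by
          obtain ⟨c, hc⟩ := hscal φ
          show f (φ v) = φ (f v)
          rw [hc, hc, map_smul] }
    obtain ⟨⟨r, M, rfl⟩, hr⟩ := jacobson_density f' (Finset.univ : Finset S)
    exact ⟨M, LinearMap.ext fun v => (hr v (Finset.mem_univ v)).symm⟩
  let Φ : Matrix (Fin (finrank F S)) (Fin (finrank F S)) F →ₐ[F] Matrix ι ι F :=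
    (envAlg A).val.comp
      (((algEquivMatrix (Module.finBasis F S)).symm.trans
        (AlgEquiv.ofBijective ρ ⟨hinj, hsurj⟩).symm).toAlgHom)
  refine ⟨fun k l => Φ (Matrix.single k l 1), ⟨fun i j k l => ?_, ?_⟩, fun k l => SetLike.coe_mem _,
    fun M hM => ?_⟩
  · rw [← map_mul, isUnits_single.mul]; split <;> simp
  · rw [← map_sum, isUnits_single.sum, map_one]
  · obtain ⟨X, hX⟩ := ((algEquivMatrix (Module.finBasis F S)).symm.trans
        (AlgEquiv.ofBijective ρ ⟨hinj, hsurj⟩).symm).surjective ⟨M, hM⟩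
    have hΦ : Φ X = M := congrArg Subtype.val hX
    rw [← hΦ, Matrix.matrix_eq_sum_single X]
    simp only [map_sum]
    refine sum_mem fun i _ => sum_mem fun j _ => ?_
    have : Matrix.single i j (X i j) = X i j • Matrix.single i j (1 : F) := by simp
    rw [this, map_smul]
    exact Submodule.smul_mem _ _ (Submodule.subset_span ⟨(i, j), rfl⟩)

/-- If `N` is generated by `X` and elements commuting with `X`, minimal subspaces are faithful. -/
theorem faithful_of_commuting {N X : Subgroup (GL ι F)} (hN : Irr N)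
    (hgen : N ≤ X ⊔ Subgroup.centralizer (X : Set (GL ι F))) {S : Submodule F (ι → F)}
    (hS : MinInv X S) : ann X S = ⊥ := by
  refine eq_bot_iff.2 fun M hM => (Submodule.mem_bot F).2 ?_
  let W : Submodule F (ι → F) := ⨅ T : ann X S, LinearMap.ker (Matrix.toLin' (T : Matrix ι ι F))
  have hW : ∀ v, v ∈ W ↔ ∀ T ∈ ann X S, T *ᵥ v = 0 := fun v => by
    simp [W, Submodule.mem_iInf, LinearMap.mem_ker, Matrix.toLin'_apply]
  have hSW : S ≤ W := fun v hv => (hW v).2 fun T hT => hT.2 v hv
  have hX : X ≤ Cfsg.Geo.subspaceStabilizer W ∧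
      Subgroup.centralizer (X : Set (GL ι F)) ≤ Cfsg.Geo.subspaceStabilizer W := by
    constructor
    · intro a ha v
      have key : ∀ b ∈ X, ∀ v ∈ W, (b : Matrix ι ι F) *ᵥ v ∈ W := by
        intro b hb v hv
        refine (hW _).2 fun T hT => ?_
        rw [Matrix.mulVec_mulVec]
        refine (hW v).1 hv _ ⟨mul_mem_envelope hT.1 (mem_envelope hb), fun w hw => ?_⟩
        rw [← Matrix.mulVec_mulVec]
        exact hT.2 _ (hS.inv b hb w hw)
      refine ⟨key a ha v, fun h => ?_⟩
      have := key a⁻¹ (X.inv_mem ha) ((a : Matrix ι ι F) *ᵥ v) h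
      rwa [inv_mulVec_cancel] at this
    · intro a ha v
      have key : ∀ b ∈ Subgroup.centralizer (X : Set (GL ι F)), ∀ v ∈ W,
          (b : Matrix ι ι F) *ᵥ v ∈ W := by
        intro b hb v hv
        refine (hW _).2 fun T hT => ?_
        have hbc : T * (b : Matrix ι ι F) = (b : Matrix ι ι F) * T := by
          refine Submodule.span_induction ?_ ?_ ?_ ?_ hT.1
          · rintro _ ⟨x, hx, rfl⟩
            exact congrArg Units.val (Subgroup.mem_centralizer_iff.1 hb x hx)
          · simp
          · intro p q _ _ hp hq; rw [add_mul, mul_add, hp, hq]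
          · intro c p _ hp; rw [Matrix.smul_mul, Matrix.mul_smul, hp]
        rw [Matrix.mulVec_mulVec, hbc, ← Matrix.mulVec_mulVec, (hW v).1 hv T hT, Matrix.mulVec_zero]
      refine ⟨key a ha v, fun h => ?_⟩
      have := key a⁻¹ (Subgroup.inv_mem _ ha) ((a : Matrix ι ι F) *ᵥ v) h
      rwa [inv_mulVec_cancel] at this
  have hWinv : Inv N W := fun a ha w hw => ((hgen.trans (sup_le hX.1 hX.2)) ha w).1 hw
  rcases irr_iff.1 hN W hWinv with h | h
  · exact absurd (le_bot_iff.1 (h ▸ hSW)) hS.ne_bot
  · refine Matrix.toLin'.injective (LinearMap.ext fun v => ?_)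
    rw [map_zero, Matrix.toLin'_apply]
    exact (hW v).1 (h ▸ Submodule.mem_top) M hM

end CfsgLib.Aschbacher
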