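import Cfsg.Agent.Lib.Aschbacher.Extraspecial

/-!
Consequences of the extraspecial structure: realisation over the field of `n`-th roots of unity, a
unitary form when that field has even degree, and the class-six data otherwise.
-/

set_option autoImplicit false

namespace CfsgLib.Aschbacher

open Matrix Module

variable {F : Type*} [Field F] {n : ℕ}

/-- The matrices of `N` have entries in any subfield containing the root of unity. -/
lemma ExtraData.realisableOver [NeZero n] {N : Subgroup (GL (Fin n) F)} (D : ExtraData n N)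
    {K : Subfield F} (hu : (D.u : F) ∈ K) :
    Cfsg.Geo.RealisableOver K (Cfsg.Geo.matrixSet N) := by
  let S : Subgroup (GL (Fin n) F) :=
    (Matrix.GeneralLinearGroup.map (K.subtype : K →+* F)).range.comap (MulAut.conj D.B⁻¹).toMonoidHom
  have hS : ∀ g, g ∈ S ↔ D.B⁻¹ * g * D.B ∈
      (Matrix.GeneralLinearGroup.map (n := Fin n) (K.subtype : K →+* F)).range := by
    intro g; simp [S, Subgroup.mem_comap]
  have hx : D.x ∈ S := by
    rw [hS]
    refine mem_range_map _ fun a b => ?_
    have h := congrFun (D.x_col b) a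
    rw [Matrix.mulVec_single_one] at h
    simp only [Matrix.col_apply, Pi.smul_apply, smul_eq_mul] at h
    rw [h, Pi.single_apply]
    split
    · rw [mul_one]; exact K.pow_mem hu _
    · rw [mul_zero]; exact K.zero_mem
  have hy : D.y ∈ S := by
    rw [hS]
    refine mem_range_map _ fun a b => ?_
    have h := congrFun (D.y_col b) a
    rw [Matrix.mulVec_single_one] at h
    simp only [Matrix.col_apply] at h
    rw [h, Pi.single_apply]
    split
    · exact K.one_mem
    · exact K.zero_mem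
  have hz : scalarGL (Fin n) D.u ∈ S := by
    rw [hS, mul_assoc, scalarGL_comm, ← mul_assoc, inv_mul_cancel, one_mul]
    refine mem_range_map _ fun a b => ?_
    rw [scalarGL_val, Matrix.smul_apply, Matrix.one_apply, smul_eq_mul]
    split
    · rw [mul_one]; exact hu
    · rw [mul_zero]; exact K.zero_mem
  refine ⟨D.B⁻¹, ?_⟩
  rintro _ ⟨g, hg, rfl⟩ i j
  obtain ⟨a, b, k, rfl⟩ := D.gen g hg
  obtain ⟨M, hM⟩ := (hS _).1
    (S.mul_mem (S.mul_mem (S.pow_mem hx a) (S.pow_mem hy b)) (S.pow_mem hz k))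
  have h := congrArg (fun X : GL (Fin n) F => (X : Matrix (Fin n) (Fin n) F) i j) hM
  simp only [Units.val_mul] at h
  simp only [inv_inv, Units.val_mul]
  rw [← h]
  exact ((M : Matrix (Fin n) (Fin n) K) i j).2

/-- The unitary form fixed by `N` when `σ` inverts the root of unity. -/
lemma ExtraData.exists_unitary [NeZero n] {N : Subgroup (GL (Fin n) F)} (D : ExtraData n N)
    (σ : F ≃+* F) (hne : σ ≠ RingEquiv.refl F) (hinv : ∀ a, σ (σ a) = a)
    (hu : (D.u : F) * σ D.u = 1) :
    ∃ f : (Fin n → F) → (Fin n → F) → F, Cfsg.Geo.IsUnitaryForm σ f ∧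
      Cfsg.Geo.FixesForm (Cfsg.Geo.matrixSet N) f := by
  let C : Matrix (Fin n) (Fin n) F := ((D.B⁻¹ : GL (Fin n) F) : Matrix (Fin n) (Fin n) F)
  let f : (Fin n → F) → (Fin n → F) → F := fun a b => ∑ i, (C *ᵥ a) i * σ ((C *ᵥ b) i)
  have hsurj : ∀ i, ∃ a, C *ᵥ a = Pi.single i 1 := fun i =>
    ⟨(D.B : Matrix (Fin n) (Fin n) F) *ᵥ Pi.single i 1, inv_mulVec_cancel D.B _⟩
  have hnd : Cfsg.Geo.IsNondegenerateForm f := by
    intro v hv
    obtain ⟨i, hi⟩ : ∃ i, (C *ᵥ v) i ≠ 0 := by
      by_contra h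
      push Not at h
      exact hv (mulVec_injective D.B⁻¹ (by
        show C *ᵥ v = C *ᵥ 0
        rw [Matrix.mulVec_zero]; exact funext h))
    obtain ⟨a, ha⟩ := hsurj i
    refine ⟨⟨a, ?_⟩, ⟨a, ?_⟩⟩
    · simp only [f, ha, Pi.single_apply, ite_mul, one_mul, zero_mul, Finset.sum_ite_eq',
        Finset.mem_univ, if_true]
      exact fun h => hi ((map_eq_zero_iff σ σ.injective).1 h)
    · simp only [f, ha, Pi.single_apply, apply_ite σ, map_one, map_zero, mul_ite, mul_one,
        mul_zero, Finset.sum_ite_eq', Finset.mem_univ, if_true]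
      exact hi
  refine ⟨f, ⟨hne, hinv, ?_, ?_, ?_, hnd⟩, ?_⟩
  · intro x y v; simp [f, Matrix.mulVec_add, add_mul, Finset.sum_add_distrib]
  · intro c x v; simp [f, Matrix.mulVec_smul, Finset.mul_sum, mul_assoc]
  · intro v w
    simp only [f, map_sum, map_mul, hinv]
    exact Finset.sum_congr rfl fun i _ => mul_comm _ _
  · let S : Submonoid (GL (Fin n) F) :=
      { carrier := {g | ∀ a b, f ((g : Matrix _ _ F) *ᵥ a) ((g : Matrix _ _ F) *ᵥ b) = f a b}
        one_mem' := fun a b => by simp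
        mul_mem' := fun {g h} hg hh a b => by
          rw [mul_mulVec, mul_mulVec]
          exact (hg _ _).trans (hh a b) }
    have hcoord : ∀ (g : GL (Fin n) F) (a : Fin n → F), C *ᵥ ((g : Matrix _ _ F) *ᵥ a) =
        ((D.B⁻¹ * g * D.B : GL (Fin n) F) : Matrix (Fin n) (Fin n) F) *ᵥ (C *ᵥ a) := by
      intro g a; rw [mul_mulVec, mul_mulVec, mulVec_inv_cancel]
    have hx : D.x ∈ S := by
      intro a b
      have h : ∀ (c : Fin n → F) (i : Fin n),
          (((D.B⁻¹ * D.x * D.B : GL (Fin n) F) : Matrix (Fin n) (Fin n) F) *ᵥ c) i =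
            (D.u : F) ^ (i : ℕ) * c i := by
        intro c i
        rw [pi_eq_sum_univ' c, Matrix.mulVec_sum, Finset.sum_apply, Finset.sum_apply,
          Finset.sum_eq_single i, Finset.sum_eq_single i]
        · rw [Matrix.mulVec_smul, D.x_col]; simp [mul_comm]
        · intro j _ hj; simp [hj]
        · simp
        · intro j _ hj; rw [Matrix.mulVec_smul, D.x_col]; simp [hj]
        · simp
      simp only [f, hcoord, h, map_mul, map_pow]
      refine Finset.sum_congr rfl fun i _ => ?_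
      have hp : (D.u : F) ^ (i : ℕ) * (σ D.u) ^ (i : ℕ) = 1 := by rw [← mul_pow, hu, one_pow]
      linear_combination ((C *ᵥ a) i * σ ((C *ᵥ b) i)) * hp
    have hy : D.y ∈ S := by
      intro a b
      have h : ∀ (c : Fin n → F) (i : Fin n),
          (((D.B⁻¹ * D.y * D.B : GL (Fin n) F) : Matrix (Fin n) (Fin n) F) *ᵥ c) (i + 1) = c i := by
        intro c i
        rw [pi_eq_sum_univ' c, Matrix.mulVec_sum, Finset.sum_apply, Finset.sum_apply,
          Finset.sum_eq_single i, Finset.sum_eq_single i]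
        · rw [Matrix.mulVec_smul, D.y_col]; simp
        · intro j _ hj; simp [hj]
        · simp
        · intro j _ hj; rw [Matrix.mulVec_smul, D.y_col]; simp [hj]
        · simp
      simp only [f, hcoord]
      rw [← Equiv.sum_comp (Equiv.addRight (1 : Fin n))]
      simp only [Equiv.coe_addRight, h]
    have hz : scalarGL (Fin n) D.u ∈ S := by
      intro a b
      simp only [f, scalarGL_mulVec, Matrix.mulVec_smul, Pi.smul_apply, smul_eq_mul, map_mul]
      refine Finset.sum_congr rfl fun i _ => ?_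
      linear_combination ((C *ᵥ a) i * σ ((C *ᵥ b) i)) * hu
    rintro _ ⟨g, hg, rfl⟩
    obtain ⟨a, b, k, rfl⟩ := D.gen g hg
    exact S.mul_mem (S.mul_mem (S.pow_mem hx a) (S.pow_mem hy b)) (S.pow_mem hz k)

/-- The symplectic-type group conditions. -/
lemma ExtraData.symplecticType [Fact n.Prime] [NeZero n] (hodd : Odd n)
    {H N : Subgroup (GL (Fin n) F)} (D : ExtraData n N)
    (hn : ∀ g ∈ H, ∀ a ∈ N, g * a * g⁻¹ ∈ N)
    (hmin : ∀ M ≤ N, (∀ g ∈ H, ∀ a ∈ M, g * a * g⁻¹ ∈ M) →
      (∀ z ∈ N, z ∈ Cfsg.Geo.scalars (Fin n) F → z ∈ M) → M ≤ Cfsg.Geo.scalars (Fin n) F ∨ M = N) :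
    Cfsg.Geo.IsSymplecticTypeGroup n N ∧ Nat.card (Subgroup.center N) = n := by
  have hnp : n.Prime := Fact.out
  let Z : Subgroup (GL (Fin n) F) := N ⊓ Cfsg.Geo.scalars (Fin n) F
  have hcenter : ∀ w : N, w ∈ Subgroup.center N ↔ (w : GL (Fin n) F) ∈ Z := by
    intro w
    rw [Subgroup.mem_center_iff]
    constructor
    · intro h
      exact ⟨w.2, D.comm _ (congrArg Subtype.val (h ⟨D.x, D.hx⟩)).symm
        (congrArg Subtype.val (h ⟨D.y, D.hy⟩)).symm⟩
    · intro h g
      exact Subtype.ext (scalars_comm h.2 (g : GL (Fin n) F)).symm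
  have hZ : Z = Subgroup.zpowers (scalarGL (Fin n) D.u) := by
    refine le_antisymm ?_ ((Subgroup.zpowers_le).2 ⟨D.hz, mem_scalars.2 ⟨_, rfl⟩⟩)
    rintro w ⟨hw, hws⟩
    obtain ⟨t, rfl⟩ := mem_scalars.1 hws
    have h1 := D.pow _ hw
    have ht : t ^ n = 1 := by
      have := congrArg (fun X : GL (Fin n) F => (X : Matrix (Fin n) (Fin n) F) 0 0) h1
      rw [scalarGL, ← map_pow, ← scalarGL] at this
      simpa [scalarGL_val, Units.ext_iff] using this
    obtain ⟨i, -, hi⟩ := (IsPrimitiveRoot.coe_units_iff.2 D.prim).eq_pow_of_pow_eq_one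
      (show ((t : F)) ^ n = 1 by simpa [Units.ext_iff] using ht)
    have : t = D.u ^ i := Units.ext (by simpa using hi.symm)
    rw [this, show scalarGL (Fin n) (D.u ^ i) = scalarGL (Fin n) D.u ^ i from map_pow _ _ _]
    exact Subgroup.pow_mem _ (Subgroup.mem_zpowers _) i
  have hord : orderOf (scalarGL (Fin n) D.u) = n := by
    refine orderOf_eq_prime (D.pow _ D.hz) fun h => ?_
    have h' := congrArg (fun X : GL (Fin n) F => (X : Matrix (Fin n) (Fin n) F) 0 0) h
    simp only [scalarGL_val, Matrix.smul_apply, Matrix.one_apply_eq, smul_eq_mul, mul_one,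
      Units.val_one] at h'
    exact D.prim.ne_one hnp.one_lt (Units.ext (by simpa using h'))
  have hcardZ : Nat.card (Subgroup.center N) = n := by
    have e : Subgroup.center N ≃ Z :=
      { toFun := fun w => ⟨((w : N) : GL (Fin n) F), (hcenter _).1 w.2⟩
        invFun := fun w => ⟨⟨(w : GL (Fin n) F), w.2.1⟩, (hcenter _).2 w.2⟩
        left_inv := fun _ => rfl
        right_inv := fun _ => rfl }
    rw [Nat.card_congr e, hZ, Nat.card_zpowers, hord]
  refine ⟨⟨hnp, fun w => ⟨1, by rw [pow_one]; exact Subtype.ext (D.pow _ w.2)⟩, ?_, ?_⟩, hcardZ⟩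
  · intro A hA hcomm
    have hle : A ≤ Subgroup.center N := by
      let M : Subgroup (GL (Fin n) F) := A.map N.subtype ⊔ Z
      have hMN : M ≤ N := sup_le (Subgroup.map_subtype_le A) inf_le_left
      have hMn : ∀ g ∈ H, ∀ a ∈ M, g * a * g⁻¹ ∈ M := by
        intro g hg
        let φ : N ≃* N :=
          { toFun := fun a => ⟨g * a * g⁻¹, hn g hg a a.2⟩
            invFun := fun a => ⟨g⁻¹ * a * g, by simpa using hn g⁻¹ (H.inv_mem hg) a a.2⟩
            left_inv := fun a => Subtype.ext (by simp [mul_assoc])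
            right_inv := fun a => Subtype.ext (by simp [mul_assoc])
            map_mul' := fun a b => Subtype.ext (by simp [mul_assoc]) }
        have hfix : A.map φ.toMonoidHom = A := Subgroup.characteristic_iff_map_eq.1 hA φ
        intro a ha
        have hle : M ≤ M.comap (MulAut.conj g).toMonoidHom := by
          refine sup_le ?_ ?_
          · rintro _ ⟨b, hb, rfl⟩
            refine Subgroup.mem_sup_left ⟨φ b, hfix ▸ Subgroup.mem_map_of_mem _ hb, ?_⟩
            rfl
          · intro b hb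
            refine Subgroup.mem_sup_right ?_
            show g * b * g⁻¹ ∈ Z
            rw [← scalars_comm hb.2 g, mul_inv_cancel_right]
            exact hb
        exact hle ha
      rcases hmin M hMN hMn (fun z hz hzs => Subgroup.mem_sup_right ⟨hz, hzs⟩) with h | h
      · intro a ha
        exact (hcenter a).2 ⟨a.2, h (Subgroup.mem_sup_left (Subgroup.mem_map_of_mem _ ha))⟩
      · exfalso
        have hAc : ∀ p ∈ A.map N.subtype, ∀ q ∈ A.map N.subtype, p * q = q * p := by
          rintro _ ⟨p, hp, rfl⟩ _ ⟨q, hq, rfl⟩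
          rw [← map_mul, ← map_mul]
          exact congrArg N.subtype
            (congrArg Subtype.val (mul_comm' (⟨p, hp⟩ : A) ⟨q, hq⟩))
        have hMc : ∀ p ∈ M, ∀ q ∈ M, p * q = q * p := by
          have hM : M ≤ Subgroup.centralizer (M : Set (GL (Fin n) F)) := by
            refine sup_le ?_ fun z hz => Subgroup.mem_centralizer_iff.2 fun q _ =>
              (scalars_comm hz.2 q).symm
            intro p hp
            refine Subgroup.mem_centralizer_iff.2 fun q hq => ?_
            have : M ≤ Subgroup.centralizer ({p} : Set (GL (Fin n) F)) := by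
              refine sup_le (fun r hr => ?_) fun z hz => ?_
              · exact Subgroup.mem_centralizer_singleton_iff.2 (hAc r hr p hp)
              · exact Subgroup.mem_centralizer_singleton_iff.2 (scalars_comm hz.2 p)
            exact Subgroup.mem_centralizer_singleton_iff.1 (this hq)
          intro p hp q hq
          exact (Subgroup.mem_centralizer_iff.1 (hM hp) q hq).symm
        exact D.xy (hMc _ (h.ge D.hx) _ (h.ge D.hy))
    have hcyc : IsCyclic (Subgroup.center N) := by
      exact isCyclic_of_prime_card (p := n) hcardZ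
    exact isCyclic_of_injective (Subgroup.inclusion hle) (Subgroup.inclusion_injective hle)
  · rw [Nat.Coprime.gcd_eq_one (Nat.coprime_two_left.2 hodd), mul_one]
    refine (hnp.eq_one_or_self_of_dvd _ (Monoid.exponent_dvd_of_forall_pow_eq_one fun w =>
      Subtype.ext (D.pow _ w.2))).resolve_left fun h => D.xy ?_
    have hsub := Monoid.exp_eq_one_iff.1 h
    exact congrArg Subtype.val
      (Subsingleton.elim ((⟨D.x, D.hx⟩ : N) * ⟨D.y, D.hy⟩) (⟨D.y, D.hy⟩ * ⟨D.x, D.hx⟩))

/-- The trichotomy for class two. -/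
theorem extraspecial_alternatives [Fintype F] [Fact n.Prime] (hodd : Odd n)
    {H N : Subgroup (GL (Fin n) F)} (hSL : N ≤ Cfsg.Geo.specialLinear (Fin n) F) (hN : AbsIrr N)
    (hn : ∀ g ∈ H, ∀ a ∈ N, g * a * g⁻¹ ∈ N)
    (h2 : ∀ a ∈ N, ∀ b ∈ N, a * b * a⁻¹ * b⁻¹ ∈ Cfsg.Geo.scalars (Fin n) F)
    (hmin : ∀ M ≤ N, (∀ g ∈ H, ∀ a ∈ M, g * a * g⁻¹ ∈ M) →
      (∀ z ∈ N, z ∈ Cfsg.Geo.scalars (Fin n) F → z ∈ M) → M ≤ Cfsg.Geo.scalars (Fin n) F ∨ M = N) :
    (∃ F₀ : Subfield F, F₀ ≠ ⊤ ∧ Cfsg.Geo.RealisableOver F₀ (Cfsg.Geo.matrixSet N)) ∨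
    (∃ (σ : F ≃+* F) (f : (Fin n → F) → (Fin n → F) → F), Cfsg.Geo.IsUnitaryForm σ f ∧
      Cfsg.Geo.FixesForm (Cfsg.Geo.matrixSet N) f) ∨
    (Cfsg.Geo.IsLinearSymplecticTypeData n N ∧
      ∃ p e : ℕ, p.Prime ∧ CharP F p ∧ Fintype.card F = p ^ e ∧ Odd e ∧
        Cfsg.Geo.IsMinimalFieldFor n p e F) := by
  classical
  have hnp : n.Prime := Fact.out
  have : NeZero n := ⟨hnp.ne_zero⟩
  obtain ⟨D⟩ := exists_extraData hodd hSL hN h2
  obtain ⟨p, hp⟩ := CharP.exists F
  obtain ⟨f, hpp, hF⟩ := FiniteField.card F p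
  have : Fact p.Prime := ⟨hpp⟩
  have hu1 : (D.u : F) ≠ 1 := fun h => D.prim.ne_one hnp.one_lt (Units.ext (by simpa using h))
  have huord : orderOf D.u = n := D.prim.eq_orderOf.symm
  have hne : n ≠ p := by
    rintro rfl
    apply hu1
    have h1 : (D.u : F) ^ n = 1 :=
      (IsPrimitiveRoot.coe_units_iff.2 D.prim).pow_eq_one
    have : ((D.u : F) - 1) ^ n = 0 := by rw [sub_pow_char, h1, one_pow, sub_self]
    exact sub_eq_zero.1 (pow_eq_zero_iff hnp.ne_zero |>.1 this)
  have hdvd : ∀ d : ℕ, n ∣ p ^ d - 1 ↔ D.u ^ (p ^ d - 1) = 1 := fun d => by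
    have h' := orderOf_dvd_iff_pow_eq_one (x := D.u) (n := p ^ d - 1)
    rwa [huord] at h'
  have hf : n ∣ p ^ (f : ℕ) - 1 := by
    have h' : orderOf D.u ∣ Fintype.card Fˣ := orderOf_dvd_card
    rwa [huord, Fintype.card_units, hF] at h'
  classical
  have hex : ∃ d, 0 < d ∧ n ∣ p ^ d - 1 := ⟨f, f.pos, hf⟩
  obtain ⟨e, ⟨he0, he⟩, hemin⟩ : ∃ e, (0 < e ∧ n ∣ p ^ e - 1) ∧
      ∀ d, 0 < d → d < e → ¬ n ∣ p ^ d - 1 :=
    ⟨Nat.find hex, Nat.find_spec hex, fun d h1 h2' h3 => Nat.find_min hex h2' ⟨h1, h3⟩⟩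
  have hgcd : n ∣ p ^ Nat.gcd e f - 1 := by
    rw [← Nat.pow_sub_one_gcd_pow_sub_one]
    exact Nat.dvd_gcd he hf
  have hef : e ∣ (f : ℕ) := by
    have h1 : Nat.gcd e f = e := by
      refine le_antisymm (Nat.gcd_le_left _ he0) (Nat.le_of_not_lt fun h => ?_)
      exact hemin _ (Nat.gcd_pos_of_pos_left _ he0) h hgcd
    exact h1 ▸ Nat.gcd_dvd_right e f
  rcases eq_or_ne e (f : ℕ) with hfe | hfe
  · subst hfe
    by_cases hev : Even (f : ℕ)
    · right; left
      obtain ⟨h, hh⟩ := hev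
      have hh0 : 0 < h := by have := f.pos; omega
      have h1 : n ∣ p ^ h + 1 := by
        have hmul : (p ^ h + 1) * (p ^ h - 1) = p ^ (f : ℕ) - 1 := by
          rw [hh, pow_add, ← Nat.sq_sub_sq, one_pow, sq]
        exact ((hnp.dvd_mul).1 (hmul ▸ hf)).resolve_right (hemin h hh0 (by omega))
      let σ : F ≃+* F := RingEquiv.ofBijective (iterateFrobenius F p h)
        (Finite.injective_iff_bijective.1 (iterateFrobenius F p h).injective)
      have hσ : ∀ a, σ a = a ^ p ^ h := fun a => rfl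
      have hu : (D.u : F) * σ D.u = 1 := by
        rw [hσ, ← pow_succ']
        obtain ⟨k, hk⟩ := h1
        rw [hk, pow_mul, (IsPrimitiveRoot.coe_units_iff.2 D.prim).pow_eq_one, one_pow]
      refine ⟨σ, D.exists_unitary σ ?_ ?_ hu⟩
      · intro hc
        apply hu1
        have h2' : (D.u : F) * D.u = 1 := by
          have h := hu
          rw [hc] at h
          exact h
        have h3' : orderOf D.u ∣ 2 :=
          orderOf_dvd_of_pow_eq_one (Units.ext (by rw [sq]; simpa using h2'))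
        have h3 : n ∣ 2 := by rwa [huord] at h3'
        have h4 := (Nat.prime_dvd_prime_iff_eq hnp Nat.prime_two).1 h3
        rw [h4] at hodd
        exact absurd hodd (by decide)
      · intro a
        rw [hσ, hσ, ← pow_mul, ← pow_add, ← hh, ← hF, FiniteField.pow_card]
    · right; right
      rw [Nat.not_even_iff_odd] at hev
      obtain ⟨hst, hcz⟩ := D.symplecticType hodd hn hmin
      have hminF : Cfsg.Geo.IsMinimalFieldFor n p (f : ℕ) F := ⟨hpp, hp, hF, he, hemin⟩
      refine ⟨⟨hst, hN, p, f, hne, by rw [hcz]; exact hminF, Or.inl ⟨hodd, hev, hcz, 1, le_rfl,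
        by rw [D.card]⟩⟩, p, f, hpp, hp, hF, hev, hminF⟩
  · left
    obtain ⟨K, hK, hmem⟩ := exists_subfield_of_dvd (F := F) hF hef
    refine ⟨K, ?_, D.realisableOver ((hmem _).2 ?_)⟩
    · intro h
      apply hfe
      have h1 : Nat.card K = Fintype.card F := by
        rw [h, ← Nat.card_eq_fintype_card]
        exact Nat.card_congr Subfield.topEquiv.toEquiv
      rw [hK, hF] at h1
      exact Nat.pow_right_injective hpp.two_le h1
    · have h1 := congrArg (fun x : Fˣ => (x : F)) ((hdvd e).1 he)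
      simp only [Units.val_pow_eq_pow_val, Units.val_one] at h1
      rw [← Nat.sub_add_cancel (Nat.one_le_pow e p hpp.pos), pow_succ, h1, one_mul]

end CfsgLib.Aschbacher
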