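import Cfsg.Agent.Lib.Aschbacher.Basic

/-!
Realisability over subfields: a group normalising an absolutely irreducible group that is realised
over a subfield lies in a subfield group.
-/

set_option autoImplicit false

namespace CfsgLib.Aschbacher

open Matrix Module

variable {ι : Type} [Fintype ι] [DecidableEq ι] {F : Type*} [Field F]

lemma realisableOver_mono {F₀ F₁ : Subfield F} (h : F₀ ≤ F₁) {S : Set (Matrix ι ι F)}
    (hS : Cfsg.Geo.RealisableOver F₀ S) : Cfsg.Geo.RealisableOver F₁ S :=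
  hS.imp fun _ hB s hs i j => h (hB s hs i j)

/-- An invertible matrix with entries in a subfield comes from that subfield. -/
lemma mem_range_map {F₀ : Subfield F} (g : GL ι F) (hg : ∀ i j, (g : Matrix ι ι F) i j ∈ F₀) :
    g ∈ (Matrix.GeneralLinearGroup.map (n := ι) (F₀.subtype : F₀ →+* F)).range := by
  let M : Matrix ι ι F₀ := Matrix.of fun i j => (⟨(g : Matrix ι ι F) i j, hg i j⟩ : F₀)
  have hMg : M.map F₀.subtype = (g : Matrix ι ι F) := rfl
  have hdet : M.det ≠ 0 := by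
    intro h
    have h1 : F₀.subtype M.det = (g : Matrix ι ι F).det := by
      rw [RingHom.map_det, RingHom.mapMatrix_apply, hMg]
    rw [h, map_zero] at h1
    exact g.det_ne_zero h1.symm
  exact ⟨Matrix.GeneralLinearGroup.mkOfDetNeZero M hdet, Units.ext hMg⟩

/-- A matrix whose conjugation preserves the matrices over a subfield is a scalar times a matrix
over the subfield. -/
lemma mem_range_map_sup_scalars {F₀ : Subfield F} (g : GL ι F) [Nonempty ι]
    (hg : ∀ k l : ι, ∀ i j : ι, ((g : Matrix ι ι F) * Matrix.single k l (1 : F) *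
      ((g⁻¹ : GL ι F) : Matrix ι ι F)) i j ∈ F₀) :
    g ∈ (Matrix.GeneralLinearGroup.map (F₀.subtype : F₀ →+* F)).range ⊔ Cfsg.Geo.scalars ι F := by
  have hent : ∀ k l i j, (g : Matrix ι ι F) i k * ((g⁻¹ : GL ι F) : Matrix ι ι F) l j ∈ F₀ := by
    intro k l i j
    simpa [Matrix.mul_apply, Matrix.single_apply, ite_and] using hg k l i j
  obtain ⟨l, j, hd⟩ : ∃ l j, ((g⁻¹ : GL ι F) : Matrix ι ι F) l j ≠ 0 := by
    by_contra h
    push Not at h
    exact (Units.ne_zero g⁻¹) (Matrix.ext fun a b => h a b)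
  let c : Fˣ := Units.mk0 _ hd
  let s : GL ι F := Units.map (Matrix.scalar ι : F →+* Matrix ι ι F).toMonoidHom c
  have hs : s ∈ Cfsg.Geo.scalars ι F := ⟨c, rfl⟩
  have hsg : s * g ∈ (Matrix.GeneralLinearGroup.map (n := ι) (F₀.subtype : F₀ →+* F)).range := by
    refine mem_range_map _ fun i k => ?_
    simp only [s, c, Units.val_mul, Units.coe_map, RingHom.toMonoidHom_eq_coe, MonoidHom.coe_coe,
      Matrix.scalar_apply, Matrix.diagonal_mul, Units.val_mk0]
    rw [mul_comm]
    exact hent k l i j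
  have hnorm : g = s⁻¹ * (s * g) := by group
  rw [hnorm]
  exact Subgroup.mul_mem _ (Subgroup.mem_sup_right (Subgroup.inv_mem _ hs))
    (Subgroup.mem_sup_left hsg)

/-- If a spanning set of matrices has entries in `F₀`, every elementary matrix is an
`F₀`-combination of them. -/
lemma single_mem_span_subfield {F₀ : Subfield F} {S : Set (Matrix ι ι F)}
    (hent : ∀ s ∈ S, ∀ i j, s i j ∈ F₀) (htop : Submodule.span F S = ⊤) (k l : ι) :
    Matrix.single k l (1 : F) ∈ Submodule.span F₀ S := by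
  obtain ⟨π, hπ⟩ : ∃ π : F →ₗ[F₀] F₀, ∀ a : F₀, π (a : F) = a := by
    obtain ⟨π, hπ⟩ := (Algebra.linearMap F₀ F).exists_leftInverse_of_injective
      (LinearMap.ker_eq_bot.2 Subtype.val_injective)
    exact ⟨π, fun a => LinearMap.congr_fun hπ a⟩
  obtain ⟨c, hc, hsum⟩ := Submodule.mem_span_set.1
    (htop.symm ▸ Submodule.mem_top : Matrix.single k l (1 : F) ∈ Submodule.span F S)
  have key : Matrix.single k l (1 : F) = ∑ s ∈ c.support, (π (c s)) • s := by
    ext i j
    have h1 : Matrix.single k l (1 : F) i j = ∑ s ∈ c.support, c s * s i j := by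
      rw [← hsum]; simp [Finsupp.sum, Matrix.sum_apply]
    have h2 : ∃ a : F₀, (a : F) = Matrix.single k l (1 : F) i j := by
      simp only [Matrix.single_apply]; split
      · exact ⟨1, rfl⟩
      · exact ⟨0, rfl⟩
    obtain ⟨a, ha⟩ := h2
    have h3 : π (Matrix.single k l (1 : F) i j) = ∑ s ∈ c.support.attach,
        (π (c s.1)) * (⟨s.1 i j, hent _ (hc s.2) i j⟩ : F₀) := by
      rw [h1, map_sum, ← Finset.sum_attach]
      refine Finset.sum_congr rfl fun s _ => ?_
      have : c s.1 * s.1 i j = (⟨s.1 i j, hent _ (hc s.2) i j⟩ : F₀) • c s.1 := by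
        rw [mul_comm]; rfl
      rw [this, map_smul, smul_eq_mul, mul_comm]
    rw [← ha, hπ] at h3
    rw [← ha, h3, Matrix.sum_apply, AddSubmonoidClass.coe_finsetSum,
      ← Finset.sum_attach c.support fun s => (π (c s) • s) i j]
    exact Finset.sum_congr rfl fun s _ => rfl
  rw [key]
  exact sum_mem fun s hs => Submodule.smul_mem _ _ (Submodule.subset_span (hc hs))

/-- The main lemma, for a given change of basis. -/
theorem le_subfieldSubgroup_of_entries [Nonempty ι] {H P : Subgroup (GL ι F)} {F₀ : Subfield F}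
    (hn : ∀ g ∈ H, ∀ a ∈ P, g * a * g⁻¹ ∈ P) (hP : envelope P = ⊤) {B : GL ι F}
    (hB : ∀ s ∈ Cfsg.Geo.matrixSet P, ∀ i j,
      ((B : Matrix ι ι F) * s * ((B⁻¹ : GL ι F) : Matrix ι ι F)) i j ∈ F₀) :
    H ≤ Cfsg.Geo.subfieldSubgroup F₀ B⁻¹ := by
  intro g hg
  suffices h : B * g * B⁻¹ ∈
      (Matrix.GeneralLinearGroup.map (F₀.subtype : F₀ →+* F)).range ⊔ Cfsg.Geo.scalars ι F by
    refine ⟨B * g * B⁻¹, h, ?_⟩
    simp [mul_assoc]
  refine mem_range_map_sup_scalars _ fun k l => ?_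
  let C : Matrix ι ι F → Matrix ι ι F := fun s =>
    (B : Matrix ι ι F) * s * ((B⁻¹ : GL ι F) : Matrix ι ι F)
  let S : Set (Matrix ι ι F) := C '' Cfsg.Geo.matrixSet P
  have hSent : ∀ s ∈ S, ∀ i j, s i j ∈ F₀ := by rintro _ ⟨s, hs, rfl⟩; exact hB s hs
  have hStop : Submodule.span F S = ⊤ := by
    let e : Matrix ι ι F →ₗ[F] Matrix ι ι F :=
      (LinearMap.mulRight F ((B⁻¹ : GL ι F) : Matrix ι ι F)).comp
        (LinearMap.mulLeft F (B : Matrix ι ι F))
    have he : S = e '' Cfsg.Geo.matrixSet P := rfl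
    rw [he, Submodule.span_image, show Submodule.span F (Cfsg.Geo.matrixSet P) = ⊤ from hP,
      Submodule.map_top, LinearMap.range_eq_top]
    intro y
    refine ⟨((B⁻¹ : GL ι F) : Matrix ι ι F) * y * (B : Matrix ι ι F), ?_⟩
    simp [e, mul_assoc, Units.mul_inv_cancel_left]
  have hSconj : ∀ s ∈ S, ((B * g * B⁻¹ : GL ι F) : Matrix ι ι F) * s *
      (((B * g * B⁻¹)⁻¹ : GL ι F) : Matrix ι ι F) ∈ S := by
    rintro _ ⟨_, ⟨a, ha, rfl⟩, rfl⟩
    refine ⟨_, ⟨g * a * g⁻¹, hn g hg a ha, rfl⟩, ?_⟩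
    simp [C, Units.val_mul, mul_assoc, Units.inv_mul_cancel_left]
  intro i j
  refine Submodule.span_induction (p := fun X _ => ∀ i j, (((B * g * B⁻¹ : GL ι F) : Matrix ι ι F)
      * X * (((B * g * B⁻¹)⁻¹ : GL ι F) : Matrix ι ι F)) i j ∈ F₀) ?_ ?_ ?_ ?_
    (single_mem_span_subfield hSent hStop k l) i j
  · exact fun s hs => hSent _ (hSconj s hs)
  · intro i j; simp [F₀.zero_mem]
  · intro x y _ _ hx hy i j
    rw [mul_add, add_mul, Matrix.add_apply]
    exact F₀.add_mem (hx i j) (hy i j)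
  · intro c x _ hx i j
    rw [Matrix.mul_smul, Matrix.smul_mul, Matrix.smul_apply]
    exact F₀.mul_mem c.2 (hx i j)

/-- The main lemma. -/
theorem exists_le_subfieldSubgroup [Nonempty ι] {H P : Subgroup (GL ι F)} {F₀ : Subfield F}
    (hn : ∀ g ∈ H, ∀ a ∈ P, g * a * g⁻¹ ∈ P) (hP : envelope P = ⊤)
    (hreal : Cfsg.Geo.RealisableOver F₀ (Cfsg.Geo.matrixSet P)) :
    ∃ B : GL ι F, H ≤ Cfsg.Geo.subfieldSubgroup F₀ B :=
  hreal.elim fun _ hB => ⟨_, le_subfieldSubgroup_of_entries hn hP hB⟩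

/-- The subfield with `p ^ e` elements. -/
theorem exists_subfield_of_dvd [Fintype F] {p f e : ℕ} [Fact p.Prime] [CharP F p]
    (hF : Fintype.card F = p ^ f) (he : e ∣ f) :
    ∃ K : Subfield F, Nat.card K = p ^ e ∧ ∀ x, x ∈ K ↔ x ^ p ^ e = x := by
  let K : Subfield F := (iterateFrobenius F p e).eqLocusField (RingHom.id F)
  have hmem : ∀ x, x ∈ K ↔ x ^ p ^ e = x := fun x => Iff.rfl
  refine ⟨K, ?_, hmem⟩
  have hf : 0 < f := by
    rcases Nat.eq_zero_or_pos f with h | h
    · exfalso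
      have := Fintype.one_lt_card (α := F)
      rw [hF, h, pow_zero] at this
      omega
    · exact h
  have he0 : 0 < e := Nat.pos_of_dvd_of_pos he hf
  have h1 : 1 < p ^ e := Nat.one_lt_pow he0.ne' (Fact.out : p.Prime).one_lt
  have hcard : Nat.card Fˣ = p ^ f - 1 := by
    rw [Nat.card_units, Nat.card_eq_fintype_card, hF]
  have hker := IsCyclic.card_powMonoidHom_ker (G := Fˣ) (p ^ e - 1)
  rw [hcard, Nat.pow_sub_one_gcd_pow_sub_one] at hker
  rw [Nat.gcd_eq_right he] at hker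
  have hequiv : Kˣ ≃ (powMonoidHom (p ^ e - 1) : Fˣ →* Fˣ).ker :=
    { toFun := fun u => ⟨Units.map (K.subtype : K →* F) u, by
        rw [MonoidHom.mem_ker, powMonoidHom_apply]
        ext
        simp only [Units.val_pow_eq_pow_val, Units.coe_map, Units.val_one]
        have hx : ((u : K) : F) ^ p ^ e = (u : K) := (hmem _).1 (u : K).2
        have h0 : ((u : K) : F) ≠ 0 := by simp
        refine mul_left_cancel₀ h0 ?_
        rw [mul_one]
        show ((u : K) : F) * ((u : K) : F) ^ (p ^ e - 1) = _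
        rw [← pow_succ', Nat.sub_add_cancel h1.le, hx]⟩
      invFun := fun u => Units.mk0 ⟨((u : Fˣ) : F), (hmem _).2 (by
        have hu : ((u : Fˣ)) ^ (p ^ e - 1) = 1 := u.2
        have hu' := congrArg (fun x : Fˣ => (x : F)) hu
        simp only [Units.val_pow_eq_pow_val, Units.val_one] at hu'
        have h' : ∀ (z : F) (Q : ℕ), 1 < Q → z ^ (Q - 1) = 1 → z ^ Q = z := by
          intro z Q hQ hz
          rw [← Nat.sub_add_cancel hQ.le, pow_succ', hz, mul_one]
        exact h' _ _ h1 hu')⟩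
        (fun h => (u : Fˣ).ne_zero (congrArg Subtype.val h))
      left_inv := fun u => by ext; rfl
      right_inv := fun u => by ext; rfl }
  have h2 := Nat.card_congr hequiv
  rw [hker, Nat.card_units] at h2
  have : 0 < Nat.card K := Nat.card_pos
  omega

/-- Every proper subfield lies in one of prime index. -/
theorem exists_subfield_prime [Fintype F] {F₀ : Subfield F} (h : F₀ ≠ ⊤) :
    ∃ (F₁ : Subfield F) (r : ℕ), F₀ ≤ F₁ ∧ r.Prime ∧ Fintype.card F = Nat.card F₁ ^ r := by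
  obtain ⟨p, hp⟩ := CharP.exists F
  have := hp
  obtain ⟨f, hpp, hF⟩ := FiniteField.card F p
  have : Fact p.Prime := ⟨hpp⟩
  haveI : Fintype F₀ := Fintype.ofFinite _
  have hchar : CharP F₀ p := (RingHom.charP_iff _ F₀.subtype.injective p).2 hp
  obtain ⟨a, -, hF0⟩ := FiniteField.card F₀ p
  obtain ⟨d, hd⟩ : ∃ d, Fintype.card F = Fintype.card F₀ ^ d :=
    ⟨_, Module.card_eq_pow_finrank (K := F₀) (V := F)⟩
  have had : (a : ℕ) * d = (f : ℕ) := by
    rw [hF, hF0, ← pow_mul] at hd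
    exact (Nat.pow_right_injective hpp.two_le hd).symm
  have hd1 : d ≠ 1 := by
    intro h1
    rw [h1, pow_one] at hd
    apply h
    have : Function.Surjective F₀.subtype :=
      ((Fintype.bijective_iff_injective_and_card _).2 ⟨F₀.subtype.injective, hd.symm⟩).2
    exact eq_top_iff.2 fun x _ => by obtain ⟨y, rfl⟩ := this x; exact y.2
  obtain ⟨r, hr, hrd⟩ := Nat.exists_prime_and_dvd hd1
  obtain ⟨d', rfl⟩ := hrd
  obtain ⟨K, hK, hmem⟩ := exists_subfield_of_dvd (F := F) (p := p) (e := (a : ℕ) * d') hF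
    ⟨r, by rw [← had]; ring⟩
  refine ⟨K, r, fun x hx => (hmem x).2 ?_, hr, ?_⟩
  · have hx' := FiniteField.pow_card_pow d' (⟨x, hx⟩ : F₀)
    rw [hF0, ← pow_mul] at hx'
    exact congrArg Subtype.val hx'
  · rw [hK, hF, ← pow_mul, ← had]; ring_nf

end CfsgLib.Aschbacher
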