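import Cfsg.Agent.Lib.Aschbacher.Forms
import Cfsg.Agent.Lib.Aschbacher.Subfield

/-!
Class-two absolutely irreducible subgroups of `SL_n` for an odd prime `n`: they are extraspecial of
order `n ^ 3` and exponent `n`, realised over the field of `n`-th roots of unity.
-/

set_option autoImplicit false

namespace CfsgLib.Aschbacher

open Matrix Module

variable {F : Type*} [Field F] {n : ℕ}

/-- The scalar matrix as an element of `GL`. -/
def scalarGL (ι : Type) [Fintype ι] [DecidableEq ι] (a : Fˣ) : GL ι F :=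
  Units.map (Matrix.scalar ι : F →+* Matrix ι ι F).toMonoidHom a

lemma scalarGL_val {ι : Type} [Fintype ι] [DecidableEq ι] (a : Fˣ) :
    (scalarGL ι a : Matrix ι ι F) = (a : F) • (1 : Matrix ι ι F) := by
  simp [scalarGL, Matrix.smul_one_eq_diagonal]

lemma scalarGL_mulVec {ι : Type} [Fintype ι] [DecidableEq ι] (a : Fˣ) (v : ι → F) :
    (scalarGL ι a : Matrix ι ι F) *ᵥ v = (a : F) • v := by
  rw [scalarGL_val, Matrix.smul_mulVec, Matrix.one_mulVec]

lemma scalarGL_comm {ι : Type} [Fintype ι] [DecidableEq ι] (a : Fˣ) (g : GL ι F) :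
    scalarGL ι a * g = g * scalarGL ι a := by
  refine Units.ext ?_
  rw [Units.val_mul, Units.val_mul, scalarGL_val, Matrix.smul_mul, one_mul, Matrix.mul_smul, mul_one]

lemma mem_scalars {ι : Type} [Fintype ι] [DecidableEq ι] {g : GL ι F} :
    g ∈ Cfsg.Geo.scalars ι F ↔ ∃ a : Fˣ, g = scalarGL ι a :=
  ⟨fun ⟨a, ha⟩ => ⟨a, ha.symm⟩, fun ⟨a, ha⟩ => ⟨a, ha.symm⟩⟩

lemma scalars_comm {ι : Type} [Fintype ι] [DecidableEq ι] {z : GL ι F}
    (hz : z ∈ Cfsg.Geo.scalars ι F) (g : GL ι F) : z * g = g * z := by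
  obtain ⟨a, rfl⟩ := mem_scalars.1 hz
  exact scalarGL_comm a g

lemma det_scalarGL {ι : Type} [Fintype ι] [DecidableEq ι] (a : Fˣ) :
    (scalarGL ι a : Matrix ι ι F).det = (a : F) ^ Fintype.card ι := by
  rw [scalarGL_val, Matrix.det_smul, Matrix.det_one, mul_one]

lemma det_eq_one_of_mem {ι : Type} [Fintype ι] [DecidableEq ι] {g : GL ι F}
    (hg : g ∈ Cfsg.Geo.specialLinear ι F) : (g : Matrix ι ι F).det = 1 :=
  congrArg Units.val (MonoidHom.mem_ker.1 hg)

/-- The data extracted from a class-two absolutely irreducible subgroup of `SL_n`. -/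
structure ExtraData (n : ℕ) [NeZero n] (N : Subgroup (GL (Fin n) F)) where
  /-- first generator -/
  x : GL (Fin n) F
  /-- second generator -/
  y : GL (Fin n) F
  /-- the root of unity -/
  u : Fˣ
  /-- the basis -/
  B : GL (Fin n) F
  hx : x ∈ N
  hy : y ∈ N
  hz : scalarGL (Fin n) u ∈ N
  prim : IsPrimitiveRoot u n
  x_col : ∀ i : Fin n, ((B⁻¹ * x * B : GL (Fin n) F) : Matrix (Fin n) (Fin n) F) *ᵥ Pi.single i 1
    = ((u : F) ^ (i : ℕ)) • (Pi.single i 1 : Fin n → F)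
  y_col : ∀ i : Fin n, ((B⁻¹ * y * B : GL (Fin n) F) : Matrix (Fin n) (Fin n) F) *ᵥ Pi.single i 1
    = (Pi.single (i + 1) 1 : Fin n → F)
  gen : ∀ w ∈ N, ∃ a b k : Fin n, w = x ^ (a : ℕ) * y ^ (b : ℕ) * scalarGL (Fin n) u ^ (k : ℕ)
  comm : ∀ w : GL (Fin n) F, w * x = x * w → w * y = y * w → w ∈ Cfsg.Geo.scalars (Fin n) F
  card : Nat.card N = n ^ 3
  pow : ∀ w ∈ N, w ^ n = 1
  xy : x * y ≠ y * x

lemma pow_eq_one_of_commutator [Fact n.Prime] (hodd : Odd n) {x y : GL (Fin n) F}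
    (hxd : x ∈ Cfsg.Geo.specialLinear (Fin n) F) {u : Fˣ} (hu : u ≠ 1)
    (hxy : x * y = scalarGL (Fin n) u * (y * x)) :
    u ^ n = 1 ∧ x ^ n = 1 ∧ ((x : Matrix (Fin n) (Fin n) F) - 1).det = 0 := by
  have hx1 : (x : Matrix (Fin n) (Fin n) F).det = 1 := det_eq_one_of_mem hxd
  have hconj : (x : Matrix (Fin n) (Fin n) F) =
      (y : Matrix (Fin n) (Fin n) F) * ((u : F) • (x : Matrix (Fin n) (Fin n) F)) *
        ((y⁻¹ : GL (Fin n) F) : Matrix (Fin n) (Fin n) F) := by
    have h : x = y * (scalarGL (Fin n) u * x) * y⁻¹ := by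
      rw [← mul_assoc y, ← scalarGL_comm, mul_assoc (scalarGL (Fin n) u), ← hxy]; group
    have h' := congrArg (Units.val : GL (Fin n) F → Matrix (Fin n) (Fin n) F) h
    rwa [Units.val_mul, Units.val_mul, Units.val_mul, scalarGL_val, Matrix.smul_mul, one_mul] at h'
  have hun : (u : F) ^ n = 1 := by
    have h := congrArg Matrix.det hconj
    rw [Matrix.det_units_conj, Matrix.det_smul, hx1, mul_one, Fintype.card_fin] at h
    exact h.symm
  have hun' : u ^ n = 1 := Units.ext (by simpa using hun)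
  have hnp : n.Prime := Fact.out
  set χ := (x : Matrix (Fin n) (Fin n) F).charpoly with hχ
  have hord : orderOf u = n := orderOf_eq_prime hun' hu
  have hmonic : χ.Monic := Matrix.charpoly_monic _
  have hdeg : χ.natDegree = n := by rw [hχ, Matrix.charpoly_natDegree_eq_dim, Fintype.card_fin]
  have hinv : χ = ((u : F) • (x : Matrix (Fin n) (Fin n) F)).charpoly := by
    have h1 := Matrix.charpoly_units_conj y ((u : F) • (x : Matrix (Fin n) (Fin n) F))
    rw [Matrix.coe_units_inv] at hconj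
    rw [hχ]
    conv_lhs => rw [hconj]
    simpa using h1
  have hcoeff : ∀ i, 0 < i → i < n → χ.coeff i = 0 := by
    intro i hi hin
    have hcomp : χ.comp (Polynomial.C (u : F) * Polynomial.X) = Polynomial.C ((u : F) ^ n) * χ := by
      conv_lhs => rw [hinv]
      rw [Matrix.charpoly, ← Polynomial.coe_compRingHom_apply, RingHom.map_det]
      have hm : (Polynomial.compRingHom (Polynomial.C (u : F) * Polynomial.X)).mapMatrix
          (Matrix.charmatrix ((u : F) • (x : Matrix (Fin n) (Fin n) F))) =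
          Polynomial.C (u : F) • Matrix.charmatrix (x : Matrix (Fin n) (Fin n) F) := by
        refine Matrix.ext fun a b => ?_
        by_cases hab : a = b
        · subst hab
          simp [mul_sub]
        · simp [hab]
      rw [hm, Matrix.det_smul, Fintype.card_fin, ← Polynomial.C_pow]
      rfl
    have h2 := congrArg (fun q => Polynomial.coeff q i) hcomp
    simp only [Polynomial.comp_C_mul_X_coeff, Polynomial.coeff_C_mul, hun, one_mul] at h2
    by_contra hne
    have h3 : (u : F) ^ i = 1 :=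
      mul_left_cancel₀ hne (by rw [h2, mul_one])
    have h4 : u ^ i = 1 := Units.ext (by simpa using h3)
    have h5 : orderOf u ∣ i := orderOf_dvd_of_pow_eq_one h4
    rw [hord] at h5
    exact absurd (Nat.le_of_dvd hi h5) (by omega)
  have hc0 : χ.coeff 0 = -1 := by
    have h := Matrix.det_eq_sign_charpoly_coeff (x : Matrix (Fin n) (Fin n) F)
    rw [hx1, Fintype.card_fin, hodd.neg_one_pow, ← hχ] at h
    linear_combination h
  have hχeq : χ = Polynomial.X ^ n - 1 := by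
    ext i
    rw [Polynomial.coeff_sub, Polynomial.coeff_X_pow, Polynomial.coeff_one]
    rcases Nat.eq_zero_or_pos i with rfl | hi
    · rw [hc0, if_neg (Ne.symm hnp.ne_zero), if_pos rfl, zero_sub]
    · rw [if_neg hi.ne', sub_zero]
      rcases lt_trichotomy i n with hin | rfl | hin
      · rw [hcoeff i hi hin, if_neg hin.ne]
      · rw [if_pos rfl]
        have := hmonic.coeff_natDegree
        rwa [hdeg] at this
      · rw [if_neg hin.ne', Polynomial.coeff_eq_zero_of_natDegree_lt (hdeg ▸ hin)]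
  refine ⟨hun', ?_, ?_⟩
  · have h := Matrix.aeval_self_charpoly (x : Matrix (Fin n) (Fin n) F)
    rw [← hχ, hχeq] at h
    simp only [map_sub, map_pow, Polynomial.aeval_X, map_one, sub_eq_zero] at h
    exact Units.ext (by simpa using h)
  · have h := Matrix.eval_charpoly (x : Matrix (Fin n) (Fin n) F) 1
    rw [← hχ, hχeq] at h
    simp only [Polynomial.eval_sub, Polynomial.eval_pow, Polynomial.eval_X, one_pow,
      Polynomial.eval_one, sub_self, map_one] at h
    rw [show (x : Matrix (Fin n) (Fin n) F) - 1 = -(1 - (x : Matrix (Fin n) (Fin n) F)) by abel,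
      Matrix.det_neg, ← h, mul_zero]

theorem exists_extraData [Fact n.Prime] (hodd : Odd n) {N : Subgroup (GL (Fin n) F)}
    (hSL : N ≤ Cfsg.Geo.specialLinear (Fin n) F) (hN : AbsIrr N)
    (h2 : ∀ a ∈ N, ∀ b ∈ N, a * b * a⁻¹ * b⁻¹ ∈ Cfsg.Geo.scalars (Fin n) F) :
    Nonempty (ExtraData n N) := by
  have hnp : n.Prime := Fact.out
  have : NeZero n := ⟨hnp.ne_zero⟩
  -- two non-commuting elements
  obtain ⟨x₀, hx₀, y₀, hy₀, hne⟩ : ∃ a ∈ N, ∃ b ∈ N, a * b ≠ b * a := by
    by_contra h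
    push Not at h
    have hsc : ∀ a ∈ N, ∃ c : F, (a : Matrix (Fin n) (Fin n) F) = c • 1 := fun a ha => hN.2 _ (by
      rintro _ ⟨b, hb, rfl⟩; exact congrArg Units.val (h a ha b hb))
    let W : Submodule F (Fin n → F) := Submodule.span F {Pi.single (0 : Fin n) 1}
    rcases irr_iff.1 hN.1 W (fun a ha w hw => by
      obtain ⟨c, hc⟩ := hsc a ha
      rw [hc, Matrix.smul_mulVec, Matrix.one_mulVec]
      exact W.smul_mem c hw) with h0 | h1
    · exact absurd (h0 ▸ Submodule.mem_span_singleton_self _ : (Pi.single (0 : Fin n) (1 : F)) ∈ (⊥ : Submodule F (Fin n → F))) (by simp)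
    · have h1' := congrArg (fun V : Submodule F (Fin n → F) => finrank F V) h1
      simp only [finrank_top, Module.finrank_fin_fun] at h1'
      rw [show W = Submodule.span F {Pi.single (0 : Fin n) (1 : F)} from rfl,
        finrank_span_singleton (by simp)] at h1'
      exact hnp.one_lt.ne' h1'.symm
  obtain ⟨u, hu⟩ := mem_scalars.1 (h2 x₀ hx₀ y₀ hy₀)
  have hxy : x₀ * y₀ = scalarGL (Fin n) u * (y₀ * x₀) := by rw [← hu]; group
  have hu1 : u ≠ 1 := fun h => hne (by simpa [h, scalarGL] using hxy)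
  obtain ⟨hun, hxn, hxdet⟩ := pow_eq_one_of_commutator hodd (hSL hx₀) hu1 hxy
  have hprim : IsPrimitiveRoot u n := by
    rw [← orderOf_eq_prime hun hu1]; exact IsPrimitiveRoot.orderOf u
  have hyx : y₀ * x₀ = scalarGL (Fin n) u⁻¹ * (x₀ * y₀) := by
    rw [hxy, ← mul_assoc, scalarGL, scalarGL, ← map_mul, inv_mul_cancel, map_one, one_mul]
  obtain ⟨-, hyn, -⟩ := pow_eq_one_of_commutator hodd (hSL hy₀) (inv_ne_one.2 hu1) hyx
  -- every scalar in `N` is a power of `u`
  have hsu : ∀ a : Fˣ, scalarGL (Fin n) a ∈ N → ∃ k : Fin n, a = u ^ (k : ℕ) := by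
    intro a ha
    have h := det_eq_one_of_mem (hSL ha)
    rw [det_scalarGL, Fintype.card_fin] at h
    obtain ⟨i, hi, hi'⟩ := (IsPrimitiveRoot.coe_units_iff.2 hprim).eq_pow_of_pow_eq_one h
    exact ⟨⟨i, hi⟩, Units.ext (by simpa using hi'.symm)⟩
  -- eigenvector and basis
  obtain ⟨v, hv0, hv⟩ := Matrix.exists_mulVec_eq_zero_iff.2 hxdet
  rw [Matrix.sub_mulVec, Matrix.one_mulVec, sub_eq_zero] at hv
  let e : Fin n → Fin n → F := fun i => ((y₀ ^ (i : ℕ) : GL (Fin n) F) : Matrix (Fin n) (Fin n) F) *ᵥ v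
  have hxe : ∀ k : ℕ, (x₀ : Matrix (Fin n) (Fin n) F) *ᵥ
      (((y₀ ^ k : GL (Fin n) F) : Matrix (Fin n) (Fin n) F) *ᵥ v) =
      (u : F) ^ k • (((y₀ ^ k : GL (Fin n) F) : Matrix (Fin n) (Fin n) F) *ᵥ v) := by
    intro k
    induction k with
    | zero => simp [hv]
    | succ k ih =>
      rw [pow_succ', mul_mulVec, ← mul_mulVec x₀ y₀, hxy, mul_mulVec, mul_mulVec, ih,
        Matrix.mulVec_smul, scalarGL_mulVec, smul_smul, pow_succ' (u : F)]
  have hli : LinearIndependent F e := by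
    refine Module.End.eigenvectors_linearIndependent' (Matrix.toLin' (x₀ : Matrix (Fin n) (Fin n) F))
      (fun i : Fin n => (u : F) ^ (i : ℕ)) ?_ e fun i => ?_
    · intro i j h
      exact Fin.ext (hprim.pow_inj i.2 j.2 (Units.ext (by simpa using h)))
    · refine Module.End.hasEigenvector_iff.2 ⟨?_, ?_⟩
      · rw [Module.End.mem_eigenspace_iff, Matrix.toLin'_apply]; exact hxe i
      · intro h; exact hv0 (mulVec_injective _ (h.trans (Matrix.mulVec_zero _).symm))
  let Bm : Matrix (Fin n) (Fin n) F := Matrix.of fun i j => e j i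
  have hBcol : ∀ j, Bm *ᵥ Pi.single j 1 = e j := fun j => by
    rw [Matrix.mulVec_single_one]; rfl
  have hBu : IsUnit Bm := by
    rw [← Matrix.linearIndependent_cols_iff_isUnit]
    exact hli
  obtain ⟨B, hB⟩ := hBu
  have hx_col : ∀ i : Fin n, ((B⁻¹ * x₀ * B : GL (Fin n) F) : Matrix (Fin n) (Fin n) F) *ᵥ
      Pi.single i 1 = ((u : F) ^ (i : ℕ)) • (Pi.single i 1 : Fin n → F) := by
    intro i
    have hxe' : (x₀ : Matrix (Fin n) (Fin n) F) *ᵥ e i = (u : F) ^ (i : ℕ) • e i := hxe i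
    rw [mul_mulVec, mul_mulVec, hB, hBcol, hxe', Matrix.mulVec_smul, ← hBcol, ← hB,
      inv_mulVec_cancel]
  have hy_col : ∀ i : Fin n, ((B⁻¹ * y₀ * B : GL (Fin n) F) : Matrix (Fin n) (Fin n) F) *ᵥ
      Pi.single i 1 = (Pi.single (i + 1) 1 : Fin n → F) := by
    intro i
    rw [mul_mulVec, mul_mulVec, hB, hBcol]
    have hp : y₀ ^ ((i + 1 : Fin n) : ℕ) = y₀ ^ ((i : ℕ) + 1) := by
      rw [Fin.val_add, Fin.val_one', Nat.add_mod_mod]
      exact (pow_eq_pow_mod _ hyn).symm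
    have hye : (y₀ : Matrix (Fin n) (Fin n) F) *ᵥ e i = e (i + 1) := by
      simp only [e]
      rw [← mul_mulVec, ← pow_succ', hp]
    rw [hye, ← hBcol, ← hB, inv_mulVec_cancel]
  have hcomm : ∀ w : GL (Fin n) F, w * x₀ = x₀ * w → w * y₀ = y₀ * w →
      w ∈ Cfsg.Geo.scalars (Fin n) F := by
    intro w hwx hwy
    let c : Fin n → F := ((B⁻¹ : GL (Fin n) F) : Matrix (Fin n) (Fin n) F) *ᵥ ((w : Matrix (Fin n) (Fin n) F) *ᵥ v)
    have hsum : ∀ c : Fin n → F, (B : Matrix (Fin n) (Fin n) F) *ᵥ c = ∑ i, c i • e i := by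
      intro c
      rw [hB, Matrix.mulVec_eq_sum]
      exact Finset.sum_congr rfl fun i _ => by funext j; simp [Bm, mul_comm]
    have hwv : (w : Matrix (Fin n) (Fin n) F) *ᵥ v = ∑ i, c i • e i := by rw [← hsum, mulVec_inv_cancel]
    have hfix : (x₀ : Matrix (Fin n) (Fin n) F) *ᵥ ((w : Matrix (Fin n) (Fin n) F) *ᵥ v) = (w : Matrix (Fin n) (Fin n) F) *ᵥ v := by
      rw [← mul_mulVec, ← hwx, mul_mulVec, hv]
    have hz : ∑ i, (c i * ((u : F) ^ (i : ℕ) - 1)) • e i = 0 := by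
      have h : ∑ i, (c i * (u : F) ^ (i : ℕ)) • e i = ∑ i, c i • e i := by
        rw [← hwv, ← hfix, hwv, Matrix.mulVec_sum]
        exact Finset.sum_congr rfl fun i _ => by rw [Matrix.mulVec_smul, hxe, smul_smul]
      simp only [mul_sub, mul_one, sub_smul, Finset.sum_sub_distrib, h, sub_self]
    have hc : ∀ i : Fin n, i ≠ 0 → c i = 0 := by
      intro i hi
      have h := Fintype.linearIndependent_iff.1 hli _ hz i
      refine (mul_eq_zero.1 h).resolve_right fun h' => hi (Fin.ext ?_)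
      exact hprim.pow_inj i.2 (0 : Fin n).2 (Units.ext (by simpa [sub_eq_zero] using h'))
    have hwv' : (w : Matrix (Fin n) (Fin n) F) *ᵥ v = c 0 • v := by
      rw [hwv, Finset.sum_eq_single (0 : Fin n) (fun i _ hi => by rw [hc i hi, zero_smul])
        (by simp)]
      simp [e]
    have hwe : ∀ i, (w : Matrix (Fin n) (Fin n) F) *ᵥ e i = c 0 • e i := by
      intro i
      have hp : w * y₀ ^ (i : ℕ) = y₀ ^ (i : ℕ) * w := (Commute.pow_right hwy _)
      show (w : Matrix (Fin n) (Fin n) F) *ᵥ (((y₀ ^ (i : ℕ) : GL (Fin n) F) : Matrix (Fin n) (Fin n) F) *ᵥ v) = _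
      rw [← mul_mulVec, hp, mul_mulVec, hwv', Matrix.mulVec_smul]
    have hweq : (w : Matrix (Fin n) (Fin n) F) * (B : Matrix (Fin n) (Fin n) F) = c 0 • (B : Matrix (Fin n) (Fin n) F) := by
      refine Matrix.ext_of_mulVec_single fun i => ?_
      rw [← Matrix.mulVec_mulVec, hB, hBcol, hwe, Matrix.smul_mulVec, hBcol]
    rw [Cfsg.Geo.mem_scalars_iff]
    have hwmat : (w : Matrix (Fin n) (Fin n) F) = c 0 • 1 := by
      have h := congrArg (fun X => X * ((B⁻¹ : GL (Fin n) F) : Matrix (Fin n) (Fin n) F)) hweq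
      simpa [mul_assoc, Matrix.smul_mul] using h
    refine ⟨Units.mk0 (c 0) (fun h0 => ?_), hwmat⟩
    rw [h0, zero_smul] at hwmat
    exact w.ne_zero hwmat
  have hz₀ : scalarGL (Fin n) u ∈ N := by
    rw [← hu]
    exact N.mul_mem (N.mul_mem (N.mul_mem hx₀ hy₀) (N.inv_mem hx₀)) (N.inv_mem hy₀)
  have hpu : ∀ k : ℕ, scalarGL (Fin n) (u ^ k) = scalarGL (Fin n) u ^ k := fun k =>
    map_pow _ _ _
  have hgen : ∀ w ∈ N, ∃ a b k : Fin n,
      w = x₀ ^ (a : ℕ) * y₀ ^ (b : ℕ) * scalarGL (Fin n) u ^ (k : ℕ) := by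
    intro w hw
    obtain ⟨s, hs⟩ := mem_scalars.1 (h2 x₀ hx₀ w hw)
    obtain ⟨k, rfl⟩ := hsu s (hs ▸ N.mul_mem (N.mul_mem (N.mul_mem hx₀ hw) (N.inv_mem hx₀)) (N.inv_mem hw))
    obtain ⟨t, ht⟩ := mem_scalars.1 (h2 y₀ hy₀ w hw)
    obtain ⟨l, rfl⟩ := hsu t (ht ▸ N.mul_mem (N.mul_mem (N.mul_mem hy₀ hw) (N.inv_mem hy₀)) (N.inv_mem hw))
    have hxw : x₀ * w = scalarGL (Fin n) (u ^ (k : ℕ)) * (w * x₀) := by rw [← hs]; group
    have hyw : y₀ * w = scalarGL (Fin n) (u ^ (l : ℕ)) * (w * y₀) := by rw [← ht]; group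
    have hxyb : ∀ b : ℕ, x₀ * y₀ ^ b = scalarGL (Fin n) (u ^ b) * (y₀ ^ b * x₀) := by
      intro b
      induction b with
      | zero => simp [scalarGL]
      | succ b ih =>
        calc x₀ * y₀ ^ (b + 1) = (x₀ * y₀) * y₀ ^ b := by rw [pow_succ', mul_assoc]
          _ = scalarGL (Fin n) u * y₀ * (x₀ * y₀ ^ b) := by rw [hxy]; group
          _ = scalarGL (Fin n) u * (y₀ * scalarGL (Fin n) (u ^ b)) * (y₀ ^ b * x₀) := by
              rw [ih]; group
          _ = scalarGL (Fin n) u * scalarGL (Fin n) (u ^ b) * (y₀ ^ (b + 1) * x₀) := by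
              rw [← scalarGL_comm, pow_succ' y₀]; group
          _ = _ := by rw [pow_succ' u, scalarGL, scalarGL, scalarGL, map_mul]
    have hyxa : ∀ a : ℕ, y₀ * x₀ ^ a = scalarGL (Fin n) (u⁻¹ ^ a) * (x₀ ^ a * y₀) := by
      intro a
      induction a with
      | zero => simp [scalarGL]
      | succ a ih =>
        calc y₀ * x₀ ^ (a + 1) = (y₀ * x₀) * x₀ ^ a := by rw [pow_succ', mul_assoc]
          _ = scalarGL (Fin n) u⁻¹ * x₀ * (y₀ * x₀ ^ a) := by rw [hyx]; group
          _ = scalarGL (Fin n) u⁻¹ * (x₀ * scalarGL (Fin n) (u⁻¹ ^ a)) * (x₀ ^ a * y₀) := by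
              rw [ih]; group
          _ = scalarGL (Fin n) u⁻¹ * scalarGL (Fin n) (u⁻¹ ^ a) * (x₀ ^ (a + 1) * y₀) := by
              rw [← scalarGL_comm, pow_succ' x₀]; group
          _ = _ := by rw [pow_succ' u⁻¹, scalarGL, scalarGL, scalarGL, map_mul]
    -- correct `w`
    let b : ℕ := n - (k : ℕ)
    let a : ℕ := (l : ℕ)
    have hb : u ^ (k : ℕ) * u ^ b = 1 := by
      rw [← pow_add, show (k : ℕ) + b = n by omega, hun]
    have hw' : w * y₀ ^ b * x₀ ^ a ∈ Cfsg.Geo.scalars (Fin n) F := by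
      refine hcomm _ ?_ ?_
      · have h1 : x₀ * (w * y₀ ^ b) = w * y₀ ^ b * x₀ := by
          calc x₀ * (w * y₀ ^ b)
              = scalarGL (Fin n) (u ^ (k : ℕ)) * w * (x₀ * y₀ ^ b) := by
                rw [← mul_assoc, hxw]; group
            _ = scalarGL (Fin n) (u ^ (k : ℕ)) * (w * scalarGL (Fin n) (u ^ b)) *
                  (y₀ ^ b * x₀) := by rw [hxyb]; group
            _ = scalarGL (Fin n) (u ^ (k : ℕ)) * scalarGL (Fin n) (u ^ b) *
                  (w * y₀ ^ b * x₀) := by rw [← scalarGL_comm]; group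
            _ = _ := by
                rw [scalarGL, scalarGL, ← map_mul, hb, map_one, one_mul]
        have hc1 : Commute x₀ (w * y₀ ^ b) := h1
        exact (hc1.mul_right ((Commute.refl x₀).pow_right a)).symm
      · calc w * y₀ ^ b * x₀ ^ a * y₀
            = w * y₀ ^ b * (scalarGL (Fin n) (u ^ a) * (y₀ * x₀ ^ a)) := by
              rw [hyxa, ← mul_assoc (scalarGL (Fin n) (u ^ a)), scalarGL, scalarGL, ← map_mul,
                inv_pow, mul_inv_cancel, map_one, one_mul, mul_assoc]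
          _ = scalarGL (Fin n) (u ^ a) * (w * y₀) * (y₀ ^ b * x₀ ^ a) := by
              rw [← mul_assoc (w * y₀ ^ b), ← scalarGL_comm]
              simp only [mul_assoc]
              rw [← mul_assoc (y₀ ^ b) y₀, ← pow_succ, pow_succ', mul_assoc]
          _ = y₀ * w * (y₀ ^ b * x₀ ^ a) := by rw [hyw]
          _ = y₀ * (w * y₀ ^ b * x₀ ^ a) := by group
    obtain ⟨s, hs'⟩ := mem_scalars.1 hw'
    obtain ⟨m, rfl⟩ := hsu s (hs' ▸ N.mul_mem (N.mul_mem hw (N.pow_mem hy₀ _)) (N.pow_mem hx₀ _))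
    have hxinv : (x₀ ^ a)⁻¹ = x₀ ^ (n - a) := by
      refine inv_eq_of_mul_eq_one_left ?_
      rw [← pow_add, show n - a + a = n by omega, hxn]
    have hyinv : (y₀ ^ b)⁻¹ = y₀ ^ (k : ℕ) := by
      refine inv_eq_of_mul_eq_one_left ?_
      rw [← pow_add, show (k : ℕ) + b = n by omega, hyn]
    refine ⟨⟨(n - a) % n, Nat.mod_lt _ hnp.pos⟩, k, m, ?_⟩
    rw [← pow_eq_pow_mod _ hxn, ← hxinv, ← hyinv, ← hpu]
    calc w = (w * y₀ ^ b * x₀ ^ a) * ((x₀ ^ a)⁻¹ * (y₀ ^ b)⁻¹) := by group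
      _ = _ := by rw [hs', scalarGL_comm]
  refine ⟨⟨x₀, y₀, u, B, hx₀, hy₀, hz₀, hprim, hx_col, hy_col, hgen, hcomm, ?_, ?_, hne⟩⟩
  · -- order
    let g : Fin n × Fin n × Fin n → N := fun abk =>
      ⟨x₀ ^ (abk.1 : ℕ) * y₀ ^ (abk.2.1 : ℕ) * scalarGL (Fin n) u ^ (abk.2.2 : ℕ),
        N.mul_mem (N.mul_mem (N.pow_mem hx₀ _) (N.pow_mem hy₀ _)) (N.pow_mem hz₀ _)⟩
    have hxpow : ∀ (a : ℕ) (i : Fin n), ((x₀ ^ a : GL (Fin n) F) : Matrix (Fin n) (Fin n) F) *ᵥ e i =
        ((u : F) ^ (i : ℕ)) ^ a • e i := by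
      intro a i
      induction a with
      | zero => simp
      | succ a ih =>
        rw [pow_succ', mul_mulVec, ih, Matrix.mulVec_smul, hxe, smul_smul, pow_succ]
    have hsurj : Function.Surjective g := fun ⟨w, hw⟩ => by
      obtain ⟨a, b, k, rfl⟩ := hgen w hw; exact ⟨(a, b, k), rfl⟩
    have hinj : Function.Injective g := by
      rintro ⟨a, b, k⟩ ⟨a', b', k'⟩ h
      have h0 : x₀ ^ (a : ℕ) * y₀ ^ (b : ℕ) * scalarGL (Fin n) u ^ (k : ℕ) =
          x₀ ^ (a' : ℕ) * y₀ ^ (b' : ℕ) * scalarGL (Fin n) u ^ (k' : ℕ) := congrArg Subtype.val h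
      have happ : ∀ a b k : Fin n, ((x₀ ^ (a : ℕ) * y₀ ^ (b : ℕ) *
          scalarGL (Fin n) u ^ (k : ℕ) : GL (Fin n) F) : Matrix (Fin n) (Fin n) F) *ᵥ v =
          ((u : F) ^ (k : ℕ) * ((u : F) ^ (b : ℕ)) ^ (a : ℕ)) • e b := by
        intro a b k
        rw [mul_mulVec, ← hpu, scalarGL_mulVec, Units.val_pow_eq_pow_val, Matrix.mulVec_smul,
          mul_mulVec, show ((y₀ ^ (b : ℕ) : GL (Fin n) F) : Matrix (Fin n) (Fin n) F) *ᵥ v = e b from rfl,
          hxpow, smul_smul]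
      have h1 := happ a b k
      rw [h0, happ a' b' k'] at h1
      have hbb : b' = b := by
        by_contra hne'
        have h2 := congrArg (fun z => ((B⁻¹ : GL (Fin n) F) : Matrix (Fin n) (Fin n) F) *ᵥ z) h1
        simp only [Matrix.mulVec_smul] at h2
        rw [← hBcol, ← hBcol, ← hB, inv_mulVec_cancel, inv_mulVec_cancel] at h2
        have h5 := congrFun h2 b'
        simp [hne'] at h5
      subst hbb
      have h3 : x₀ ^ (a : ℕ) * scalarGL (Fin n) u ^ (k : ℕ) =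
          x₀ ^ (a' : ℕ) * scalarGL (Fin n) u ^ (k' : ℕ) := by
        rw [mul_assoc, mul_assoc, ← hpu, ← hpu, ← scalarGL_comm, ← scalarGL_comm, ← mul_assoc,
          ← mul_assoc] at h0
        rw [← hpu, ← hpu]
        exact mul_right_cancel h0
      have hon : ∀ i : Fin n, ((u : F) ^ (i : ℕ)) ^ (a : ℕ) * (u : F) ^ (k : ℕ) =
          ((u : F) ^ (i : ℕ)) ^ (a' : ℕ) * (u : F) ^ (k' : ℕ) := by
        intro i
        have := congrArg (fun w : GL (Fin n) F => (w : Matrix (Fin n) (Fin n) F) *ᵥ e i) h3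
        simp only [mul_mulVec, ← hpu, scalarGL_mulVec, Matrix.mulVec_smul, hxpow,
          smul_smul] at this
        have he0 : e i ≠ 0 := hli.ne_zero i
        rw [mul_comm, mul_comm (((u : F) ^ (i : ℕ)) ^ (a' : ℕ))]
        have h6 := smul_left_injective F he0 this
        simpa using h6
      have hk : k = k' := Fin.ext (hprim.pow_inj k.2 k'.2 (Units.ext (by
        simpa using hon 0)))
      subst hk
      have ha : a = a' := by
        have h4 := mul_right_cancel₀ (pow_ne_zero _ u.ne_zero) (hon 1)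
        rw [Fin.val_one', Nat.mod_eq_of_lt hnp.one_lt, pow_one] at h4
        exact Fin.ext (hprim.pow_inj a.2 a'.2 (Units.ext (by simpa using h4)))
      rw [ha]
    rw [← Nat.card_congr (Equiv.ofBijective g ⟨hinj, hsurj⟩)]
    simp [pow_succ, mul_assoc]
  · -- exponent
    intro w hw
    by_cases hws : w ∈ Cfsg.Geo.scalars (Fin n) F
    · obtain ⟨s, rfl⟩ := mem_scalars.1 hws
      obtain ⟨k, rfl⟩ := hsu s hw
      rw [hpu, ← pow_mul, mul_comm, pow_mul, ← hpu, hun]
      simp [scalarGL]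
    · obtain ⟨q, hq, hne'⟩ : ∃ q ∈ N, w * q ≠ q * w := by
        by_contra h
        push Not at h
        exact hws (hcomm w (h x₀ hx₀) (h y₀ hy₀))
      obtain ⟨t, ht⟩ := mem_scalars.1 (h2 w hw q hq)
      have hwq : w * q = scalarGL (Fin n) t * (q * w) := by rw [← ht]; group
      exact (pow_eq_one_of_commutator hodd (hSL hw)
        (fun h => hne' (by simpa [h, scalarGL] using hwq)) hwq).2.1

end CfsgLib.Aschbacher
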