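import Cfsg.Agent.Lib.Aschbacher.PrimeDim
import Cfsg.Agent.Lib.Aschbacher.TensorClass
import Cfsg.Agent.Lib.Aschbacher.Envelope

/-!
A minimal normal absolutely irreducible subgroup that is not abelian modulo scalars: a residual core
or a tensor decomposition permuted by the group.
-/

set_option autoImplicit false

namespace CfsgLib.Aschbacher

open Matrix Module

open scoped commutatorElement

variable {F : Type*} [Field F] {ι : Type} [Fintype ι] [DecidableEq ι]

set_option maxHeartbeats 1000000 in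
/-- A minimal normal subgroup that is not abelian modulo scalars: either its derived group is
simple modulo scalars, or it is generated by commuting conjugates of a perfect subgroup. -/
lemma core_or_factors [Finite F] [Nonempty ι] {H N : Subgroup (GL ι F)} (hN : AbsIrr N)
    (hNH : N ≤ H) (hn : ∀ g ∈ H, ∀ a ∈ N, g * a * g⁻¹ ∈ N)
    (hmin : ∀ M ≤ N, (∀ g ∈ H, ∀ a ∈ M, g * a * g⁻¹ ∈ M) →
      (∀ z ∈ N, z ∈ Cfsg.Geo.scalars ι F → z ∈ M) → M ≤ Cfsg.Geo.scalars ι F ∨ M = N)
    (h2 : ¬ ∀ a ∈ N, ∀ b ∈ N, a * b * a⁻¹ * b⁻¹ ∈ Cfsg.Geo.scalars ι F) :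
    (AbsIrr ⁅N, N⁆ ∧ ⁅⁅N, N⁆, ⁅N, N⁆⁆ = ⁅N, N⁆ ∧
      (∀ g ∈ H, ∀ a ∈ ⁅N, N⁆, g * a * g⁻¹ ∈ ⁅N, N⁆) ∧
      IsSimpleGroup (↥⁅N, N⁆ ⧸ (Cfsg.Geo.scalars ι F).subgroupOf ⁅N, N⁆) ∧
      ¬ IsMulCommutative (↥⁅N, N⁆ ⧸ (Cfsg.Geo.scalars ι F).subgroupOf ⁅N, N⁆)) ∨
    ∃ Q : Subgroup (GL ι F), ¬ Q ≤ Cfsg.Geo.scalars ι F ∧ ⁅Q, Q⁆ = Q ∧ Q ≤ N ∧
      (∃ c ∈ H, Q.map (MulAut.conj c).toMonoidHom ≠ Q) ∧
      (∀ c ∈ H, ∀ d ∈ H, Q.map (MulAut.conj c).toMonoidHom ≠ Q.map (MulAut.conj d).toMonoidHom →
        ∀ x ∈ Q.map (MulAut.conj c).toMonoidHom, ∀ y ∈ Q.map (MulAut.conj d).toMonoidHom,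
          x * y = y * x) ∧
      N ≤ Subgroup.closure (⋃ c ∈ H, (Q.map (MulAut.conj c).toMonoidHom : Set (GL ι F))) ⊔
        Cfsg.Geo.scalars ι F := by
  let Z : Subgroup (GL ι F) := N ⊓ Cfsg.Geo.scalars ι F
  have hconjZ : ∀ g, ∀ a ∈ Z, g * a * g⁻¹ ∈ Z := fun g a ha => by
    rw [← scalars_comm ha.2 g, mul_inv_cancel_right]; exact ha
  -- normalised subgroups
  have hnorm_comm : ∀ (K : Subgroup (GL ι F)) (g : GL ι F),
      (∀ a ∈ K, g * a * g⁻¹ ∈ K) → ∀ a ∈ ⁅K, K⁆, g * a * g⁻¹ ∈ ⁅K, K⁆ := by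
    intro K g hg a ha
    have hle : ⁅K, K⁆ ≤ (⁅K, K⁆).comap (MulAut.conj g).toMonoidHom := by
      rw [Subgroup.commutator_le]
      intro p hp q hq
      rw [Subgroup.mem_comap, map_commutatorElement]
      exact Subgroup.commutator_mem_commutator (hg p hp) (hg q hq)
    exact hle ha
  have hnorm_sup : ∀ (K : Subgroup (GL ι F)) (g : GL ι F),
      (∀ a ∈ K, g * a * g⁻¹ ∈ K) → ∀ a ∈ K ⊔ Z, g * a * g⁻¹ ∈ K ⊔ Z := by
    intro K g hg a ha
    have hle : K ⊔ Z ≤ (K ⊔ Z).comap (MulAut.conj g).toMonoidHom :=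
      sup_le (fun b hb => Subgroup.mem_sup_left (hg b hb))
        (fun b hb => Subgroup.mem_sup_right (hconjZ g b hb))
    exact hle ha
  have hsup_comm : ∀ K : Subgroup (GL ι F), ⁅K ⊔ Z, K ⊔ Z⁆ ≤ ⁅K, K⁆ := by
    intro K
    have hcomm : ∀ p ∈ K ⊔ Z, ∃ k ∈ K, ∀ g, p * g * p⁻¹ = k * g * k⁻¹ := by
      intro p hp
      have hle : K ⊔ Z ≤
          { carrier := {p | ∃ k ∈ K, ∀ g, p * g * p⁻¹ = k * g * k⁻¹}
            one_mem' := ⟨1, K.one_mem, fun g => rfl⟩
            mul_mem' := by
              rintro a b ⟨k, hk, hka⟩ ⟨l, hl, hlb⟩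
              refine ⟨k * l, K.mul_mem hk hl, fun g => ?_⟩
              calc a * b * g * (a * b)⁻¹ = a * (b * g * b⁻¹) * a⁻¹ := by group
                _ = _ := by rw [hlb, hka]; group
            inv_mem' := by
              rintro a ⟨k, hk, hka⟩
              refine ⟨k⁻¹, K.inv_mem hk, fun g => ?_⟩
              have := hka (a⁻¹ * g * a)
              calc a⁻¹ * g * a⁻¹⁻¹ = k⁻¹ * (k * (a⁻¹ * g * a) * k⁻¹) * k := by group
                _ = _ := by rw [← this]; group } := by
        refine sup_le (fun k hk => ⟨k, hk, fun g => rfl⟩) fun z hz => ⟨1, K.one_mem, fun g => ?_⟩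
        rw [scalars_comm hz.2, mul_inv_cancel_right]; group
      exact hle hp
    rw [Subgroup.commutator_le]
    intro p hp q hq
    obtain ⟨k, hk, hkp⟩ := hcomm p hp
    obtain ⟨l, hl, hlq⟩ := hcomm q hq
    have : ⁅p, q⁆ = ⁅k, l⁆ := by
      rw [commutatorElement_def, commutatorElement_def, hkp,
        show k * q * k⁻¹ * q⁻¹ = k * (q * k⁻¹ * q⁻¹) by group, hlq]
      group
    rw [this]
    exact Subgroup.commutator_mem_commutator hk hl
  -- `N = ⁅N,N⁆ ⊔ Z`
  set P := ⁅N, N⁆ with hP
  have hPN : P ≤ N := Subgroup.commutator_le.2 fun a ha b hb =>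
    N.mul_mem (N.mul_mem (N.mul_mem ha hb) (N.inv_mem ha)) (N.inv_mem hb)
  have hPn : ∀ g ∈ H, ∀ a ∈ P, g * a * g⁻¹ ∈ P := fun g hg => hnorm_comm N g (hn g hg)
  have hPnot : ¬ P ≤ Cfsg.Geo.scalars ι F := fun h => h2 fun a ha b hb =>
    h (Subgroup.commutator_mem_commutator ha hb)
  have hPZ : P ⊔ Z = N := (hmin _ (sup_le hPN inf_le_left) (fun g hg => hnorm_sup P g (hPn g hg))
    (fun z hz hzs => Subgroup.mem_sup_right ⟨hz, hzs⟩)).resolve_left fun h =>
      hPnot (le_sup_left.trans h)
  have hperf : ⁅P, P⁆ = P := by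
    refine le_antisymm (Subgroup.commutator_le.2 fun a ha b hb =>
      P.mul_mem (P.mul_mem (P.mul_mem ha hb) (P.inv_mem ha)) (P.inv_mem hb)) ?_
    calc P = ⁅P ⊔ Z, P ⊔ Z⁆ := by rw [hPZ]
      _ ≤ ⁅P, P⁆ := hsup_comm P
  have hcomZ : ∀ (K : Subgroup (GL ι F)) (M : Matrix ι ι F),
      M ∈ commutant K → M ∈ commutant (K ⊔ Z) := by
    intro K M hM
    refine mem_commutant.2 fun a ha => ?_
    have hle : K ⊔ Z ≤
        { carrier := {a : GL ι F | (a : Matrix ι ι F) * M = M * a}
          one_mem' := by simp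
          mul_mem' := fun {a b} ha hb => by
            show _ = _
            rw [Units.val_mul, mul_assoc, hb, ← mul_assoc, ha, mul_assoc]
          inv_mem' := fun {a} ha => by
            show _ = _
            calc ((a⁻¹ : GL ι F) : Matrix ι ι F) * M
                = ((a⁻¹ : GL ι F) : Matrix ι ι F) * (M * a) *
                  ((a⁻¹ : GL ι F) : Matrix ι ι F) := by
                  rw [mul_assoc, mul_assoc, Units.mul_inv, mul_one]
              _ = M * ((a⁻¹ : GL ι F) : Matrix ι ι F) := by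
                  rw [← ha, Units.inv_mul_cancel_left] } := by
      refine sup_le (fun k hk => mem_commutant.1 hM k hk) fun z hz => ?_
      obtain ⟨c, hc⟩ := (Cfsg.Geo.mem_scalars_iff z).1 hz.2
      show (z : Matrix ι ι F) * M = M * z
      rw [hc, Matrix.smul_mul, one_mul, Matrix.mul_smul, mul_one]
    exact hle ha
  have hPirr : AbsIrr P := by
    refine ⟨irr_iff.2 fun W hW => irr_iff.1 hN.1 W ?_, fun M hM => hN.2 M ?_⟩
    · intro a ha
      have hle : N ≤ Cfsg.Geo.subspaceStabilizer W := by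
        rw [← hPZ]
        refine sup_le (le_subspaceStabilizer hW) (le_subspaceStabilizer ?_)
        intro z hz w hw
        obtain ⟨c, hc⟩ := (Cfsg.Geo.mem_scalars_iff z).1 hz.2
        rw [hc, Matrix.smul_mulVec, Matrix.one_mulVec]
        exact W.smul_mem _ hw
      exact fun w hw => ((mem_subspaceStabilizer.1 (hle ha)) w).1 hw
    · rintro _ ⟨a, ha, rfl⟩
      exact (mem_commutant.1 (hcomZ P M (mem_commutant.2 fun b hb => (hM _ ⟨b, hb, rfl⟩).symm)) a
        (hPZ.ge ha)).symm
  by_cases hsimp : ∀ M ≤ N, (∀ g ∈ N, ∀ a ∈ M, g * a * g⁻¹ ∈ M) → Z ≤ M →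
      M ≤ Cfsg.Geo.scalars ι F ∨ M = N
  · left
    refine ⟨hPirr, hperf, hPn, ?_⟩
    constructor
    · -- simple
      set K := (Cfsg.Geo.scalars ι F).subgroupOf P with hK
      have : Nontrivial (P ⧸ K) := by
        rw [QuotientGroup.nontrivial_iff]
        intro htop
        exact hPnot (Subgroup.subgroupOf_eq_top.1 htop)
      refine ⟨fun M hM => ?_⟩
      let M₁ : Subgroup (GL ι F) := (M.comap (QuotientGroup.mk' K)).map P.subtype ⊔ Z
      have hKle : K ≤ M.comap (QuotientGroup.mk' K) := fun x hx => by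
        rw [Subgroup.mem_comap, QuotientGroup.mk'_apply, (QuotientGroup.eq_one_iff x).2 hx]
        exact M.one_mem
      have hM₁n : ∀ g ∈ N, ∀ a ∈ M₁, g * a * g⁻¹ ∈ M₁ := by
        intro g hg
        refine hnorm_sup _ g ?_
        rintro _ ⟨x, hx, rfl⟩
        -- write `g` as an element of `P` times a scalar
        have hle : N ≤ { carrier := {g | ∃ q ∈ P, ∀ y, g * y * g⁻¹ = q * y * q⁻¹}
                         one_mem' := ⟨1, P.one_mem, fun y => rfl⟩
                         mul_mem' := by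
                           rintro a b ⟨k, hk, hka⟩ ⟨l, hl, hlb⟩
                           refine ⟨k * l, P.mul_mem hk hl, fun y => ?_⟩
                           calc a * b * y * (a * b)⁻¹ = a * (b * y * b⁻¹) * a⁻¹ := by group
                             _ = _ := by rw [hlb, hka]; group
                         inv_mem' := by
                           rintro a ⟨k, hk, hka⟩
                           refine ⟨k⁻¹, P.inv_mem hk, fun y => ?_⟩
                           have := hka (a⁻¹ * y * a)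
                           calc a⁻¹ * y * a⁻¹⁻¹ = k⁻¹ * (k * (a⁻¹ * y * a) * k⁻¹) * k := by group
                             _ = _ := by rw [← this]; group } := by
          rw [← hPZ]
          refine sup_le (fun k hk => ⟨k, hk, fun y => rfl⟩) fun z hz => ⟨1, P.one_mem, fun y => ?_⟩
          rw [scalars_comm hz.2, mul_inv_cancel_right]; group
        obtain ⟨q, hq, hqy⟩ := hle hg
        have hxq : ((⟨q, hq⟩ : P) * x * (⟨q, hq⟩ : P)⁻¹) ∈ M.comap (QuotientGroup.mk' K) :=
          (Subgroup.Normal.comap hM (QuotientGroup.mk' K)).conj_mem x hx _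
        refine Subgroup.mem_map.2 ⟨_, hxq, ?_⟩
        rw [hqy]
        simp only [Subgroup.coe_subtype, Subgroup.coe_mul, Subgroup.coe_inv]
      have hMid : ∀ x : P, (x : GL ι F) ∈ M₁ → QuotientGroup.mk' K x ∈ M := by
        intro x hx
        have hle : M₁ ≤ { carrier := {g | ∃ y : P, QuotientGroup.mk' K y ∈ M ∧
                              g * (y : GL ι F)⁻¹ ∈ Cfsg.Geo.scalars ι F}
                          one_mem' := ⟨1, by simp, by simp⟩
                          mul_mem' := by
                            rintro a b ⟨y, hy, hay⟩ ⟨y', hy', hby⟩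
                            refine ⟨y * y', by rw [map_mul]; exact M.mul_mem hy hy', ?_⟩
                            have h2 := scalars_comm hby (y : GL ι F)⁻¹
                            have : a * b * ((y * y' : P) : GL ι F)⁻¹ =
                                (a * (y : GL ι F)⁻¹) * (b * (y' : GL ι F)⁻¹) := by
                              rw [Subgroup.coe_mul]
                              calc a * b * ((y : GL ι F) * y')⁻¹
                                  = a * ((b * (y' : GL ι F)⁻¹) * (y : GL ι F)⁻¹) := by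
                                    group
                                _ = _ := by rw [h2]; group
                            rw [this]
                            exact Subgroup.mul_mem _ hay hby
                          inv_mem' := by
                            rintro a ⟨y, hy, hay⟩
                            refine ⟨y⁻¹, by rw [map_inv]; exact M.inv_mem hy, ?_⟩
                            have h2 := (inferInstance : (Cfsg.Geo.scalars ι F).Normal).conj_mem
                              _ (Subgroup.inv_mem _ hay) (y : GL ι F)⁻¹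
                            rw [Subgroup.coe_inv, inv_inv]
                            convert h2 using 1
                            group } := by
          refine sup_le ?_ fun z hz => ⟨1, by simp, by simpa using hz.2⟩
          rintro _ ⟨y, hy, rfl⟩
          exact ⟨y, hy, by simp⟩
        obtain ⟨y, hy, hxy⟩ := hle hx
        have heq : QuotientGroup.mk' K x = QuotientGroup.mk' K y := by
          rw [QuotientGroup.mk'_eq_mk']
          refine ⟨x⁻¹ * y, ?_, by group⟩
          rw [hK, Subgroup.mem_subgroupOf]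
          have h2 := (inferInstance : (Cfsg.Geo.scalars ι F).Normal).conj_mem _
            (Subgroup.inv_mem _ hxy) (x : GL ι F)⁻¹
          convert h2 using 1
          simp [mul_assoc]
        rw [heq]; exact hy
      rcases hsimp M₁ (sup_le ((Subgroup.map_subtype_le _).trans hPN) inf_le_left) hM₁n le_sup_right
        with h | h
      · left
        refine eq_bot_iff.2 fun q hq => ?_
        obtain ⟨x, rfl⟩ := QuotientGroup.mk'_surjective K q
        rw [Subgroup.mem_bot, QuotientGroup.mk'_apply, QuotientGroup.eq_one_iff, hK,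
          Subgroup.mem_subgroupOf]
        exact h (Subgroup.mem_sup_left ⟨x, hq, rfl⟩)
      · right
        refine eq_top_iff.2 fun q _ => ?_
        obtain ⟨x, rfl⟩ := QuotientGroup.mk'_surjective K q
        exact hMid x (h.ge (hPN x.2))
    · intro hcom
      apply hPnot
      rw [← hperf, Subgroup.commutator_le]
      intro a ha b hb
      let π := QuotientGroup.mk' ((Cfsg.Geo.scalars ι F).subgroupOf P)
      have h : π ⁅(⟨a, ha⟩ : P), (⟨b, hb⟩ : P)⁆ = 1 := by
        rw [map_commutatorElement, commutatorElement_eq_one_iff_mul_comm]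
        exact mul_comm' _ _
      exact Subgroup.mem_subgroupOf.1 ((QuotientGroup.eq_one_iff _).1 h)
  · right
    push Not at hsimp
    obtain ⟨M₀, hM₀N, hM₀n, hM₀Z, hM₀s, hM₀ne⟩ := hsimp
    obtain ⟨M, ⟨hMle, hMn, hMZ, hMs⟩, hMmin⟩ := (Set.toFinite {M : Subgroup (GL ι F) |
      M ≤ M₀ ∧ (∀ g ∈ N, ∀ a ∈ M, g * a * g⁻¹ ∈ M) ∧ Z ≤ M ∧
        ¬ M ≤ Cfsg.Geo.scalars ι F}).exists_minimal ⟨M₀, le_rfl, hM₀n, hM₀Z, hM₀s⟩
    have hMN : M ≤ N := hMle.trans hM₀N
    have hMneN : M ≠ N := fun h => hM₀ne (le_antisymm hM₀N (h ▸ hMle))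
    -- `M` is not normalised by all of `H`
    obtain ⟨h, hh, a₀, ha₀, hna₀⟩ : ∃ h ∈ H, ∃ a ∈ M, h * a * h⁻¹ ∉ M := by
      by_contra hcon
      push Not at hcon
      exact (hmin M hMN hcon (fun z hz hzs => hMZ ⟨hz, hzs⟩)).elim hMs hMneN
    let M' : Subgroup (GL ι F) := M.map (MulAut.conj h).toMonoidHom
    have hM'N : M' ≤ N := by
      rintro _ ⟨b, hb, rfl⟩
      exact hn h hh b (hMN hb)
    have hM'n : ∀ g ∈ N, ∀ a ∈ M', g * a * g⁻¹ ∈ M' := by
      rintro g hg _ ⟨b, hb, rfl⟩
      refine ⟨(h⁻¹ * g * h) * b * (h⁻¹ * g * h)⁻¹,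
        hMn _ (by simpa using hn h⁻¹ (H.inv_mem hh) g hg) b hb, ?_⟩
      show h * ((h⁻¹ * g * h) * b * (h⁻¹ * g * h)⁻¹) * h⁻¹ = g * (h * b * h⁻¹) * g⁻¹
      group
    -- the intersection is scalar
    have hint : M ⊓ M' ≤ Cfsg.Geo.scalars ι F := by
      by_contra hint
      have h1 : M ≤ M ⊓ M' := hMmin ⟨inf_le_left.trans hMle,
        fun g hg a ha => ⟨hMn g hg a ha.1, hM'n g hg a ha.2⟩,
        le_inf hMZ (fun z hz => ⟨h⁻¹ * z * h, hMZ (by
          rw [mul_assoc, scalars_comm hz.2 h, inv_mul_cancel_left]; exact hz), by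
          show h * (h⁻¹ * z * h) * h⁻¹ = z
          group⟩), hint⟩ inf_le_left
      have hcard : Nat.card M' = Nat.card M := by
        exact (Nat.card_congr (M.equivMapOfInjective _ (MulAut.conj h).injective).toEquiv).symm
      have heq : M = M' := Subgroup.eq_of_le_of_card_ge (h1.trans inf_le_right) hcard.le
      exact hna₀ (heq.symm ▸ ⟨a₀, ha₀, rfl⟩)
    -- `M` is perfect modulo scalars
    have hMcomm : ∀ a ∈ M, ∀ b ∈ M', a * b * a⁻¹ * b⁻¹ ∈ Cfsg.Geo.scalars ι F := by
      intro a ha b hb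
      refine hint ⟨?_, ?_⟩
      · rw [show a * b * a⁻¹ * b⁻¹ = a * (b * a⁻¹ * b⁻¹) by group]
        exact M.mul_mem ha (hMn b (hM'N hb) _ (M.inv_mem ha))
      · exact M'.mul_mem (hM'n a (hMN ha) b hb) (M'.inv_mem hb)
    by_cases hMab : ⁅M, M⁆ ≤ Cfsg.Geo.scalars ι F
    · -- then `N` would be abelian modulo scalars
      let 𝒯 : Set (GL ι F) := {x | ∃ g ∈ H, ∃ a ∈ M, x = g * a * g⁻¹}
      have h𝒯N : Subgroup.closure 𝒯 ≤ N := by
        rw [Subgroup.closure_le]
        rintro _ ⟨g, hg, a, ha, rfl⟩; exact hn g hg a (hMN ha)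
      have h𝒯n : ∀ g ∈ H, ∀ a ∈ Subgroup.closure 𝒯, g * a * g⁻¹ ∈ Subgroup.closure 𝒯 := by
        intro g hg a ha
        have hle : Subgroup.closure 𝒯 ≤
            (Subgroup.closure 𝒯).comap (MulAut.conj g).toMonoidHom := by
          rw [Subgroup.closure_le]
          rintro _ ⟨g', hg', b, hb, rfl⟩
          refine Subgroup.subset_closure ⟨g * g', H.mul_mem hg hg', b, hb, ?_⟩
          show g * (g' * b * g'⁻¹) * g⁻¹ = g * g' * b * (g * g')⁻¹
          group
        exact hle ha
      have h𝒯top : Subgroup.closure 𝒯 = N :=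
        (hmin _ h𝒯N h𝒯n (fun z hz hzs => Subgroup.subset_closure
          ⟨1, H.one_mem, z, hMZ ⟨hz, hzs⟩, by group⟩)).resolve_left fun hs =>
            hMs fun a ha => hs (Subgroup.subset_closure ⟨1, H.one_mem, a, ha, by group⟩)
      -- conjugates of `M` commute modulo scalars
      let π := QuotientGroup.mk' (Cfsg.Geo.scalars ι F)
      have hπ : ∀ {u v}, u * v * u⁻¹ * v⁻¹ ∈ Cfsg.Geo.scalars ι F → π u * π v = π v * π u := by
        intro u v huv
        have h1 : π ⁅u, v⁆ = 1 := (QuotientGroup.eq_one_iff _).2 huv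
        rwa [map_commutatorElement, commutatorElement_eq_one_iff_mul_comm] at h1
      have h𝒯comm : ∀ x ∈ 𝒯, ∀ y ∈ 𝒯, π x * π y = π y * π x := by
        rintro _ ⟨g, hg, a, ha, rfl⟩ _ ⟨g', hg', b, hb, rfl⟩
        apply hπ
        set c := g⁻¹ * g' with hc
        have hcH : c ∈ H := H.mul_mem (H.inv_mem hg) hg'
        have key : a * (c * b * c⁻¹) * a⁻¹ * (c * b * c⁻¹)⁻¹ ∈ Cfsg.Geo.scalars ι F := by
          let M'' : Subgroup (GL ι F) := M.map (MulAut.conj c).toMonoidHom
          by_cases hsame : M'' = M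
          · exact hMab (Subgroup.commutator_mem_commutator ha (hsame ▸ ⟨b, hb, rfl⟩))
          · have hM''n : ∀ g ∈ N, ∀ a ∈ M'', g * a * g⁻¹ ∈ M'' := by
              rintro g₁ hg₁ _ ⟨b₁, hb₁, rfl⟩
              refine ⟨(c⁻¹ * g₁ * c) * b₁ * (c⁻¹ * g₁ * c)⁻¹,
                hMn _ (by simpa using hn c⁻¹ (H.inv_mem hcH) g₁ hg₁) b₁ hb₁, ?_⟩
              show c * ((c⁻¹ * g₁ * c) * b₁ * (c⁻¹ * g₁ * c)⁻¹) * c⁻¹ = g₁ * (c * b₁ * c⁻¹) * g₁⁻¹
              group
            have hint' : M ⊓ M'' ≤ Cfsg.Geo.scalars ι F := by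
              by_contra hint'
              have h1 : M ≤ M ⊓ M'' := hMmin ⟨inf_le_left.trans hMle,
                fun g hg a ha => ⟨hMn g hg a ha.1, hM''n g hg a ha.2⟩,
                le_inf hMZ (fun z hz => ⟨c⁻¹ * z * c, hMZ (by
                  rw [mul_assoc, scalars_comm hz.2 c, inv_mul_cancel_left]; exact hz), by
                  show c * (c⁻¹ * z * c) * c⁻¹ = z
                  group⟩), hint'⟩ inf_le_left
              have hcard : Nat.card M'' = Nat.card M :=
                (Nat.card_congr (M.equivMapOfInjective _ (MulAut.conj c).injective).toEquiv).symm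
              exact hsame (Subgroup.eq_of_le_of_card_ge (h1.trans inf_le_right) hcard.le).symm
            have hb'' : c * b * c⁻¹ ∈ M'' := ⟨b, hb, rfl⟩
            refine hint' ⟨?_, ?_⟩
            · rw [show a * (c * b * c⁻¹) * a⁻¹ * (c * b * c⁻¹)⁻¹ =
                a * ((c * b * c⁻¹) * a⁻¹ * (c * b * c⁻¹)⁻¹) by group]
              exact M.mul_mem ha (hMn _ (hn c hcH b (hMN hb)) _ (M.inv_mem ha))
            · exact M''.mul_mem (hM''n a (hMN ha) _ hb'') (M''.inv_mem hb'')
        have := (inferInstance : (Cfsg.Geo.scalars ι F).Normal).conj_mem _ key g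
        convert this using 1
        rw [hc]; group
      exfalso
      apply h2
      intro a ha b hb
      rw [← h𝒯top] at ha hb
      have hcom : π a * π b = π b * π a :=
        Subgroup.closure_induction₂ (p := fun a b _ _ => π a * π b = π b * π a)
          (fun a b ha hb => h𝒯comm a ha b hb) (fun a _ => by simp) (fun a _ => by simp)
          (fun a b c _ _ _ h1 h2 => by rw [map_mul, mul_assoc, h2, ← mul_assoc, h1, mul_assoc])
          (fun a b c _ _ _ h1 h2 => by rw [map_mul, ← mul_assoc, h1, mul_assoc, h2, mul_assoc])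
          (fun a b _ _ h => by rw [map_inv]; exact Commute.inv_left h)
          (fun a b _ _ h => by rw [map_inv]; exact Commute.inv_right h) ha hb
      rw [← QuotientGroup.eq_one_iff, ← commutatorElement_def]
      show π ⁅a, b⁆ = 1
      rw [map_commutatorElement, commutatorElement_eq_one_iff_mul_comm]
      exact hcom
    · -- `M` perfect modulo scalars; its conjugate centralises it
      have hMder : ⁅M, M⁆ ⊔ Z = M := by
        refine le_antisymm (sup_le (Subgroup.commutator_le.2 fun a ha b hb =>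
          M.mul_mem (M.mul_mem (M.mul_mem ha hb) (M.inv_mem ha)) (M.inv_mem hb)) hMZ) ?_
        exact hMmin ⟨(sup_le (Subgroup.commutator_le.2 fun a ha b hb =>
            M.mul_mem (M.mul_mem (M.mul_mem ha hb) (M.inv_mem ha)) (M.inv_mem hb)) hMZ).trans hMle,
          fun g hg => hnorm_sup _ g (hnorm_comm M g (hMn g hg)), le_sup_right,
          fun hs => hMab (le_sup_left.trans hs)⟩ (sup_le (Subgroup.commutator_le.2 fun a ha b hb =>
          M.mul_mem (M.mul_mem (M.mul_mem ha hb) (M.inv_mem ha)) (M.inv_mem hb)) hMZ)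
      set Q := ⁅M, M⁆ with hQ
      have hQperf : ⁅Q, Q⁆ = Q := by
        refine le_antisymm (Subgroup.commutator_le.2 fun a ha b hb =>
          Q.mul_mem (Q.mul_mem (Q.mul_mem ha hb) (Q.inv_mem ha)) (Q.inv_mem hb)) ?_
        calc Q = ⁅Q ⊔ Z, Q ⊔ Z⁆ := by rw [hMder]
          _ ≤ ⁅Q, Q⁆ := hsup_comm Q
      have hQn : ∀ g ∈ N, ∀ a ∈ Q, g * a * g⁻¹ ∈ Q := fun g hg => hnorm_comm M g (hMn g hg)
      have hQM : Q ≤ M := le_sup_left.trans hMder.le
      let MC : GL ι F → Subgroup (GL ι F) := fun c => M.map (MulAut.conj c).toMonoidHom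
      have hMCmem : ∀ c x, x ∈ MC c ↔ c⁻¹ * x * c ∈ M := by
        intro c x
        constructor
        · rintro ⟨y, hy, rfl⟩
          simpa [mul_assoc] using hy
        · intro hx
          exact ⟨_, hx, show c * (c⁻¹ * x * c) * c⁻¹ = x by group⟩
      have hQsup : ∀ c, Q.map (MulAut.conj c).toMonoidHom ⊔ Z = MC c := by
        intro c
        have hZc : Z.map (MulAut.conj c).toMonoidHom = Z := by
          ext z
          constructor
          · rintro ⟨y, hy, rfl⟩; exact hconjZ c y hy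
          · intro hz
            exact ⟨_, hconjZ c⁻¹ z hz, show c * (c⁻¹ * z * c⁻¹⁻¹) * c⁻¹ = z by group⟩
        show _ = M.map _
        conv_rhs => rw [← hMder, Subgroup.map_sup, hZc]
      refine ⟨Q, hMab, hQperf, hQM.trans hMN, ⟨h, hh, fun heq => hna₀ ?_⟩, ?_, ?_⟩
      · have h1 : MC h = M := by rw [← hQsup, heq, hMder]
        exact h1 ▸ ⟨a₀, ha₀, rfl⟩
      · rintro c hc d hd hne _ ⟨x, hx, rfl⟩ y hy
        set c' := c⁻¹ * d with hc'
        have hc'H : c' ∈ H := H.mul_mem (H.inv_mem hc) hd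
        have hne' : MC c' ≠ M := by
          intro heq
          apply hne
          have hQc' : Q.map (MulAut.conj c').toMonoidHom = Q := by
            rw [hQ, Subgroup.map_commutator]
            exact congrArg₂ (fun A B : Subgroup (GL ι F) => ⁅A, B⁆) heq heq
          ext z
          constructor
          · rintro ⟨w, hw, rfl⟩
            obtain ⟨v, hv, hvw⟩ := hQc'.ge hw
            refine ⟨v, hv, ?_⟩
            rw [← hvw]
            show d * v * d⁻¹ = c * (c' * v * c'⁻¹) * c⁻¹
            rw [hc']; group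
          · rintro ⟨w, hw, rfl⟩
            refine ⟨c' * w * c'⁻¹, hQc'.le ⟨w, hw, rfl⟩, ?_⟩
            show c * (c' * w * c'⁻¹) * c⁻¹ = d * w * d⁻¹
            rw [hc']; group
        have hMCn : ∀ g ∈ N, ∀ a ∈ MC c', g * a * g⁻¹ ∈ MC c' := by
          intro g hg a ha
          rw [hMCmem] at ha ⊢
          have hg' : c'⁻¹ * g * c' ∈ N := by simpa using hn c'⁻¹ (H.inv_mem hc'H) g hg
          have := hMn _ hg' _ ha
          convert this using 1
          group
        have hint' : M ⊓ MC c' ≤ Cfsg.Geo.scalars ι F := by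
          by_contra hint'
          have h1 : M ≤ M ⊓ MC c' := hMmin ⟨inf_le_left.trans hMle,
            fun g hg a ha => ⟨hMn g hg a ha.1, hMCn g hg a ha.2⟩,
            le_inf hMZ (fun z hz => (hMCmem c' z).2 (by simpa using hMZ (hconjZ c'⁻¹ z hz))),
            hint'⟩ inf_le_left
          have hcard : Nat.card (MC c') = Nat.card M :=
            (Nat.card_congr (M.equivMapOfInjective _ (MulAut.conj c').injective).toEquiv).symm
          exact hne' (Subgroup.eq_of_le_of_card_ge (h1.trans inf_le_right) hcard.le).symm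
        have hy' : c⁻¹ * y * c ∈ MC c' := by
          obtain ⟨w, hw, rfl⟩ := hy
          rw [hMCmem]
          have hwM := hQM hw
          convert hwM using 1
          show (c⁻¹ * d)⁻¹ * (c⁻¹ * (d * w * d⁻¹) * c) * (c⁻¹ * d) = w
          group
        have hy'N : c⁻¹ * y * c ∈ N := by
          obtain ⟨w, hw, hwy⟩ := hy'
          rw [← hwy]
          exact hn c' hc'H w (hMN hw)
        have hcomm' : (c⁻¹ * y * c) * x = x * (c⁻¹ * y * c) := by
          refine commutator_mem_scalars_comm hQperf (fun q hq => hint' ⟨?_, ?_⟩) x hx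
          · exact M.mul_mem (hMn _ hy'N q (hQM hq)) (M.inv_mem (hQM hq))
          · rw [show c⁻¹ * y * c * q * (c⁻¹ * y * c)⁻¹ * q⁻¹ =
              c⁻¹ * y * c * (q * (c⁻¹ * y * c)⁻¹ * q⁻¹) by group]
            exact (MC c').mul_mem hy' (hMCn q (hMN (hQM hq)) _ ((MC c').inv_mem hy'))
        show c * x * c⁻¹ * y = y * (c * x * c⁻¹)
        calc c * x * c⁻¹ * y = c * (x * (c⁻¹ * y * c)) * c⁻¹ := by group
          _ = _ := by rw [← hcomm']; group
      · let 𝒰 : Set (GL ι F) := ⋃ c ∈ H, (Q.map (MulAut.conj c).toMonoidHom : Set (GL ι F))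
        have hUN : Subgroup.closure 𝒰 ≤ N := by
          rw [Subgroup.closure_le]
          intro x hx
          obtain ⟨c, hc, w, hw, rfl⟩ := Set.mem_iUnion₂.1 hx
          exact hn c hc w (hMN (hQM hw))
        have hUn : ∀ g ∈ H, ∀ a ∈ Subgroup.closure 𝒰, g * a * g⁻¹ ∈ Subgroup.closure 𝒰 := by
          intro g hg a ha
          have hle : Subgroup.closure 𝒰 ≤
              (Subgroup.closure 𝒰).comap (MulAut.conj g).toMonoidHom := by
            rw [Subgroup.closure_le]
            intro x hx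
            obtain ⟨c, hc, w, hw, rfl⟩ := Set.mem_iUnion₂.1 hx
            refine Subgroup.subset_closure (Set.mem_iUnion₂.2 ⟨g * c, H.mul_mem hg hc, w, hw, ?_⟩)
            show g * c * w * (g * c)⁻¹ = g * (c * w * c⁻¹) * g⁻¹
            group
          exact hle ha
        have htop : Subgroup.closure 𝒰 ⊔ Z = N :=
          (hmin _ (sup_le hUN inf_le_left) (fun g hg => hnorm_sup _ g (hUn g hg))
            (fun z hz hzs => Subgroup.mem_sup_right ⟨hz, hzs⟩)).resolve_left fun hs => hMab fun a ha =>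
              hs (Subgroup.mem_sup_left (Subgroup.subset_closure
                (Set.mem_iUnion₂.2 ⟨1, H.one_mem, a, ha, show 1 * a * 1⁻¹ = a by group⟩)))
        exact htop.ge.trans (sup_le_sup_left inf_le_right _)

/-- Commuting conjugates generating an absolutely irreducible group give a family of commuting full
matrix algebras, permuted transitively. -/
theorem exists_family_of_factors [Finite F] [Nonempty ι]
    {H N Q : Subgroup (GL ι F)} (hN : AbsIrr N) (hQs : ¬ Q ≤ Cfsg.Geo.scalars ι F)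
    (hne : ∃ c ∈ H, Q.map (MulAut.conj c).toMonoidHom ≠ Q)
    (hcomm : ∀ c ∈ H, ∀ d ∈ H,
      Q.map (MulAut.conj c).toMonoidHom ≠ Q.map (MulAut.conj d).toMonoidHom →
        ∀ x ∈ Q.map (MulAut.conj c).toMonoidHom, ∀ y ∈ Q.map (MulAut.conj d).toMonoidHom,
          x * y = y * x)
    (hgen : N ≤ Subgroup.closure
      (⋃ c ∈ H, (Q.map (MulAut.conj c).toMonoidHom : Set (GL ι F))) ⊔
        Cfsg.Geo.scalars ι F) :
    ∃ (t m : ℕ) (E : Fin t → Fin m → Fin m → Matrix ι ι F) (X : Fin t → Subgroup (GL ι F)),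
      2 ≤ t ∧ 2 ≤ m ∧ (∀ i, IsUnits (E i)) ∧
      (∀ i j, i ≠ j → ∀ k l k' l', Commute (E i k l) (E j k' l')) ∧
      (∀ M : Matrix ι ι F, (∀ i k l, Commute M (E i k l)) → ∃ c : F, M = c • (1 : Matrix ι ι F)) ∧
      (∀ i, ∃ c ∈ H, X i = Q.map (MulAut.conj c).toMonoidHom) ∧
      (∀ i k l, E i k l ∈ envelope (X i)) ∧
      (∀ i, envelope (X i) ≤ Submodule.span F (Set.range fun p : Fin m × Fin m => E i p.1 p.2)) ∧
      (∀ g ∈ H, ∃ σ : Equiv.Perm (Fin t), ∀ i k l,
        (g : Matrix ι ι F) * E i k l * ((g⁻¹ : GL ι F) : Matrix ι ι F) ∈ envelope (X (σ i))) ∧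
      ∀ i j, ∃ g ∈ H, ∀ k l,
        (g : Matrix ι ι F) * E i k l * ((g⁻¹ : GL ι F) : Matrix ι ι F) ∈ envelope (X j) := by
  classical
  let QC : GL ι F → Subgroup (GL ι F) :=
    fun c => Q.map (MulAut.conj c).toMonoidHom
  let T : Set (Subgroup (GL ι F)) := {X | ∃ c ∈ H, QC c = X}
  have : Fintype T := Fintype.ofFinite _
  let e : Fin (Fintype.card T) ≃ T := (Fintype.equivFin T).symm
  choose cT hcT hcTQ using fun i => (e i).2
  have hQ1 : QC 1 = Q := by
    ext x
    constructor
    · rintro ⟨y, hy, rfl⟩; simpa using hy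
    · exact fun hx => ⟨x, hx, by simp⟩
  have hQC : ∀ c, c ∈ H → ∃ i, QC c = QC (cT i) := fun c hc =>
    ⟨e.symm ⟨_, c, hc, rfl⟩, by rw [hcTQ, Equiv.apply_symm_apply]⟩
  have hinjQ : ∀ i j, QC (cT i) = QC (cT j) → i = j := fun i j h =>
    e.injective (Subtype.ext (by rw [← hcTQ, ← hcTQ, h]))
  have htwo : 2 ≤ Fintype.card T := by
    obtain ⟨c, hc, hcQ⟩ := hne
    exact Fintype.one_lt_card_iff.2 ⟨⟨QC c, c, hc, rfl⟩, ⟨QC 1, 1, H.one_mem, rfl⟩,
      fun h => hcQ ((congrArg Subtype.val h).trans hQ1)⟩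
  -- every factor with the elements commuting with it generates
  have hgenX : ∀ c ∈ H, N ≤ QC c ⊔ Subgroup.centralizer (QC c : Set (GL ι F)) := by
    intro c hc
    refine hgen.trans (sup_le ((Subgroup.closure_le _).2 fun x hx => ?_) fun z hz => ?_)
    · obtain ⟨d, hd, hxd⟩ := Set.mem_iUnion₂.1 hx
      by_cases h : QC d = QC c
      · exact Subgroup.mem_sup_left (h ▸ hxd)
      · exact Subgroup.mem_sup_right (Subgroup.mem_centralizer_iff.2 fun y hy =>
          (hcomm d hd c hc h x hxd y hy).symm)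
    · exact Subgroup.mem_sup_right (Subgroup.mem_centralizer_iff.2 fun y _ =>
        (scalars_comm hz y).symm)
  -- commuting with all the factors
  have hscalar : ∀ M : Matrix ι ι F, (∀ c ∈ H, M ∈ commutant (QC c)) →
      ∃ a : F, M = a • (1 : Matrix ι ι F) := by
    intro M hM
    refine hN.2 M ?_
    rintro _ ⟨x, hx, rfl⟩
    let C : Subgroup (GL ι F) :=
      { carrier := {x | M * (x : Matrix ι ι F) = (x : Matrix ι ι F) * M}
        one_mem' := by simp
        mul_mem' := fun {a b} ha hb => by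
          show M * _ = _
          rw [Units.val_mul, ← mul_assoc, ha, mul_assoc, hb, mul_assoc]
        inv_mem' := fun {a} ha => by
          show M * _ = _
          calc M * ((a⁻¹ : GL ι F) : Matrix ι ι F)
              = ((a⁻¹ : GL ι F) : Matrix ι ι F) * ((a : Matrix ι ι F) * M) *
                  ((a⁻¹ : GL ι F) : Matrix ι ι F) := by simp [← mul_assoc]
            _ = _ := by rw [← ha]; simp [mul_assoc] }
    refine (hgen.trans (sup_le ((Subgroup.closure_le C).2 fun y hy => ?_) fun z hz => ?_)) hx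
    · obtain ⟨d, hd, hyd⟩ := Set.mem_iUnion₂.1 hy
      exact (mem_commutant.1 (hM d hd) y hyd).symm
    · obtain ⟨a, rfl⟩ := mem_scalars.1 hz
      show M * _ = _
      rw [scalarGL_val, Matrix.mul_smul, mul_one, Matrix.smul_mul, one_mul]
  obtain ⟨S, -, hS⟩ := exists_minInv (inv_top Q) (top_ne_bot (α := Submodule F (ι → F)))
  have hf : ann Q S = ⊥ := faithful_of_commuting hN.1 (by simpa [hQ1] using hgenX 1 H.one_mem) hS
  have henvc : ∀ c ∈ H, ∀ d ∈ H, QC c ≠ QC d → ∀ X ∈ envelope (QC c), ∀ Y ∈ envelope (QC d),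
      Commute X Y := by
    intro c hc d hd hcd X hX Y hY
    refine mem_commutant_comm ?_ hX
    refine mem_commutant.2 fun a ha => ?_
    refine (mem_commutant_comm (A := QC d) (mem_commutant.2 fun b hb => ?_) hY).symm
    exact congrArg Units.val (hcomm c hc d hd hcd a ha b hb).symm
  obtain ⟨E, hE, hEmem, hEspan⟩ := exists_units_of_faithful hS hf (fun M hM hMc => by
    refine hscalar M fun c hc => ?_
    by_cases h : QC c = Q
    · rw [h]; exact hMc
    · refine mem_commutant.2 fun a ha => ?_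
      exact henvc c hc 1 H.one_mem (fun h' => h (h'.trans hQ1)) _ (mem_envelope ha) M (by rwa [hQ1]))
  have hm : 2 ≤ finrank F S := by
    have h0 : finrank F S ≠ 0 := fun h => hS.ne_bot (Submodule.finrank_eq_zero.1 h)
    by_contra hlt
    apply hQs
    refine le_scalars_of_commutant fun a ha => ?_
    obtain ⟨c, hc⟩ := (Submodule.mem_span_range_iff_exists_fun F).1 (hEspan (mem_envelope ha))
    have hsub : Subsingleton (Fin (finrank F S)) := Fin.subsingleton_iff_le_one.2 (by omega)
    let i₀ : Fin (finrank F S) := ⟨0, by omega⟩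
    have h00 : E i₀ i₀ = 1 := by
      rw [← hE.sum]
      rw [Finset.sum_eq_single i₀ (fun b _ hb => absurd (Subsingleton.elim b i₀) hb) (by simp)]
    refine ⟨∑ p, c p, ?_⟩
    rw [← hc, Finset.sum_smul]
    refine Finset.sum_congr rfl fun p _ => ?_
    rw [Subsingleton.elim p.1 i₀, Subsingleton.elim p.2 i₀, h00]
  have hQCenv : ∀ (c : GL ι F) (X : Matrix ι ι F),
      X ∈ envelope (QC c) ↔
        ((c⁻¹ : GL ι F) : Matrix ι ι F) * X * (c : Matrix ι ι F) ∈
          envelope Q := by
    intro c X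
    constructor
    · intro hX
      refine Submodule.span_induction ?_ ?_ ?_ ?_ hX
      · rintro _ ⟨_, ⟨w, hw, rfl⟩, rfl⟩
        convert mem_envelope hw using 1
        simp [mul_assoc]
      · simp
      · intro x y _ _ hx hy; rw [mul_add, add_mul]; exact add_mem hx hy
      · intro a x _ hx; rw [Matrix.mul_smul, Matrix.smul_mul]; exact Submodule.smul_mem _ a hx
    · intro hX
      have hX' : X = (c : Matrix ι ι F) * (((c⁻¹ : GL ι F) : Matrix ι ι F) *
          X * (c : Matrix ι ι F)) * ((c⁻¹ : GL ι F) : Matrix ι ι F) := by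
        simp [← mul_assoc]
      rw [hX']
      refine Submodule.span_induction ?_ ?_ ?_ ?_ hX
      · rintro _ ⟨w, hw, rfl⟩
        exact Submodule.subset_span ⟨c * w * c⁻¹, ⟨w, hw, rfl⟩, by simp⟩
      · simp
      · intro x y _ _ hx hy; rw [mul_add, add_mul]; exact add_mem hx hy
      · intro a x _ hx; rw [Matrix.mul_smul, Matrix.smul_mul]; exact Submodule.smul_mem _ a hx
  let EC : Fin (Fintype.card T) → Fin (finrank F S) → Fin (finrank F S) → Matrix ι ι F :=
    fun i k l => (cT i : Matrix ι ι F) * E k l *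
      (((cT i)⁻¹ : GL ι F) : Matrix ι ι F)
  have hEC : ∀ i, IsUnits (EC i) := by
    intro i
    refine ⟨fun a b c d => ?_, ?_⟩
    · calc EC i a b * EC i c d = (cT i : Matrix ι ι F) * (E a b * E c d) *
            (((cT i)⁻¹ : GL ι F) : Matrix ι ι F) := by simp [EC, mul_assoc]
        _ = _ := by rw [hE.mul]; split <;> simp [EC]
    · simp only [EC, ← Finset.sum_mul, ← Finset.mul_sum, hE.sum, mul_one, Units.mul_inv]
  have hECmem : ∀ i k l, EC i k l ∈ envelope (QC (cT i)) := by
    intro i k l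
    rw [hQCenv]
    simpa [EC, mul_assoc] using hEmem k l
  have hECspan : ∀ i, envelope (QC (cT i)) ≤
      Submodule.span F (Set.range fun p : Fin (finrank F S) × Fin (finrank F S) => EC i p.1 p.2) := by
    intro i X hX
    obtain ⟨c, hc⟩ := (Submodule.mem_span_range_iff_exists_fun F).1 (hEspan ((hQCenv _ _).1 hX))
    refine (Submodule.mem_span_range_iff_exists_fun F).2 ⟨c, ?_⟩
    have h1 := congrArg (fun Y => (cT i : Matrix ι ι F) * Y *
      (((cT i)⁻¹ : GL ι F) : Matrix ι ι F)) hc
    simpa [EC, Finset.mul_sum, Finset.sum_mul, ← mul_assoc] using h1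
  have hcomp : ∀ (a b : GL ι F), QC (a * b) = (QC b).map (MulAut.conj a).toMonoidHom := by
    intro a b
    simp only [QC, Subgroup.map_map]
    congr 1
    ext x
    simp [mul_assoc]
  have hmove : ∀ g i j, QC (g * cT i) = QC (cT j) → ∀ k l,
      (g : Matrix ι ι F) * EC i k l * ((g⁻¹ : GL ι F) : Matrix ι ι F) ∈ envelope (QC (cT j)) := by
    intro g i j h k l
    rw [← h, hQCenv]
    simpa [EC, mul_assoc] using hEmem k l
  refine ⟨Fintype.card T, finrank F S, EC, fun i => QC (cT i), htwo, hm, hEC,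
    fun i j hij k l k' l' => henvc _ (hcT i) _ (hcT j) (fun h => hij (hinjQ i j h)) _
      (hECmem i k l) _ (hECmem j k' l'), ?_, fun i => ⟨cT i, hcT i, rfl⟩, hECmem, hECspan,
    fun g hg => ?_, fun i j => ⟨cT j * (cT i)⁻¹, H.mul_mem (hcT j) (H.inv_mem (hcT i)),
      hmove _ i j (by rw [inv_mul_cancel_right])⟩⟩
  · intro M hM
    refine hscalar M fun c hc => mem_commutant.2 fun a ha => ?_
    obtain ⟨i, hi⟩ := hQC c hc
    obtain ⟨co, hco⟩ := (Submodule.mem_span_range_iff_exists_fun F).1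
      (hECspan i (mem_envelope (hi ▸ ha : a ∈ QC (cT i))))
    rw [← hco, Finset.sum_mul, Finset.mul_sum]
    refine Finset.sum_congr rfl fun p _ => ?_
    rw [Matrix.smul_mul, Matrix.mul_smul, (hM i p.1 p.2).eq]
  · choose σ hσ using fun i => hQC (g * cT i) (H.mul_mem hg (hcT i))
    have hσinj : Function.Injective σ := by
      intro i j h
      refine hinjQ i j ?_
      have h1 : QC (g * cT i) = QC (g * cT j) := by rw [hσ i, hσ j, h]
      rw [hcomp, hcomp] at h1
      exact Subgroup.map_injective (MulAut.conj g).injective h1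
    exact ⟨Equiv.ofBijective σ (Finite.injective_iff_bijective.1 hσinj),
      fun i => hmove g i _ (hσ i)⟩

/-- Commuting conjugates generating an absolutely irreducible group give a tensor decomposition. -/
theorem exists_class_of_factors [Fintype F] {n : ℕ} (hn : 3 ≤ n)
    {H N Q : Subgroup (GL (Fin n) F)} (hN : AbsIrr N) (hQs : ¬ Q ≤ Cfsg.Geo.scalars (Fin n) F)
    (hne : ∃ c ∈ H, Q.map (MulAut.conj c).toMonoidHom ≠ Q)
    (hcomm : ∀ c ∈ H, ∀ d ∈ H,
      Q.map (MulAut.conj c).toMonoidHom ≠ Q.map (MulAut.conj d).toMonoidHom →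
        ∀ x ∈ Q.map (MulAut.conj c).toMonoidHom, ∀ y ∈ Q.map (MulAut.conj d).toMonoidHom,
          x * y = y * x)
    (hgen : N ≤ Subgroup.closure
      (⋃ c ∈ H, (Q.map (MulAut.conj c).toMonoidHom : Set (GL (Fin n) F))) ⊔
        Cfsg.Geo.scalars (Fin n) F) :
    ∃ M : Subgroup (GL (Fin n) F), InLinearClass' n F M ∧ H ≤ M := by
  have : Nonempty (Fin n) := ⟨⟨0, by omega⟩⟩
  obtain ⟨t, m, E, X, ht, hm, hE, hc, hscal, -, -, hspan, hperm, -⟩ :=
    exists_family_of_factors hN hQs hne hcomm hgen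
  exact exists_class_of_family hn ht hm hE hc hscal fun g hg =>
    (hperm g hg).imp fun σ hσ i k l => hspan _ (hσ i k l)

end CfsgLib.Aschbacher
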