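import Cfsg.Agent.Lib.Aschbacher.SympEight

/-!
Over three elements the normaliser of a field of nine elements, acting on a symplectic four-space
without being self-adjoint, normalises an extraspecial group of order 32.
-/

set_option autoImplicit false
set_option linter.unusedVariables false

namespace CfsgLib.Aschbacher

open Matrix Module

variable {ι : Type} [Fintype ι] [DecidableEq ι] {F : Type*} [Field F]

namespace FieldNine

/-- The frame form, and the operator of order four. -/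
def J₀ (F : Type*) [Field F] : Matrix (Fin 4) (Fin 4) F :=
  !![0, -1, 0, 0; 1, 0, 0, 0; 0, 0, 0, -1; 0, 0, 1, 0]

/-- The first quaternion. -/
def B₁ (F : Type*) [Field F] : Matrix (Fin 4) (Fin 4) F :=
  !![0, -1, 0, 0; 1, 0, 0, 0; 0, 0, 0, 1; 0, 0, -1, 0]

/-- The second quaternion. -/
def B₂ (F : Type*) [Field F] : Matrix (Fin 4) (Fin 4) F :=
  !![0, 0, 1, 0; 0, 0, 0, 1; -1, 0, 0, 0; 0, -1, 0, 0]

/-- The semilinear involution commuting with the quaternions. -/
def A₀ (F : Type*) [Field F] : Matrix (Fin 4) (Fin 4) F :=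
  !![0, 0, 1, 1; 0, 0, 1, -1; -1, -1, 0, 0; -1, 1, 0, 0]

/-- The product of the involution with the first quaternion. -/
def C₀ (F : Type*) [Field F] : Matrix (Fin 4) (Fin 4) F :=
  !![0, 0, -1, 1; 0, 0, 1, 1; -1, 1, 0, 0; 1, 1, 0, 0]

lemma sq_J₀ : J₀ F * J₀ F = -1 := by
  ext i j; fin_cases i <;> fin_cases j <;> simp [J₀, Matrix.mul_apply, Fin.sum_univ_four]

lemma sq_B₁ : B₁ F * B₁ F = -1 := by
  ext i j; fin_cases i <;> fin_cases j <;> simp [B₁, Matrix.mul_apply, Fin.sum_univ_four]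

lemma sq_B₂ : B₂ F * B₂ F = -1 := by
  ext i j; fin_cases i <;> fin_cases j <;> simp [B₂, Matrix.mul_apply, Fin.sum_univ_four]

lemma sq_C₀ (h3 : (3 : F) = 0) : C₀ F * C₀ F = -1 := by
  ext i j; fin_cases i <;> fin_cases j <;> simp [C₀, Matrix.mul_apply, Fin.sum_univ_four] <;>
    first | ring1 | linear_combination h3

lemma sq_A₀ (h3 : (3 : F) = 0) : A₀ F * A₀ F = 1 := by
  ext i j; fin_cases i <;> fin_cases j <;> simp [A₀, Matrix.mul_apply, Fin.sum_univ_four] <;>
    first | ring1 | linear_combination -h3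

lemma AB₁ : A₀ F * B₁ F = C₀ F := by
  ext i j; fin_cases i <;> fin_cases j <;> simp [A₀, B₁, C₀, Matrix.mul_apply, Fin.sum_univ_four]

lemma rels : B₁ F * B₂ F = -(B₂ F * B₁ F) ∧ J₀ F * B₁ F = B₁ F * J₀ F ∧
    J₀ F * B₂ F = B₂ F * J₀ F ∧ C₀ F * B₁ F = B₁ F * C₀ F ∧ C₀ F * B₂ F = -(B₂ F * C₀ F) ∧
    C₀ F * J₀ F = -(J₀ F * C₀ F) ∧ A₀ F * B₁ F = B₁ F * A₀ F ∧ A₀ F * B₂ F = B₂ F * A₀ F ∧
    A₀ F * J₀ F = -(J₀ F * A₀ F) := by
  refine ⟨?_, ?_, ?_, ?_, ?_, ?_, ?_, ?_, ?_⟩ <;> ext i j <;> fin_cases i <;> fin_cases j <;>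
    simp [J₀, B₁, B₂, A₀, C₀, Matrix.mul_apply, Fin.sum_univ_four]

lemma sims (h3 : (3 : F) = 0) : (J₀ F)ᵀ * J₀ F * J₀ F = J₀ F ∧ (B₁ F)ᵀ * J₀ F * B₁ F = J₀ F ∧
    (B₂ F)ᵀ * J₀ F * B₂ F = J₀ F ∧ (C₀ F)ᵀ * J₀ F * C₀ F = J₀ F ∧
    (A₀ F)ᵀ * J₀ F * A₀ F = J₀ F := by
  refine ⟨?_, ?_, ?_, ?_, ?_⟩ <;> ext i j <;> fin_cases i <;> fin_cases j <;>
    simp [J₀, B₁, B₂, A₀, C₀, Matrix.mul_apply, Fin.sum_univ_four] <;>
    first | ring1 | linear_combination h3 | linear_combination -h3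

/-- The isometries of order four commuting with the operator are the six quaternions. -/
theorem six [Fintype F] (hq : Fintype.card F = 3) {y : Matrix (Fin 4) (Fin 4) F}
    (hc : y * J₀ F = J₀ F * y) (hs : yᵀ * J₀ F * y = J₀ F) (h4 : y * y = -1)
    (h1 : y ≠ J₀ F) (h1' : y ≠ -J₀ F) :
    y = B₁ F ∨ y = -B₁ F ∨ y = B₂ F ∨ y = -B₂ F ∨ y = B₁ F * B₂ F ∨ y = -(B₁ F * B₂ F) := by
  have h2 : (2 : F) ≠ 0 := fun h => two_eq_zero_iff.1 h (by rw [hq]; decide)
  have hF : ∀ x : F, x = 0 ∨ x = 1 ∨ x = -1 := fun x => by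
    by_cases hx : x = 0
    · exact Or.inl hx
    · have := FiniteField.pow_card_sub_one_eq_one x hx
      rw [hq, show (3 : ℕ) - 1 = 2 from rfl, sq] at this
      exact Or.inr (mul_self_eq_one_iff.1 this)
  have hsym : yᵀ * J₀ F = -(J₀ F * y) := by
    have h := congrArg (· * y) hs
    simp only [mul_assoc, h4, mul_neg, mul_one] at h
    rw [← h, neg_neg]
  have E : ∀ i j, (y * J₀ F) i j = (J₀ F * y) i j := fun i j => by rw [hc]
  have S : ∀ i j, (yᵀ * J₀ F) i j = (-(J₀ F * y)) i j := fun i j => by rw [hsym]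
  have Q : ∀ i j, (y * y) i j = (-1 : Matrix (Fin 4) (Fin 4) F) i j := fun i j => by rw [h4]
  have a00 := E 0 0; have a01 := E 0 1; have a02 := E 0 2; have a03 := E 0 3
  have a20 := E 2 0; have a21 := E 2 1; have a22 := E 2 2; have a23 := E 2 3
  have b01 := S 0 1; have b23 := S 2 3; have b02 := S 0 2; have b03 := S 0 3
  simp [J₀, Matrix.mul_apply, Matrix.vecMul, dotProduct, Fin.sum_univ_four] at a00 a01 a02 a03 a20 a21 a22 a23 b01 b23 b02 b03
  have e00 : y 0 0 = 0 := (mul_eq_zero.1 (show (2 : F) * y 0 0 = 0 by linear_combination -b01 + a01)).resolve_left h2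
  have e22 : y 2 2 = 0 := (mul_eq_zero.1 (show (2 : F) * y 2 2 = 0 by linear_combination -b23 + a23)).resolve_left h2
  have hy : y = !![0, -(y 1 0), y 0 2, -(y 1 2); y 1 0, 0, y 1 2, y 0 2;
      -(y 0 2), -(y 1 2), 0, -(y 3 2); y 1 2, -(y 0 2), y 3 2, 0] := by
    ext i j; fin_cases i <;> fin_cases j <;> simp
    · exact e00
    · linear_combination a00
    · linear_combination a02
    · linear_combination -a01 + e00
    · linear_combination -a03
    · linear_combination -b03 + a03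
    · linear_combination a20 - b02
    · exact e22
    · linear_combination a22
    · linear_combination b02
    · linear_combination -a21 - b03 + a03
    · linear_combination -a23 + e22
  obtain ⟨s, es⟩ : ∃ s, y 1 0 = s := ⟨_, rfl⟩
  obtain ⟨t, et⟩ : ∃ t, y 3 2 = t := ⟨_, rfl⟩
  obtain ⟨a, ea⟩ : ∃ a, y 0 2 = a := ⟨_, rfl⟩
  obtain ⟨b, eb⟩ : ∃ b, y 1 2 = b := ⟨_, rfl⟩
  rw [es, et, ea, eb] at hy
  clear es et ea eb
  subst hy
  have q00 := Q 0 0; have q22 := Q 2 2; have q02 := Q 0 2; have q12 := Q 1 2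
  simp [Matrix.mul_apply, Fin.sum_univ_four] at q00 q22 q02 q12
  have hts : t = -s := by
    by_contra hne
    have hst : s + t ≠ 0 := fun h => hne (by linear_combination h)
    have hb : b = 0 := (mul_eq_zero.1 (show (s + t) * b = 0 by linear_combination -q02)).resolve_left hst
    have ha : a = 0 := (mul_eq_zero.1 (show (s + t) * a = 0 by linear_combination q12)).resolve_left hst
    subst ha; subst hb
    rcases mul_self_eq_one_iff.1 (show s * s = 1 by linear_combination -q00) with rfl | rfl <;>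
      rcases mul_self_eq_one_iff.1 (show t * t = 1 by linear_combination -q22) with rfl | rfl
    · exact h1 (by ext i j; fin_cases i <;> fin_cases j <;> simp [J₀])
    · exact hne rfl
    · exact hne (neg_neg 1).symm
    · exact h1' (by ext i j; fin_cases i <;> fin_cases j <;> simp [J₀])
  subst hts
  have hsum : s * s + a * a + b * b = 1 := by linear_combination -q00
  have hsq : ∀ x : F, x ≠ 0 → x * x = 1 := fun x hx => by
    rcases hF x with rfl | rfl | rfl
    · exact absurd rfl hx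
    · ring
    · ring
  have hzero : ∀ x w : F, x * x + w * w = 0 → x = 0 := fun x w h => by
    by_contra hx
    by_cases hw : w = 0
    · subst hw; exact hx (mul_self_eq_zero.1 (by linear_combination h))
    · rw [hsq x hx, hsq w hw] at h; exact h2 (by linear_combination h)
  by_cases hs0 : s = 0
  · subst hs0
    by_cases ha0 : a = 0
    · subst ha0
      rcases mul_self_eq_one_iff.1 (show b * b = 1 by linear_combination hsum) with rfl | rfl
      · refine Or.inr (Or.inr (Or.inr (Or.inr (Or.inl ?_))))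
        ext i j; fin_cases i <;> fin_cases j <;> simp [B₁, B₂, Matrix.mul_apply, Fin.sum_univ_four]
      · refine Or.inr (Or.inr (Or.inr (Or.inr (Or.inr ?_))))
        ext i j; fin_cases i <;> fin_cases j <;> simp [B₁, B₂, Matrix.mul_apply, Fin.sum_univ_four]
    · have hb0 : b = 0 := mul_self_eq_zero.1 (by linear_combination hsum - hsq a ha0)
      subst hb0
      rcases mul_self_eq_one_iff.1 (hsq a ha0) with rfl | rfl
      · refine Or.inr (Or.inr (Or.inl ?_))
        ext i j; fin_cases i <;> fin_cases j <;> simp [B₂]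
      · refine Or.inr (Or.inr (Or.inr (Or.inl ?_)))
        ext i j; fin_cases i <;> fin_cases j <;> simp [B₂]
  · have hab : a * a + b * b = 0 := by linear_combination hsum - hsq s hs0
    obtain rfl : a = 0 := hzero a b hab
    obtain rfl : b = 0 := hzero b 0 (by linear_combination hab)
    rcases mul_self_eq_one_iff.1 (hsq s hs0) with rfl | rfl
    · refine Or.inl ?_
      ext i j; fin_cases i <;> fin_cases j <;> simp [B₁]
    · refine Or.inr (Or.inl ?_)
      ext i j; fin_cases i <;> fin_cases j <;> simp [B₁]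

/-- The centraliser of the quaternions inside the commutant of the operator. -/
theorem centre_shape [Fintype F] (hq : Fintype.card F = 3) {y : Matrix (Fin 4) (Fin 4) F}
    (hJ : y * J₀ F = J₀ F * y) (h1 : y * B₁ F = B₁ F * y) (h2' : y * B₂ F = B₂ F * y) :
    y = y 0 0 • (1 : Matrix (Fin 4) (Fin 4) F) + y 1 0 • J₀ F := by
  have h2 : (2 : F) ≠ 0 := fun h => two_eq_zero_iff.1 h (by rw [hq]; decide)
  have E : ∀ i j, (y * J₀ F) i j = (J₀ F * y) i j := fun i j => by rw [hJ]
  have G : ∀ i j, (y * B₁ F) i j = (B₁ F * y) i j := fun i j => by rw [h1]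
  have K : ∀ i j, (y * B₂ F) i j = (B₂ F * y) i j := fun i j => by rw [h2']
  have a00 := E 0 0; have a01 := E 0 1; have a02 := E 0 2; have a03 := E 0 3
  have a20 := E 2 0; have a21 := E 2 1; have a22 := E 2 2; have a23 := E 2 3
  have g02 := G 0 2; have g03 := G 0 3; have g20 := G 2 0; have g21 := G 2 1
  have k02 := K 0 2; have k12 := K 1 2
  simp [J₀, B₁, B₂, Matrix.mul_apply, Fin.sum_univ_four] at a00 a01 a02 a03 a20 a21 a22 a23 g02 g03 g20 g21 k02 k12
  have e03 : y 0 3 = 0 := (mul_eq_zero.1 (show (2 : F) * y 0 3 = 0 by linear_combination a02 + g02)).resolve_left h2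
  have e02 : y 0 2 = 0 := (mul_eq_zero.1 (show (2 : F) * y 0 2 = 0 by linear_combination a03 + g03)).resolve_left h2
  have e21 : y 2 1 = 0 := (mul_eq_zero.1 (show (2 : F) * y 2 1 = 0 by linear_combination a20 + g20)).resolve_left h2
  have e20 : y 2 0 = 0 := (mul_eq_zero.1 (show (2 : F) * y 2 0 = 0 by linear_combination a21 - g21)).resolve_left h2
  ext i j; fin_cases i <;> fin_cases j <;> simp [J₀]
  · linear_combination a00
  · exact e02
  · exact e03
  · linear_combination -a01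
  · linear_combination -g02 + e03
  · linear_combination -a03 + e02
  · exact e20
  · exact e21
  · linear_combination -k02
  · linear_combination a22 + k12
  · linear_combination -g20 + e21
  · linear_combination -a21 + e20
  · linear_combination -k12
  · linear_combination -a23 - k02

/-- An element of a finite subgroup's normaliser. -/
lemma mem_normalizer_of_conj {G : Type*} [Group G] {R : Subgroup G} [Finite R] {w : G}
    (h : ∀ y ∈ R, w * y * w⁻¹ ∈ R) : w ∈ Subgroup.normalizer (R : Set G) := by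
  refine Subgroup.mem_normalizer_iff.2 fun y => ⟨h y, fun hy => ?_⟩
  let φ : R → R := fun z => ⟨w * z * w⁻¹, h z z.2⟩
  obtain ⟨z, hz⟩ := (Finite.injective_iff_surjective.1
    (fun a b e => Subtype.ext (by simpa [φ] using congrArg Subtype.val e) : Function.Injective φ)) ⟨_, hy⟩
  have e : w * (z : G) * w⁻¹ = w * y * w⁻¹ := congrArg Subtype.val hz
  rw [mul_left_inj, mul_right_inj] at e
  exact e ▸ z.2

set_option maxHeartbeats 1000000 in
/-- Four pairwise commuting or anticommuting quaternions over three elements. -/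
theorem quat_four [Fintype F] (hq : Fintype.card F = 3) (hι : Fintype.card ι = 4) {ε : F}
    {f : (ι → F) → (ι → F) → F} (hf : IsRefl (RingEquiv.refl F) ε f) (halt : ∀ v, f v v = 0)
    {b₁ b₂ j c : GL ι F}
    (hsq : ∀ s ∈ ({b₁, b₂, j, c} : Set (GL ι F)), s * s = scalarGL ι (-1))
    (hiso : ∀ s ∈ ({b₁, b₂, j, c} : Set (GL ι F)), ∀ u v,
      f ((s : Matrix ι ι F) *ᵥ u) ((s : Matrix ι ι F) *ᵥ v) = f u v)
    (hb : b₁ * b₂ = scalarGL ι (-1) * (b₂ * b₁)) (hcb : c * b₂ = scalarGL ι (-1) * (b₂ * c))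
    (hcj : c * j = scalarGL ι (-1) * (j * c)) (hj₁ : j * b₁ = b₁ * j) (hj₂ : j * b₂ = b₂ * j)
    (hc₁ : c * b₁ = b₁ * c) (habs : AbsIrr (Subgroup.closure ({b₁, b₂, j, c} : Set (GL ι F)))) :
    Cfsg.Geo.IsSymplecticTypeGroup 2 (Subgroup.closure ({b₁, b₂, j, c} : Set (GL ι F))) ∧
    Cfsg.Geo.FixesForm (Cfsg.Geo.matrixSet (Subgroup.closure ({b₁, b₂, j, c} : Set (GL ι F)))) f ∧
    Nat.card (Subgroup.closure ({b₁, b₂, j, c} : Set (GL ι F))) = 32 ∧
    Nat.card (Subgroup.center (Subgroup.closure ({b₁, b₂, j, c} : Set (GL ι F)))) = 2 ∧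
    Cfsg.Geo.IsOfMinusType 2 (Subgroup.closure ({b₁, b₂, j, c} : Set (GL ι F))) := by
  classical
  have : Nonempty ι := Fintype.card_pos_iff.1 (by omega)
  obtain ⟨z, hz⟩ : ∃ z, scalarGL ι (-1 : Fˣ) = z := ⟨_, rfl⟩
  rw [hz] at hsq hb hcb hcj
  have hzc : ∀ x, z * x = x * z := fun x => hz ▸ scalarGL_comm _ x
  have hzz : z * z = 1 := by rw [← hz, ← scalarGL_mul, neg_mul_neg, one_mul, scalarGL_one]
  have hzmul : ∀ {x y : GL ι F}, x * y = z * (y * x) → y * x = z * (x * y) := fun h => by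
    rw [h, ← mul_assoc, hzz, one_mul]
  obtain ⟨S, hS⟩ : ∃ S : Set (GL ι F), S = {b₁, b₂, j, c} := ⟨_, rfl⟩
  rw [← hS] at hsq hiso habs ⊢
  have hpair : ∀ s ∈ S, ∀ t ∈ S, s * t = t * s ∨ s * t = z * (t * s) := by
    subst hS
    intro s hs t ht
    simp only [Set.mem_insert_iff, Set.mem_singleton_iff] at hs ht
    rcases hs with rfl | rfl | rfl | rfl <;> rcases ht with rfl | rfl | rfl | rfl
    all_goals first
      | exact Or.inl rfl
      | exact Or.inr hb | exact Or.inr (hzmul hb)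
      | exact Or.inr hcb | exact Or.inr (hzmul hcb)
      | exact Or.inr hcj | exact Or.inr (hzmul hcj)
      | exact Or.inl hj₁ | exact Or.inl hj₁.symm
      | exact Or.inl hj₂ | exact Or.inl hj₂.symm
      | exact Or.inl hc₁ | exact Or.inl hc₁.symm
  -- commuting or anticommuting with a fixed element is closed
  let pm : GL ι F → Subgroup (GL ι F) := fun a =>
    { carrier := {x | a * x = x * a ∨ a * x = z * (x * a)}
      one_mem' := Or.inl (by rw [mul_one, one_mul])
      mul_mem' := by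
        rintro x y (hx | hx) (hy | hy)
        · exact Or.inl (by rw [← mul_assoc, hx, mul_assoc, hy, mul_assoc])
        · exact Or.inr (by rw [← mul_assoc, hx, mul_assoc, hy, ← mul_assoc x, ← hzc]; group)
        · exact Or.inr (by rw [← mul_assoc, hx, mul_assoc, mul_assoc, hy]; group)
        · exact Or.inl (by
            rw [← mul_assoc, hx, mul_assoc, mul_assoc, hy, ← mul_assoc x, ← hzc, ← mul_assoc,
              ← mul_assoc z, hzz, one_mul, mul_assoc])
      inv_mem' := by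
        rintro x (hx | hx)
        · exact Or.inl (by
            calc a * x⁻¹ = x⁻¹ * (x * a) * x⁻¹ := by group
              _ = x⁻¹ * a := by rw [← hx]; group)
        · exact Or.inr (by
            calc a * x⁻¹ = x⁻¹ * (x * a) * x⁻¹ := by group
              _ = (x⁻¹ * z) * a := by rw [hzmul hx]; group
              _ = z * (x⁻¹ * a) := by rw [← hzc, mul_assoc]) }
  have hpm : ∀ x ∈ Subgroup.closure S, ∀ y ∈ Subgroup.closure S, x * y = y * x ∨ x * y = z * (y * x) := by
    intro x hx y hy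
    refine (Subgroup.closure_le (pm x)).2 (fun t ht => ?_) hy
    have := (Subgroup.closure_le (pm t)).2 (fun s hs => hpair t ht s hs) hx
    rcases this with h | h
    · exact Or.inl h.symm
    · exact Or.inr (hzmul h)
  have hzR : z ∈ Subgroup.closure S := by
    have hb₁ : b₁ ∈ S := hS ▸ Set.mem_insert _ _
    exact hsq b₁ hb₁ ▸ mul_mem (Subgroup.subset_closure hb₁) (Subgroup.subset_closure hb₁)
  have hfix : Cfsg.Geo.FixesForm (Cfsg.Geo.matrixSet (Subgroup.closure S)) f := by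
    rintro _ ⟨g, hg, rfl⟩
    refine Subgroup.closure_induction (p := fun (g : GL ι F) _ => ∀ u v,
      f ((g : Matrix ι ι F) *ᵥ u) ((g : Matrix ι ι F) *ᵥ v) = f u v) hiso
      (fun u v => by simp) (fun x y _ _ hx hy u v => by rw [mul_mulVec, mul_mulVec, hx, hy])
      (fun x _ hx u v => ?_) hg
    conv_rhs => rw [← mulVec_inv_cancel x u, ← mulVec_inv_cancel x v, hx]
  have h2 : (2 : F) ≠ 0 := fun h => two_eq_zero_iff.1 h (by rw [hq]; decide)
  have h3 : (3 : F) = 0 := by
    have := Nat.cast_card_eq_zero F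
    rw [hq] at this
    exact_mod_cast this
  have hscv : (z : Matrix ι ι F) = -1 := by rw [← hz, scalarGL_val]; simp
  -- conjugation by one plus a quaternion
  have hw : ∀ s ∈ S, ∃ w : GL ι F, (∀ y, y * s = s * y → w * y * w⁻¹ = y) ∧
      ∀ y, y * s = z * (s * y) → w * y * w⁻¹ = z * (y * s) := by
    intro s hs
    have hv : (s : Matrix ι ι F) * s = -1 := by rw [← Units.val_mul, hsq s hs, hscv]
    have hinv : ((s : Matrix ι ι F) + 1) * ((s : Matrix ι ι F) - 1) = 1 := by
      rw [add_mul, mul_sub, mul_sub, hv, mul_one, one_mul, one_mul]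
      calc (-1 - (s : Matrix ι ι F) + ((s : Matrix ι ι F) - 1)) = -((2 : F) • 1) := by rw [two_smul]; abel
        _ = 1 := by
          rw [show (2 : F) = -1 by linear_combination h3, neg_smul, one_smul, neg_neg]
    have hinv' : ((s : Matrix ι ι F) - 1) * ((s : Matrix ι ι F) + 1) = 1 := by
      refine Eq.trans ?_ hinv
      noncomm_ring
    refine ⟨⟨(s : Matrix ι ι F) + 1, (s : Matrix ι ι F) - 1, hinv, hinv'⟩, fun y hy => ?_, fun y hy => ?_⟩
    · rw [mul_inv_eq_iff_eq_mul]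
      refine Units.ext ?_
      rw [Units.val_mul, Units.val_mul]
      show ((s : Matrix ι ι F) + 1) * y = (y : Matrix ι ι F) * ((s : Matrix ι ι F) + 1)
      rw [add_mul, mul_add, ← Units.val_mul, ← hy, Units.val_mul, one_mul, mul_one]
    · refine Units.ext ?_
      simp only [Units.val_mul]
      show ((s : Matrix ι ι F) + 1) * y * ((s : Matrix ι ι F) - 1) =
        (z : Matrix ι ι F) * ((y : Matrix ι ι F) * s)
      have hys : (s : Matrix ι ι F) * y = -((y : Matrix ι ι F) * s) := by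
        have h := congrArg Units.val hy
        simp only [Units.val_mul, hscv, neg_one_mul] at h
        rw [h, neg_neg]
      rw [hscv, neg_one_mul, add_mul, hys, one_mul, add_mul, neg_mul, mul_sub, mul_sub, mul_one,
        mul_one, mul_assoc, hv, mul_neg, mul_one]
      calc -(-(y : Matrix ι ι F) - (y : Matrix ι ι F) * s) + ((y : Matrix ι ι F) * s - y)
          = (2 : F) • ((y : Matrix ι ι F) * s) := by rw [two_smul]; abel
        _ = _ := by rw [show (2 : F) = -1 by linear_combination h3, neg_smul, one_smul]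
  choose w hwc hwa using hw
  let N := Subgroup.normalizer ((Subgroup.closure S : Subgroup (GL ι F)) : Set (GL ι F))
  have hwN : ∀ s (hs : s ∈ S), w s hs ∈ N := fun s hs => mem_normalizer_of_conj fun y hy => by
    rcases hpm y hy s (Subgroup.subset_closure hs) with h | h
    · rw [hwc s hs y h]; exact hy
    · rw [hwa s hs y h]; exact mul_mem hzR (mul_mem hy (Subgroup.subset_closure hs))
  have hcomm : ScalarCommutators (Subgroup.closure S) := by
    intro a ha b hb
    rcases hpm a ha b hb with h | h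
    · rw [h, mul_inv_cancel_right, mul_inv_cancel]; exact one_mem _
    · rw [h, show z * (b * a) * a⁻¹ * b⁻¹ = z by group, ← hz]; exact mem_scalars.2 ⟨_, rfl⟩
  have hmin : ∀ M ≤ Subgroup.closure S, (∀ g ∈ N, ∀ a ∈ M, g * a * g⁻¹ ∈ M) →
      (∀ a ∈ Subgroup.closure S, a ∈ Cfsg.Geo.scalars ι F → a ∈ M) →
      M ≤ Cfsg.Geo.scalars ι F ∨ M = Subgroup.closure S := by
    intro M hMR hMn hMZ
    by_cases hMs : M ≤ Cfsg.Geo.scalars ι F
    · exact Or.inl hMs
    right
    refine le_antisymm hMR ?_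
    obtain ⟨x, hxM, hxs⟩ := SetLike.not_le_iff_exists.1 hMs
    have hzM : z ∈ M := hMZ z hzR (hz ▸ mem_scalars.2 ⟨_, rfl⟩)
    have step : ∀ a ∈ M, ∀ s (hs : s ∈ S), a * s ≠ s * a → s ∈ M := by
      intro a ha s hs hne
      have h := hMn _ (hwN s hs) a ha
      rw [hwa s hs a ((hpm a (hMR ha) s (Subgroup.subset_closure hs)).resolve_left hne)] at h
      have h' := M.mul_mem (M.inv_mem (M.mul_mem hzM ha)) h
      rwa [show (z * a)⁻¹ * (z * (a * s)) = s by group] at h'
    have hne : ∀ {a s : GL ι F}, a * s = z * (s * a) → a * s ≠ s * a := by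
      intro a s h h'
      rw [h'] at h
      have h1 : z = 1 := mul_eq_right.1 h.symm
      refine h2 ?_
      have hv := congrArg (fun g : GL ι F => (g : Matrix ι ι F) (Classical.arbitrary ι) (Classical.arbitrary ι)) h1
      simp [hscv] at hv
      linear_combination -hv
    have hall : ∃ s ∈ S, s ∈ M := by
      by_contra hnone
      push Not at hnone
      refine hxs (habs.mem_scalars fun a ha => ?_)
      refine Subgroup.mem_centralizer_singleton_iff.1 ((Subgroup.closure_le _).2 (fun s hs => ?_) ha) |>.symm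
      rw [SetLike.mem_coe, Subgroup.mem_centralizer_singleton_iff]
      by_contra hne'
      exact hnone s hs (step x hxM s hs fun e => hne' e.symm)
    subst hS
    have m₁ : b₁ ∈ ({b₁, b₂, j, c} : Set (GL ι F)) := Or.inl rfl
    have m₂ : b₂ ∈ ({b₁, b₂, j, c} : Set (GL ι F)) := Or.inr (Or.inl rfl)
    have m₃ : j ∈ ({b₁, b₂, j, c} : Set (GL ι F)) := Or.inr (Or.inr (Or.inl rfl))
    have m₄ : c ∈ ({b₁, b₂, j, c} : Set (GL ι F)) := Or.inr (Or.inr (Or.inr rfl))
    obtain ⟨s, hs, hsM⟩ := hall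
    have hc : c ∈ M := by
      simp only [Set.mem_insert_iff, Set.mem_singleton_iff] at hs
      rcases hs with rfl | rfl | rfl | rfl
      · exact step _ (step _ hsM _ m₂ (hne hb)) _ m₄ (hne (hzmul hcb))
      · exact step _ hsM _ m₄ (hne (hzmul hcb))
      · exact step _ hsM _ m₄ (hne (hzmul hcj))
      · exact hsM
    have hb₂ : b₂ ∈ M := step _ hc _ m₂ (hne hcb)
    refine (Subgroup.closure_le M).2 ?_
    intro s' hs'
    simp only [Set.mem_insert_iff, Set.mem_singleton_iff] at hs'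
    rcases hs' with rfl | rfl | rfl | rfl
    · exact step _ hb₂ _ m₁ (hne (hzmul hb))
    · exact hb₂
    · exact step _ hc _ m₃ (hne hcj)
    · exact hc
  rcases symp_abelian (H := N) (by omega) hf halt habs hfix
      (fun g hg a ha => (Subgroup.mem_normalizer_iff.1 hg a).1 ha) hmin hcomm with
    ⟨F₁, hF₁, -⟩ | ⟨p, k, -, -, -, htype, hk, hN, hcz, hminus⟩
  · exfalso
    refine hF₁ (eq_top_iff.2 fun x _ => ?_)
    obtain ⟨y, rfl⟩ := (ZMod.ringEquivOfPrime F Nat.prime_three hq).surjective x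
    obtain ⟨k, rfl⟩ := ZMod.natCast_zmod_surjective y
    rw [map_natCast]
    exact natCast_mem F₁ k
  · obtain rfl : k = 2 := Nat.pow_right_injective le_rfl (hk.symm.trans hι)
    exact ⟨htype, hfix, hN, hcz, hminus⟩

/-- A frame in which the field and the form are standard. -/
theorem exists_frame [Fintype F] (hq : Fintype.card F = 3) (hι : Fintype.card ι = 4) {ε : F}
    {f : (ι → F) → (ι → F) → F} (hf : IsRefl (RingEquiv.refl F) ε f) (halt : ∀ v, f v v = 0)
    {J : Matrix ι ι F} (hJ : J * J = -1) (hskew : ∀ x y, f (J *ᵥ x) y = - f x (J *ᵥ y)) :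
    ∃ (e : ι ≃ Fin 4) (P : GL ι F), frAlg e P (J₀ F) = J ∧
      ∀ x y, pullForm e P f x y = Cfsg.Geo.formOfGram id (J₀ F) x y := by
  classical
  have hb := hf.bilinear
  have h2 : (2 : F) ≠ 0 := fun h => two_eq_zero_iff.1 h (by rw [hq]; decide)
  have h3 : (3 : F) = 0 := by
    have := Nat.cast_card_eq_zero F
    rw [hq] at this
    exact_mod_cast this
  have hsk : ∀ u v, f v u = - f u v := fun u v => by
    have h := halt (u + v)
    rw [hb.add_left, hb.add_right, hb.add_right, halt, halt] at h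
    linear_combination h
  have hJJ : ∀ x, J *ᵥ (J *ᵥ x) = (-1 : F) • x := fun x => by
    rw [Matrix.mulVec_mulVec, hJ, Matrix.neg_mulVec, Matrix.one_mulVec, neg_one_smul]
  -- the symmetric form
  obtain ⟨g, hg⟩ : ∃ g : (ι → F) → (ι → F) → F, ∀ x y, g x y = f (J *ᵥ x) y := ⟨_, fun _ _ => rfl⟩
  have gsym : ∀ x y, g x y = g y x := fun x y => by
    rw [hg, hg, hsk x (J *ᵥ y), hskew]
  have gadd : ∀ x y w, g (x + y) w = g x w + g y w := fun x y w => by
    rw [hg, hg, hg, Matrix.mulVec_add, hb.add_left]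
  have gsmul : ∀ (c : F) x w, g (c • x) w = c * g x w := fun c x w => by
    rw [hg, hg, Matrix.mulVec_smul, hb.smul_left]
  have gaddr : ∀ x y w, g w (x + y) = g w x + g w y := fun x y w => by
    rw [hg, hg, hg, hb.add_right]
  have gsmulr : ∀ (c : F) x w, g w (c • x) = c * g w x := fun c x w => by
    rw [hg, hg, hb.smul_right]
  have gJ : ∀ x, g x (J *ᵥ x) = 0 := fun x => by rw [hg, halt]
  have gJJ : ∀ x y, g (J *ᵥ x) (J *ᵥ y) = g x y := fun x y => by
    rw [hg, hg, hJJ, hb.smul_left, hskew]; ring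
  -- an element of norm one in an invariant non-degenerate subspace
  have hnorm : ∀ U : Submodule F (ι → F), (∀ u ∈ U, J *ᵥ u ∈ U) → (∃ u ∈ U, ∃ v ∈ U, g u v ≠ 0) →
      ∃ u ∈ U, g u u = 1 := by
    intro U hU ⟨u, hu, v, hv, huv⟩
    obtain ⟨x, hx, hxx⟩ : ∃ x ∈ U, g x x ≠ 0 := by
      by_contra h
      push Not at h
      have := h _ (add_mem hu hv)
      rw [gadd, gaddr, gaddr, h u hu, h v hv, gsym v u] at this
      exact huv ((mul_eq_zero.1 (show (2 : F) * g u v = 0 by linear_combination this)).resolve_left h2)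
    have h1 := FiniteField.pow_card_sub_one_eq_one _ hxx
    rw [hq, show (3 : ℕ) - 1 = 2 from rfl, sq] at h1
    rcases mul_self_eq_one_iff.1 h1 with h | h
    · exact ⟨x, hx, h⟩
    · refine ⟨x + J *ᵥ x, add_mem hx (hU x hx), ?_⟩
      rw [gadd, gaddr, gaddr, gJ, gsym (J *ᵥ x) x, gJ, gJJ, h]
      linear_combination -h3
  obtain ⟨e₁, -, he₁⟩ := hnorm ⊤ (fun _ _ => Submodule.mem_top) (by
    obtain ⟨i⟩ : Nonempty ι := Fintype.card_pos_iff.1 (by omega)
    obtain ⟨-, v, hv⟩ := hf.nondeg (Pi.single i 1) (by simp)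
    refine ⟨(-1 : F) • J *ᵥ (Pi.single i 1), Submodule.mem_top, v, Submodule.mem_top, ?_⟩
    rw [gsmul, hg, hJJ, hb.smul_left]
    simpa using hv)
  have he₁J : g (J *ᵥ e₁) (J *ᵥ e₁) = 1 := by rw [gJJ, he₁]
  let U : Submodule F (ι → F) :=
    { carrier := {u | g e₁ u = 0 ∧ g (J *ᵥ e₁) u = 0}
      add_mem' := fun {a b} ha hb' => ⟨by rw [gaddr, ha.1, hb'.1, add_zero], by rw [gaddr, ha.2, hb'.2, add_zero]⟩
      zero_mem' := ⟨by rw [hg, hf.sesq.zero_right], by rw [hg, hf.sesq.zero_right]⟩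
      smul_mem' := fun c a ha => ⟨by rw [gsmulr, ha.1, mul_zero], by rw [gsmulr, ha.2, mul_zero]⟩ }
  have hproj : ∀ z, z + ((-g e₁ z) • e₁ + (-g (J *ᵥ e₁) z) • J *ᵥ e₁) ∈ U := fun z => by
    refine ⟨?_, ?_⟩
    · rw [gaddr, gaddr, gsmulr, gsmulr, he₁, gJ]; ring
    · rw [gaddr, gaddr, gsmulr, gsmulr, he₁J, gsym (J *ᵥ e₁) e₁, gJ]; ring
  obtain ⟨e₂, ⟨he₂a, he₂b⟩, he₂⟩ := hnorm U (fun u hu => by
      refine ⟨?_, by rw [gJJ]; exact hu.1⟩
      rw [hg, ← neg_neg (f _ _), ← hskew, ← hg, hu.2, neg_zero]) (by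
    obtain ⟨u, hu, hu0⟩ : ∃ u ∈ U, u ≠ 0 := by
      by_contra h
      push Not at h
      have hle : (⊤ : Submodule F (ι → F)) ≤ Submodule.span F (Set.range ![e₁, J *ᵥ e₁]) := fun z _ => by
        have := h _ (hproj z)
        rw [add_eq_zero_iff_eq_neg] at this
        rw [this]
        refine neg_mem (add_mem (Submodule.smul_mem _ _ (Submodule.subset_span ⟨0, rfl⟩))
          (Submodule.smul_mem _ _ (Submodule.subset_span ⟨1, rfl⟩)))
      have h4 := Submodule.finrank_mono hle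
      have h5 := finrank_range_le_card (R := F) ![e₁, J *ᵥ e₁]
      rw [finrank_top, Module.finrank_fintype_fun_eq_card, hι] at h4
      simp only [Set.finrank, Fintype.card_fin] at h5
      omega
    obtain ⟨-, v, hv⟩ := hf.nondeg u hu0
    refine ⟨u, hu, _, hproj (J *ᵥ v), ?_⟩
    rw [gaddr, gaddr, gsmulr, gsmulr, gsym u e₁, hu.1, gsym u (J *ᵥ e₁), hu.2, mul_zero, mul_zero,
      add_zero, add_zero, hg, hskew, hJJ, hb.smul_right]
    simpa using hv)
  obtain ⟨vs, hvs⟩ : ∃ vs : Fin 4 → ι → F, vs = ![e₁, J *ᵥ e₁, e₂, J *ᵥ e₂] := ⟨_, rfl⟩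
  -- in terms of the symmetric form
  have fg : ∀ x y, f x y = - g (J *ᵥ x) y := fun x y => by rw [hg, hJJ, hb.smul_left]; ring
  have hcross : g (J *ᵥ e₁) (J *ᵥ e₂) = 0 ∧ g e₁ (J *ᵥ e₂) = 0 ∧ g (J *ᵥ e₂) e₁ = 0 ∧
      g e₂ (J *ᵥ e₁) = 0 ∧ g e₂ e₁ = 0 := by
    have h' : g e₁ (J *ᵥ e₂) = 0 := by
      rw [← gJJ, hJJ, gsmulr, he₂b]; ring
    exact ⟨by rw [gJJ, he₂a], h', by rw [gsym, h'], by rw [gsym, he₂b], by rw [gsym, he₂a]⟩
  obtain ⟨c1, c2, c3, c4, c5⟩ := hcross
  have gneg : ∀ x y, g (-x) y = - g x y := fun x y => by rw [← neg_one_smul F x, gsmul, neg_one_mul]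
  have hgram : ∀ a b, f (vs a) (vs b) = J₀ F a b := by
    intro a b
    subst hvs
    rw [fg]
    fin_cases a <;> fin_cases b <;>
      simp [J₀, hJJ, gsmul, gneg, he₁, he₂, he₁J, gJJ, gJ, gsym (J *ᵥ e₁) e₁, gsym (J *ᵥ e₂) e₂,
        c1, c2, c3, c4, c5, he₂a, he₂b, gsym (J *ᵥ e₂) (J *ᵥ e₁)]
  let e : ι ≃ Fin 4 := Fintype.equivFinOfCardEq hι
  let Pm : Matrix ι ι F := Matrix.of fun i k => vs (e k) i
  have hPm : ∀ x : Fin 4 → F, Pm *ᵥ (x ∘ e) = ∑ a, x a • vs a := fun x => by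
    funext i
    simp only [Pm, Matrix.mulVec, dotProduct, Matrix.of_apply, Finset.sum_apply, Pi.smul_apply,
      smul_eq_mul, Function.comp_apply]
    rw [← e.sum_comp (fun a => x a * vs a i)]
    exact Finset.sum_congr rfl fun k _ => mul_comm _ _
  have hform : ∀ x y : Fin 4 → F, f (Pm *ᵥ (x ∘ e)) (Pm *ᵥ (y ∘ e)) = Cfsg.Geo.formOfGram id (J₀ F) x y := by
    intro x y
    rw [hPm, hPm, hf.sesq.sum_left]
    simp only [Cfsg.Geo.formOfGram, id]
    refine Finset.sum_congr rfl fun a _ => ?_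
    rw [hb.smul_left, hf.sesq.sum_right, Finset.mul_sum]
    refine Finset.sum_congr rfl fun b _ => ?_
    rw [hb.smul_right, hgram]; ring
  have hunit : IsUnit Pm := by
    rw [← Matrix.mulVec_injective_iff_isUnit]
    intro u v huv
    by_contra hne
    have hsub : Pm *ᵥ (((u - v) ∘ e.symm) ∘ e) = 0 := by
      rw [Function.comp_assoc, e.symm_comp_self, Function.comp_id, Matrix.mulVec_sub, huv, sub_self]
    have hd : ∀ y, Cfsg.Geo.formOfGram id (J₀ F) ((u - v) ∘ e.symm) y = 0 := fun y => by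
      rw [← hform, hsub, hf.sesq.zero_left]
    refine hne (sub_eq_zero.1 (funext fun k => ?_))
    have h0 := hd (Pi.single 0 1)
    have h1 := hd (Pi.single 1 1)
    have h2' := hd (Pi.single 2 1)
    have h3' := hd (Pi.single 3 1)
    simp [Cfsg.Geo.formOfGram, J₀, Fin.sum_univ_four] at h0 h1 h2' h3'
    obtain ⟨l, rfl⟩ := e.symm.surjective k
    obtain rfl | rfl | rfl | rfl : l = 0 ∨ l = 1 ∨ l = 2 ∨ l = 3 := by omega
    all_goals simp only [Pi.sub_apply, Pi.zero_apply]
    all_goals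
      first | linear_combination h0 | linear_combination -h0 | linear_combination h1 |
        linear_combination -h1 | linear_combination h2' | linear_combination -h2' |
        linear_combination h3' | linear_combination -h3'
  obtain ⟨P, hP⟩ := hunit
  refine ⟨e, P, ?_, fun x y => by rw [← hform, ← hP]; rfl⟩
  refine Matrix.toLin'.injective (LinearMap.ext fun u => ?_)
  obtain ⟨x, rfl⟩ := pullForm_surj e P u
  rw [Matrix.toLin'_apply, Matrix.toLin'_apply, frAlg_mulVec, hP, hPm, hPm]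
  simp only [Fin.sum_univ_four, Matrix.mulVec_add, Matrix.mulVec_smul, hvs, Matrix.cons_val_zero,
    Matrix.cons_val_one, Matrix.cons_val, hJJ, J₀, Matrix.mulVec, dotProduct, Matrix.of_apply]
  module

end FieldNine

open FieldNine in
set_option maxHeartbeats 1000000 in
/-- The normaliser of a field of nine elements normalises an extraspecial group of order 32. -/
theorem field_nine_normaliser [Fintype F] (hq : Fintype.card F = 3) (hι : Fintype.card ι = 4) {ε : F}
    {f : (ι → F) → (ι → F) → F} (hf : IsRefl (RingEquiv.refl F) ε f) (halt : ∀ v, f v v = 0)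
    {K : Subalgebra F (Matrix ι ι F)} (hK : Cfsg.Geo.IsFieldSubalgebra 2 K)
    (hadj : Cfsg.Geo.IsAdjointClosedFor f K) (hns : ¬ Cfsg.Geo.IsSelfAdjointFor f K) :
    ∃ R : Subgroup (GL ι F), Cfsg.Geo.IsSymplecticTypeGroup 2 R ∧ AbsIrr R ∧
      Cfsg.Geo.FixesForm (Cfsg.Geo.matrixSet R) f ∧ Nat.card R = 32 ∧
      Nat.card (Subgroup.center R) = 2 ∧ Cfsg.Geo.IsOfMinusType 2 R ∧
      ∀ g ∈ Cfsg.Geo.subalgebraNormalizer K,
        (∀ u v, f ((g : Matrix ι ι F) *ᵥ u) ((g : Matrix ι ι F) *ᵥ v) = f u v) →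
        g ∈ Cfsg.Geo.subgroupNormalizer R := by
  classical
  have : Nonempty ι := Fintype.card_pos_iff.1 (by omega)
  have h2 : (2 : F) ≠ 0 := fun h => two_eq_zero_iff.1 h (by rw [hq]; decide)
  have h3 : (3 : F) = 0 := by
    have := Nat.cast_card_eq_zero F
    rw [hq] at this
    exact_mod_cast this
  have hsq : ∀ x : F, x ≠ 0 → x * x = 1 := fun x hx => by
    have := FiniteField.pow_card_sub_one_eq_one x hx
    rwa [hq, show (3 : ℕ) - 1 = 2 from rfl, sq] at this
  have hdom : ∀ a ∈ K, ∀ b ∈ K, a * b = 0 → a = 0 ∨ b = 0 := fun a ha b hb h => by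
    by_cases h0 : a = 0
    · exact Or.inl h0
    obtain ⟨a', ha', e⟩ := hK.inv a ha h0
    refine Or.inr ?_
    calc b = (a * a') * b := by rw [e, one_mul]
      _ = a' * (a * b) := by rw [hK.comm a ha a' ha', mul_assoc]
      _ = 0 := by rw [h, mul_zero]
  -- an element of square minus one, and its basis
  obtain ⟨J, hJK, hJ⟩ : ∃ J ∈ K, J * J = -1 := by
    obtain ⟨k, hk⟩ : ∃ k : K, (k : Matrix ι ι F) ∉ Submodule.span F {(1 : Matrix ι ι F)} := by
      by_contra h
      push Not at h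
      have h1 := Submodule.finrank_mono (show Subalgebra.toSubmodule K ≤ Submodule.span F {1} from
        fun x hx => h ⟨x, hx⟩)
      rw [finrank_span_singleton one_ne_zero] at h1
      have := hK.finrank_eq
      rw [show finrank F (Subalgebra.toSubmodule K) = finrank F K from rfl] at h1
      omega
    have hind : LinearIndependent F ![(1 : Matrix ι ι F), k] := by
      rw [LinearIndependent.pair_iff' one_ne_zero]
      exact fun a ha => hk (Submodule.mem_span_singleton.2 ⟨a, ha⟩)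
    have hspan : Submodule.span F (Set.range ![(1 : Matrix ι ι F), k]) = Subalgebra.toSubmodule K := by
      refine Submodule.eq_of_le_of_finrank_le (Submodule.span_le.2 ?_) ?_
      · rintro _ ⟨i, rfl⟩; fin_cases i
        · exact K.one_mem
        · exact k.2
      · rw [finrank_span_eq_card hind]
        exact hK.finrank_eq.le
    have hkk : (k : Matrix ι ι F) * k ∈ Submodule.span F (Set.range ![(1 : Matrix ι ι F), k]) := by
      rw [hspan]; exact K.mul_mem k.2 k.2
    rw [Submodule.mem_span_range_iff_exists_fun] at hkk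
    obtain ⟨c, hc⟩ := hkk
    simp only [Fin.sum_univ_two, Matrix.cons_val_zero, Matrix.cons_val_one] at hc
    obtain ⟨J, hJ⟩ : ∃ J, (k : Matrix ι ι F) + c 1 • 1 = J := ⟨_, rfl⟩
    have hJJ : J * J = (c 0 + c 1 * c 1) • (1 : Matrix ι ι F) := by
      rw [← hJ]
      simp only [add_mul, mul_add, Matrix.smul_mul, Matrix.mul_smul, one_mul, mul_one, ← hc, smul_smul]
      have : c 1 • (k : Matrix ι ι F) + c 1 • (k : Matrix ι ι F) + c 1 • (k : Matrix ι ι F) = 0 := by
        rw [← add_smul, ← add_smul, show c 1 + c 1 + c 1 = 0 by linear_combination c 1 * h3, zero_smul]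
      linear_combination (norm := module) this
    have hJK : J ∈ K := hJ ▸ K.add_mem k.2 (K.smul_mem K.one_mem _)
    obtain ⟨γ, hγ⟩ : ∃ γ, c 0 + c 1 * c 1 = γ := ⟨_, rfl⟩
    rw [hγ] at hJJ
    refine ⟨J, hJK, ?_⟩
    have hns' : ∀ μ : F, J ≠ μ • 1 := fun μ e => hk (Submodule.mem_span_singleton.2
      ⟨μ - c 1, by rw [sub_smul, ← e, ← hJ, add_sub_cancel_right]⟩)
    have hγ0 : γ ≠ 0 := fun e => by
      rw [e, zero_smul] at hJJ
      rcases hdom J hJK J hJK hJJ with h | h <;> exact hns' 0 (by rw [h, zero_smul])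
    rcases mul_self_eq_one_iff.1 (hsq γ hγ0) with e | e
    · exfalso
      rw [e, one_smul] at hJJ
      rcases hdom (J - 1) (K.sub_mem hJK K.one_mem) (J + 1) (K.add_mem hJK K.one_mem)
        (by rw [sub_mul, mul_add, hJJ, one_mul, mul_one]; abel) with h | h
      · exact hns' 1 (by rw [one_smul]; exact sub_eq_zero.1 h)
      · exact hns' (-1) (by rw [neg_smul, one_smul]; exact add_eq_zero_iff_eq_neg.1 h)
    · rw [hJJ, e, neg_smul, one_smul]
  have hroots : ∀ k ∈ K, k * k = -1 → k = J ∨ k = -J := fun k hk h => by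
    rcases hdom (k - J) (K.sub_mem hk hJK) (k + J) (K.add_mem hk hJK)
      (by rw [sub_mul, mul_add, mul_add, h, hJ, hK.comm J hJK k hk]; abel) with h' | h'
    · exact Or.inl (sub_eq_zero.1 h')
    · exact Or.inr (add_eq_zero_iff_eq_neg.1 h')
  have hspanJ : ∀ k ∈ K, ∃ a b : F, k = a • (1 : Matrix ι ι F) + b • J := by
    have hind : LinearIndependent F ![(1 : Matrix ι ι F), J] := by
      rw [LinearIndependent.pair_iff' one_ne_zero]
      intro a ha
      have h := hJ
      rw [← ha, Matrix.smul_mul, one_mul, smul_smul] at h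
      have hv := congrFun (congrFun h (Classical.arbitrary ι)) (Classical.arbitrary ι)
      simp at hv
      by_cases h0 : a = 0
      · simp [h0] at hv
      · rw [hsq a h0] at hv; exact h2 (by linear_combination hv)
    have hspan : Submodule.span F (Set.range ![(1 : Matrix ι ι F), J]) = Subalgebra.toSubmodule K := by
      refine Submodule.eq_of_le_of_finrank_le (Submodule.span_le.2 ?_) ?_
      · rintro _ ⟨i, rfl⟩; fin_cases i
        · exact K.one_mem
        · exact hJK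
      · rw [finrank_span_eq_card hind]
        exact hK.finrank_eq.le
    intro k hk
    have h : k ∈ Submodule.span F (Set.range ![(1 : Matrix ι ι F), J]) := by rw [hspan]; exact hk
    rw [Submodule.mem_span_range_iff_exists_fun] at h
    obtain ⟨c, hc⟩ := h
    simp only [Fin.sum_univ_two, Matrix.cons_val_zero, Matrix.cons_val_one] at hc
    exact ⟨_, _, hc.symm⟩
  have hskew : ∀ x y, f (J *ᵥ x) y = - f x (J *ᵥ y) := by
    obtain ⟨J', hJ'K, hJ'⟩ := hadj J hJK
    have hJ'2 : J' * J' = -1 := by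
      refine Matrix.toLin'.injective (LinearMap.ext fun y => ?_)
      rw [Matrix.toLin'_apply, Matrix.toLin'_apply]
      by_contra hne
      obtain ⟨⟨x, hx⟩, -⟩ := hf.nondeg _ (sub_ne_zero.2 hne)
      refine hx ?_
      rw [sub_eq_add_neg, hf.bilinear.add_right, ← Matrix.mulVec_mulVec, ← hJ', ← hJ',
        Matrix.mulVec_mulVec, hJ, Matrix.neg_mulVec, Matrix.one_mulVec, Matrix.neg_mulVec,
        Matrix.one_mulVec, neg_neg, ← neg_one_smul F x, hf.bilinear.smul_left]
      ring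
    rcases hroots J' hJ'K hJ'2 with rfl | rfl
    · refine absurd (fun k hk u v => ?_) hns
      obtain ⟨a, b, rfl⟩ := hspanJ k hk
      simp only [Matrix.add_mulVec, Matrix.smul_mulVec, Matrix.one_mulVec, hf.bilinear.add_left,
        hf.bilinear.add_right, hf.bilinear.smul_left, hf.bilinear.smul_right, hJ']
    · intro x y
      rw [hJ', Matrix.neg_mulVec, ← neg_one_smul F (J *ᵥ y), hf.bilinear.smul_right]
      ring
  obtain ⟨e, P, hPJ, hpull⟩ := exists_frame hq hι hf halt hJ hskew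
  let mk : ∀ M : Matrix (Fin 4) (Fin 4) F, M * M = -1 → GL (Fin 4) F := fun M hM =>
    ⟨M, -M, by rw [mul_neg, hM, neg_neg], by rw [neg_mul, hM, neg_neg]⟩
  obtain ⟨r₁, r₂, r₃, r₄, r₅, r₆, r₇, r₈, r₉⟩ := rels (F := F)
  obtain ⟨sJ, s1, s2, sC, sA⟩ := sims (F := F) h3
  obtain ⟨b₁, hb₁⟩ : ∃ b : GL (Fin 4) F, (b : Matrix (Fin 4) (Fin 4) F) = B₁ F := ⟨mk _ sq_B₁, rfl⟩
  obtain ⟨b₂, hb₂⟩ : ∃ b : GL (Fin 4) F, (b : Matrix (Fin 4) (Fin 4) F) = B₂ F := ⟨mk _ sq_B₂, rfl⟩
  obtain ⟨j, hj⟩ : ∃ b : GL (Fin 4) F, (b : Matrix (Fin 4) (Fin 4) F) = J₀ F := ⟨mk _ sq_J₀, rfl⟩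
  obtain ⟨c, hc⟩ : ∃ b : GL (Fin 4) F, (b : Matrix (Fin 4) (Fin 4) F) = C₀ F := ⟨mk _ (sq_C₀ h3), rfl⟩
  obtain ⟨a, ha⟩ : ∃ b : GL (Fin 4) F, (b : Matrix (Fin 4) (Fin 4) F) = A₀ F :=
    ⟨⟨A₀ F, A₀ F, sq_A₀ h3, sq_A₀ h3⟩, rfl⟩
  obtain ⟨n, hn⟩ : ∃ n : GL (Fin 4) F, scalarGL (Fin 4) (-1 : Fˣ) = n := ⟨_, rfl⟩
  have hnv : (n : Matrix (Fin 4) (Fin 4) F) = -1 := by rw [← hn, scalarGL_val]; simp
  have hφn : frU e P n = scalarGL ι (-1 : Fˣ) := by
    refine Units.ext ?_
    rw [frU_val, hnv, map_neg, map_one, scalarGL_val]; simp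
  let φ : GL (Fin 4) F →* GL ι F := (frU e P).toMonoidHom
  have hφ : ∀ x, φ x = frU e P x := fun _ => rfl
  have hset : φ '' {b₁, b₂, j, c} = {φ b₁, φ b₂, φ j, φ c} := by simp [Set.image_insert_eq]
  have hiso4 : ∀ M : GL (Fin 4) F, (M : Matrix (Fin 4) (Fin 4) F)ᵀ * J₀ F * (M : Matrix _ _ F) = J₀ F →
      ∀ u v, f ((φ M : Matrix ι ι F) *ᵥ u) ((φ M : Matrix ι ι F) *ᵥ v) = f u v := by
    intro M hM u v
    obtain ⟨x, rfl⟩ := pullForm_surj e P u
    obtain ⟨y, rfl⟩ := pullForm_surj e P v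
    rw [hφ, frU_val, frAlg_mulVec, frAlg_mulVec]
    show pullForm e P f _ _ = pullForm e P f _ _
    rw [hpull, hpull, formOfGram_eq, formOfGram_eq, Function.id_comp, Function.id_comp,
      Matrix.mulVec_mulVec, ← Matrix.vecMul_transpose, ← Matrix.dotProduct_mulVec,
      Matrix.mulVec_mulVec, ← mul_assoc, hM]
  have habs : AbsIrr (Subgroup.closure ({φ b₁, φ b₂, φ j, φ c} : Set (GL ι F))) := by
    have hm : ∀ M ∈ ({b₁, b₂, j, c} : Set (GL (Fin 4) F)),
        φ M ∈ Subgroup.closure ({φ b₁, φ b₂, φ j, φ c} : Set (GL ι F)) := fun M hM =>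
      Subgroup.subset_closure (hset ▸ Set.mem_image_of_mem φ hM)
    refine absIrr_of_commutant (irr_iff.2 fun W hW => ?_) fun M hM => ?_
    · let L : (Fin 4 → F) →ₗ[F] (ι → F) :=
        (Matrix.toLin' (P : Matrix ι ι F)).comp (LinearMap.funLeft F F e)
      have hL : ∀ x, L x = (P : Matrix ι ι F) *ᵥ (x ∘ e) := fun x => Matrix.toLin'_apply _ _
      have hinv : ∀ M ∈ ({b₁, b₂, j, c} : Set (GL (Fin 4) F)), ∀ x ∈ W.comap L,
          (M : Matrix (Fin 4) (Fin 4) F) *ᵥ x ∈ W.comap L := by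
        intro M hM x hx
        rw [Submodule.mem_comap, hL] at hx ⊢
        rw [← frAlg_mulVec, ← frU_val]
        exact hW _ (hm M hM) _ hx
      by_cases hb : W = ⊥
      · exact Or.inl hb
      right
      have htop : W.comap L = ⊤ := by
        obtain ⟨w, hw, hw0⟩ := Submodule.exists_mem_ne_zero_of_ne_bot hb
        obtain ⟨x, rfl⟩ := pullForm_surj e P w
        rw [← hL] at hw hw0
        have hx0 : x ≠ 0 := fun h => hw0 (by rw [h, map_zero])
        have hxW : x ∈ W.comap L := hw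
        obtain ⟨V, hV⟩ : ∃ V, W.comap L = V := ⟨_, rfl⟩
        rw [hV] at hxW hinv ⊢
        have iJ : ∀ y ∈ V, J₀ F *ᵥ y ∈ V := fun y hy => hj ▸ hinv j (by simp) y hy
        have i1 : ∀ y ∈ V, B₁ F *ᵥ y ∈ V := fun y hy => hb₁ ▸ hinv b₁ (by simp) y hy
        have i2 : ∀ y ∈ V, B₂ F *ᵥ y ∈ V := fun y hy => hb₂ ▸ hinv b₂ (by simp) y hy
        have hP0 : ![x 0, x 1, 0, 0] ∈ V := by
          have h := V.smul_mem (2 : F)⁻¹ (sub_mem hxW (iJ _ (i1 _ hxW)))
          convert h using 1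
          funext i; fin_cases i <;>
            simp [J₀, B₁, Matrix.mulVec, dotProduct, Fin.sum_univ_four] <;> field_simp <;> ring
        have hP1 : ![x 2, x 3, 0, 0] ∈ V := by
          have h := i2 _ (V.smul_mem (2 : F)⁻¹ (add_mem hxW (iJ _ (i1 _ hxW))))
          convert h using 1
          funext i; fin_cases i <;>
            simp [J₀, B₁, B₂, Matrix.mulVec, dotProduct, Fin.sum_univ_four] <;> field_simp <;> ring
        have hJv : ∀ y : Fin 4 → F, J₀ F *ᵥ y = ![-y 1, y 0, -y 3, y 2] := fun y => by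
          funext i; fin_cases i <;> simp [J₀, Matrix.mulVec, dotProduct, Fin.sum_univ_four]
        have hB2v : ∀ y : Fin 4 → F, B₂ F *ᵥ y = ![y 2, y 3, -y 0, -y 1] := fun y => by
          funext i; fin_cases i <;> simp [B₂, Matrix.mulVec, dotProduct, Fin.sum_univ_four]
        have key : ∀ p q : F, (p ≠ 0 ∨ q ≠ 0) → ![p, q, 0, 0] ∈ V → ![1, 0, 0, 0] ∈ V := by
          intro p q hne hmem
          have hn0 : p * p + q * q ≠ 0 := by
            intro h
            by_cases hp : p = 0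
            · subst hp
              rcases hne with h' | h'
              · exact h' rfl
              · exact h' (mul_self_eq_zero.1 (by linear_combination h))
            · rw [hsq p hp] at h
              by_cases hq0 : q = 0
              · subst hq0; simp at h
              · rw [hsq q hq0] at h; exact h2 (by linear_combination h)
          have h := V.smul_mem (p * p + q * q)⁻¹ (sub_mem (V.smul_mem p hmem) (V.smul_mem q (iJ _ hmem)))
          convert h using 1
          have hden := inv_mul_cancel₀ hn0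
          funext i; fin_cases i <;> simp [hJv] <;>
            first | ring1 | linear_combination -hden | linear_combination hden | exact Or.inr (by ring1)
        have he0 : ![(1 : F), 0, 0, 0] ∈ V := by
          obtain ⟨i, hi⟩ := Function.ne_iff.1 hx0
          fin_cases i
          · exact key _ _ (Or.inl hi) hP0
          · exact key _ _ (Or.inr hi) hP0
          · exact key _ _ (Or.inl hi) hP1
          · exact key _ _ (Or.inr hi) hP1
        refine eq_top_iff.2 fun y _ => ?_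
        have e2 := V.smul_mem (-1 : F) (i2 _ he0)
        rw [show y = y 0 • ![(1 : F), 0, 0, 0] + y 1 • (J₀ F *ᵥ ![(1 : F), 0, 0, 0]) +
          y 2 • ((-1 : F) • (B₂ F *ᵥ ![(1 : F), 0, 0, 0])) +
          y 3 • (J₀ F *ᵥ ((-1 : F) • (B₂ F *ᵥ ![(1 : F), 0, 0, 0]))) by
            funext i; fin_cases i <;> simp [hJv, hB2v]]
        exact add_mem (add_mem (add_mem (V.smul_mem _ he0) (V.smul_mem _ (iJ _ he0)))
          (V.smul_mem _ e2)) (V.smul_mem _ (iJ _ e2))
      refine eq_top_iff.2 fun w _ => ?_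
      obtain ⟨x, rfl⟩ := pullForm_surj e P w
      have : x ∈ W.comap L := htop ▸ Submodule.mem_top
      rw [Submodule.mem_comap, hL] at this
      exact this
    · obtain ⟨X, rfl⟩ := (frAlg e P).surjective M
      have hX : ∀ N ∈ ({b₁, b₂, j, c} : Set (GL (Fin 4) F)),
          X * (N : Matrix (Fin 4) (Fin 4) F) = (N : Matrix (Fin 4) (Fin 4) F) * X := fun N hN => by
        have h := mem_commutant.1 hM _ (hm N hN)
        rw [hφ, frU_val, ← map_mul, ← map_mul] at h
        exact ((frAlg e P).injective h).symm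
      have hs := centre_shape hq (hj ▸ hX j (by simp)) (hb₁ ▸ hX b₁ (by simp)) (hb₂ ▸ hX b₂ (by simp))
      refine ⟨X 0 0, ?_⟩
      have h4 := congrFun (congrFun (hc ▸ hX c (by simp) : X * C₀ F = C₀ F * X) 0) 2
      rw [hs] at h4
      simp [C₀, J₀, Matrix.mul_apply, Fin.sum_univ_four] at h4
      have h10 : X 1 0 = 0 := (mul_eq_zero.1 (show (2 : F) * X 1 0 = 0 by linear_combination -h4)).resolve_left h2
      conv_lhs => rw [hs, h10, zero_smul, add_zero, map_smul, map_one]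
  have hrel : ∀ {x y : GL (Fin 4) F}, (x : Matrix (Fin 4) (Fin 4) F) * (y : Matrix _ _ F) =
      -((y : Matrix (Fin 4) (Fin 4) F) * (x : Matrix _ _ F)) → φ x * φ y = scalarGL ι (-1) * (φ y * φ x) := by
    intro x y h
    rw [← hφn, ← hφ, ← map_mul, ← map_mul, ← map_mul]
    congr 1
    exact Units.ext (by simp only [Units.val_mul, hnv, h, neg_one_mul])
  have hrel' : ∀ {x y : GL (Fin 4) F}, (x : Matrix (Fin 4) (Fin 4) F) * (y : Matrix _ _ F) =
      (y : Matrix (Fin 4) (Fin 4) F) * (x : Matrix _ _ F) → φ x * φ y = φ y * φ x := by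
    intro x y h
    rw [← map_mul, ← map_mul]
    exact congrArg φ (Units.ext (by simpa using h))
  obtain ⟨htype, hfix, hcard, hcz, hminus⟩ := quat_four hq hι hf halt
    (b₁ := φ b₁) (b₂ := φ b₂) (j := φ j) (c := φ c)
    (fun s hs => by
      rw [← hset] at hs
      obtain ⟨M, hM, rfl⟩ := hs
      rw [← hφn, ← hφ, ← map_mul]
      refine congrArg φ (Units.ext ?_)
      rw [Units.val_mul, hnv]
      rcases hM with rfl | rfl | rfl | rfl
      · rw [hb₁]; exact sq_B₁
      · rw [hb₂]; exact sq_B₂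
      · rw [hj]; exact sq_J₀
      · rw [hc]; exact sq_C₀ h3)
    (fun s hs => by
      rw [← hset] at hs
      obtain ⟨M, hM, rfl⟩ := hs
      refine hiso4 M ?_
      rcases hM with rfl | rfl | rfl | rfl
      · rw [hb₁]; exact s1
      · rw [hb₂]; exact s2
      · rw [hj]; exact sJ
      · rw [hc]; exact sC)
    (hrel (by rw [hb₁, hb₂]; exact r₁)) (hrel (by rw [hc, hb₂]; exact r₅))
    (hrel (by rw [hc, hj]; exact r₆)) (hrel' (by rw [hj, hb₁]; exact r₂))
    (hrel' (by rw [hj, hb₂]; exact r₃)) (hrel' (by rw [hc, hb₁]; exact r₄)) habs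
  refine ⟨_, htype, habs, hfix, hcard, hcz, hminus, fun g hgK hgf => ?_⟩
  have : Finite (Subgroup.closure ({φ b₁, φ b₂, φ j, φ c} : Set (GL ι F))) :=
    Nat.finite_of_card_ne_zero (by rw [hcard]; norm_num)
  refine mem_normalizer_of_conj fun y hy => ?_
  obtain ⟨X, rfl⟩ := (frU e P).surjective g
  let R₀ := Subgroup.closure ({b₁, b₂, j, c} : Set (GL (Fin 4) F))
  have hmap : R₀.map φ = Subgroup.closure ({φ b₁, φ b₂, φ j, φ c} : Set (GL ι F)) := by
    rw [MonoidHom.map_closure, hset]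
  rw [← hmap] at hy ⊢
  obtain ⟨y, hy, rfl⟩ := hy
  refine ⟨X * y * X⁻¹, ?_, by rw [map_mul, map_mul, map_inv]; rfl⟩
  -- the images of the generators
  have mem₁ : b₁ ∈ R₀ := Subgroup.subset_closure (by simp)
  have mem₂ : b₂ ∈ R₀ := Subgroup.subset_closure (by simp)
  have mem₃ : j ∈ R₀ := Subgroup.subset_closure (by simp)
  have mem₄ : c ∈ R₀ := Subgroup.subset_closure (by simp)
  have hneg : ∀ {w : GL (Fin 4) F}, w ∈ R₀ → ∀ {x : GL (Fin 4) F},
      (x : Matrix (Fin 4) (Fin 4) F) = -(w : Matrix (Fin 4) (Fin 4) F) → x ∈ R₀ := by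
    intro w hw x hx
    have : x = b₁ * b₁ * w := Units.ext (by rw [Units.val_mul, Units.val_mul, hb₁, sq_B₁, neg_one_mul, hx])
    rw [this]
    exact mul_mem (mul_mem mem₁ mem₁) hw
  have hXsim : (X : Matrix (Fin 4) (Fin 4) F)ᵀ * J₀ F * (X : Matrix (Fin 4) (Fin 4) F) = J₀ F :=
    sim_of_pull (c := 1) one_ne_zero (fun x y => by rw [one_mul]; exact hpull x y) (frU_val e P X) hgf
  have hXJ : (X * j * X⁻¹ : GL (Fin 4) F) = j ∨ ((X * j * X⁻¹ : GL (Fin 4) F) : Matrix (Fin 4) (Fin 4) F) = -J₀ F := by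
    have hk := (hgK J).1 hJK
    rw [← hPJ, frU_val, ← map_inv, frU_val, ← map_mul, ← map_mul] at hk
    rcases hroots _ hk (by
      rw [← map_mul, show (X : Matrix (Fin 4) (Fin 4) F) * J₀ F * (X⁻¹ : GL (Fin 4) F) *
        ((X : Matrix (Fin 4) (Fin 4) F) * J₀ F * (X⁻¹ : GL (Fin 4) F)) = -1 by
          calc _ = (X : Matrix (Fin 4) (Fin 4) F) * (J₀ F * (((X⁻¹ : GL (Fin 4) F) : Matrix (Fin 4) (Fin 4) F) * (X : Matrix (Fin 4) (Fin 4) F)) * J₀ F) *
                ((X⁻¹ : GL (Fin 4) F) : Matrix (Fin 4) (Fin 4) F) := by simp only [mul_assoc]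
            _ = _ := by rw [Units.inv_mul, mul_one, sq_J₀, mul_neg, mul_one, neg_mul, Units.mul_inv],
        map_neg, map_one]) with h | h
    · left
      refine Units.ext ?_
      rw [Units.val_mul, Units.val_mul, hj]
      rw [← hPJ] at h
      exact (frAlg e P).injective h
    · right
      rw [Units.val_mul, Units.val_mul, hj]
      rw [← hPJ, ← map_neg] at h
      exact (frAlg e P).injective h
  have hsimc : ∀ {u w : Matrix (Fin 4) (Fin 4) F}, uᵀ * J₀ F * u = J₀ F → wᵀ * J₀ F * w = J₀ F →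
      (u * w)ᵀ * J₀ F * (u * w) = J₀ F := by
    intro u w hu hw
    rw [Matrix.transpose_mul, show wᵀ * uᵀ * J₀ F * (u * w) = wᵀ * (uᵀ * J₀ F * u) * w by
      simp only [mul_assoc], hu, hw]
  have hXinv : ((X⁻¹ : GL (Fin 4) F) : Matrix (Fin 4) (Fin 4) F)ᵀ * J₀ F * ((X⁻¹ : GL (Fin 4) F) : Matrix (Fin 4) (Fin 4) F) = J₀ F := by
    conv_lhs => rw [← hXsim]
    simp only [mul_assoc, Units.mul_inv, mul_one]
    rw [← mul_assoc, ← Matrix.transpose_mul, Units.mul_inv, Matrix.transpose_one, one_mul]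
  have hXJ' : ∀ X' : GL (Fin 4) F, (X' = X ∨ X' = X⁻¹) → ∀ w : GL (Fin 4) F,
      (w * j = j * w → X' * w * X'⁻¹ * j = j * (X' * w * X'⁻¹)) ∧
      ((w : Matrix (Fin 4) (Fin 4) F) * J₀ F = -(J₀ F * (w : Matrix (Fin 4) (Fin 4) F)) →
        ((X' * w * X'⁻¹ : GL (Fin 4) F) : Matrix (Fin 4) (Fin 4) F) * J₀ F =
          -(J₀ F * ((X' * w * X'⁻¹ : GL (Fin 4) F) : Matrix (Fin 4) (Fin 4) F))) := by
    intro X' hX' w
    obtain ⟨s, hs, hXs⟩ : ∃ s : F, s * s = 1 ∧ ((X' : Matrix (Fin 4) (Fin 4) F) * J₀ F = s • (J₀ F * (X' : Matrix (Fin 4) (Fin 4) F))) := by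
      obtain ⟨s, hs, e1⟩ : ∃ s : F, s * s = 1 ∧ (X : Matrix (Fin 4) (Fin 4) F) * J₀ F = s • (J₀ F * (X : Matrix (Fin 4) (Fin 4) F)) := by
        rcases hXJ with h | h
        · refine ⟨1, one_mul 1, ?_⟩
          rw [one_smul, ← hj, ← Units.val_mul, ← Units.val_mul, mul_inv_eq_iff_eq_mul.1 h]
        · refine ⟨-1, by ring, ?_⟩
          rw [neg_smul, one_smul, ← neg_mul, ← h, ← hj, ← Units.val_mul, ← Units.val_mul, inv_mul_cancel_right]
      refine ⟨s, hs, ?_⟩
      rcases hX' with rfl | rfl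
      · exact e1
      · have h := congrArg (fun M => ((X⁻¹ : GL (Fin 4) F) : Matrix (Fin 4) (Fin 4) F) * M * ((X⁻¹ : GL (Fin 4) F) : Matrix (Fin 4) (Fin 4) F)) e1
        simp only [Matrix.mul_smul, Matrix.smul_mul, ← mul_assoc, Units.inv_mul, one_mul] at h
        rw [mul_assoc, Units.mul_inv, mul_one] at h
        rw [h, smul_smul, hs, one_smul]
    have hXs' : ((X'⁻¹ : GL (Fin 4) F) : Matrix (Fin 4) (Fin 4) F) * J₀ F = s • (J₀ F * ((X'⁻¹ : GL (Fin 4) F) : Matrix (Fin 4) (Fin 4) F)) := by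
      have h := congrArg (fun M => ((X'⁻¹ : GL (Fin 4) F) : Matrix (Fin 4) (Fin 4) F) * M * ((X'⁻¹ : GL (Fin 4) F) : Matrix (Fin 4) (Fin 4) F)) hXs
      simp only [Matrix.mul_smul, Matrix.smul_mul, ← mul_assoc, Units.inv_mul, one_mul] at h
      rw [mul_assoc, Units.mul_inv, mul_one] at h
      rw [h, smul_smul, hs, one_smul]
    have hmove : ((X' * w * X'⁻¹ : GL (Fin 4) F) : Matrix (Fin 4) (Fin 4) F) * J₀ F = s • ((X' : Matrix (Fin 4) (Fin 4) F) * ((w : Matrix (Fin 4) (Fin 4) F) * J₀ F) * ((X'⁻¹ : GL (Fin 4) F) : Matrix (Fin 4) (Fin 4) F)) := by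
      rw [Units.val_mul, Units.val_mul, mul_assoc, hXs', Matrix.mul_smul]
      simp only [mul_assoc]
    have hback : J₀ F * ((X' * w * X'⁻¹ : GL (Fin 4) F) : Matrix (Fin 4) (Fin 4) F) = s • ((X' : Matrix (Fin 4) (Fin 4) F) * (J₀ F * (w : Matrix (Fin 4) (Fin 4) F)) * ((X'⁻¹ : GL (Fin 4) F) : Matrix (Fin 4) (Fin 4) F)) := by
      rw [← mul_assoc (X' : Matrix (Fin 4) (Fin 4) F), hXs, Matrix.smul_mul, Matrix.smul_mul, smul_smul, hs, one_smul,
        Units.val_mul, Units.val_mul]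
      simp only [mul_assoc]
    refine ⟨fun h => Units.ext ?_, fun h => ?_⟩
    · have h' := congrArg Units.val h
      rw [Units.val_mul, Units.val_mul, hj] at h'
      rw [Units.val_mul (X' * w * X'⁻¹), Units.val_mul j, hj, hmove, hback, h']
    · rw [hmove, hback, h, mul_neg, neg_mul, smul_neg]
  -- conjugates of quaternions are quaternions
  have hsix : ∀ X' : GL (Fin 4) F, (X' = X ∨ X' = X⁻¹) → ∀ w : GL (Fin 4) F,
      (w = b₁ ∨ w = b₂) → (X' * w * X'⁻¹) ∈ R₀ ∧ a * (X' * w * X'⁻¹) = X' * w * X'⁻¹ * a := by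
    intro X' hX' w hw
    obtain ⟨hwj, hws, hw2, hw1⟩ : w * j = j * w ∧ (w : Matrix (Fin 4) (Fin 4) F)ᵀ * J₀ F * w = J₀ F ∧
        w * w = n ∧ ((w : Matrix (Fin 4) (Fin 4) F) ≠ J₀ F ∧ (w : Matrix (Fin 4) (Fin 4) F) ≠ -J₀ F) := by
      have hne1 : B₁ F ≠ J₀ F := fun h => by
        have := congrFun (congrFun h 2) 3
        simp [B₁, J₀] at this
        exact h2 (by linear_combination this)
      have hne1' : B₁ F ≠ -J₀ F := fun h => by
        have := congrFun (congrFun h 1) 0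
        simp [B₁, J₀] at this
        exact h2 (by linear_combination this)
      have hne2 : B₂ F ≠ J₀ F := fun h => by
        have := congrFun (congrFun h 0) 2
        simp [B₂, J₀] at this
      have hne2' : B₂ F ≠ -J₀ F := fun h => by
        have := congrFun (congrFun h 0) 2
        simp [B₂, J₀] at this
      rcases hw with rfl | rfl
      · exact ⟨Units.ext (by rw [Units.val_mul, Units.val_mul, hb₁, hj, r₂]), by rw [hb₁]; exact s1,
          Units.ext (by rw [Units.val_mul, hb₁, hnv, sq_B₁]), by rw [hb₁]; exact ⟨hne1, hne1'⟩⟩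
      · exact ⟨Units.ext (by rw [Units.val_mul, Units.val_mul, hb₂, hj, r₃]), by rw [hb₂]; exact s2,
          Units.ext (by rw [Units.val_mul, hb₂, hnv, sq_B₂]), by rw [hb₂]; exact ⟨hne2, hne2'⟩⟩
    obtain ⟨v, hv⟩ : ∃ v, X' * w * X'⁻¹ = v := ⟨_, rfl⟩
    have hvc : (v : Matrix (Fin 4) (Fin 4) F) * J₀ F = J₀ F * (v : Matrix (Fin 4) (Fin 4) F) := by
      rw [← hj, ← Units.val_mul, ← Units.val_mul, ← hv, (hXJ' X' hX' w).1 hwj]
    have hvs : (v : Matrix (Fin 4) (Fin 4) F)ᵀ * J₀ F * (v : Matrix (Fin 4) (Fin 4) F) = J₀ F := by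
      rw [← hv, Units.val_mul, Units.val_mul]
      rcases hX' with rfl | rfl
      · exact hsimc (hsimc hXsim hws) hXinv
      · rw [inv_inv]; exact hsimc (hsimc hXinv hws) hXsim
    have hv4 : (v : Matrix (Fin 4) (Fin 4) F) * (v : Matrix (Fin 4) (Fin 4) F) = -1 := by
      rw [← Units.val_mul, ← hv, show X' * w * X'⁻¹ * (X' * w * X'⁻¹) = X' * (w * w) * X'⁻¹ by group, hw2,
        ← hn, ← scalarGL_comm, hn, mul_assoc, mul_inv_cancel, mul_one, hnv]
    have hback : ∀ u : GL (Fin 4) F, (u : Matrix (Fin 4) (Fin 4) F) = (v : Matrix (Fin 4) (Fin 4) F) →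
        X'⁻¹ * u * X' = w := fun u hu => by rw [Units.ext hu, ← hv]; group
    have hne : (v : Matrix (Fin 4) (Fin 4) F) ≠ J₀ F ∧ (v : Matrix (Fin 4) (Fin 4) F) ≠ -J₀ F := by
      have hX'' : X'⁻¹ = X ∨ X'⁻¹ = X⁻¹ := by
        rcases hX' with rfl | rfl
        · exact Or.inr rfl
        · exact Or.inl (inv_inv X)
      have hjj : ∀ Y : GL (Fin 4) F, (Y = X ∨ Y = X⁻¹) →
          ((Y * j * Y⁻¹ : GL (Fin 4) F) : Matrix (Fin 4) (Fin 4) F) = J₀ F ∨
          ((Y * j * Y⁻¹ : GL (Fin 4) F) : Matrix (Fin 4) (Fin 4) F) = -J₀ F := by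
        rintro Y (rfl | rfl)
        · rcases hXJ with h | h
          · exact Or.inl (by rw [h, hj])
          · exact Or.inr h
        · rcases hXJ with h | h
          · left; rw [show X⁻¹ * j * X⁻¹⁻¹ = j from by
              conv_lhs => rw [← h]
              group, hj]
          · right
            have e : X * j * X⁻¹ = n * j := Units.ext (by rw [h, Units.val_mul, hnv, hj, neg_one_mul])
            have e' : X⁻¹ * j * X⁻¹⁻¹ = n * j := by
              have hnn : n * n = 1 := Units.ext (by rw [Units.val_mul, hnv, Units.val_one, neg_mul_neg, one_mul])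
              have h2 : X⁻¹ * (n * (n * j)) * X⁻¹⁻¹ = X⁻¹ * (n * (X * j * X⁻¹)) * X⁻¹⁻¹ := by rw [e]
              rw [← mul_assoc n n, hnn, one_mul] at h2
              rw [h2, ← hn, show X⁻¹ * (scalarGL (Fin 4) (-1) * (X * j * X⁻¹)) * X⁻¹⁻¹ =
                X⁻¹ * scalarGL (Fin 4) (-1) * X * j by group, ← scalarGL_comm, inv_mul_cancel_right]
            rw [e', Units.val_mul, hnv, hj, neg_one_mul]
      have hwv : X'⁻¹ * v * X'⁻¹⁻¹ = w := by rw [inv_inv]; exact hback v rfl
      constructor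
      · intro h
        obtain rfl : v = j := Units.ext (by rw [h, hj])
        rcases hjj _ hX'' with h' | h' <;> rw [hwv] at h'
        · exact hw1.1 h'
        · exact hw1.2 h'
      · intro h
        obtain rfl : v = n * j := Units.ext (by rw [h, Units.val_mul, hnv, hj, neg_one_mul])
        rw [show X'⁻¹ * (n * j) * X'⁻¹⁻¹ = (X'⁻¹ * n) * j * X'⁻¹⁻¹ by group, ← hn, ← scalarGL_comm, hn,
          show n * X'⁻¹ * j * X'⁻¹⁻¹ = n * (X'⁻¹ * j * X'⁻¹⁻¹) by group] at hwv
        rcases hjj _ hX'' with h' | h'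
        · exact hw1.2 (by rw [← hwv, Units.val_mul, hnv, h', neg_one_mul])
        · exact hw1.1 (by rw [← hwv, Units.val_mul, hnv, h', neg_one_mul, neg_neg])
    rw [hv]
    have hb12 : ((b₁ * b₂ : GL (Fin 4) F) : Matrix (Fin 4) (Fin 4) F) = B₁ F * B₂ F := by
      rw [Units.val_mul, hb₁, hb₂]
    refine ⟨?_, Units.ext ?_⟩
    · rcases six hq hvc hvs hv4 hne.1 hne.2 with h | h | h | h | h | h
      · rw [show v = b₁ from Units.ext (h.trans hb₁.symm)]; exact mem₁
      · exact hneg mem₁ (h.trans (by rw [hb₁]))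
      · rw [show v = b₂ from Units.ext (h.trans hb₂.symm)]; exact mem₂
      · exact hneg mem₂ (h.trans (by rw [hb₂]))
      · rw [show v = b₁ * b₂ from Units.ext (h.trans hb12.symm)]; exact mul_mem mem₁ mem₂
      · exact hneg (mul_mem mem₁ mem₂) (h.trans (by rw [hb12]))
    · rw [Units.val_mul, Units.val_mul, ha]
      have h12 : A₀ F * (B₁ F * B₂ F) = B₁ F * B₂ F * A₀ F := by
        rw [← mul_assoc, r₇, mul_assoc, r₈, mul_assoc]
      rcases six hq hvc hvs hv4 hne.1 hne.2 with h | h | h | h | h | h <;>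
        simp only [h, mul_neg, neg_mul, r₇, r₈, h12]
  have hc_eq : c = a * b₁ := Units.ext (by rw [Units.val_mul, ha, hb₁, hc, AB₁])
  have ha_eq : a = c * (b₁ * b₁ * b₁) := by
    rw [hc_eq, show a * b₁ * (b₁ * b₁ * b₁) = a * ((b₁ * b₁) * (b₁ * b₁)) by group]
    refine Units.ext ?_
    simp only [Units.val_mul, hb₁, sq_B₁, neg_mul_neg, one_mul, mul_one]
  have mema : a ∈ R₀ := ha_eq ▸ mul_mem mem₄ (mul_mem (mul_mem mem₁ mem₁) mem₁)
  have haa : a * a = 1 := Units.ext (by rw [Units.val_mul, ha, Units.val_one, sq_A₀ h3])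
  have hxa : X * a * X⁻¹ ∈ R₀ := by
    obtain ⟨x, hx⟩ : ∃ x, X * a * X⁻¹ = x := ⟨_, rfl⟩
    obtain ⟨z, hz⟩ : ∃ z, a * x = z := ⟨_, rfl⟩
    have hxJ : (x : Matrix (Fin 4) (Fin 4) F) * J₀ F = -(J₀ F * (x : Matrix (Fin 4) (Fin 4) F)) :=
      hx ▸ (hXJ' X (Or.inl rfl) a).2 (by rw [ha]; exact r₉)
    have hcom : ∀ w, (w = b₁ ∨ w = b₂) → (z : Matrix (Fin 4) (Fin 4) F) * (w : Matrix (Fin 4) (Fin 4) F) =
        (w : Matrix (Fin 4) (Fin 4) F) * (z : Matrix (Fin 4) (Fin 4) F) := by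
      intro w hw
      rw [← Units.val_mul, ← Units.val_mul]
      congr 1
      have h1 := (hsix X⁻¹ (Or.inr rfl) w hw).2
      rw [inv_inv] at h1
      have hxw : x * w = w * x := by
        rw [← hx]
        calc X * a * X⁻¹ * w = X * (a * (X⁻¹ * w * X)) * X⁻¹ := by group
          _ = X * (X⁻¹ * w * X * a) * X⁻¹ := by rw [h1]
          _ = _ := by group
      have haw : a * w = w * a := Units.ext (by
        rw [Units.val_mul, Units.val_mul, ha]
        rcases hw with rfl | rfl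
        · rw [hb₁]; exact r₇
        · rw [hb₂]; exact r₈)
      rw [← hz, mul_assoc, hxw, ← mul_assoc, haw, mul_assoc]
    have hzs := centre_shape hq (y := (z : Matrix (Fin 4) (Fin 4) F)) (by
        rw [← hz, Units.val_mul, ha, mul_assoc, hxJ, mul_neg, ← mul_assoc, r₉, neg_mul, neg_neg, mul_assoc])
      (hb₁ ▸ hcom b₁ (Or.inl rfl)) (hb₂ ▸ hcom b₂ (Or.inr rfl))
    have hzsim : (z : Matrix (Fin 4) (Fin 4) F)ᵀ * J₀ F * (z : Matrix (Fin 4) (Fin 4) F) = J₀ F := by
      rw [← hz, ← hx, Units.val_mul, Units.val_mul, Units.val_mul]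
      exact hsimc (ha.symm ▸ sA) (hsimc (hsimc hXsim (ha.symm ▸ sA)) hXinv)
    obtain ⟨p, hp⟩ : ∃ p, (z : Matrix (Fin 4) (Fin 4) F) 0 0 = p := ⟨_, rfl⟩
    obtain ⟨r, hr⟩ : ∃ r, (z : Matrix (Fin 4) (Fin 4) F) 1 0 = r := ⟨_, rfl⟩
    rw [hp, hr] at hzs
    have hpr := congrFun (congrFun hzsim 1) 0
    rw [hzs] at hpr
    simp [J₀, Matrix.mul_apply, Fin.sum_univ_four] at hpr
    have hzR : z ∈ R₀ := by
      by_cases hr0 : r = 0
      · subst hr0
        rcases mul_self_eq_one_iff.1 (show p * p = 1 by linear_combination hpr) with rfl | rfl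
        · rw [show z = 1 from Units.ext (by rw [hzs]; simp)]; exact one_mem _
        · exact hneg (one_mem R₀) (by rw [hzs]; simp)
      · have hp0 : p = 0 := mul_self_eq_zero.1 (by linear_combination hpr - hsq r hr0)
        subst hp0
        rcases mul_self_eq_one_iff.1 (hsq r hr0) with rfl | rfl
        · rw [show z = j from Units.ext (by rw [hzs, hj]; simp)]; exact mem₃
        · exact hneg mem₃ (by rw [hzs, hj]; simp)
    rw [hx, show x = a * z by rw [← hz, ← mul_assoc, haa, one_mul]]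
    exact mul_mem mema hzR
  have hgens : R₀ ≤ R₀.comap (MulAut.conj X).toMonoidHom := by
    refine (Subgroup.closure_le _).2 ?_
    intro s hs
    show X * s * X⁻¹ ∈ R₀
    rcases hs with rfl | rfl | rfl | rfl
    · exact (hsix X (Or.inl rfl) s (Or.inl rfl)).1
    · exact (hsix X (Or.inl rfl) s (Or.inr rfl)).1
    · rcases hXJ with h | h
      · rw [h]; exact mem₃
      · exact hneg mem₃ (h.trans (by rw [hj]))
    · rw [hc_eq, show X * (a * b₁) * X⁻¹ = X * a * X⁻¹ * (X * b₁ * X⁻¹) by group]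
      exact mul_mem hxa (hsix X (Or.inl rfl) b₁ (Or.inl rfl)).1
  exact hgens hy

end CfsgLib.Aschbacher
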