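import Cfsg.Agent.Lib.Aschbacher.PrimeDim

/-!
The frame of a group of isometries coming from a non-scalar normalised subgroup, in odd prime
dimension, is orthogonal and permuted transitively.
-/

set_option autoImplicit false

namespace CfsgLib.Aschbacher

open Matrix Module

variable {F : Type*} [Field F] {ι : Type} [Fintype ι] [DecidableEq ι] {n : ℕ}

/-- The frame coming from a non-scalar normalised subgroup is orthogonal. -/
theorem frame_orthogonal_of_sesq (hp : n.Prime) (hodd : Odd n) {σ : F ≃+* F}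
    {f : (ι → F) → (ι → F) → F} (hs : IsSesq σ f) (hnd : Cfsg.Geo.IsNondegenerateForm f)
    (hrefl : ∀ u v, f u v = 0 → f v u = 0)
    {H A : Subgroup (GL ι F)} (hirr : Irr H)
    (hHf : Cfsg.Geo.FixesForm (Cfsg.Geo.matrixSet H) f)
    (hAf : Cfsg.Geo.FixesForm (Cfsg.Geo.matrixSet A) f)
    (hn : ∀ g ∈ H, ∀ a ∈ A, g * a * g⁻¹ ∈ A) (hAs : ¬ A ≤ Cfsg.Geo.scalars ι F)
    {D : Fin n → Submodule F (ι → F)} (hD : Cfsg.Geo.IsMDecomposition 1 D)
    (hle : H ≤ Cfsg.Geo.decompositionStabilizer D) (hinv : ∀ i, Inv A (D i)) :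
    Cfsg.Geo.IsNondegenerateMDecomposition f 1 D ∧
      ∀ i j, ∃ h ∈ H, (D i).map (Matrix.toLin' (h : Matrix ι ι F)) = D j := by
  classical
  have hne : ∀ i, ∃ b, b ∈ D i ∧ b ≠ 0 := fun i => by
    refine Submodule.exists_mem_ne_zero_of_ne_bot fun h => ?_
    have := hD.finrank_eq i
    rw [h, finrank_bot] at this
    omega
  choose b hb hb0 using hne
  have hline : ∀ i, ∀ w ∈ D i, ∃ c : F, c • b i = w := by
    intro i w hw
    obtain ⟨c, hc⟩ := (finrank_eq_one_iff_of_nonzero' (⟨b i, hb i⟩ : D i)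
      (by simpa using hb0 i)).1 (hD.finrank_eq i) ⟨w, hw⟩
    exact ⟨c, congrArg Subtype.val hc⟩
  have hspan : ∀ v, v ∈ Submodule.span F (Set.range b) := by
    intro v
    have hle' : (⊤ : Submodule F (ι → F)) ≤ Submodule.span F (Set.range b) := by
      rw [← hD.iSup_eq_top]
      refine iSup_le fun i w hw => ?_
      obtain ⟨c, rfl⟩ := hline i w hw
      exact Submodule.smul_mem _ c (Submodule.subset_span ⟨i, rfl⟩)
    exact hle' Submodule.mem_top
  -- the characters
  have hchar : ∀ i, ∀ a ∈ A, ∃ c : F, (a : Matrix ι ι F) *ᵥ b i = c • b i :=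
    fun i a ha => (hline i _ (hinv i a ha _ (hb i))).imp fun c hc => hc.symm
  let χ : Fin n → GL ι F → F := fun i a =>
    if ha : a ∈ A then Classical.choose (hchar i a ha) else 1
  have hχ : ∀ i, ∀ a ∈ A, (a : Matrix ι ι F) *ᵥ b i = χ i a • b i := fun i a ha => by
    simp only [χ, dif_pos ha]
    exact Classical.choose_spec (hchar i a ha)
  have hχu : ∀ i, ∀ a ∈ A, ∀ c : F,
      (a : Matrix ι ι F) *ᵥ b i = c • b i → χ i a = c := fun i a ha c hc =>
    smul_left_injective F (hb0 i) ((hχ i a ha).symm.trans hc)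
  -- `H` permutes the lines
  have hperm : ∀ h ∈ H, ∃ π : Equiv.Perm (Fin n),
      (∀ i, (D i).map (Matrix.toLin' (h : Matrix ι ι F)) = D (π i)) ∧ ∀ i, ∃ c : F, c ≠ 0 ∧
      (h : Matrix ι ι F) *ᵥ b i = c • b (π i) := by
    intro h hh
    obtain ⟨π, hπ⟩ := hle hh
    refine ⟨π, hπ, fun i => ?_⟩
    obtain ⟨c, hc⟩ := hline (π i) ((h : Matrix ι ι F) *ᵥ b i) (hπ i ▸ ⟨b i, hb i, rfl⟩)
    refine ⟨c, fun h0 => hb0 i (mulVec_injective h ?_), hc.symm⟩
    show (h : Matrix ι ι F) *ᵥ b i = (h : Matrix ι ι F) *ᵥ 0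
    rw [← hc, h0, zero_smul, Matrix.mulVec_zero]
  choose π hπmap hπ using hperm
  have htrans : ∀ i j, ∃ h, ∃ hh : h ∈ H, π h hh i = j := by
    intro i j
    by_contra hcon
    push Not at hcon
    let O : Set (Fin n) := {k | ∃ h, ∃ hh : h ∈ H, π h hh i = k}
    let W : Submodule F (ι → F) := Submodule.span F (b '' O)
    have hW : Inv H W := by
      intro g hg w hw
      refine Submodule.span_induction ?_ ?_ ?_ ?_ hw
      · rintro _ ⟨k, ⟨h, hh, rfl⟩, rfl⟩
        obtain ⟨c, hc0, hc⟩ := hπ g hg (π h hh i)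
        rw [hc]
        refine Submodule.smul_mem _ _ (Submodule.subset_span ⟨_, ?_, rfl⟩)
        refine ⟨g * h, H.mul_mem hg hh, ?_⟩
        obtain ⟨c', hc'0, hc'⟩ := hπ h hh i
        obtain ⟨c'', hc''0, hc''⟩ := hπ (g * h) (H.mul_mem hg hh) i
        rw [mul_mulVec, hc', Matrix.mulVec_smul, hc, smul_smul] at hc''
        by_contra hne'
        have hli := hD.indep.linearIndependent D hb hb0
        have := hli.notMem_span_image (s := {π g hg (π h hh i)}) (x := π (g * h) (H.mul_mem hg hh) i)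
          (by simpa using hne')
        apply this
        rw [Set.image_singleton, Submodule.mem_span_singleton]
        refine ⟨c''⁻¹ * (c' * c), ?_⟩
        rw [← smul_smul, hc'', smul_smul, inv_mul_cancel₀ hc''0, one_smul]
      · simp
      · intro x y _ _ hx hy; rw [Matrix.mulVec_add]; exact add_mem hx hy
      · intro c x _ hx; rw [Matrix.mulVec_smul]; exact W.smul_mem c hx
    rcases irr_iff.1 hirr W hW with h0 | h0
    · obtain ⟨c, hc0, hc⟩ := hπ 1 H.one_mem i
      have : b (π 1 H.one_mem i) ∈ W := Submodule.subset_span ⟨_, ⟨1, H.one_mem, rfl⟩, rfl⟩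
      rw [h0, Submodule.mem_bot] at this
      exact hb0 _ this
    · have hli := hD.indep.linearIndependent D hb hb0
      refine hli.notMem_span_image (s := O) (x := j) ?_ (show b j ∈ W by rw [h0]; exact Submodule.mem_top)
      rintro ⟨h, hh, hk⟩
      exact hcon h hh hk
  -- characters transform equivariantly
  have hequiv : ∀ h, ∀ hh : h ∈ H, ∀ i, ∀ a ∈ A, χ (π h hh i) a = χ i (h⁻¹ * a * h) := by
    intro h hh i a ha
    have ha' : h⁻¹ * a * h ∈ A := by simpa using hn h⁻¹ (H.inv_mem hh) a ha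
    obtain ⟨c, hc0, hc⟩ := hπ h hh i
    refine hχu _ a ha _ (smul_right_injective _ hc0 ?_)
    show c • ((a : Matrix ι ι F) *ᵥ b (π h hh i)) = c • _
    rw [← Matrix.mulVec_smul, ← hc, ← mul_mulVec, show a * h = h * (h⁻¹ * a * h) by group,
      mul_mulVec, hχ i _ ha', Matrix.mulVec_smul, hc, smul_comm]
  have hdist : ∀ i j, (∀ a ∈ A, χ i a = χ j a) → i = j := by
    by_contra hcon
    push Not at hcon
    obtain ⟨i₀, j₀, hij, hne0⟩ := hcon
    let cls : Fin n → Finset (Fin n) := fun i => Finset.univ.filter fun j => ∀ a ∈ A, χ i a = χ j a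
    have hcls : ∀ h, ∀ hh : h ∈ H, ∀ i, (cls i).map (π h hh).toEmbedding ⊆ cls (π h hh i) := by
      intro h hh i j hj
      obtain ⟨k, hk, rfl⟩ := Finset.mem_map.1 hj
      simp only [cls, Finset.mem_filter, Finset.mem_univ, true_and] at hk ⊢
      intro a ha
      rw [hequiv h hh i a ha, Equiv.coe_toEmbedding, hequiv h hh k a ha]
      exact hk _ (by simpa using hn h⁻¹ (H.inv_mem hh) a ha)
    have hcard : ∀ i j, (cls i).card ≤ (cls j).card := by
      intro i j
      obtain ⟨h, hh, rfl⟩ := htrans i j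
      have := Finset.card_le_card (hcls h hh i)
      rwa [Finset.card_map] at this
    have hsum := Finset.card_eq_sum_card_image cls (Finset.univ : Finset (Fin n))
    have hfib : ∀ S ∈ Finset.image cls Finset.univ,
        (Finset.univ.filter fun i => cls i = S).card = (cls i₀).card := by
      intro S hS
      obtain ⟨i, -, rfl⟩ := Finset.mem_image.1 hS
      rw [← le_antisymm (hcard i i₀) (hcard i₀ i)]
      congr 1
      ext j
      simp only [cls, Finset.mem_filter, Finset.mem_univ, true_and]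
      constructor
      · intro h a ha
        have : j ∈ cls j := by simp [cls]
        rw [show cls j = cls i from h] at this
        exact (Finset.mem_filter.1 this).2 a ha
      · intro h
        refine Finset.filter_congr fun k _ => ⟨fun hk a ha => (h a ha).trans (hk a ha),
          fun hk a ha => (h a ha).symm.trans (hk a ha)⟩
    rw [Finset.sum_congr rfl hfib, Finset.sum_const, Finset.card_univ, Fintype.card_fin,
      smul_eq_mul] at hsum
    rcases hp.eq_one_or_self_of_dvd (cls i₀).card ⟨_, hsum.trans (mul_comm _ _)⟩ with h1 | h1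
    · have h2 : ({i₀, j₀} : Finset (Fin n)) ⊆ cls i₀ := by
        intro x hx
        simp only [Finset.mem_insert, Finset.mem_singleton] at hx
        simp only [cls, Finset.mem_filter, Finset.mem_univ, true_and]
        rcases hx with rfl | rfl
        · exact fun a _ => rfl
        · exact hij
      have := Finset.card_le_card h2
      rw [Finset.card_pair hne0, h1] at this
      omega
    · apply hAs
      intro a ha
      have hall : ∀ i, χ i₀ a = χ i a := fun i => by
        have hu : cls i₀ = Finset.univ := Finset.eq_univ_of_card _ (by rw [h1, Fintype.card_fin])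
        exact (Finset.mem_filter.1 (hu ▸ Finset.mem_univ i : i ∈ cls i₀)).2 a ha
      have heq : (a : Matrix ι ι F) = χ i₀ a • 1 := by
        refine Matrix.toLin'.injective (LinearMap.ext_on (Submodule.eq_top_iff'.2 hspan) ?_)
        rintro _ ⟨i, rfl⟩
        rw [Matrix.toLin'_apply, Matrix.toLin'_apply, hχ i a ha, Matrix.smul_mulVec,
          Matrix.one_mulVec, hall i]
      rw [Cfsg.Geo.mem_scalars_iff]
      haveI : Nonempty ι := not_isEmpty_iff.1 fun h => hb0 i₀ (Subsingleton.elim _ _)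
      refine ⟨Units.mk0 (χ i₀ a) fun h0 => a.ne_zero ?_, heq⟩
      rw [heq, h0, zero_smul]
  -- the pairing
  have hpair : ∀ i j, f (b i) (b j) ≠ 0 → ∀ a ∈ A, χ i a * σ (χ j a) = 1 := by
    intro i j hij a ha
    have h := hAf _ ⟨a, ha, rfl⟩ (b i) (b j)
    rw [hχ i a ha, hχ j a ha, hs.smul_left, hs.smul_right, ← mul_assoc] at h
    exact mul_right_cancel₀ hij (h.trans (one_mul _).symm)
  have hex : ∀ i, ∃ j, f (b i) (b j) ≠ 0 := by
    intro i
    by_contra hcon
    push Not at hcon
    obtain ⟨-, x, hx⟩ := hnd (b i) (hb0 i)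
    apply hx
    refine Submodule.span_induction ?_ ?_ ?_ ?_ (hspan x)
    · rintro _ ⟨j, rfl⟩; exact hcon j
    · simpa using hs.smul_right 0 (b i) (0 : ι → F)
    · intro u v _ _ hu hv; rw [hs.add_right, hu, hv, add_zero]
    · intro c u _ hu; rw [hs.smul_right, hu, mul_zero]
  have huniq : ∀ i j k, f (b i) (b j) ≠ 0 → f (b i) (b k) ≠ 0 → j = k := by
    intro i j k hj hk
    refine hdist j k fun a ha => σ.injective ?_
    have h := (hpair i j hj a ha).trans (hpair i k hk a ha).symm
    refine mul_left_cancel₀ (fun h0 => ?_) h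
    have := hpair i j hj a ha
    rw [h0, zero_mul] at this
    exact zero_ne_one this
  choose τ hτ using hex
  have hττ : ∀ i, τ (τ i) = i := fun i =>
    huniq (τ i) _ _ (hτ (τ i)) fun h => hτ i (hrefl _ _ h)
  let T : Equiv.Perm (Fin n) := ⟨τ, τ, hττ, hττ⟩
  haveI : Fact (Nat.Prime 2) := ⟨Nat.prime_two⟩
  obtain ⟨i₁, hi₁⟩ : ∃ i, T i = i :=
    Equiv.Perm.exists_fixed_point_of_prime (p := 2) (n := 1)
      (by rw [Fintype.card_fin, ← even_iff_two_dvd]; exact Nat.not_even_iff_odd.2 hodd)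
      (by ext i; simp [T, pow_two, hττ])
  have hfix : ∀ i, τ i = i := by
    intro i
    obtain ⟨h, hh, rfl⟩ := htrans i₁ i
    obtain ⟨c, hc0, hc⟩ := hπ h hh i₁
    refine huniq (π h hh i₁) _ _ (hτ _) fun h0 => ?_
    have h2 := hHf _ ⟨h, hh, rfl⟩ (b i₁) (b i₁)
    rw [hc, hs.smul_left, hs.smul_right, h0, mul_zero, mul_zero] at h2
    have h3 := hτ i₁
    rw [show τ i₁ = i₁ from hi₁] at h3
    exact h3 h2.symm
  refine ⟨⟨hD, fun i w hw hw0 => ?_, fun i j hij u hu v hv => ?_⟩, fun i j => ?_⟩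
  pick_goal 3
  · obtain ⟨h, hh, rfl⟩ := htrans i j
    exact ⟨h, hh, hπmap h hh i⟩
  · obtain ⟨c, rfl⟩ := hline i w hw
    have hc : c ≠ 0 := fun h => hw0 (by rw [h, zero_smul])
    have h := hτ i
    rw [hfix] at h
    refine ⟨⟨b i, hb i, ?_⟩, ⟨b i, hb i, ?_⟩⟩
    · rw [hs.smul_right]
      exact mul_ne_zero ((map_ne_zero_iff σ σ.injective).2 hc) h
    · rw [hs.smul_left]
      exact mul_ne_zero hc h
  · obtain ⟨c, rfl⟩ := hline i u hu
    obtain ⟨d, rfl⟩ := hline j v hv
    rw [hs.smul_left, hs.smul_right]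
    by_contra h0
    simp only [mul_eq_zero, not_or] at h0
    exact hij ((hfix i).symm.trans (huniq i _ _ (hτ i) h0.2.2))

end CfsgLib.Aschbacher
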