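import Cfsg.Agent.Lib.Aschbacher.ClassTwoTheorem
import Cfsg.Agent.Lib.Aschbacher.Factors

/-!
Aschbacher's theorem for the general linear groups over finite fields, in every dimension at least
three.
-/

set_option autoImplicit false

namespace CfsgLib.Aschbacher

open Matrix Module

open scoped commutatorElement

variable {F : Type*} [Field F] [Fintype F]

/-- A normalised subgroup gives a geometric class, consists of scalars, or is absolutely
irreducible. -/
theorem normalised_trichotomy {n : ℕ} (hn : 3 ≤ n) {H A : Subgroup (GL (Fin n) F)} (hirr : Irr H)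
    (hnA : ∀ g ∈ H, ∀ a ∈ A, g * a * g⁻¹ ∈ A) :
    (∃ M : Subgroup (GL (Fin n) F), InLinearClass' n F M ∧ H ≤ M) ∨
      A ≤ Cfsg.Geo.scalars (Fin n) F ∨ AbsIrr A := by
  classical
  have : Nonempty (Fin n) := ⟨⟨0, by omega⟩⟩
  have hfield : ∀ {e : ℕ} {K : Subalgebra F (Matrix (Fin n) (Fin n) F)},
      Cfsg.Geo.IsFieldSubalgebra e K → 1 < e → H ≤ Cfsg.Geo.subalgebraNormalizer K →
      ∃ M : Subgroup (GL (Fin n) F), InLinearClass' n F M ∧ H ≤ M := by
    intro e K hK he hHK
    obtain ⟨r, K₀, hr, hK₀, hle⟩ := exists_prime_field hK he hHK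
    refine ⟨_, ?_, hle⟩
    iterate 4 right
    left
    exact ⟨r, K₀, hr, hK₀, rfl⟩
  rcases decomposition_or_faithful' hirr hnA with ⟨t, m, D, hD, hle, -⟩ | hf
  · refine Or.inl ⟨_, ?_, hle⟩
    iterate 3 right
    left
    exact ⟨t, m, D, hD, rfl⟩
  obtain ⟨S, -, hS⟩ := exists_minInv (inv_top A) (top_ne_bot (α := Submodule F (Fin n → F)))
  by_cases htop : S = ⊤
  · have hAirr : Irr A := irr_iff.2 fun W hW => by
      rcases hS.min W (htop ▸ le_top) hW with h | h
      · exact Or.inl h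
      · exact Or.inr (h.trans htop)
    have hK := commutant_isField hAirr
    by_cases h1 : 1 < finrank F (commutant A)
    · exact Or.inl (hfield hK h1 (le_normalizer_commutant hnA))
    · right; right
      refine absIrr_of_commutant hAirr fun M hM => ?_
      have h2 : finrank F (commutant A) = 1 := by
        have : Nontrivial ↥(commutant A) :=
          ⟨⟨0, 1, fun h => zero_ne_one (congrArg (fun x : ↥(commutant A) =>
            (x : Matrix (Fin n) (Fin n) F)) h)⟩⟩
        have : 0 < finrank F (commutant A) := Module.finrank_pos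
        omega
      obtain ⟨c, hc⟩ := (finrank_eq_one_iff_of_nonzero' (1 : ↥(commutant A))
        one_ne_zero).1 h2 ⟨M, hM⟩
      exact ⟨c, (congrArg Subtype.val hc).symm⟩
  · have hfS := hf S hS
    have hK := centre_isField hS hfS
    by_cases h1 : 1 < finrank F ↥(envAlg A ⊓ commutant A)
    · exact Or.inl (hfield hK h1 (centre_normalised hnA))
    have hcen : ∀ M ∈ envelope A, M ∈ commutant A →
        ∃ c : F, M = c • (1 : Matrix (Fin n) (Fin n) F) := by
      intro M hM hMc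
      have : Nontrivial ↥(envAlg A ⊓ commutant A) :=
        ⟨⟨0, 1, fun h => zero_ne_one (congrArg (fun x : ↥(envAlg A ⊓ commutant A) =>
          (x : Matrix (Fin n) (Fin n) F)) h)⟩⟩
      have h2 : finrank F ↥(envAlg A ⊓ commutant A) = 1 := by
        have : 0 < finrank F ↥(envAlg A ⊓ commutant A) := Module.finrank_pos
        omega
      obtain ⟨c, hc⟩ := (finrank_eq_one_iff_of_nonzero' (1 : ↥(envAlg A ⊓ commutant A))
        one_ne_zero).1 h2 ⟨M, hM, hMc⟩
      exact ⟨c, (congrArg Subtype.val hc).symm⟩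
    obtain ⟨E, hE, hEmem, hEspan⟩ := exists_units_of_faithful hS hfS hcen
    rcases Nat.lt_or_ge (finrank F S) 2 with ha | ha
    · right; left
      have hpos : 0 < finrank F S := Nat.pos_of_ne_zero fun h =>
        hS.ne_bot (Submodule.finrank_eq_zero.1 h)
      refine le_scalars_of_commutant fun a haA => ?_
      obtain ⟨c, hc⟩ := (Submodule.mem_span_range_iff_exists_fun F).1 (hEspan (mem_envelope haA))
      have : Subsingleton (Fin (finrank F S)) := Fin.subsingleton_iff_le_one.2 (by omega)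
      let i₀ : Fin (finrank F S) := ⟨0, hpos⟩
      have h00 : E i₀ i₀ = 1 := by
        rw [← hE.sum]
        rw [Finset.sum_eq_single i₀ (fun b _ hb => absurd (Subsingleton.elim b i₀) hb) (by simp)]
      refine ⟨∑ p, c p, ?_⟩
      rw [← hc, Finset.sum_smul]
      refine Finset.sum_congr rfl fun p _ => ?_
      rw [Subsingleton.elim p.1 i₀, Subsingleton.elim p.2 i₀, h00]
    · left
      have han : finrank F S < n := by
        have := Submodule.finrank_lt htop
        simpa using this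
      refine exists_class_of_units hn ha han hE fun g hg k l => ?_
      exact hEspan (conj_mem_envelope hnA hg (hEmem k l))

/-- A group with a residual core lies in a class or is residual. -/
theorem class_or_residual_of_core {n : ℕ} (hn : 3 ≤ n) {H P : Subgroup (GL (Fin n) F)}
    (hle : P ≤ H) (hP : AbsIrr P) (hperf : ⁅P, P⁆ = P) (hPn : ∀ g ∈ H, ∀ a ∈ P, g * a * g⁻¹ ∈ P)
    (hsimp : IsSimpleGroup (P ⧸ (Cfsg.Geo.scalars (Fin n) F).subgroupOf P))
    (hna : ¬ IsMulCommutative (P ⧸ (Cfsg.Geo.scalars (Fin n) F).subgroupOf P)) :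
    (∃ M : Subgroup (GL (Fin n) F), InLinearClass' n F M ∧ H ≤ M) ∨
      Cfsg.Geo.InLinearResidualClass H := by
  classical
  have : Nonempty (Fin n) := ⟨⟨0, by omega⟩⟩
  by_cases hreal : ∃ F₀ : Subfield F, F₀ ≠ ⊤ ∧
      Cfsg.Geo.RealisableOver F₀ (Cfsg.Geo.matrixSet P)
  · obtain ⟨F₀, hF₀, hreal⟩ := hreal
    obtain ⟨F₁, r, hle', hr, hc⟩ := exists_subfield_prime hF₀
    obtain ⟨B, hB⟩ := exists_le_subfieldSubgroup hPn (envelope_eq_top hP)
      (realisableOver_mono hle' hreal)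
    refine Or.inl ⟨_, ?_, hB⟩
    iterate 6 right
    left
    exact ⟨F₁, r, B, hr, hc, rfl⟩
  have hsymp : ∀ f : (Fin n → F) → (Fin n → F) → F, Cfsg.Geo.IsSymplecticForm f →
      Cfsg.Geo.FixesForm (Cfsg.Geo.matrixSet P) f →
      ∃ M : Subgroup (GL (Fin n) F), InLinearClass' n F M ∧ H ≤ M := by
    intro f hf hfix
    have hev := even_finrank_of_alternating hf.bilinear hf.alternating n ⊤ (by simp) fun w _ hw => by
      obtain ⟨-, x, hx⟩ := hf.nondegenerate w hw
      exact ⟨x, Submodule.mem_top, hx⟩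
    refine ⟨_, ?_, le_similarityGroup hP hPn (isSesq_of_bilinear hf.bilinear) hf.nondegenerate hfix⟩
    iterate 9 right
    left
    exact ⟨f, hf, hev, by obtain ⟨k, hk⟩ := hev; omega, rfl⟩
  by_cases hS : ∃ f : (Fin n → F) → (Fin n → F) → F, Cfsg.Geo.IsSymplecticForm f ∧
      Cfsg.Geo.FixesForm (Cfsg.Geo.matrixSet P) f
  · obtain ⟨f, hf, hfix⟩ := hS
    exact Or.inl (hsymp f hf hfix)
  by_cases hQ : ∃ Q : (Fin n → F) → F, Cfsg.Geo.IsNondegenerateQuadraticForm Q ∧
      Cfsg.Geo.FixesQuadForm (Cfsg.Geo.matrixSet P) Q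
  · obtain ⟨Q, hQ, hfix⟩ := hQ
    have h2 : (2 : F) ≠ 0 := by
      intro h2
      refine hS ⟨QuadraticMap.polar Q, ⟨hQ.polar_bilinear, fun v w => ?_, fun v => ?_,
        hQ.nondegenerate⟩, fixesForm_polar hfix⟩
      · rw [QuadraticMap.polar_comm]
        linear_combination QuadraticMap.polar Q w v * h2
      · rw [polar_self hQ, h2, zero_mul]
    have hodd : Odd (Fintype.card F) := by
      rw [Nat.odd_iff]
      exact FiniteField.odd_card_of_char_ne_two fun hc => h2 (by
        have : CharP F 2 := ringChar.of_eq hc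
        exact CharTwo.two_eq_zero)
    refine Or.inl ⟨_, ?_, le_quadSimilarityGroup hP hPn h2 hQ hfix⟩
    iterate 11 right
    exact ⟨Q, hQ, hodd, hn, rfl⟩
  by_cases hU : ∃ (σ : F ≃+* F) (f : (Fin n → F) → (Fin n → F) → F),
      Cfsg.Geo.IsUnitaryForm σ f ∧ Cfsg.Geo.FixesForm (Cfsg.Geo.matrixSet P) f
  · obtain ⟨σ, f, hf, hfix⟩ := hU
    refine Or.inl ⟨_, ?_, le_similarityGroup hP hPn (isSesq_of_unitary hf) hf.nondegenerate hfix⟩
    iterate 10 right
    left
    exact ⟨σ, f, hf, hn, rfl⟩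
  refine Or.inr ⟨P, ⟨hle, hPn, hperf, hsimp, hna, fun h _ hc =>
    hP.mem_scalars (commutator_mem_scalars_comm hperf hc), hP, ?_⟩, hQ, hS, hU⟩
  exact fun F₀ hF₀ hr => hreal ⟨F₀, hF₀, hr⟩

/-- **Aschbacher's theorem** for `GL_n` over a finite field, `n ≥ 3`. -/
theorem linear_aschbacher {n : ℕ} (hn : 3 ≤ n) (H : Subgroup (GL (Fin n) F)) :
    (∃ M : Subgroup (GL (Fin n) F), InLinearClass' n F M ∧ H ≤ M) ∨
      Cfsg.Geo.InLinearResidualClass H := by
  classical
  have : Nonempty (Fin n) := ⟨⟨0, by omega⟩⟩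
  have hcard : 1 < Fintype.card (Fin n) := by rw [Fintype.card_fin]; omega
  by_cases hirr : Irr H
  swap
  · left
    rw [irr_iff] at hirr
    push Not at hirr
    obtain ⟨W, hW, hWb, hWt⟩ := hirr
    exact ⟨_, Or.inl ⟨W, hWb, hWt, rfl⟩, le_subspaceStabilizer hW⟩
  rcases normalised_trichotomy hn hirr (A := H)
      (fun g hg a ha => H.mul_mem (H.mul_mem hg ha) (H.inv_mem hg)) with h | hs | habs
  · exact Or.inl h
  · exact absurd hs (not_le_scalars_of_irr hcard hirr)
  obtain ⟨N, ⟨hNH, hNn, hNZ, hNs⟩, hNmin⟩ := (Set.toFinite {N : Subgroup (GL (Fin n) F) |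
    N ≤ H ∧ (∀ g ∈ H, ∀ a ∈ N, g * a * g⁻¹ ∈ N) ∧ H ⊓ Cfsg.Geo.scalars (Fin n) F ≤ N ∧
      ¬ N ≤ Cfsg.Geo.scalars (Fin n) F}).exists_minimal
    ⟨H, le_rfl, fun g hg a ha => H.mul_mem (H.mul_mem hg ha) (H.inv_mem hg), inf_le_left,
      not_le_scalars_of_irr hcard hirr⟩
  have hmin : ∀ M ≤ N, (∀ g ∈ H, ∀ a ∈ M, g * a * g⁻¹ ∈ M) →
      (∀ z ∈ N, z ∈ Cfsg.Geo.scalars (Fin n) F → z ∈ M) →
      M ≤ Cfsg.Geo.scalars (Fin n) F ∨ M = N := by
    intro M hMN hMn hMZ
    by_cases hMs : M ≤ Cfsg.Geo.scalars (Fin n) F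
    · exact Or.inl hMs
    · exact Or.inr (le_antisymm hMN (hNmin ⟨hMN.trans hNH, hMn,
        fun z hz => hMZ z (hNZ hz) hz.2, hMs⟩ hMN))
  rcases normalised_trichotomy hn hirr hNn with h | hs | hNabs
  · exact Or.inl h
  · exact absurd hs hNs
  by_cases h2 : ∀ a ∈ N, ∀ b ∈ N, a * b * a⁻¹ * b⁻¹ ∈ Cfsg.Geo.scalars (Fin n) F
  · exact Or.inl (exists_class_of_abelian hn hNabs hNn hmin h2)
  rcases core_or_factors hNabs hNH hNn hmin h2 with
    ⟨hPabs, hperf, hPn, hsimp, hna⟩ | ⟨Q, hQs, -, -, hne, hcomm, hgen⟩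
  · exact class_or_residual_of_core hn
      ((Subgroup.commutator_le.2 fun a ha b hb =>
        N.mul_mem (N.mul_mem (N.mul_mem ha hb) (N.inv_mem ha)) (N.inv_mem hb)).trans hNH)
      hPabs hperf hPn hsimp hna
  · exact Or.inl (exists_class_of_factors hn hNabs hQs hne hcomm hgen)

end CfsgLib.Aschbacher

namespace CfsgLib.Aschbacher

/-- Aschbacher's theorem, stated with the classes of the prelude. -/
theorem linear_aschbacher_classes {F : Type*} [Field F] [Fintype F] {n : ℕ} (hn : 3 ≤ n)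
    (H : Subgroup (GL (Fin n) F)) :
    (∃ M : Subgroup (GL (Fin n) F), Cfsg.Geo.InLinearClass n F M ∧ H ≤ M) ∨
      Cfsg.Geo.InLinearResidualClass H :=
  (linear_aschbacher hn H).imp (fun ⟨M, hM, hle⟩ => ⟨M, hM.toClass, hle⟩) id

end CfsgLib.Aschbacher
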