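import Cfsg.Agent.Lib.Aschbacher.PrimeDim

/-!
Unitary forms: the standard form, perpendicular subspaces, adjoints, and descent to the fixed field
when a bilinear form is fixed as well.
-/

set_option autoImplicit false

namespace CfsgLib.Aschbacher

open Matrix Module

variable {F : Type*} [Field F]

lemma mem_GU {n q : ℕ} {g : GL (Fin n) F} :
    g ∈ Cfsg.GU n F q ↔ ∀ u v, Cfsg.hermForm n F q ((g : Matrix (Fin n) (Fin n) F) *ᵥ u)
      ((g : Matrix (Fin n) (Fin n) F) *ᵥ v) = Cfsg.hermForm n F q u v := Iff.rfl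

lemma exists_prime_pow [Fintype F] {q : ℕ} (hF : Fintype.card F = q ^ 2) :
    ∃ p h : ℕ, p.Prime ∧ CharP F p ∧ 0 < h ∧ q = p ^ h := by
  obtain ⟨p, hp⟩ := CharP.exists F
  obtain ⟨f, hpp, hc⟩ := FiniteField.card F p
  obtain ⟨h, hh, rfl⟩ := (Nat.dvd_prime_pow hpp).1
    (hc ▸ hF ▸ (dvd_pow_self q two_ne_zero : q ∣ q ^ 2))
  refine ⟨p, h, hpp, hp, Nat.pos_of_ne_zero fun h0 => ?_, rfl⟩
  have := Fintype.one_lt_card (α := F)
  rw [hF, h0, pow_zero, one_pow] at this
  omega

lemma one_lt_q [Fintype F] {q : ℕ} (hF : Fintype.card F = q ^ 2) : 1 < q := by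
  obtain ⟨p, h, hp, -, hh, rfl⟩ := exists_prime_pow hF
  exact Nat.one_lt_pow hh.ne' hp.one_lt

/-- Over the field with `q²` elements the standard form is unitary for `x ↦ x ^ q`. -/
lemma exists_unitary_hermForm [Fintype F] {q n : ℕ} (hF : Fintype.card F = q ^ 2) :
    ∃ σ : F ≃+* F, (∀ a, σ a = a ^ q) ∧
      Cfsg.Geo.IsUnitaryForm σ (Cfsg.hermForm n F q) := by
  classical
  have hq := one_lt_q hF
  obtain ⟨p, h, hp, hchar, hh, rfl⟩ := exists_prime_pow hF
  haveI : Fact p.Prime := ⟨hp⟩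
  let σ : F ≃+* F := RingEquiv.ofBijective (iterateFrobenius F p h)
    (Finite.injective_iff_bijective.1 (iterateFrobenius F p h).injective)
  have hσ : ∀ a, σ a = a ^ p ^ h := fun a => rfl
  have hinv : ∀ a, σ (σ a) = a := fun a => by
    rw [hσ, hσ, ← pow_mul, ← pow_two, ← hF, FiniteField.pow_card]
  refine ⟨σ, hσ, ?_, hinv, ?_, ?_, ?_, ?_⟩
  · intro hrefl
    obtain ⟨g, hg⟩ := IsCyclic.exists_ofOrder_eq_natCard (α := Fˣ)
    have h1 : g ^ p ^ h = g := Units.ext (by
      simpa [hrefl] using (hσ g).symm)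
    have h2 : g ^ (p ^ h - 1) = 1 := by
      refine mul_right_cancel (b := g) ?_
      rw [← pow_succ, Nat.sub_add_cancel hq.le, h1, one_mul]
    have h3 := Nat.le_of_dvd (by omega) (orderOf_dvd_of_pow_eq_one h2)
    rw [hg, Nat.card_units, Nat.card_eq_fintype_card, hF] at h3
    have : p ^ h < (p ^ h) ^ 2 := lt_self_pow₀ hq one_lt_two
    omega
  · intro x y v
    simp [Cfsg.hermForm, add_mul, Finset.sum_add_distrib]
  · intro c x v
    simp [Cfsg.hermForm, Finset.mul_sum, mul_assoc]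
  · intro v w
    simp only [Cfsg.hermForm, map_sum, map_mul, ← hσ, hinv]
    exact Finset.sum_congr rfl fun i _ => mul_comm _ _
  · intro v hv
    obtain ⟨i, hi⟩ : ∃ i, v i ≠ 0 := by
      by_contra hcon
      push Not at hcon
      exact hv (funext hcon)
    refine ⟨⟨Pi.single i 1, ?_⟩, ⟨Pi.single i 1, ?_⟩⟩
    · simpa [Cfsg.hermForm, Pi.single_apply] using pow_ne_zero (p ^ h) hi
    · simpa [Cfsg.hermForm, Pi.single_apply, ite_pow, zero_pow (by omega : p ^ h ≠ 0)] using hi

/-- Norms are onto the fixed field. -/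
lemma exists_mul_conj_eq [Fintype F] {q : ℕ} (hF : Fintype.card F = q ^ 2) {a : F} (ha : a ≠ 0)
    (hfix : a ^ q = a) : ∃ d : F, d ≠ 0 ∧ d * d ^ q = a := by
  have hq := one_lt_q hF
  obtain ⟨g, hg⟩ := IsCyclic.exists_generator (α := Fˣ)
  obtain ⟨k, hk⟩ := (mem_powers_iff_mem_zpowers (x := g)).2 (hg (Units.mk0 a ha))
  simp only at hk
  have h1 : (Units.mk0 a ha) ^ (q - 1) = 1 := by
    refine mul_right_cancel (b := Units.mk0 a ha) ?_
    rw [← pow_succ, Nat.sub_add_cancel hq.le, one_mul]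
    exact Units.ext (by simpa using hfix)
  rw [← hk, ← pow_mul] at h1
  have h2 : q ^ 2 - 1 ∣ k * (q - 1) := by
    have := orderOf_dvd_of_pow_eq_one h1
    rwa [orderOf_eq_card_of_forall_mem_zpowers hg, Nat.card_units, Nat.card_eq_fintype_card,
      hF] at this
  have h3 : q + 1 ∣ k := by
    rw [show q ^ 2 - 1 = (q + 1) * (q - 1) by rw [← Nat.sq_sub_sq, one_pow]] at h2
    exact (Nat.mul_dvd_mul_iff_right (by omega)).1 h2
  obtain ⟨j, rfl⟩ := h3
  refine ⟨((g ^ j : Fˣ) : F), Units.ne_zero _, ?_⟩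
  have := congrArg Units.val hk
  simp only [Units.val_pow_eq_pow_val, Units.val_mk0] at this ⊢
  rw [← this, ← pow_mul, ← pow_add]
  ring_nf

variable {ι : Type} [Fintype ι] [DecidableEq ι] {σ : F ≃+* F} {f : (ι → F) → (ι → F) → F}

omit [Fintype ι] [DecidableEq ι] in
lemma unitary_zero_iff (hf : Cfsg.Geo.IsUnitaryForm σ f) {u v : ι → F} :
    f u v = 0 ↔ f v u = 0 := by
  constructor <;> intro h <;> rw [hf.herm, h, map_zero]

/-- The perpendicular subspace. -/
def perp (hf : IsSesq σ f) (W : Submodule F (ι → F)) : Submodule F (ι → F) where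
  carrier := {v | ∀ w ∈ W, f v w = 0}
  add_mem' {a b} ha hb w hw := by rw [hf.add_left, ha w hw, hb w hw, add_zero]
  zero_mem' w _ := by
    have := hf.smul_left 0 0 w
    simpa using this
  smul_mem' c a ha w hw := by rw [hf.smul_left, ha w hw, mul_zero]

omit [Fintype ι] [DecidableEq ι] in
lemma mem_perp {hf : IsSesq σ f} {W : Submodule F (ι → F)} {v : ι → F} :
    v ∈ perp hf W ↔ ∀ w ∈ W, f v w = 0 := Iff.rfl

lemma inv_perp (hf : IsSesq σ f) {A : Subgroup (GL ι F)}
    (hA : Cfsg.Geo.FixesForm (Cfsg.Geo.matrixSet A) f) {W : Submodule F (ι → F)} (hW : Inv A W) :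
    Inv A (perp hf W) := by
  intro a ha v hv w hw
  have h := hA _ ⟨a, ha, rfl⟩ v (((a⁻¹ : GL ι F) : Matrix ι ι F) *ᵥ w)
  rw [mulVec_inv_cancel] at h
  rw [h]
  exact hv _ (hW _ (A.inv_mem ha) w hw)

omit [DecidableEq ι] in
lemma card_le_finrank_add_perp (hf : IsSesq σ f) (W : Submodule F (ι → F)) :
    Fintype.card ι ≤ finrank F W + finrank F (perp hf W) := by
  let b := Module.finBasis F W
  let φ : (ι → F) →ₗ[F] (Fin (finrank F W) → F) :=
    { toFun := fun v i => f v (b i : ι → F)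
      map_add' := fun x y => funext fun i => hf.add_left _ _ _
      map_smul' := fun c x => funext fun i => hf.smul_left _ _ _ }
  have hker : LinearMap.ker φ ≤ perp hf W := by
    intro v hv w hw
    have hv' : ∀ i, f v (b i : ι → F) = 0 := fun i => congrFun (LinearMap.mem_ker.1 hv) i
    let L : (ι → F) →+ F := AddMonoidHom.mk' (fun x => f v x) (hf.add_right v)
    show L w = 0
    have hwb : w = ∑ i, (b.repr ⟨w, hw⟩ i) • (b i : ι → F) := by
      have := congrArg (fun z : W => (z : ι → F)) (b.sum_repr ⟨w, hw⟩)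
      simp only [AddSubmonoidClass.coe_finsetSum, Submodule.coe_smul] at this
      exact this.symm
    rw [hwb, map_sum]
    refine Finset.sum_eq_zero fun i _ => ?_
    show f v _ = 0
    rw [hf.smul_right, hv' i, mul_zero]
  have h1 := LinearMap.finrank_range_add_finrank_ker φ
  rw [Module.finrank_fintype_fun_eq_card] at h1
  have h2 := Submodule.finrank_le (LinearMap.range φ)
  rw [Module.finrank_fintype_fun_eq_card, Fintype.card_fin] at h2
  have h3 := Submodule.finrank_mono hker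
  omega

omit [Fintype ι] [DecidableEq ι] in
/-- A subspace is totally singular for the radical part, or non-degenerate. -/
lemma totallySingular_inf_perp (hs : IsSesq σ f)
    (W : Submodule F (ι → F)) : Cfsg.Geo.IsTotallySingularFor f (W ⊓ perp hs W) :=
  fun _ hu _ hv => hu.2 _ hv.1

omit [Fintype ι] [DecidableEq ι] in
lemma nondegenerateOn_of_inf_perp (hf : Cfsg.Geo.IsUnitaryForm σ f) (hs : IsSesq σ f)
    {W : Submodule F (ι → F)} (h : W ⊓ perp hs W = ⊥) : Cfsg.Geo.IsNondegenerateOn f W := by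
  intro w hw hw0
  obtain ⟨x, hx, hwx⟩ : ∃ x ∈ W, f w x ≠ 0 := by
    by_contra hcon
    push Not at hcon
    exact hw0 ((Submodule.mem_bot F).1 (h ▸ ⟨hw, hcon⟩))
  exact ⟨⟨x, hx, fun h0 => hwx ((unitary_zero_iff hf).1 h0)⟩, x, hx, hwx⟩

/-- A reducible group of isometries fixes a totally singular or a small non-degenerate subspace. -/
theorem reducible_unitary (hf : Cfsg.Geo.IsUnitaryForm σ f) (hodd : Odd (Fintype.card ι))
    {H : Subgroup (GL ι F)} (hH : Cfsg.Geo.FixesForm (Cfsg.Geo.matrixSet H) f)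
    (hirr : ¬ Irr H) :
    (∃ W : Submodule F (ι → F), W ≠ ⊥ ∧ Cfsg.Geo.IsTotallySingularFor f W ∧ W ≠ ⊤ ∧
        H ≤ Cfsg.Geo.subspaceStabilizer W) ∨
    (∃ W : Submodule F (ι → F), W ≠ ⊥ ∧ Cfsg.Geo.IsNondegenerateOn f W ∧
        2 * finrank F W < Fintype.card ι ∧ W ≠ ⊤ ∧ H ≤ Cfsg.Geo.subspaceStabilizer W) := by
  have hs := isSesq_of_unitary hf
  rw [irr_iff] at hirr
  push Not at hirr
  obtain ⟨W, hW, hWb, hWt⟩ := hirr
  by_cases hrad : W ⊓ perp hs W = ⊥
  swap
  · exact Or.inl ⟨_, hrad, totallySingular_inf_perp hs W,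
      fun h => hWt (eq_top_iff.2 (h ▸ inf_le_left)),
      le_subspaceStabilizer (inv_inf H hW (inv_perp hs hH hW))⟩
  right
  have h1 := card_le_finrank_add_perp hs W
  have h2 : finrank F W + finrank F (perp hs W) = Fintype.card ι := by
    refine le_antisymm ?_ h1
    have := Submodule.finrank_sup_add_finrank_inf_eq W (perp hs W)
    rw [hrad, finrank_bot, add_zero] at this
    rw [← this, ← Module.finrank_fintype_fun_eq_card F]
    exact Submodule.finrank_le _
  have hWlt : finrank F W < Fintype.card ι := by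
    rw [← Module.finrank_fintype_fun_eq_card F]
    exact Submodule.finrank_lt hWt
  have hWpos : finrank F W ≠ 0 := fun h => hWb (Submodule.finrank_eq_zero.1 h)
  have hperp : perp hs W ⊓ perp hs (perp hs W) = ⊥ := by
    refine eq_bot_iff.2 fun v hv => (Submodule.mem_bot F).2 ?_
    by_contra hv0
    obtain ⟨-, x, hx⟩ := hf.nondegenerate v hv0
    have hsup : W ⊔ perp hs W = ⊤ := by
      refine Submodule.eq_top_of_finrank_eq ?_
      have := Submodule.finrank_sup_add_finrank_inf_eq W (perp hs W)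
      rw [hrad, finrank_bot, add_zero, h2] at this
      rw [this, Module.finrank_fintype_fun_eq_card]
    obtain ⟨w, hw, y, hy, rfl⟩ := Submodule.mem_sup.1 (hsup ▸ Submodule.mem_top : x ∈ W ⊔ perp hs W)
    rw [hs.add_right, hv.1 w hw, hv.2 y hy, add_zero] at hx
    exact hx rfl
  rcases Nat.lt_or_ge (2 * finrank F W) (Fintype.card ι) with h | h
  · exact ⟨W, hWb, nondegenerateOn_of_inf_perp hf hs hrad, h, hWt, le_subspaceStabilizer hW⟩
  · obtain ⟨k, hk⟩ := hodd
    refine ⟨perp hs W, fun h0 => ?_, nondegenerateOn_of_inf_perp hf hs hperp, by omega,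
      fun h0 => ?_, le_subspaceStabilizer (inv_perp hs hH hW)⟩
    · rw [h0, finrank_bot] at h2; omega
    · rw [h0, finrank_top, Module.finrank_fintype_fun_eq_card] at h2; omega

/-- Every matrix has an adjoint. -/
lemma exists_adjoint (hs : IsSesq σ f) (hnd : Cfsg.Geo.IsNondegenerateForm f)
    (M : Matrix ι ι F) : ∃ M' : Matrix ι ι F, ∀ u v, f (M *ᵥ u) v = f u (M' *ᵥ v) := by
  obtain ⟨G, hG⟩ := hs.gram_isUnit hnd
  refine ⟨(((G⁻¹ : (Matrix ι ι F)ˣ) : Matrix ι ι F) * Mᵀ * (G : Matrix ι ι F)).map σ.symm,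
    fun u v => ?_⟩
  rw [hs.eq_dot, hs.eq_dot, comp_mulVec, Matrix.map_map,
    show (σ : F → F) ∘ σ.symm = id from funext σ.apply_symm_apply, Matrix.map_id, ← hG,
    Matrix.mulVec_mulVec, ← mul_assoc, ← mul_assoc, Units.mul_inv, one_mul,
    ← Matrix.mulVec_mulVec, Matrix.dotProduct_mulVec u Mᵀ, Matrix.vecMul_transpose]

/-- The commutant of a group of isometries is closed under adjoints. -/
lemma adjointClosed_commutant (hs : IsSesq σ f) (hnd : Cfsg.Geo.IsNondegenerateForm f)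
    {A : Subgroup (GL ι F)} (hA : Cfsg.Geo.FixesForm (Cfsg.Geo.matrixSet A) f) :
    Cfsg.Geo.IsAdjointClosedFor f (commutant A) := by
  intro M hM
  obtain ⟨M', hM'⟩ := exists_adjoint hs hnd M
  refine ⟨M', mem_commutant.2 fun a ha => Matrix.toLin'.injective (LinearMap.ext fun v => ?_), hM'⟩
  simp only [Matrix.toLin'_apply, ← Matrix.mulVec_mulVec]
  set x := (a : Matrix ι ι F) *ᵥ (M' *ᵥ v)
  set y := M' *ᵥ ((a : Matrix ι ι F) *ᵥ v)
  by_contra hne
  obtain ⟨⟨u, hu⟩, -⟩ := hnd (x - y) (sub_ne_zero.2 hne)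
  apply hu
  have hsub : f u (x - y) = f u x - f u y :=
    map_sub (AddMonoidHom.mk' (fun z => f u z) (hs.add_right u)) x y
  rw [hsub, sub_eq_zero]
  let w := ((a⁻¹ : GL ι F) : Matrix ι ι F) *ᵥ u
  have h1 := hA _ ⟨a, ha, rfl⟩ w (M' *ᵥ v)
  rw [mulVec_inv_cancel] at h1
  rw [h1, ← hM', ← hM' u, ← hA _ ⟨a, ha, rfl⟩ (M *ᵥ w) v, Matrix.mulVec_mulVec,
    mem_commutant.1 hM a ha, ← Matrix.mulVec_mulVec, mulVec_inv_cancel]

/-- An absolutely irreducible group fixing a unitary and a bilinear form is realised over the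
fixed field. -/
theorem realisableOver_of_two_forms [Fintype F] {q : ℕ} (hF : Fintype.card F = q ^ 2)
    (hσ : ∀ a, σ a = a ^ q) (hf : Cfsg.Geo.IsUnitaryForm σ f) {P : Subgroup (GL ι F)}
    (hP : AbsIrr P) [Nonempty ι] (hPf : Cfsg.Geo.FixesForm (Cfsg.Geo.matrixSet P) f)
    {g : (ι → F) → (ι → F) → F} (hg : Cfsg.Geo.IsBilinearForm g)
    (hgnd : Cfsg.Geo.IsNondegenerateForm g)
    (hPg : Cfsg.Geo.FixesForm (Cfsg.Geo.matrixSet P) g) :
    ∃ F₀ : Subfield F, F₀ ≠ ⊤ ∧ Cfsg.Geo.RealisableOver F₀ (Cfsg.Geo.matrixSet P) := by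
  have hs := isSesq_of_unitary hf
  have hg' := isSesq_of_bilinear hg
  obtain ⟨G, hG⟩ := hs.gram_isUnit hf.nondegenerate
  obtain ⟨A, hA⟩ := hg'.gram_isUnit hgnd
  let F₀ : Subfield F := σ.toRingHom.eqLocusField (RingHom.id F)
  have hF₀ : ∀ x, x ∈ F₀ ↔ σ x = x := fun x => Iff.rfl
  refine ⟨F₀, fun h => hf.ne_refl (RingEquiv.ext fun x => (hF₀ x).1 (h ▸ Subfield.mem_top x)), ?_⟩
  let Ku : (Matrix ι ι F)ˣ := G⁻¹ * A
  -- the semilinear map commuting with `P`
  let J : (ι → F) → (ι → F) := fun v => σ ∘ ((Ku : Matrix ι ι F) *ᵥ v)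
  have hσσ : ∀ v : ι → F, σ ∘ (σ ∘ v) = v := fun v => funext fun i => hf.involutive _
  have hJadd : ∀ u v, J (u + v) = J u + J v := fun u v => by
    funext i; simp [J, Matrix.mulVec_add]
  have hJsmul : ∀ (c : F) v, J (c • v) = σ c • J v := fun c v => by
    funext i; simp [J, Matrix.mulVec_smul]
  have hJinj : ∀ v, J v = 0 → v = 0 := by
    intro v hv
    have h1 : (Ku : Matrix ι ι F) *ᵥ v = 0 := by
      rw [← hσσ ((Ku : Matrix ι ι F) *ᵥ v)]
      show σ ∘ J v = 0
      rw [hv]; funext i; simp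
    exact mulVec_injective Ku (by simpa using h1)
  have hJcomm : ∀ s ∈ Cfsg.Geo.matrixSet P, ∀ v, J (s *ᵥ v) = s *ᵥ J v := by
    intro s hs' v
    have h1 : sᵀ * (G : Matrix ι ι F) * s.map σ = G := by
      rw [hG, ← hs.gram_comp]; ext a b; exact hPf s hs' _ _
    have h2 : sᵀ * (A : Matrix ι ι F) * s = A := by
      have := hg'.gram_comp s
      rw [show s.map (RingEquiv.refl F : F ≃+* F) = s from Matrix.map_id s] at this
      rw [hA, ← this]; ext a b; exact hPg s hs' _ _
    obtain ⟨su, rfl⟩ : IsUnit s := by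
      obtain ⟨a, -, rfl⟩ := hs'
      exact a.isUnit
    have h4 : IsUnit ((su : Matrix ι ι F)ᵀ) := (Matrix.isUnit_transpose _).2 su.isUnit
    have h5 : (G : Matrix ι ι F) * (su : Matrix ι ι F).map σ * (Ku : Matrix ι ι F) =
        (A : Matrix ι ι F) * (su : Matrix ι ι F) := by
      refine h4.mul_left_cancel ?_
      rw [← mul_assoc, ← mul_assoc, h1, ← mul_assoc, h2]
      simp [Ku, ← mul_assoc]
    have h6 : (su : Matrix ι ι F).map σ * (Ku : Matrix ι ι F) =
        (Ku : Matrix ι ι F) * (su : Matrix ι ι F) := by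
      have := congrArg (((G⁻¹ : (Matrix ι ι F)ˣ) : Matrix ι ι F) * ·) h5
      simpa [Ku, ← mul_assoc] using this
    show σ ∘ ((Ku : Matrix ι ι F) *ᵥ _) = _
    rw [Matrix.mulVec_mulVec, ← h6, ← Matrix.mulVec_mulVec, comp_mulVec, Matrix.map_map,
      show (σ : F → F) ∘ σ = id from funext hf.involutive, Matrix.map_id]
  -- its square is a scalar of the fixed field
  let L : (ι → F) →ₗ[F] (ι → F) :=
    { toFun := fun v => J (J v)
      map_add' := fun u v => by rw [hJadd, hJadd]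
      map_smul' := fun c v => by rw [hJsmul, hJsmul, hf.involutive, RingHom.id_apply] }
  obtain ⟨c, hc⟩ := hP.2 (LinearMap.toMatrix' L) (fun s hs' => by
    refine Matrix.toLin'.injective (LinearMap.ext fun v => ?_)
    rw [Matrix.toLin'_mul, Matrix.toLin'_mul, LinearMap.comp_apply, LinearMap.comp_apply,
      Matrix.toLin'_toMatrix', Matrix.toLin'_apply, Matrix.toLin'_apply]
    show J (J (s *ᵥ v)) = s *ᵥ J (J v)
    rw [hJcomm s hs', hJcomm s hs'])
  have hL : ∀ v, J (J v) = c • v := by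
    intro v
    have := congrArg (fun X => Matrix.toLin' X v) hc
    simpa [Matrix.smul_mulVec, L] using this
  obtain ⟨i₀⟩ := ‹Nonempty ι›
  let e : ι → F := Pi.single i₀ 1
  have he : e ≠ 0 := fun h => by simpa [e] using congrFun h i₀
  have hc0 : c ≠ 0 := fun h => he (hJinj _ (hJinj _ (by rw [hL, h, zero_smul])))
  have hJe : J e ≠ 0 := fun h => he (hJinj _ h)
  have hcfix : σ c = c := by
    have h1 : J (c • e) = c • J e := by rw [← hL e, hL (J e)]
    rw [hJsmul] at h1
    exact smul_left_injective F hJe h1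
  obtain ⟨d, hd0, hd⟩ := exists_mul_conj_eq hF (inv_ne_zero hc0)
    (by rw [← hσ, map_inv₀, hcfix])
  rw [← hσ] at hd
  let J' : (ι → F) → (ι → F) := fun v => d • J v
  have hJ'2 : ∀ v, J' (J' v) = v := by
    intro v
    show d • J (d • J v) = v
    rw [hJsmul, hL, smul_smul, smul_smul, hd, inv_mul_cancel₀ hc0, one_smul]
  have hJ'smul : ∀ (a : F) v, J' (a • v) = σ a • J' v := fun a v => by
    simp only [J', hJsmul, smul_smul, mul_comm]
  have hJ'add : ∀ u v, J' (u + v) = J' u + J' v := fun u v => by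
    simp only [J', hJadd, smul_add]
  have hJ'comm : ∀ s ∈ Cfsg.Geo.matrixSet P, ∀ v, J' (s *ᵥ v) = s *ᵥ J' v := fun s hs' v => by
    simp only [J', hJcomm s hs', Matrix.mulVec_smul]
  -- fixed vectors span
  let S : Set (ι → F) := {v | J' v = v}
  obtain ⟨μ, hμ⟩ : ∃ μ, σ μ ≠ μ := by
    by_contra h
    push Not at h
    exact hf.ne_refl (RingEquiv.ext h)
  have hspan : Submodule.span F S = ⊤ := by
    refine eq_top_iff.2 fun v _ => ?_
    have h1 : v + J' v ∈ S := by
      show J' _ = _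
      rw [hJ'add, hJ'2, add_comm]
    have h2 : μ • v + σ μ • J' v ∈ S := by
      show J' _ = _
      rw [hJ'add, hJ'smul, hJ'smul, hJ'2, hf.involutive, add_comm]
    have hv : v = (μ - σ μ)⁻¹ • ((μ • v + σ μ • J' v) - σ μ • (v + J' v)) := by
      rw [smul_add, add_sub_add_right_eq_sub, ← sub_smul, smul_smul,
        inv_mul_cancel₀ (sub_ne_zero.2 (Ne.symm hμ)), one_smul]
    rw [hv]
    exact Submodule.smul_mem _ _ (sub_mem (Submodule.subset_span h2)
      (Submodule.smul_mem _ _ (Submodule.subset_span h1)))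
  let b₀ := Basis.ofSpan hspan.ge
  haveI : Fintype _ := FiniteDimensional.fintypeBasisIndex b₀
  let ev := Fintype.equivOfCardEq
    ((Module.finrank_eq_card_basis b₀).symm.trans (Module.finrank_fintype_fun_eq_card F))
  let b : Basis ι F (ι → F) := b₀.reindex ev
  have hb : ∀ i, J' (b i) = b i := by
    intro i
    have : b i ∈ S := by
      rw [Basis.reindex_apply]
      exact Basis.ofSpan_subset hspan.ge ⟨_, rfl⟩
    exact this
  let Bm : Matrix ι ι F := fun i j => b j i
  have hBm : ∀ a : ι → F, Bm *ᵥ a = ∑ j, a j • b j := by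
    intro a
    funext i
    simp [Bm, Matrix.mulVec, dotProduct, mul_comm]
  have hinj : Function.Injective fun a => Bm *ᵥ a := by
    intro a a' h
    simp only [hBm] at h
    funext j
    have := congrArg (fun v => b.repr v j) h
    simpa [map_sum, Finsupp.single_apply] using this
  obtain ⟨B, hB⟩ := Matrix.mulVec_injective_iff_isUnit.1 hinj
  refine ⟨B⁻¹, fun s hs' i j => ?_⟩
  rw [inv_inv, hF₀]
  set m := ((B⁻¹ : GL ι F) : Matrix ι ι F) * s * (B : Matrix ι ι F) with hm
  have hcol : Bm *ᵥ (fun k => m k j) = s *ᵥ b j := by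
    have h1 : (fun k => m k j) = m *ᵥ Pi.single j 1 := by
      rw [Matrix.mulVec_single_one]; rfl
    have h2 : (B : Matrix ι ι F) *ᵥ Pi.single j 1 = b j := by
      rw [hB, hBm]; simp [Pi.single_apply]
    rw [h1, hm, ← hB, Matrix.mulVec_mulVec, ← mul_assoc, ← mul_assoc, Units.mul_inv, one_mul,
      ← Matrix.mulVec_mulVec, h2]
  have h3 : Bm *ᵥ (fun k => σ (m k j)) = Bm *ᵥ (fun k => m k j) := by
    have hsum : ∀ a : ι → F, J' (∑ k, a k • b k) = ∑ k, σ (a k) • b k := by
      intro a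
      have := map_sum (AddMonoidHom.mk' J' hJ'add) (fun k => a k • b k) Finset.univ
      simp only [AddMonoidHom.mk'_apply] at this
      rw [this]
      exact Finset.sum_congr rfl fun k _ => by rw [hJ'smul, hb]
    rw [hBm, ← hsum, ← hBm, hcol, hJ'comm s hs', hb]
  exact congrFun (hinj h3) i

end CfsgLib.Aschbacher
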