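import Cfsg.Agent.Lib.Aschbacher.Forms
import Cfsg.Agent.Lib.Aschbacher.UnitaryForm
import Cfsg.Agent.Lib.Aschbacher.Envelope

/-!
Non-degenerate reflexive sesquilinear forms: adjoints, perpendicular subspaces, and the first two
steps of Aschbacher's argument relative to a form (invariant subspaces, homogeneous components).
-/

set_option autoImplicit false

namespace CfsgLib.Aschbacher

open Matrix Module

variable {ι : Type} [Fintype ι] [DecidableEq ι] {F : Type*} [Field F]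

/-- A non-degenerate form linear in the first argument with `f v u = ε * σ (f u v)`. -/
structure IsRefl (σ : F ≃+* F) (ε : F) (f : (ι → F) → (ι → F) → F) : Prop where
  sesq : IsSesq σ f
  swap : ∀ u v, f v u = ε * σ (f u v)
  invol : ∀ a, σ (σ a) = a
  nondeg : Cfsg.Geo.IsNondegenerateForm f

variable {σ : F ≃+* F} {ε : F} {f : (ι → F) → (ι → F) → F}

omit [Fintype ι] [DecidableEq ι] in
lemma IsSesq.zero_left (h : IsSesq σ f) (v : ι → F) : f 0 v = 0 := by
  have := h.smul_left 0 0 v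
  simpa using this

omit [Fintype ι] [DecidableEq ι] in
lemma IsSesq.zero_right (h : IsSesq σ f) (v : ι → F) : f v 0 = 0 := by
  have := h.smul_right 0 v 0
  simpa using this

omit [Fintype ι] [DecidableEq ι] in
lemma IsSesq.sub_right (h : IsSesq σ f) (v x y : ι → F) : f v (x - y) = f v x - f v y :=
  map_sub (AddMonoidHom.mk' (fun z => f v z) (h.add_right v)) x y

omit [Fintype ι] [DecidableEq ι] in
lemma IsSesq.sub_left (h : IsSesq σ f) (x y v : ι → F) : f (x - y) v = f x v - f y v :=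
  map_sub (AddMonoidHom.mk' (fun z => f z v) (fun a b => h.add_left a b v)) x y

omit [Fintype ι] [DecidableEq ι] in
lemma IsRefl.zero_iff (hf : IsRefl σ ε f) {u v : ι → F} : f u v = 0 ↔ f v u = 0 := by
  constructor <;> intro h <;> rw [hf.swap, h, map_zero, mul_zero]

omit [Fintype ι] [DecidableEq ι] in
lemma IsRefl.ext_right (hf : IsRefl σ ε f) {x y : ι → F} (h : ∀ u, f u x = f u y) : x = y := by
  by_contra hne
  obtain ⟨⟨u, hu⟩, -⟩ := hf.nondeg _ (sub_ne_zero.2 hne)
  exact hu (by rw [hf.sesq.sub_right, h, sub_self])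

lemma IsRefl.mat_ext (hf : IsRefl σ ε f) {M N : Matrix ι ι F}
    (h : ∀ u v, f u (M *ᵥ v) = f u (N *ᵥ v)) : M = N :=
  Matrix.toLin'.injective (LinearMap.ext fun v => by
    rw [Matrix.toLin'_apply, Matrix.toLin'_apply]; exact hf.ext_right fun u => h u v)

/-- The adjoint of a matrix. -/
noncomputable def IsRefl.adj (hf : IsRefl σ ε f) (M : Matrix ι ι F) : Matrix ι ι F :=
  (exists_adjoint hf.sesq hf.nondeg M).choose

lemma IsRefl.adj_spec (hf : IsRefl σ ε f) (M : Matrix ι ι F) (u v : ι → F) :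
    f (M *ᵥ u) v = f u (hf.adj M *ᵥ v) :=
  (exists_adjoint hf.sesq hf.nondeg M).choose_spec u v

lemma IsRefl.adj_eq (hf : IsRefl σ ε f) {M M' : Matrix ι ι F}
    (h : ∀ u v, f (M *ᵥ u) v = f u (M' *ᵥ v)) : hf.adj M = M' :=
  hf.mat_ext fun u v => by rw [← hf.adj_spec, h]

lemma IsRefl.adj_spec' (hf : IsRefl σ ε f) (M : Matrix ι ι F) (u v : ι → F) :
    f (hf.adj M *ᵥ u) v = f u (M *ᵥ v) := by
  rw [hf.swap, ← hf.adj_spec, ← hf.swap]

lemma IsRefl.adj_adj (hf : IsRefl σ ε f) (M : Matrix ι ι F) : hf.adj (hf.adj M) = M :=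
  hf.adj_eq (hf.adj_spec' M)

lemma IsRefl.adj_mul (hf : IsRefl σ ε f) (M N : Matrix ι ι F) :
    hf.adj (M * N) = hf.adj N * hf.adj M :=
  hf.adj_eq fun u v => by
    rw [← Matrix.mulVec_mulVec, ← Matrix.mulVec_mulVec, hf.adj_spec, hf.adj_spec]

lemma IsRefl.adj_add (hf : IsRefl σ ε f) (M N : Matrix ι ι F) :
    hf.adj (M + N) = hf.adj M + hf.adj N :=
  hf.adj_eq fun u v => by
    simp only [Matrix.add_mulVec, hf.sesq.add_left, hf.sesq.add_right, hf.adj_spec]

lemma IsRefl.adj_smul (hf : IsRefl σ ε f) (c : F) (M : Matrix ι ι F) :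
    hf.adj (c • M) = σ c • hf.adj M :=
  hf.adj_eq fun u v => by
    simp only [Matrix.smul_mulVec, hf.sesq.smul_left, hf.sesq.smul_right, hf.invol, hf.adj_spec]

lemma IsRefl.adj_one (hf : IsRefl σ ε f) : hf.adj (1 : Matrix ι ι F) = 1 :=
  hf.adj_eq fun u v => by simp

lemma IsRefl.adj_zero (hf : IsRefl σ ε f) : hf.adj (0 : Matrix ι ι F) = 0 :=
  hf.adj_eq fun u v => by simp [hf.sesq.zero_left, hf.sesq.zero_right]

lemma IsRefl.adj_scalar (hf : IsRefl σ ε f) (c : F) :
    hf.adj (c • (1 : Matrix ι ι F)) = σ c • 1 := by rw [hf.adj_smul, hf.adj_one]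

lemma isometry_apply {A : Subgroup (GL ι F)}
    (hA : Cfsg.Geo.FixesForm (Cfsg.Geo.matrixSet A) f) {a : GL ι F} (ha : a ∈ A) (u v : ι → F) :
    f ((a : Matrix ι ι F) *ᵥ u) ((a : Matrix ι ι F) *ᵥ v) = f u v :=
  hA _ ⟨a, ha, rfl⟩ u v

lemma fixesForm_mono {A B : Subgroup (GL ι F)} (h : A ≤ B)
    (hB : Cfsg.Geo.FixesForm (Cfsg.Geo.matrixSet B) f) :
    Cfsg.Geo.FixesForm (Cfsg.Geo.matrixSet A) f :=
  fun s hs => hB s (Set.image_mono h hs)

lemma IsRefl.adj_isometry (hf : IsRefl σ ε f) {A : Subgroup (GL ι F)}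
    (hA : Cfsg.Geo.FixesForm (Cfsg.Geo.matrixSet A) f) {a : GL ι F} (ha : a ∈ A) :
    hf.adj (a : Matrix ι ι F) = ((a⁻¹ : GL ι F) : Matrix ι ι F) :=
  hf.adj_eq fun u v => by
    conv_lhs => rw [← mulVec_inv_cancel a v, isometry_apply hA ha]

lemma IsRefl.adj_mem_envelope (hf : IsRefl σ ε f) {A : Subgroup (GL ι F)}
    (hA : Cfsg.Geo.FixesForm (Cfsg.Geo.matrixSet A) f) {M : Matrix ι ι F}
    (hM : M ∈ envelope A) : hf.adj M ∈ envelope A := by
  refine Submodule.span_induction ?_ ?_ ?_ ?_ hM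
  · rintro _ ⟨a, ha, rfl⟩
    rw [hf.adj_isometry hA ha]
    exact mem_envelope (A.inv_mem ha)
  · rw [hf.adj_zero]; exact zero_mem _
  · intro x y _ _ hx hy; rw [hf.adj_add]; exact add_mem hx hy
  · intro c x _ hx; rw [hf.adj_smul]; exact Submodule.smul_mem _ _ hx

lemma IsRefl.adj_mem_commutant (hf : IsRefl σ ε f) {A : Subgroup (GL ι F)}
    (hA : Cfsg.Geo.FixesForm (Cfsg.Geo.matrixSet A) f) {M : Matrix ι ι F}
    (hM : M ∈ commutant A) : hf.adj M ∈ commutant A := by
  obtain ⟨M', hM', h⟩ := adjointClosed_commutant hf.sesq hf.nondeg hA M hM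
  rwa [hf.adj_eq h]

lemma IsRefl.adj_conj (hf : IsRefl σ ε f) {H : Subgroup (GL ι F)}
    (hH : Cfsg.Geo.FixesForm (Cfsg.Geo.matrixSet H) f) {g : GL ι F} (hg : g ∈ H)
    (M : Matrix ι ι F) :
    hf.adj ((g : Matrix ι ι F) * M * ((g⁻¹ : GL ι F) : Matrix ι ι F)) =
      (g : Matrix ι ι F) * hf.adj M * ((g⁻¹ : GL ι F) : Matrix ι ι F) := by
  rw [hf.adj_mul, hf.adj_mul, hf.adj_isometry hH hg, hf.adj_isometry hH (H.inv_mem hg), inv_inv,
    mul_assoc]

/-! ### Perpendicular subspaces -/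

omit [DecidableEq ι] in
lemma IsRefl.finrank_perp (hf : IsRefl σ ε f) (W : Submodule F (ι → F)) :
    finrank F W + finrank F (perp hf.sesq W) = Fintype.card ι := by
  refine le_antisymm ?_ (card_le_finrank_add_perp hf.sesq W)
  obtain ⟨U, hU⟩ := Submodule.exists_isCompl W
  have hinf : perp hf.sesq W ⊓ perp hf.sesq U = ⊥ := by
    refine eq_bot_iff.2 fun v hv => (Submodule.mem_bot F).2 ?_
    by_contra hv0
    obtain ⟨-, x, hx⟩ := hf.nondeg v hv0
    obtain ⟨w, hw, y, hy, rfl⟩ := Submodule.mem_sup.1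
      (hU.sup_eq_top ▸ Submodule.mem_top : x ∈ W ⊔ U)
    rw [hf.sesq.add_right, hv.1 w hw, hv.2 y hy, add_zero] at hx
    exact hx rfl
  have h1 := Submodule.finrank_sup_add_finrank_inf_eq (perp hf.sesq W) (perp hf.sesq U)
  rw [hinf, finrank_bot, add_zero] at h1
  have h2 := card_le_finrank_add_perp hf.sesq U
  have h3 := Submodule.finrank_add_eq_of_isCompl hU
  have h4 := Submodule.finrank_le (perp hf.sesq W ⊔ perp hf.sesq U)
  rw [Module.finrank_fintype_fun_eq_card] at h3 h4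
  omega

omit [Fintype ι] [DecidableEq ι] in
lemma IsRefl.nondegenerateOn_iff (hf : IsRefl σ ε f) {W : Submodule F (ι → F)} :
    Cfsg.Geo.IsNondegenerateOn f W ↔ W ⊓ perp hf.sesq W = ⊥ := by
  constructor
  · intro h
    refine eq_bot_iff.2 fun v hv => (Submodule.mem_bot F).2 ?_
    by_contra hv0
    obtain ⟨-, x, hx, hvx⟩ := h v hv.1 hv0
    exact hvx (hv.2 x hx)
  · intro h w hw hw0
    obtain ⟨x, hx, hwx⟩ : ∃ x ∈ W, f w x ≠ 0 := by
      by_contra hcon
      push Not at hcon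
      exact hw0 ((Submodule.mem_bot F).1 (h ▸ ⟨hw, hcon⟩))
    exact ⟨⟨x, hx, fun h0 => hwx (hf.zero_iff.1 h0)⟩, x, hx, hwx⟩

omit [Fintype ι] [DecidableEq ι] in
lemma IsRefl.le_perp_perp (hf : IsRefl σ ε f) (W : Submodule F (ι → F)) :
    W ≤ perp hf.sesq (perp hf.sesq W) :=
  fun w hw _ hv => hf.zero_iff.1 (hv w hw)

omit [DecidableEq ι] in
lemma IsRefl.nondegenerateOn_perp (hf : IsRefl σ ε f) {W : Submodule F (ι → F)}
    (hW : Cfsg.Geo.IsNondegenerateOn f W) : Cfsg.Geo.IsNondegenerateOn f (perp hf.sesq W) := by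
  rw [hf.nondegenerateOn_iff] at hW ⊢
  have heq : perp hf.sesq (perp hf.sesq W) = W := by
    refine (Submodule.eq_of_le_of_finrank_eq (hf.le_perp_perp W) ?_).symm
    have h1 := hf.finrank_perp W
    have h2 := hf.finrank_perp (perp hf.sesq W)
    omega
  rw [heq, inf_comm]; exact hW

omit [Fintype ι] [DecidableEq ι] in
/-- Pairwise orthogonal non-degenerate subspaces are independent. -/
lemma IsRefl.indep_of_orth (hf : IsRefl σ ε f) {κ : Type} {D : κ → Submodule F (ι → F)}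
    (hnd : ∀ i, Cfsg.Geo.IsNondegenerateOn f (D i))
    (horth : ∀ i j, i ≠ j → Cfsg.Geo.AreOrthogonalFor f (D i) (D j)) : iSupIndep D := by
  intro i
  refine disjoint_iff.2 (eq_bot_iff.2 fun v hv => (hf.nondegenerateOn_iff.1 (hnd i)) ▸ ?_)
  refine ⟨hv.1, ?_⟩
  have hle : (⨆ j, ⨆ (_ : j ≠ i), D j) ≤ perp hf.sesq (D i) :=
    iSup₂_le fun j hj w hw u hu => horth j i hj w hw u hu
  exact hle hv.2

lemma tr_le_of_le_stabilizer {H : Subgroup (GL ι F)} {t : ℕ}
    {D : Fin t → Submodule F (ι → F)} (hle : H ≤ Cfsg.Geo.decompositionStabilizer D)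
    {g : GL ι F} (hg : g ∈ H) : ∃ π : Equiv.Perm (Fin t), ∀ i, tr g (D i) = D (π i) :=
  hle hg

/-- An irreducible group permutes the parts of a decomposition transitively. -/
lemma transitive_of_irr {H : Subgroup (GL ι F)} (hirr : Irr H) {t m : ℕ}
    {D : Fin t → Submodule F (ι → F)} (hD : Cfsg.Geo.IsMDecomposition m D)
    (hle : H ≤ Cfsg.Geo.decompositionStabilizer D) (i j : Fin t) :
    ∃ g ∈ H, tr g (D i) = D j := by
  let T : Set (Fin t) := {k | ∃ g ∈ H, tr g (D i) = D k}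
  have hne : ∀ k, D k ≠ ⊥ := fun k h => by
    have := hD.finrank_eq k
    rw [h, finrank_bot] at this
    have := hD.pos
    omega
  have hinj : Function.Injective D := hD.indep.injective hne
  have hinv : Inv H (⨆ k ∈ T, D k) := by
    intro g hg v hv
    have hle' : tr g (⨆ k ∈ T, D k) ≤ ⨆ k ∈ T, D k := by
      rw [tr, Submodule.map_iSup]
      refine iSup_le fun k => ?_
      rw [Submodule.map_iSup]
      refine iSup_le fun hk => ?_
      obtain ⟨g', hg', hk'⟩ := hk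
      obtain ⟨π, hπ⟩ := tr_le_of_le_stabilizer hle hg
      refine le_iSup₂_of_le (π k) ⟨g * g', H.mul_mem hg hg', ?_⟩ (le_of_eq (hπ k))
      rw [tr_mul, hk', hπ]
    exact hle' (mem_tr.2 ⟨v, hv, rfl⟩)
  have hi : i ∈ T := ⟨1, H.one_mem, tr_one _⟩
  rcases irr_iff.1 hirr _ hinv with h | h
  · exact absurd (eq_bot_iff.2 (h ▸ le_iSup₂_of_le i hi le_rfl)) (hne i)
  · by_contra hj
    have hjT : j ∉ T := hj
    have h1 : (⨆ k ∈ T, D k) ≤ ⨆ k, ⨆ (_ : k ≠ j), D k :=
      iSup₂_le fun k hk => le_iSup₂_of_le k (fun h' => hjT (h' ▸ hk)) le_rfl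
    have h2 := hD.indep j
    rw [disjoint_iff] at h2
    exact hne j (eq_bot_iff.2 (h2 ▸ le_inf le_rfl ((le_top.trans h.ge).trans h1)))

omit [Fintype ι] [DecidableEq ι] in
lemma orth_iSup (hf : IsRefl σ ε f) {κ : Type} {D : κ → Submodule F (ι → F)}
    {W : Submodule F (ι → F)} (h : ∀ j, ∀ w ∈ D j, ∀ u ∈ W, f w u = 0) :
    ∀ w ∈ iSup D, ∀ u ∈ W, f w u = 0 := by
  intro w hw
  exact (iSup_le fun j => h j : iSup D ≤ perp hf.sesq W) hw

/-- A reducible group of isometries. -/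
theorem reducible_form (hf : IsRefl σ ε f) {H : Subgroup (GL ι F)}
    (hH : Cfsg.Geo.FixesForm (Cfsg.Geo.matrixSet H) f) (hirr : ¬ Irr H) :
    (∃ W : Submodule F (ι → F), W ≠ ⊥ ∧ W ≠ ⊤ ∧ Cfsg.Geo.IsTotallySingularFor f W ∧
        H ≤ Cfsg.Geo.subspaceStabilizer W) ∨
    (∃ W : Submodule F (ι → F), W ≠ ⊥ ∧ W ≠ ⊤ ∧ Cfsg.Geo.IsNondegenerateOn f W ∧
        2 * finrank F W < Fintype.card ι ∧ H ≤ Cfsg.Geo.subspaceStabilizer W) ∨
    (∃ (k : ℕ) (D : Fin 2 → Submodule F (ι → F)), 2 * k = Fintype.card ι ∧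
        Cfsg.Geo.IsNondegenerateMDecomposition f k D ∧ H ≤ Cfsg.Geo.decompositionStabilizer D) := by
  rw [irr_iff] at hirr
  push Not at hirr
  obtain ⟨W, hW, hWb, hWt⟩ := hirr
  have hWp := inv_perp hf.sesq hH hW
  by_cases hrad : W ⊓ perp hf.sesq W = ⊥
  swap
  · exact Or.inl ⟨_, hrad, fun h => hWt (eq_top_iff.2 (h ▸ inf_le_left)),
      totallySingular_inf_perp hf.sesq W, le_subspaceStabilizer (inv_inf H hW hWp)⟩
  right
  have h2 := hf.finrank_perp W
  have hWnd := hf.nondegenerateOn_iff.2 hrad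
  have hPnd := hf.nondegenerateOn_perp hWnd
  have hWlt : finrank F W < Fintype.card ι := by
    rw [← Module.finrank_fintype_fun_eq_card F]
    exact Submodule.finrank_lt hWt
  have hWpos : finrank F W ≠ 0 := fun h => hWb (Submodule.finrank_eq_zero.1 h)
  have hPb : perp hf.sesq W ≠ ⊥ := fun h => by rw [h, finrank_bot] at h2; omega
  have hPt : perp hf.sesq W ≠ ⊤ := fun h => by
    rw [h, finrank_top, Module.finrank_fintype_fun_eq_card] at h2; omega
  rcases lt_trichotomy (2 * finrank F W) (Fintype.card ι) with h | h | h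
  · exact Or.inl ⟨W, hWb, hWt, hWnd, h, le_subspaceStabilizer hW⟩
  swap
  · exact Or.inl ⟨_, hPb, hPt, hPnd, by omega, le_subspaceStabilizer hWp⟩
  right
  let D : Fin 2 → Submodule F (ι → F) := ![W, perp hf.sesq W]
  have hnd : ∀ i, Cfsg.Geo.IsNondegenerateOn f (D i) := fun i => by
    fin_cases i
    · exact hWnd
    · exact hPnd
  have horth : ∀ i j, i ≠ j → Cfsg.Geo.AreOrthogonalFor f (D i) (D j) := by
    intro i j hij
    fin_cases i <;> fin_cases j
    · exact absurd rfl hij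
    · exact fun u hu v hv => hf.zero_iff.1 (hv u hu)
    · exact fun u hu v hv => hu v hv
    · exact absurd rfl hij
  refine ⟨finrank F W, D, h, ⟨⟨le_rfl, Nat.pos_of_ne_zero hWpos, fun i => ?_,
    hf.indep_of_orth hnd horth, ?_⟩, hnd, horth⟩, fun g hg => ⟨1, fun i => ?_⟩⟩
  · fin_cases i
    · rfl
    · show finrank F (perp hf.sesq W) = finrank F W
      omega
  · have hsup : W ⊔ perp hf.sesq W = ⊤ := by
      refine Submodule.eq_top_of_finrank_eq ?_
      have := Submodule.finrank_sup_add_finrank_inf_eq W (perp hf.sesq W)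
      rw [hrad, finrank_bot, add_zero, h2] at this
      rw [this, Module.finrank_fintype_fun_eq_card]
    rw [← hsup]
    exact le_antisymm (iSup_le fun i => by fin_cases i <;> simp [D])
      (sup_le (le_iSup D 0) (le_iSup D 1))
  · have hinv : Inv H (D i) := by
      fin_cases i
      · exact hW
      · exact hWp
    show tr g (D i) = D i
    refine le_antisymm (fun v hv => ?_) (fun v hv => mem_tr.2 ⟨_, hinv g⁻¹ (H.inv_mem hg) v hv,
      mulVec_inv_cancel g v⟩)
    obtain ⟨w, hw, rfl⟩ := mem_tr.1 hv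
    exact hinv g hg w hw

/-- The homogeneous components of a normalised subgroup relative to a form. -/
theorem form_components [Finite F] (hf : IsRefl σ ε f) {H A : Subgroup (GL ι F)}
    (hirr : Irr H) (hH : Cfsg.Geo.FixesForm (Cfsg.Geo.matrixSet H) f) (hAH : A ≤ H)
    (hn : ∀ g ∈ H, ∀ a ∈ A, g * a * g⁻¹ ∈ A) :
    (∃ (t k : ℕ) (D : Fin t → Submodule F (ι → F)),
        Cfsg.Geo.IsNondegenerateMDecomposition f k D ∧ H ≤ Cfsg.Geo.decompositionStabilizer D) ∨
    (∃ (k : ℕ) (D : Fin 2 → Submodule F (ι → F)), 2 * k = Fintype.card ι ∧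
        Cfsg.Geo.IsMDecomposition k D ∧ (∀ i, Cfsg.Geo.IsTotallySingularFor f (D i)) ∧
        H ≤ Cfsg.Geo.decompositionStabilizer D) ∨
    ∀ S, MinInv A S → ann A S = ⊥ := by
  classical
  have hA := fixesForm_mono hAH hH
  rcases components_or_faithful hirr hn with ⟨t, m, D, K, hD, hle, hinv, hK, hKann, hDsup⟩ | h
  swap
  · exact Or.inr (Or.inr h)
  -- pairing of minimal subspaces
  have hadj : ∀ S T, MinInv A S → MinInv A T → (∃ s ∈ S, ∃ u ∈ T, f s u ≠ 0) →
      ∀ M, M ∈ ann A S → hf.adj M ∈ ann A T := by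
    intro S T hS hT hST M hM
    refine ⟨hf.adj_mem_envelope hA hM.1, fun u hu => ?_⟩
    have hlt : T ⊓ perp hf.sesq S = ⊥ := by
      refine (hT.min _ inf_le_left (inv_inf A hT.inv (inv_perp hf.sesq hA hS.inv))).resolve_right
        fun h => ?_
      obtain ⟨s, hs, u', hu', hsu⟩ := hST
      exact hsu (hf.zero_iff.1 ((h.ge hu').2 s hs))
    have hmem : hf.adj M *ᵥ u ∈ T ⊓ perp hf.sesq S := by
      refine ⟨envelope_mulVec_mem hT.inv (hf.adj_mem_envelope hA hM.1) hu, fun s hs => ?_⟩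
      rw [hf.zero_iff, ← hf.adj_spec, hM.2 s hs, hf.sesq.zero_left]
    exact (Submodule.mem_bot F).1 (hlt ▸ hmem)
  have hpair : ∀ i j j', (∃ u ∈ D i, ∃ v ∈ D j, f u v ≠ 0) → (∃ u ∈ D i, ∃ v ∈ D j', f u v ≠ 0) →
      j = j' := by
    have hmins : ∀ i j, (∃ u ∈ D i, ∃ v ∈ D j, f u v ≠ 0) → ∃ S T, MinInv A S ∧ S ≤ D i ∧
        MinInv A T ∧ T ≤ D j ∧ ∃ s ∈ S, ∃ u ∈ T, f s u ≠ 0 := by
      intro i j ⟨u, hu, v, hv, huv⟩
      by_contra hcon
      push Not at hcon
      apply huv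
      have h1 : sSup {S | MinInv A S ∧ S ≤ D i} ≤ perp hf.sesq (D j) := by
        refine sSup_le fun S hS s hs w hw => ?_
        have h2 : sSup {T | MinInv A T ∧ T ≤ D j} ≤ perp hf.sesq (F ∙ s) := by
          refine sSup_le fun T hT x hx y hy => ?_
          obtain ⟨c, rfl⟩ := Submodule.mem_span_singleton.1 hy
          rw [hf.sesq.smul_right, hf.zero_iff.1 (hcon S T hS.1 hS.2 hT.1 hT.2 s hs x hx), mul_zero]
        rw [hDsup] at h2
        exact hf.zero_iff.1 (h2 hw s (Submodule.mem_span_singleton_self s))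
      rw [hDsup] at h1
      exact h1 hu v hv
    intro i j j' h h'
    obtain ⟨S, T, hS, hSi, hT, hTj, hne⟩ := hmins i j h
    obtain ⟨S', T', hS', hS'i, hT', hT'j, hne'⟩ := hmins i j' h'
    apply hK
    rw [← hKann j T hT hTj, ← hKann j' T' hT' hT'j]
    have hflip : ∀ (S T : Submodule F (ι → F)), (∃ s ∈ S, ∃ u ∈ T, f s u ≠ 0) →
        ∃ s ∈ T, ∃ u ∈ S, f s u ≠ 0 := by
      rintro S T ⟨s, hs, u, hu, hsu⟩
      exact ⟨u, hu, s, hs, fun h => hsu (hf.zero_iff.1 h)⟩
    have heq : ann A S = ann A S' := (hKann i S hS hSi).trans (hKann i S' hS' hS'i).symm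
    refine le_antisymm (fun M hM => ?_) (fun M hM => ?_)
    · have h1 := hadj T S hT hS (hflip S T hne) M hM
      rw [heq] at h1
      simpa [hf.adj_adj] using hadj S' T' hS' hT' hne' _ h1
    · have h1 := hadj T' S' hT' hS' (hflip S' T' hne') M hM
      rw [← heq] at h1
      simpa [hf.adj_adj] using hadj S T hS hT hne _ h1
  have hneD : ∀ i, D i ≠ ⊥ := fun i h => by
    have := hD.finrank_eq i
    rw [h, finrank_bot] at this
    have := hD.pos
    omega
  have hinjD : Function.Injective D := hD.indep.injective hneD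
  have hexists : ∀ i, ∀ u ∈ D i, u ≠ 0 → ∃ j, ∃ v ∈ D j, f u v ≠ 0 := by
    intro i u hu hu0
    by_contra hcon
    push Not at hcon
    obtain ⟨-, x, hx⟩ := hf.nondeg u hu0
    apply hx
    have h1 : iSup D ≤ perp hf.sesq (F ∙ u) := iSup_le fun j v hv y hy => by
      obtain ⟨c, rfl⟩ := Submodule.mem_span_singleton.1 hy
      rw [hf.sesq.smul_right, hf.zero_iff.1 (hcon j v hv), mul_zero]
    rw [hD.iSup_eq_top] at h1
    exact hf.zero_iff.1 (h1 (Submodule.mem_top (x := x)) u (Submodule.mem_span_singleton_self u))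
  have hex : ∀ i, ∃ j, ∃ u ∈ D i, ∃ v ∈ D j, f u v ≠ 0 := by
    intro i
    obtain ⟨u, hu, hu0⟩ := Submodule.exists_mem_ne_zero_of_ne_bot (hneD i)
    obtain ⟨j, v, hv, huv⟩ := hexists i u hu hu0
    exact ⟨j, u, hu, v, hv, huv⟩
  choose π hπ using hex
  have hπeq : ∀ i j, (∃ u ∈ D i, ∃ v ∈ D j, f u v ≠ 0) → j = π i :=
    fun i j h => hpair i j (π i) h (hπ i)
  have horth : ∀ i j, j ≠ π i → Cfsg.Geo.AreOrthogonalFor f (D i) (D j) := by
    intro i j hij u hu v hv
    by_contra h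
    exact hij (hπeq i j ⟨u, hu, v, hv, h⟩)
  have hππ : ∀ i, π (π i) = i := by
    intro i
    obtain ⟨u, hu, v, hv, huv⟩ := hπ i
    exact (hπeq (π i) i ⟨v, hv, u, hu, fun h => huv (hf.zero_iff.1 h)⟩).symm
  have hequiv : ∀ g ∈ H, ∀ i j, tr g (D i) = D j → tr g (D (π i)) = D (π j) := by
    intro g hg i j hij
    obtain ⟨ρ, hρ⟩ := tr_le_of_le_stabilizer hle hg
    obtain rfl : ρ i = j := hinjD ((hρ i).symm.trans hij)
    rw [hρ]
    congr 1
    obtain ⟨u, hu, v, hv, huv⟩ := hπ i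
    refine hπeq (ρ i) (ρ (π i)) ⟨_, (hρ i).le (mem_tr.2 ⟨u, hu, rfl⟩), _,
      (hρ (π i)).le (mem_tr.2 ⟨v, hv, rfl⟩), ?_⟩
    rwa [isometry_apply hH hg]
  by_cases hself : ∀ i, π i = i
  · left
    refine ⟨t, m, D, ⟨hD, fun i => hf.nondegenerateOn_iff.2 (eq_bot_iff.2 fun u hu => ?_),
      fun i j hij => horth i j (by rw [hself]; exact hij.symm)⟩, hle⟩
    rw [Submodule.mem_bot]
    by_contra hu0
    obtain ⟨j, v, hv, huv⟩ := hexists i u hu.1 hu0
    obtain rfl : j = π i := hπeq i j ⟨u, hu.1, v, hv, huv⟩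
    exact huv (hu.2 v ((congrArg D (hself i)).le hv))
  push Not at hself
  obtain ⟨i₁, hi₁⟩ := hself
  have hnone : ∀ i, π i ≠ i := by
    intro i hi
    obtain ⟨g, hg, hgi⟩ := transitive_of_irr hirr hD hle i i₁
    have h1 := hequiv g hg i i₁ hgi
    rw [hi, hgi] at h1
    exact hi₁ (hinjD h1).symm
  -- pairs
  let R := {i : Fin t // i < π i}
  let e : Fin (Fintype.card R) ≃ R := (Fintype.equivFin R).symm
  let P : Fin (Fintype.card R) → Submodule F (ι → F) := fun k => D (e k).1 ⊔ D (π (e k).1)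
  have hrep : ∀ i, ∃ k, (e k).1 = i ∨ (e k).1 = π i := by
    intro i
    rcases lt_or_gt_of_ne (hnone i) with h | h
    · exact ⟨e.symm ⟨π i, by rwa [hππ]⟩, Or.inr (by simp)⟩
    · exact ⟨e.symm ⟨i, h⟩, Or.inl (by simp)⟩
  have huniq : ∀ k l, (e k).1 = (e l).1 ∨ (e k).1 = π (e l).1 → k = l := by
    rintro k l (h | h)
    · exact e.injective (Subtype.ext h)
    · exfalso
      have h1 : (e k).1 < π (e k).1 := (e k).2
      have h2 : (e l).1 < π (e l).1 := (e l).2
      rw [h, hππ] at h1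
      exact lt_asymm h1 h2
  have hPorth : ∀ k l, k ≠ l → Cfsg.Geo.AreOrthogonalFor f (P k) (P l) := by
    intro k l hkl
    have key : ∀ i j, (i = (e k).1 ∨ i = π (e k).1) → (j = (e l).1 ∨ j = π (e l).1) → j ≠ π i := by
      rintro i j (rfl | rfl) (rfl | rfl) h
      · exact hkl (huniq l k (Or.inr h)).symm
      · exact hkl (huniq k l (Or.inl (by rw [← hππ (e k).1, ← h, hππ])))
      · exact hkl (huniq l k (Or.inl (h.trans (hππ _)))).symm
      · rw [hππ] at h
        exact hkl (huniq k l (Or.inr h.symm))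
    intro u hu v hv
    obtain ⟨u₁, hu₁, u₂, hu₂, rfl⟩ := Submodule.mem_sup.1 hu
    obtain ⟨v₁, hv₁, v₂, hv₂, rfl⟩ := Submodule.mem_sup.1 hv
    simp only [hf.sesq.add_left, hf.sesq.add_right]
    rw [horth _ _ (key _ _ (Or.inl rfl) (Or.inl rfl)) u₁ hu₁ v₁ hv₁,
      horth _ _ (key _ _ (Or.inl rfl) (Or.inr rfl)) u₁ hu₁ v₂ hv₂,
      horth _ _ (key _ _ (Or.inr rfl) (Or.inl rfl)) u₂ hu₂ v₁ hv₁,
      horth _ _ (key _ _ (Or.inr rfl) (Or.inr rfl)) u₂ hu₂ v₂ hv₂]
    simp
  have hPtop : iSup P = ⊤ := by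
    refine eq_top_iff.2 (hD.iSup_eq_top ▸ iSup_le fun i => ?_)
    obtain ⟨k, h | h⟩ := hrep i
    · exact le_trans (by rw [h]; exact le_sup_left : D i ≤ D (e k).1 ⊔ D (π i)) (by
        refine le_trans (le_of_eq ?_) (le_iSup P k)
        simp only [P, h])
    · refine le_trans ?_ (le_iSup P k)
      simp only [P, h, hππ]
      exact le_sup_right
  have hPnd : ∀ k, Cfsg.Geo.IsNondegenerateOn f (P k) := by
    intro k
    refine hf.nondegenerateOn_iff.2 (eq_bot_iff.2 fun u hu => (Submodule.mem_bot F).2 ?_)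
    by_contra hu0
    obtain ⟨-, x, hx⟩ := hf.nondeg u hu0
    apply hx
    have h1 : iSup P ≤ perp hf.sesq (F ∙ u) := iSup_le fun l v hv y hy => by
      obtain ⟨c, rfl⟩ := Submodule.mem_span_singleton.1 hy
      rw [hf.sesq.smul_right]
      · refine mul_eq_zero_of_right _ ?_
        rw [hf.zero_iff]
        by_cases hkl : k = l
        · subst hkl; exact hu.2 v hv
        · exact hPorth k l hkl u hu.1 v hv
    rw [hPtop] at h1
    exact hf.zero_iff.1 (h1 (Submodule.mem_top (x := x)) u (Submodule.mem_span_singleton_self u))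
  have hPfr : ∀ k, finrank F (P k) = 2 * m := by
    intro k
    have h1 := Submodule.finrank_sup_add_finrank_inf_eq (D (e k).1) (D (π (e k).1))
    rw [disjoint_iff.1 (hD.indep.pairwiseDisjoint (hnone (e k).1).symm), finrank_bot, add_zero,
      hD.finrank_eq, hD.finrank_eq] at h1
    show finrank F ↥(D (e k).1 ⊔ D (π (e k).1)) = _
    omega
  have hPstab : H ≤ Cfsg.Geo.decompositionStabilizer P := by
    intro g hg
    obtain ⟨ρ, hρ⟩ := tr_le_of_le_stabilizer hle hg
    have hmove : ∀ k, ∃ l, tr g (P k) = P l := by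
      intro k
      obtain ⟨l, hl⟩ := hrep (ρ (e k).1)
      refine ⟨l, ?_⟩
      show tr g (D _ ⊔ D _) = D _ ⊔ D _
      rw [tr, Submodule.map_sup]
      show tr g _ ⊔ tr g _ = _
      rw [hequiv g hg _ _ (hρ (e k).1), hρ]
      rcases hl with h | h
      · rw [h]
      · rw [h, hππ, sup_comm]
    choose τ hτ using hmove
    have hPinj : Function.Injective P := (hf.indep_of_orth hPnd hPorth).injective fun k h => by
      have := hPfr k
      rw [h, finrank_bot] at this
      have := hD.pos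
      omega
    have hτinj : Function.Injective τ := fun k l h => hPinj (by
      have h1 := congrArg (tr g⁻¹) ((hτ k).trans ((congrArg P h).trans (hτ l).symm))
      simpa [← tr_mul, tr_one] using h1)
    exact ⟨Equiv.ofBijective τ (Finite.injective_iff_bijective.1 hτinj), hτ⟩
  obtain ⟨k₀, -⟩ := hrep i₁
  rcases Nat.lt_or_ge (Fintype.card R) 2 with h1 | h2
  · -- one pair of totally singular parts
    right; left
    have ht : t = 2 := by
      by_contra hne
      have h3 : 3 ≤ t := by have := hD.two_le; omega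
      obtain ⟨j, hj1, hj2⟩ : ∃ j : Fin t, j ≠ i₁ ∧ j ≠ π i₁ := by
        by_contra hcon
        push Not at hcon
        have hsub : (Finset.univ : Finset (Fin t)) ⊆ {i₁, π i₁} := fun j _ => by
          by_cases h : j = i₁
          · simp [h]
          · simp [hcon j h]
        have := (Finset.card_le_card hsub).trans Finset.card_le_two
        simp at this
        omega
      obtain ⟨k, hk⟩ := hrep j
      have hsub : Subsingleton (Fin (Fintype.card R)) := Fin.subsingleton_iff_le_one.2 (by omega)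
      obtain ⟨k', hk'⟩ := hrep i₁
      rw [Subsingleton.elim k' k] at hk'
      rcases hk with hk | hk <;> rcases hk' with hk' | hk' <;> rw [hk] at hk'
      · exact hj1 hk'
      · exact hj2 hk'
      · exact hj2 (by rw [← hk', hππ])
      · exact hj1 (by rw [← hππ j, hk', hππ])
    subst ht
    refine ⟨m, D, ?_, hD, fun i u hu v hv => horth i i (hnone i).symm u hu v hv, hle⟩
    exact mDecomposition_mul_eq hD
  · left
    exact ⟨Fintype.card R, 2 * m, P, ⟨⟨h2, by have := hD.pos; omega, hPfr,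
      hf.indep_of_orth hPnd hPorth, hPtop⟩, hPnd, hPorth⟩, hPstab⟩

end CfsgLib.Aschbacher
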