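import Cfsg.Agent.Lib.Aschbacher.Herm
import Cfsg.Agent.Lib.Aschbacher.FieldExt

/-!
Fields of matrices closed under adjoints: the fixed field of the adjoint, and the quadratic forms
attached to a pair of singular spaces or a quadratic field in characteristic two.
-/

set_option autoImplicit false

namespace CfsgLib.Aschbacher

open Matrix Module

variable {F : Type*} [Field F] {ι : Type} [Fintype ι] [DecidableEq ι]
  {f : (ι → F) → (ι → F) → F} {ε : F}

lemma isField_of_fieldSubalgebra [Nonempty ι] {r : ℕ} {K : Subalgebra F (Matrix ι ι F)}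
    (hK : Cfsg.Geo.IsFieldSubalgebra r K) : IsField ↥K := by
  refine ⟨⟨0, 1, fun h => zero_ne_one (congrArg (fun x : ↥K => (x : Matrix ι ι F)) h)⟩,
    fun x y => Subtype.ext (hK.comm x x.2 y y.2), fun {a} ha => ?_⟩
  obtain ⟨y, hy, hay⟩ := hK.inv a a.2 fun h => ha (Subtype.ext h)
  exact ⟨⟨y, hy⟩, Subtype.ext hay⟩

lemma fieldSubalgebra_mul_eq_zero {r : ℕ} {K : Subalgebra F (Matrix ι ι F)}
    (hK : Cfsg.Geo.IsFieldSubalgebra r K) {x y : Matrix ι ι F} (hx : x ∈ K)
    (h : x * y = 0) (hx0 : x ≠ 0) : y = 0 := by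
  obtain ⟨z, hz, hxz⟩ := hK.inv x hx hx0
  have hzx : z * x = 1 := by rw [hK.comm z hz x hx]; exact hxz
  calc y = z * x * y := by rw [hzx, one_mul]
    _ = 0 := by rw [mul_assoc, h, mul_zero]

/-- In a field of matrices a non-zero element kills no non-zero vector. -/
lemma fieldSubalgebra_mulVec_eq_zero {r : ℕ} {K : Subalgebra F (Matrix ι ι F)}
    (hK : Cfsg.Geo.IsFieldSubalgebra r K) {x : Matrix ι ι F} (hx : x ∈ K) (hx0 : x ≠ 0)
    {v : ι → F} (h : x *ᵥ v = 0) : v = 0 := by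
  obtain ⟨z, hz, hxz⟩ := hK.inv x hx hx0
  calc v = (z * x) *ᵥ v := by rw [hK.comm z hz x hx, hxz, Matrix.one_mulVec]
    _ = 0 := by rw [← Matrix.mulVec_mulVec, h, Matrix.mulVec_zero]

lemma two_eq_zero_iff [Fintype F] : (2 : F) = 0 ↔ ¬ Odd (Fintype.card F) := by
  constructor
  · intro h hodd
    obtain ⟨p, hp⟩ := CharP.exists F
    obtain ⟨k, hpp, hc⟩ := FiniteField.card F p
    have hp2 : p = 2 :=
      (Nat.prime_dvd_prime_iff_eq hpp Nat.prime_two).1 ((CharP.cast_eq_zero_iff F p 2).1 (mod_cast h))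
    subst hp2
    rw [hc, Nat.odd_pow_iff k.ne_zero] at hodd
    exact absurd hodd (by decide)
  · intro h
    by_contra h2
    refine h ?_
    rw [Nat.odd_iff]
    exact FiniteField.odd_card_of_char_ne_two fun hc => h2 (by
      have : CharP F 2 := ringChar.of_eq hc
      exact CharTwo.two_eq_zero)

/-- A bilinear form as the polar of a quadratic form. -/
lemma quad_of_polar {Q : (ι → F) → F} (hs : ∀ (c : F) v, Q (c • v) = c ^ 2 * Q v)
    (hb : Cfsg.Geo.IsBilinearForm f) (hnd : Cfsg.Geo.IsNondegenerateForm f)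
    (hpol : ∀ u v, QuadraticMap.polar Q u v = f u v) :
    Cfsg.Geo.IsNondegenerateQuadraticForm Q := by
  have h : QuadraticMap.polar Q = f := funext fun u => funext fun v => hpol u v
  exact ⟨hs, h ▸ hb, h ▸ hnd⟩

lemma IsRefl.bilinear (hf : IsRefl (RingEquiv.refl F) ε f) : Cfsg.Geo.IsBilinearForm f :=
  ⟨hf.sesq.add_left, hf.sesq.smul_left, hf.sesq.add_right,
    fun c v x => hf.sesq.smul_right c v x⟩

lemma adj_smul_id (hf : IsRefl (RingEquiv.refl F) ε f) (c : F) (M : Matrix ι ι F) :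
    hf.adj (c • M) = c • hf.adj M := hf.adj_smul c M

/-- The fixed elements of the adjoint in an adjoint-closed field. -/
noncomputable def IsRefl.fixedPart (hf : IsRefl (RingEquiv.refl F) ε f)
    (K : Subalgebra F (Matrix ι ι F)) (hcomm : ∀ x ∈ K, ∀ y ∈ K, x * y = y * x) :
    Subalgebra F (Matrix ι ι F) where
  carrier := {k | k ∈ K ∧ hf.adj k = k}
  mul_mem' {a b} ha hb := ⟨mul_mem ha.1 hb.1, by
    rw [hf.adj_mul, ha.2, hb.2, hcomm b hb.1 a ha.1]⟩
  add_mem' {a b} ha hb := ⟨add_mem ha.1 hb.1, by rw [hf.adj_add, ha.2, hb.2]⟩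
  algebraMap_mem' c := ⟨K.algebraMap_mem c, by
    rw [Algebra.algebraMap_eq_smul_one, adj_smul_id hf, hf.adj_one]⟩

/-- A normalised adjoint-closed field is self-adjoint in a normalised subfield of prime degree, or
it is quadratic with scalar traces and norms. -/
theorem field_involution [Fintype F] [Nonempty ι] (hf : IsRefl (RingEquiv.refl F) ε f) {e : ℕ}
    {K : Subalgebra F (Matrix ι ι F)} (hK : Cfsg.Geo.IsFieldSubalgebra e K) (he : 1 < e)
    (hadj : ∀ k ∈ K, hf.adj k ∈ K) {H : Subgroup (GL ι F)}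
    (hH : Cfsg.Geo.FixesForm (Cfsg.Geo.matrixSet H) f)
    (hle : H ≤ Cfsg.Geo.subalgebraNormalizer K) :
    (∃ (r : ℕ) (K₀ : Subalgebra F (Matrix ι ι F)), r.Prime ∧ Cfsg.Geo.IsFieldSubalgebra r K₀ ∧
        (∀ k ∈ K₀, hf.adj k = k) ∧ H ≤ Cfsg.Geo.subalgebraNormalizer K₀) ∨
    (e = 2 ∧ (∀ k ∈ K, hf.adj k = k → ∃ c : F, k = c • (1 : Matrix ι ι F)) ∧
      ∀ k ∈ K, ∃ c : F, k + hf.adj k = c • (1 : Matrix ι ι F)) := by
  classical
  have hK0n : H ≤ Cfsg.Geo.subalgebraNormalizer (hf.fixedPart K hK.comm) :=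
    mem_subalgebraNormalizer_of fun g hg k hk =>
      ⟨(hle hg k).1 hk.1, by rw [hf.adj_conj hH hg, hk.2]⟩
  have hK0f := isFieldSubalgebra_of_noZeroDivisors (K := hf.fixedPart K hK.comm)
    (fun x hx y hy => hK.comm x hx.1 y hy.1) (fun x hx y _ h => by
      by_cases hx0 : x = 0
      · exact Or.inl hx0
      · exact Or.inr (fieldSubalgebra_mul_eq_zero hK hx.1 h hx0))
  rcases Nat.lt_or_ge 1 (finrank F ↥(hf.fixedPart K hK.comm)) with h1 | h1
  · obtain ⟨r, Q, K₀, hr, -, hK₀, hmem, hle₀⟩ := exists_prime_subfield hK0f h1 hK0n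
    exact Or.inl ⟨r, K₀, hr, hK₀, fun k hk => ((hmem k).1 hk).1.2, hle₀⟩
  right
  have hscal : ∀ k ∈ K, hf.adj k = k → ∃ c : F, k = c • (1 : Matrix ι ι F) := by
    intro k hk hkk
    have : Nontrivial ↥(hf.fixedPart K hK.comm) :=
      ⟨⟨0, 1, fun h => zero_ne_one (congrArg
        (fun x : ↥(hf.fixedPart K hK.comm) => (x : Matrix ι ι F)) h)⟩⟩
    have h2 : finrank F ↥(hf.fixedPart K hK.comm) = 1 := by
      have : 0 < finrank F ↥(hf.fixedPart K hK.comm) := Module.finrank_pos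
      omega
    obtain ⟨c, hc⟩ := (finrank_eq_one_iff_of_nonzero' (1 : ↥(hf.fixedPart K hK.comm))
      one_ne_zero).1 h2 ⟨k, hk, hkk⟩
    exact ⟨c, (congrArg Subtype.val hc).symm⟩
  have htr : ∀ k ∈ K, ∃ c : F, k + hf.adj k = c • (1 : Matrix ι ι F) := fun k hk =>
    hscal _ (add_mem hk (hadj k hk)) (by rw [hf.adj_add, hf.adj_adj, add_comm])
  refine ⟨?_, hscal, htr⟩
  letI : Field ↥K := (isField_of_fieldSubalgebra hK).toField
  letI : Fintype ↥K := Fintype.ofFinite _
  obtain ⟨g, hg⟩ := IsCyclic.exists_generator (α := (↥K)ˣ)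
  set γ : Matrix ι ι F := ((g : ↥K) : Matrix ι ι F) with hγ
  have hγK : γ ∈ K := (g : ↥K).2
  obtain ⟨s, hs⟩ := htr γ hγK
  obtain ⟨nm, hnm⟩ := hscal (γ * hf.adj γ) (mul_mem hγK (hadj γ hγK))
    (by rw [hf.adj_mul, hf.adj_adj])
  have hsq : γ * γ = s • γ - nm • 1 := by
    have h1 : hf.adj γ = s • 1 - γ := eq_sub_of_add_eq' hs
    rw [h1, mul_sub, Matrix.mul_smul, mul_one] at hnm
    rw [← hnm]; abel
  let S : Submodule F (Matrix ι ι F) := Submodule.span F {1, γ}
  have h1S : (1 : Matrix ι ι F) ∈ S := Submodule.subset_span (Or.inl rfl)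
  have hγS : γ ∈ S := Submodule.subset_span (Or.inr rfl)
  have hmul : ∀ x ∈ S, γ * x ∈ S := by
    intro x hx
    refine Submodule.span_induction ?_ ?_ ?_ ?_ hx
    · rintro _ (rfl | rfl)
      · rwa [mul_one]
      · rw [hsq]; exact sub_mem (S.smul_mem _ hγS) (S.smul_mem _ h1S)
    · simp
    · intro x y _ _ hx hy; rw [mul_add]; exact add_mem hx hy
    · intro c x _ hx; rw [Matrix.mul_smul]; exact S.smul_mem _ hx
  have hpow : ∀ k : ℕ, γ ^ k ∈ S := fun k => by
    induction k with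
    | zero => rwa [pow_zero]
    | succ k ih => rw [pow_succ']; exact hmul _ ih
  have hKS : Subalgebra.toSubmodule K ≤ S := by
    intro x hx
    by_cases hx0 : x = 0
    · rw [hx0]; exact zero_mem _
    obtain ⟨k, hk⟩ := (mem_powers_iff_mem_zpowers (x := g)).2
      (hg (Units.mk0 (⟨x, hx⟩ : ↥K) fun h => hx0 (congrArg Subtype.val h)))
    have h2 : γ ^ k = x := by
      have h3 := congrArg (fun u : (↥K)ˣ => ((u : ↥K) : Matrix ι ι F)) hk
      simpa [hγ] using h3
    exact h2 ▸ hpow k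
  have h2 := Submodule.finrank_mono hKS
  rw [Subalgebra.finrank_toSubmodule, hK.finrank_eq] at h2
  have h3 : finrank F S ≤ 2 := by
    refine (finrank_span_le_card _).trans ?_
    rw [Set.toFinset_insert, Set.toFinset_singleton]
    exact Finset.card_le_two
  omega

/-- In characteristic two an element of trace one of a quadratic field gives a quadratic form. -/
theorem quad_of_trace_one [Fintype F] (hf : IsRefl (RingEquiv.refl F) ε f)
    (halt : ∀ v, f v v = 0) (h2 : (2 : F) = 0) {K : Subalgebra F (Matrix ι ι F)} (hdeg : Cfsg.Geo.IsFieldSubalgebra 2 K)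
    (hfix : ∀ k ∈ K, hf.adj k = k → ∃ c : F, k = c • (1 : Matrix ι ι F))
    (htr : ∀ k ∈ K, ∃ c : F, k + hf.adj k = c • (1 : Matrix ι ι F))
    (hadj : ∀ k ∈ K, hf.adj k ∈ K) {H : Subgroup (GL ι F)}
    (hH : Cfsg.Geo.FixesForm (Cfsg.Geo.matrixSet H) f)
    (hle : H ≤ Cfsg.Geo.subalgebraNormalizer K) :
    ∃ Q : (ι → F) → F, Cfsg.Geo.IsNondegenerateQuadraticForm Q ∧
      (∀ u v, QuadraticMap.polar Q u v = f u v) ∧ H ≤ Cfsg.Geo.quadSimilarityGroup Q := by
  classical
  have hskew : ∀ u v, f u v = f v u := by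
    intro u v
    have := halt (u + v)
    rw [hf.sesq.add_left, hf.sesq.add_right, hf.sesq.add_right, halt, halt] at this
    linear_combination this - f v u * h2
  -- an element of trace one
  obtain ⟨ω, hωK, hω⟩ : ∃ ω ∈ K, ω + hf.adj ω = 1 := by
    by_contra hcon
    push Not at hcon
    have hall : ∀ k ∈ K, ∃ c : F, k = c • (1 : Matrix ι ι F) := by
      intro k hk
      refine hfix k hk ?_
      obtain ⟨c, hc⟩ := htr k hk
      by_cases hc0 : c = 0
      · rw [hc0, zero_smul, add_eq_zero_iff_eq_neg'] at hc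
        rw [hc, ← neg_one_smul F k, show (-1 : F) = 1 by linear_combination -h2, one_smul]
      · refine absurd ?_ (hcon (c⁻¹ • k) (K.smul_mem hk _))
        rw [adj_smul_id hf, ← smul_add, hc, smul_smul, inv_mul_cancel₀ hc0, one_smul]
    have hle1 : Subalgebra.toSubmodule K ≤ F ∙ (1 : Matrix ι ι F) := fun k hk => by
      obtain ⟨c, hc⟩ := hall k hk
      exact Submodule.mem_span_singleton.2 ⟨c, hc.symm⟩
    have h3 := Submodule.finrank_mono hle1
    rw [Subalgebra.finrank_toSubmodule, hdeg.finrank_eq] at h3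
    have h4 := finrank_span_le_card (R := F) ({(1 : Matrix ι ι F)} : Set (Matrix ι ι F))
    rw [Set.toFinset_singleton, Finset.card_singleton] at h4
    omega
  let Q : (ι → F) → F := fun v => f (ω *ᵥ v) v
  have hpol : ∀ u v, QuadraticMap.polar Q u v = f u v := by
    intro u v
    have h3 : f (ω *ᵥ v) u = f (hf.adj ω *ᵥ u) v := by
      rw [hf.adj_spec, hskew]
    simp only [QuadraticMap.polar, Q, Matrix.mulVec_add, hf.sesq.add_left, hf.sesq.add_right, h3]
    calc _ = f (ω *ᵥ u) v + f (hf.adj ω *ᵥ u) v := by ring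
      _ = _ := by rw [← hf.sesq.add_left, ← Matrix.add_mulVec, hω, Matrix.one_mulVec]
  refine ⟨Q, quad_of_polar (fun c v => ?_) hf.bilinear hf.nondeg hpol, hpol,
    fun g hg => ⟨1, fun v => ?_⟩⟩
  · show f (ω *ᵥ (c • v)) (c • v) = c ^ 2 * f (ω *ᵥ v) v
    rw [Matrix.mulVec_smul, hf.sesq.smul_left, hf.bilinear.smul_right]; ring
  rw [Units.val_one, one_mul]
  set w := ((g⁻¹ : GL ι F) : Matrix ι ι F) * ω * (g : Matrix ι ι F) with hw
  have hwK : w ∈ K := by
    have := (hle (H.inv_mem hg) ω).1 hωK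
    rwa [inv_inv] at this
  have hwtr : w + hf.adj w = 1 := by
    have h1 : hf.adj w = ((g⁻¹ : GL ι F) : Matrix ι ι F) * hf.adj ω * (g : Matrix ι ι F) := by
      have := hf.adj_conj hH (H.inv_mem hg) ω
      rwa [inv_inv] at this
    rw [h1, hw, ← add_mul, ← mul_add, hω, mul_one, Units.inv_mul]
  obtain ⟨a, ha⟩ := hfix (w - ω) (sub_mem hwK hωK) (by
    have e1 : hf.adj w = 1 - w := eq_sub_of_add_eq' hwtr
    have e2 : hf.adj ω = 1 - ω := eq_sub_of_add_eq' hω
    have e3 : hf.adj (w - ω) + hf.adj ω = hf.adj w := by rw [← hf.adj_add, sub_add_cancel]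
    rw [eq_sub_of_add_eq e3, e1, e2, show (1 - w : Matrix ι ι F) - (1 - ω) = (-1 : F) • (w - ω) by
      rw [neg_one_smul]; abel, show (-1 : F) = 1 by linear_combination -h2, one_smul])
  have h5 : f ((g : Matrix ι ι F) *ᵥ (w *ᵥ v)) ((g : Matrix ι ι F) *ᵥ v) = f (w *ᵥ v) v :=
    isometry_apply hH hg _ _
  show f (ω *ᵥ ((g : Matrix ι ι F) *ᵥ v)) ((g : Matrix ι ι F) *ᵥ v) = f (ω *ᵥ v) v
  have h6 : ω *ᵥ ((g : Matrix ι ι F) *ᵥ v) = (g : Matrix ι ι F) *ᵥ (w *ᵥ v) := by
    rw [Matrix.mulVec_mulVec, Matrix.mulVec_mulVec, hw, ← mul_assoc, ← mul_assoc, Units.mul_inv,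
      one_mul]
  rw [h6, h5, eq_add_of_sub_eq ha, Matrix.add_mulVec, Matrix.smul_mulVec, Matrix.one_mulVec,
    hf.sesq.add_left, hf.sesq.smul_left, halt, mul_zero, zero_add]

/-- In characteristic two a pair of complementary singular spaces gives a quadratic form. -/
theorem quad_of_pair (hf : IsRefl (RingEquiv.refl F) ε f) (halt : ∀ v, f v v = 0) (h2 : (2 : F) = 0)
    {k : ℕ} {D : Fin 2 → Submodule F (ι → F)} (hD : Cfsg.Geo.IsMDecomposition k D)
    (hts : ∀ i, Cfsg.Geo.IsTotallySingularFor f (D i)) {H : Subgroup (GL ι F)}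
    (hH : Cfsg.Geo.FixesForm (Cfsg.Geo.matrixSet H) f)
    (hle : H ≤ Cfsg.Geo.decompositionStabilizer D) :
    ∃ Q : (ι → F) → F, Cfsg.Geo.IsNondegenerateQuadraticForm Q ∧
      (∀ u v, QuadraticMap.polar Q u v = f u v) ∧ H ≤ Cfsg.Geo.quadSimilarityGroup Q := by
  have hskew : ∀ u v, f u v = f v u := by
    intro u v
    have := halt (u + v)
    rw [hf.sesq.add_left, hf.sesq.add_right, hf.sesq.add_right, halt, halt] at this
    linear_combination this - f v u * h2
  have hc : IsCompl (D 0) (D 1) := by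
    refine IsCompl.of_eq (disjoint_iff.1 (hD.indep.pairwiseDisjoint (by decide : (0 : Fin 2) ≠ 1))) ?_
    refine eq_top_iff.2 (hD.iSup_eq_top ▸ iSup_le fun i => ?_)
    fin_cases i
    · exact le_sup_left
    · exact le_sup_right
  obtain ⟨p, hp0, hp1⟩ : ∃ p : (ι → F) →ₗ[F] (ι → F), (∀ v, p v ∈ D 0) ∧ ∀ v, v - p v ∈ D 1 := by
    refine ⟨(D 0).subtype ∘ₗ Submodule.projectionOnto (D 0) (D 1) hc,
      fun v => (Submodule.projectionOnto (D 0) (D 1) hc v).2, fun v => ?_⟩
    rw [← Submodule.projectionOnto_apply_eq_zero_iff hc, map_sub, LinearMap.comp_apply,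
      Submodule.subtype_apply, Submodule.projectionOnto_apply_left, sub_self]
  let Q : (ι → F) → F := fun v => f (p v) (v - p v)
  have hval : ∀ a b, a ∈ D 0 → b ∈ D 1 → Q (a + b) = f a b := by
    intro a b ha hb
    have hpab : p (a + b) = a := by
      have h3 : p (a + b) - a ∈ D 0 := sub_mem (hp0 _) ha
      have h4 : p (a + b) - a ∈ D 1 := by
        have := sub_mem hb (hp1 (a + b))
        convert this using 1
        abel
      exact sub_eq_zero.1 (Submodule.disjoint_def.1 hc.disjoint _ h3 h4)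
    show f (p (a + b)) (a + b - p (a + b)) = f a b
    rw [hpab, add_sub_cancel_left]
  have hpol : ∀ u v, QuadraticMap.polar Q u v = f u v := by
    intro u v
    have huv : f u v = f (p u + (u - p u)) (p v + (v - p v)) := by simp
    rw [huv]
    simp only [QuadraticMap.polar, Q, map_add, add_sub_add_comm, hf.sesq.add_left, hf.sesq.add_right,
      hts 0 _ (hp0 u) _ (hp0 v), hts 1 _ (hp1 u) _ (hp1 v), hskew (u - p u) (p v)]
    ring
  refine ⟨Q, quad_of_polar (fun c v => ?_) hf.bilinear hf.nondeg hpol, hpol,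
    fun g hg => ⟨1, fun v => ?_⟩⟩
  · show f (p (c • v)) (c • v - p (c • v)) = _
    rw [map_smul, ← smul_sub, hf.sesq.smul_left, hf.bilinear.smul_right]
    show _ = c ^ 2 * f (p v) (v - p v)
    ring
  rw [Units.val_one, one_mul]
  obtain ⟨π, hπ⟩ := tr_le_of_le_stabilizer hle hg
  have hv : v = p v + (v - p v) := by abel
  have h0 := (hπ 0).le (mem_tr.2 ⟨_, hp0 v, rfl⟩)
  have h1 := (hπ 1).le (mem_tr.2 ⟨_, hp1 v, rfl⟩)
  show Q _ = f (p v) (v - p v)
  conv_lhs => rw [hv, Matrix.mulVec_add]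
  rcases (by decide : ∀ x : Fin 2, x = 0 ∨ x = 1) (π 0) with hπ0 | hπ0
  · have hπ1 : π 1 = 1 := by
      rcases (by decide : ∀ x : Fin 2, x = 0 ∨ x = 1) (π 1) with h | h
      · exact absurd (π.injective (h.trans hπ0.symm)) (by decide)
      · exact h
    rw [hπ0] at h0; rw [hπ1] at h1
    rw [hval _ _ h0 h1, isometry_apply hH hg]
  · have hπ1 : π 1 = 0 := by
      rcases (by decide : ∀ x : Fin 2, x = 0 ∨ x = 1) (π 1) with h | h
      · exact h
      · exact absurd (π.injective (h.trans hπ0.symm)) (by decide)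
    rw [hπ0] at h0; rw [hπ1] at h1
    rw [add_comm, hval _ _ h1 h0, isometry_apply hH hg, hskew]

end CfsgLib.Aschbacher
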