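import Cfsg.Agent.Lib.Aschbacher.Units

/-!
Groups permuting commuting full matrix algebras stabilise tensor decompositions.
-/

set_option autoImplicit false

namespace CfsgLib.Aschbacher

open Matrix Module

open scoped Kronecker

variable {F : Type*} [Field F] {ι : Type} [Fintype ι] [DecidableEq ι]

/-! ### Two factors -/

lemma kron_one_injective {a b : ℕ} [NeZero b] {X Y : Matrix (Fin a) (Fin a) F}
    (h : X ⊗ₖ (1 : Matrix (Fin b) (Fin b) F) = Y ⊗ₖ (1 : Matrix (Fin b) (Fin b) F)) : X = Y := by
  ext i j
  simpa using congrFun (congrFun h (i, 0)) (j, 0)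

/-- A matrix commuting with all `e ⊗ 1` is of the form `1 ⊗ d`. -/
lemma eq_one_kron {a b : ℕ} [NeZero a] {M : Matrix (Fin a × Fin b) (Fin a × Fin b) F}
    (h : ∀ k l, Commute M (Matrix.single k l (1 : F) ⊗ₖ (1 : Matrix (Fin b) (Fin b) F))) :
    M = (1 : Matrix (Fin a) (Fin a) F) ⊗ₖ Matrix.of fun j j' => M (0, j) (0, j') := by
  have key : ∀ k l k' j l' j', (if k' = k then M (l, j) (l', j') else 0) =
      if l = l' then M (k', j) (k, j') else 0 := by
    intro k l k' j l' j'
    have h1 := congrFun (congrFun (h k l).eq (k', j)) (l', j')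
    simp only [Matrix.mul_apply, Fintype.sum_prod_type, Matrix.kroneckerMap_apply,
      Matrix.single_apply, Matrix.one_apply] at h1
    by_cases hk : k' = k <;> by_cases hl : l = l'
    · subst hk hl; simpa using h1.symm
    · subst hk; simpa [hl] using h1.symm
    · subst hl; simpa [hk, Ne.symm hk] using h1.symm
    · simp [hk, hl]
  ext ⟨k, j⟩ ⟨l, j'⟩
  by_cases hkl : k = l
  · subst hkl
    have := key 0 k 0 j k j'
    simp only [if_pos] at this
    simpa using this
  · have := key k k k j l j'
    simp only [if_neg hkl, if_pos] at this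
    simpa [hkl] using this

/-- A matrix normalising `Mat ⊗ 1` is a Kronecker product. -/
theorem mem_kronecker_of_normalises {a b : ℕ} [NeZero a] [NeZero b]
    {g : GL (Fin a × Fin b) F}
    (h : ∀ k l, ∃ Y : Matrix (Fin a) (Fin a) F,
      (g : Matrix (Fin a × Fin b) (Fin a × Fin b) F) * (Matrix.single k l (1 : F) ⊗ₖ 1) *
        ((g⁻¹ : GL (Fin a × Fin b) F) : Matrix (Fin a × Fin b) (Fin a × Fin b) F) = Y ⊗ₖ 1) :
    g ∈ Cfsg.Geo.kroneckerSubgroup a b F := by
  choose Y hY using h
  let G : Matrix (Fin a × Fin b) (Fin a × Fin b) F := (g : Matrix (Fin a × Fin b) (Fin a × Fin b) F)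
  have hU : IsUnits Y := by
    refine ⟨fun i j k l => kron_one_injective (b := b) ?_, kron_one_injective (b := b) ?_⟩
    · rw [← mul_one (1 : Matrix (Fin b) (Fin b) F), Matrix.mul_kronecker_mul, ← hY, ← hY]
      simp only [mul_assoc, Units.inv_mul_cancel_left]
      rw [mul_one, ← mul_assoc (Matrix.single i j (1 : F) ⊗ₖ _), ← Matrix.mul_kronecker_mul,
        mul_one]
      split <;> rename_i hjk
      · subst hjk
        rw [← hY]
        simp [mul_assoc]
      · simp [hjk]
    · have hs : ∀ f : Fin a → Matrix (Fin a) (Fin a) F,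
          (∑ i, f i) ⊗ₖ (1 : Matrix (Fin b) (Fin b) F) = ∑ i, f i ⊗ₖ 1 := by
        intro f
        ext ⟨p, q⟩ ⟨r, s⟩
        simp [Matrix.sum_apply, Finset.sum_mul]
      rw [hs]
      simp only [← hY, ← Finset.mul_sum, ← Finset.sum_mul, ← hs]
      rw [isUnits_single.sum]
      simp
  obtain ⟨c, hc⟩ := hU.exists_conj
  let C : Matrix (Fin a × Fin b) (Fin a × Fin b) F := (c : Matrix (Fin a) (Fin a) F) ⊗ₖ 1
  let C' : Matrix (Fin a × Fin b) (Fin a × Fin b) F :=
    ((c⁻¹ : GL (Fin a) F) : Matrix (Fin a) (Fin a) F) ⊗ₖ 1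
  have hCC' : C * C' = 1 := by
    simp only [C, C', ← Matrix.mul_kronecker_mul, Units.mul_inv, mul_one, Matrix.one_kronecker_one]
  have hgY : ∀ k l, G * (Matrix.single k l (1 : F) ⊗ₖ 1) = (Y k l ⊗ₖ 1) * G := fun k l => by
    rw [← hY]; simp [G, mul_assoc]
  have hcomm : ∀ k l, Commute (C' * G) (Matrix.single k l (1 : F) ⊗ₖ 1) := by
    intro k l
    have h1 : ((c⁻¹ : GL (Fin a) F) : Matrix (Fin a) (Fin a) F) * Y k l =
        Matrix.single k l (1 : F) * ((c⁻¹ : GL (Fin a) F) : Matrix (Fin a) (Fin a) F) := by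
      calc _ = ((c⁻¹ : GL (Fin a) F) : Matrix (Fin a) (Fin a) F) * (Y k l * c) *
            ((c⁻¹ : GL (Fin a) F) : Matrix (Fin a) (Fin a) F) := by simp [mul_assoc]
        _ = _ := by rw [← hc]; simp [← mul_assoc]
    show C' * G * _ = _
    rw [mul_assoc, hgY, ← mul_assoc, ← mul_assoc, ← Matrix.mul_kronecker_mul,
      ← Matrix.mul_kronecker_mul, h1]
  obtain ⟨d, hd⟩ : ∃ d : Matrix (Fin b) (Fin b) F, C' * G = 1 ⊗ₖ d := ⟨_, eq_one_kron hcomm⟩
  have hG : G = (c : Matrix (Fin a) (Fin a) F) ⊗ₖ d := by
    calc G = C * (C' * G) := by rw [← mul_assoc, hCC', one_mul]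
      _ = _ := by rw [hd, ← Matrix.mul_kronecker_mul, mul_one, one_mul]
  have hdu : IsUnit d := by
    rw [Matrix.isUnit_iff_isUnit_det, isUnit_iff_ne_zero]
    intro h0
    have h2 : G.det = 0 := by
      rw [hG, Matrix.det_kronecker, h0, zero_pow (by simpa using NeZero.ne a), mul_zero]
    exact g.det_ne_zero h2
  obtain ⟨du, hdu⟩ := hdu
  exact ⟨c, du, by rw [hdu]; exact hG⟩

/-- A group normalising the span of a system of matrix units stabilises a tensor decomposition. -/
theorem le_tensorProduct_of_units [Nonempty ι] {a : ℕ}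
    {E : Fin a → Fin a → Matrix ι ι F} (hE : IsUnits E) {H : Subgroup (GL ι F)}
    (hH : ∀ g ∈ H, ∀ k l, (g : Matrix ι ι F) * E k l * ((g⁻¹ : GL ι F) : Matrix ι ι F) ∈
      Submodule.span F (Set.range fun p : Fin a × Fin a => E p.1 p.2)) :
    ∃ (b : ℕ) (e : ι ≃ Fin a × Fin b) (P : GL ι F), 0 < b ∧ Fintype.card ι = a * b ∧
      H ≤ Cfsg.Geo.tensorProductSubgroup a b e P := by
  obtain ⟨b, hb, hcard, hfr⟩ := hE.exists_frame
  rw [Fintype.card_fin] at hcard
  let e : ι ≃ Fin a × Fin b := Fintype.equivOfCardEq (by simp [hcard])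
  obtain ⟨P, hP⟩ := hfr e
  refine ⟨b, e, P, hb, hcard, fun g hg => ?_⟩
  have : NeZero b := ⟨hb.ne'⟩
  have : NeZero a := ⟨fun h0 => Fintype.card_ne_zero (by rw [hcard, h0, zero_mul])⟩
  rw [Cfsg.Geo.tensorProductSubgroup, map_glReindex_conj]
  refine ⟨(frU e P).symm g, mem_kronecker_of_normalises fun k l => ?_,
    (frU e P).apply_symm_apply g⟩
  obtain ⟨c, hc⟩ := (Submodule.mem_span_range_iff_exists_fun F).1 (hH g hg k l)
  refine ⟨∑ p : Fin a × Fin a, c p • Matrix.single p.1 p.2 1, (frAlg e P).injective ?_⟩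
  have hg' : frU e P ((frU e P).symm g) = g := (frU e P).apply_symm_apply g
  rw [map_mul, map_mul, ← frU_val, ← frU_val, map_inv, hg', ← hP, ← hc]
  have hs : (∑ p : Fin a × Fin a, c p • Matrix.single p.1 p.2 (1 : F)) ⊗ₖ
      (1 : Matrix (Fin b) (Fin b) F) =
      ∑ p : Fin a × Fin a, c p • (Matrix.single p.1 p.2 (1 : F) ⊗ₖ 1) := by
    ext ⟨p, q⟩ ⟨r, s⟩
    simp only [Matrix.kroneckerMap_apply, Matrix.sum_apply, Finset.sum_mul, Matrix.smul_apply,
      smul_eq_mul, mul_assoc]
  rw [hs]
  simp only [map_sum, map_smul, hP]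

/-- Exchanging the two factors. -/
theorem tensorProductSubgroup_swap {a b : ℕ} (e : ι ≃ Fin a × Fin b) (P : GL ι F) :
    Cfsg.Geo.tensorProductSubgroup a b e P ≤
      Cfsg.Geo.tensorProductSubgroup b a (e.trans (Equiv.prodComm _ _)) P := by
  rw [Cfsg.Geo.tensorProductSubgroup, Cfsg.Geo.tensorProductSubgroup, map_glReindex_conj,
    map_glReindex_conj]
  rintro _ ⟨g, ⟨c, d, hg⟩, rfl⟩
  refine ⟨Cfsg.Geo.glReindex (Equiv.prodComm _ _) g, ⟨d, c, ?_⟩, ?_⟩
  · ext ⟨i, j⟩ ⟨k, l⟩
    simp [Cfsg.Geo.glReindex, hg, mul_comm]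
  · refine Units.ext ?_
    simp only [MulEquiv.coe_toMonoidHom, frU_val]
    simp [frAlg_apply, Cfsg.Geo.glReindex, Function.comp_def]

/-! ### Several equal factors -/

section power

variable {t m : ℕ}

/-- The tensor product of a family of matrices. -/
def pureMat (A : Fin t → Matrix (Fin m) (Fin m) F) :
    Matrix (Fin t → Fin m) (Fin t → Fin m) F :=
  Matrix.of fun x y => ∏ i, A i (x i) (y i)

lemma pureMat_apply (A : Fin t → Matrix (Fin m) (Fin m) F) (x y : Fin t → Fin m) :
    pureMat A x y = ∏ i, A i (x i) (y i) := rfl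

lemma pureMat_mul (A B : Fin t → Matrix (Fin m) (Fin m) F) :
    pureMat A * pureMat B = pureMat (A * B) := by
  ext x y
  simp only [Matrix.mul_apply, pureMat_apply, Pi.mul_apply, ← Finset.prod_mul_distrib]
  exact (Fintype.prod_sum (fun i z => A i (x i) z * B i z (y i))).symm

lemma pureMat_one : pureMat (1 : Fin t → Matrix (Fin m) (Fin m) F) = 1 := by
  ext x y
  simp only [pureMat_apply, Pi.one_apply, Matrix.one_apply]
  rw [Fintype.prod_boole]
  simp [funext_iff]

lemma pureMat_smul (c : Fin t → F) (A : Fin t → Matrix (Fin m) (Fin m) F) :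
    pureMat (fun i => c i • A i) = (∏ i, c i) • pureMat A := by
  ext x y
  simp [pureMat_apply, Finset.prod_mul_distrib]

/-- A pure tensor as an invertible matrix. -/
noncomputable def pureGL (A : Fin t → GL (Fin m) F) : GL (Fin t → Fin m) F where
  val := pureMat fun i => (A i : Matrix (Fin m) (Fin m) F)
  inv := pureMat fun i => ((A i)⁻¹ : GL (Fin m) F)
  val_inv := by rw [pureMat_mul, ← pureMat_one]; congr 1; funext i; simp
  inv_val := by rw [pureMat_mul, ← pureMat_one]; congr 1; funext i; simp

lemma isPureTensor_pureGL (A : Fin t → GL (Fin m) F) :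
    Cfsg.Geo.IsPureTensor m t (pureGL A) := ⟨A, fun _ _ => rfl⟩

/-- The matrix permuting the factors. -/
def permMat (m : ℕ) (F : Type*) [Field F] (σ : Equiv.Perm (Fin t)) :
    Matrix (Fin t → Fin m) (Fin t → Fin m) F :=
  Matrix.of fun x y => if y = x ∘ σ then 1 else 0

lemma permMat_mul (σ τ : Equiv.Perm (Fin t)) :
    permMat m F σ * permMat m F τ = permMat m F (σ * τ) := by
  ext x y
  rw [Matrix.mul_apply, Finset.sum_eq_single (x ∘ σ)]
  · simp only [permMat, Matrix.of_apply, if_pos, one_mul, Equiv.Perm.coe_mul, Function.comp_assoc]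
    exact if_congr Iff.rfl rfl rfl
  · intro z _ hz; simp [permMat, hz]
  · simp

lemma permMat_one : permMat m F (1 : Equiv.Perm (Fin t)) = 1 := by
  ext x y
  simp [permMat, Matrix.one_apply, eq_comm]

/-- The permutation of the factors as an invertible matrix. -/
noncomputable def permGL (m : ℕ) (F : Type*) [Field F] (σ : Equiv.Perm (Fin t)) :
    GL (Fin t → Fin m) F where
  val := permMat m F σ
  inv := permMat m F σ⁻¹
  val_inv := by rw [permMat_mul, mul_inv_cancel, permMat_one]
  inv_val := by rw [permMat_mul, inv_mul_cancel, permMat_one]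

lemma isFactorPermutation_permGL (σ : Equiv.Perm (Fin t)) :
    Cfsg.Geo.IsFactorPermutation m t (permGL m F σ) := ⟨σ, fun _ _ => rfl⟩

lemma permMat_mul_pureMat (σ : Equiv.Perm (Fin t)) (A : Fin t → Matrix (Fin m) (Fin m) F) :
    permMat m F σ * pureMat A = pureMat (A ∘ σ.symm) * permMat m F σ := by
  ext x y
  have h1 : (permMat m F σ * pureMat A) x y = pureMat A (x ∘ σ) y := by
    simp [permMat, Matrix.mul_apply]
  have h2 : (pureMat (A ∘ σ.symm) * permMat m F σ) x y = pureMat (A ∘ σ.symm) x (y ∘ σ.symm) := by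
    rw [Matrix.mul_apply, Finset.sum_eq_single (y ∘ σ.symm)]
    · simp [permMat, Function.comp_assoc]
    · intro z _ hz
      have : y ≠ z ∘ σ := fun h => hz (by simp [h, Function.comp_assoc])
      simp [permMat, this]
    · simp
  rw [h1, h2]
  simp only [pureMat_apply, Function.comp_apply]
  exact Fintype.prod_equiv σ _ _ fun i => by simp

/-- The `i`-th factor algebra. -/
noncomputable def factor (i : Fin t) (X : Matrix (Fin m) (Fin m) F) :
    Matrix (Fin t → Fin m) (Fin t → Fin m) F :=
  pureMat (Function.update 1 i X)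

lemma factor_mul (i : Fin t) (X Y : Matrix (Fin m) (Fin m) F) :
    factor i X * factor i Y = factor i (X * Y) := by
  rw [factor, factor, factor, pureMat_mul]
  congr 1
  funext j
  by_cases h : j = i <;> simp [h]

lemma factor_one (i : Fin t) : factor i (1 : Matrix (Fin m) (Fin m) F) = 1 := by
  rw [factor, show Function.update (1 : Fin t → Matrix (Fin m) (Fin m) F) i 1 = 1 from
    Function.update_eq_self i (1 : Fin t → Matrix (Fin m) (Fin m) F), pureMat_one]

lemma factor_apply (i : Fin t) (X : Matrix (Fin m) (Fin m) F) (x y : Fin t → Fin m) :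
    factor i X x y = if ∀ j ≠ i, x j = y j then X (x i) (y i) else 0 := by
  rw [factor, pureMat_apply, ← Finset.mul_prod_erase Finset.univ _ (Finset.mem_univ i),
    Function.update_self]
  have h : ∏ j ∈ Finset.univ.erase i,
      (Function.update (1 : Fin t → Matrix (Fin m) (Fin m) F) i X) j (x j) (y j) =
      if ∀ j ≠ i, x j = y j then 1 else 0 := by
    rw [Finset.prod_congr rfl (g := fun j => if x j = y j then (1 : F) else 0) fun j hj => by
      rw [Function.update_of_ne (Finset.ne_of_mem_erase hj), Pi.one_apply, Matrix.one_apply]]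
    rw [Finset.prod_boole]
    simp
  rw [h]
  split <;> simp

/-- A factor algebra as a linear map. -/
noncomputable def factorLin (i : Fin t) :
    Matrix (Fin m) (Fin m) F →ₗ[F] Matrix (Fin t → Fin m) (Fin t → Fin m) F where
  toFun := factor i
  map_add' X Y := by
    ext x y; simp only [Matrix.add_apply, factor_apply]; split <;> simp
  map_smul' c X := by
    ext x y; simp only [Matrix.smul_apply, factor_apply, RingHom.id_apply]; split <;> simp

lemma factor_injective [NeZero m] (i : Fin t) :
    Function.Injective (factor (F := F) (m := m) i) := by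
  intro X Y h
  ext k l
  have := congrFun (congrFun h (Function.update 0 i k)) (Function.update 0 i l)
  simp only [factor_apply, Function.update_self] at this
  have hall : ∀ j ≠ i, Function.update (0 : Fin t → Fin m) i k j =
      Function.update (0 : Fin t → Fin m) i l j := fun j hj => by simp [hj]
  rwa [if_pos hall, if_pos hall] at this

lemma factor_single (i : Fin t) (k l : Fin m) :
    factor i (Matrix.single k l (1 : F)) =
      ∑ x with x i = l, Matrix.single (Function.update x i k) x (1 : F) := by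
  ext a c
  rw [factor_apply, Matrix.sum_apply, Finset.sum_filter, Finset.sum_eq_single c]
  · by_cases hl : c i = l
    · by_cases hk : a = Function.update c i k
      · subst hk; simp +contextual [hl]
      · have : ¬ (a i = k ∧ ∀ j ≠ i, a j = c j) := fun h => hk (by
          funext j
          by_cases hj : j = i
          · subst hj; simp [h.1]
          · simp [hj, h.2 j hj])
        by_cases hall : ∀ j ≠ i, a j = c j
        · have hak : a i ≠ k := fun h => this ⟨h, hall⟩
          simp [hall, hl, Matrix.single_apply, hak, Ne.symm hak, Ne.symm hk]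
        · simp [hall, hl, Matrix.single_apply, Ne.symm hk]
    · simp [hl, Matrix.single_apply, Ne.symm hl]
  · intro x _ hx; simp [Matrix.single_apply, hx]
  · simp

lemma single_eq_pureMat (x y : Fin t → Fin m) :
    Matrix.single x y (1 : F) = pureMat fun i => Matrix.single (x i) (y i) (1 : F) := by
  ext a c
  simp only [pureMat_apply, Matrix.single_apply]
  rw [Fintype.prod_boole]
  simp [funext_iff, forall_and]

lemma commute_pureMat {M : Matrix (Fin t → Fin m) (Fin t → Fin m) F}
    (h : ∀ i X, Commute M (factor i X)) (A : Fin t → Matrix (Fin m) (Fin m) F) :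
    Commute M (pureMat A) := by
  classical
  suffices ∀ s : Finset (Fin t), Commute M (pureMat (s.piecewise A 1)) by simpa using this .univ
  intro s
  induction s using Finset.induction_on with
  | empty => simp [pureMat_one]
  | @insert a s ha ih =>
    have : pureMat ((insert a s).piecewise A 1) = factor a (A a) * pureMat (s.piecewise A 1) := by
      rw [factor, pureMat_mul]
      congr 1
      funext j
      by_cases hj : j = a
      · subst hj; simp [ha]
      · simp [hj, Finset.piecewise]
    rw [this]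
    exact (h a _).mul_right ih

/-- A matrix permuting the factor algebras is a pure tensor times a permutation of the factors. -/
theorem exists_pure_mul_perm_of_permuting [NeZero m] [NeZero t] {g : GL (Fin t → Fin m) F}
    {σ : Equiv.Perm (Fin t)}
    (h : ∀ i k l, ∃ Y, (g : Matrix (Fin t → Fin m) (Fin t → Fin m) F) *
      factor i (Matrix.single k l (1 : F)) *
        ((g⁻¹ : GL (Fin t → Fin m) F) : Matrix (Fin t → Fin m) (Fin t → Fin m) F) =
          factor (σ i) Y) :
    ∃ A : Fin t → GL (Fin m) F, g = pureGL A * permGL m F σ := by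
  classical
  choose Y hY using h
  let G : Matrix (Fin t → Fin m) (Fin t → Fin m) F :=
    (g : Matrix (Fin t → Fin m) (Fin t → Fin m) F)
  have hgY : ∀ i k l, G * factor i (Matrix.single k l (1 : F)) = factor (σ i) (Y i k l) * G :=
    fun i k l => by rw [← hY]; simp [G, mul_assoc]
  have hU : ∀ i, IsUnits (Y i) := by
    intro i
    refine ⟨fun a b c d => factor_injective (σ i) ?_, factor_injective (σ i) ?_⟩
    · rw [← factor_mul, ← hY, ← hY]
      simp only [mul_assoc, Units.inv_mul_cancel_left]
      rw [← mul_assoc (factor i _), factor_mul]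
      split <;> rename_i hbc
      · subst hbc
        rw [← hY]; simp [mul_assoc]
      · simp only [Matrix.single_mul_single_of_ne _ _ _ _ hbc]
        show _ = factorLin (σ i) 0
        rw [map_zero, show factor i (0 : Matrix (Fin m) (Fin m) F) = factorLin i 0 from rfl,
          map_zero, zero_mul, mul_zero]
    · show factorLin (σ i) _ = _
      rw [map_sum, factor_one]
      show ∑ x, factor (σ i) (Y i x x) = 1
      have h1 : ∑ x : Fin m, factor i (Matrix.single x x (1 : F)) = 1 := by
        show ∑ x : Fin m, factorLin i (Matrix.single x x (1 : F)) = 1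
        rw [← map_sum, isUnits_single.sum]
        exact factor_one i
      rw [Finset.sum_congr rfl fun x _ => (hY i x x).symm, ← Finset.sum_mul, ← Finset.mul_sum, h1,
        mul_one, Units.mul_inv]
  choose c hc using fun i => (hU i).exists_conj
  let K : GL (Fin t → Fin m) F := pureGL (fun j => c (σ.symm j)) * permGL m F σ
  have hK : ∀ i X, (K : Matrix (Fin t → Fin m) (Fin t → Fin m) F) * factor i X =
      factor (σ i) ((c i : Matrix (Fin m) (Fin m) F) * X *
        (((c i)⁻¹ : GL (Fin m) F) : Matrix (Fin m) (Fin m) F)) * (K : Matrix (Fin t → Fin m) (Fin t → Fin m) F) := by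
    intro i X
    show pureMat _ * permMat m F σ * pureMat _ = pureMat _ * (pureMat _ * permMat m F σ)
    rw [mul_assoc, permMat_mul_pureMat, ← mul_assoc, pureMat_mul, ← mul_assoc, pureMat_mul]
    congr 2
    funext j
    by_cases hj : j = σ i
    · subst hj; simp [mul_assoc]
    · have : σ.symm j ≠ i := fun h => hj (by simp [← h])
      simp [hj, this]
  let M : Matrix (Fin t → Fin m) (Fin t → Fin m) F :=
    ((K⁻¹ : GL (Fin t → Fin m) F) : Matrix (Fin t → Fin m) (Fin t → Fin m) F) * G
  have hM1 : ∀ i k l, Commute M (factor i (Matrix.single k l (1 : F))) := by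
    intro i k l
    have h1 := hK i (Matrix.single k l (1 : F))
    rw [hc, mul_assoc (Y i k l), Units.mul_inv, mul_one] at h1
    have h2 : ((K⁻¹ : GL (Fin t → Fin m) F) : Matrix (Fin t → Fin m) (Fin t → Fin m) F) *
        factor (σ i) (Y i k l) = factor i (Matrix.single k l (1 : F)) *
        ((K⁻¹ : GL (Fin t → Fin m) F) : Matrix (Fin t → Fin m) (Fin t → Fin m) F) := by
      rw [← (Units.mul_inv_eq_iff_eq_mul K).2 h1]
      simp [← mul_assoc]
    show M * _ = _
    simp only [M]
    rw [mul_assoc, hgY, ← mul_assoc, h2, mul_assoc]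
  have hM : ∀ i X, Commute M (factor i X) := by
    intro i X
    rw [Matrix.matrix_eq_sum_single X]
    show Commute M (factorLin i _)
    simp only [map_sum]
    refine Commute.sum_right _ _ _ fun k _ => Commute.sum_right _ _ _ fun l _ => ?_
    have : Matrix.single k l (X k l) = X k l • Matrix.single k l (1 : F) := by simp
    rw [this, map_smul]
    exact (hM1 i k l).smul_right _
  obtain ⟨a, ha⟩ := Matrix.mem_range_scalar_of_commute_single (M := M) fun x y _ => by
    show Commute (Matrix.single x y (1 : F)) M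
    rw [single_eq_pureMat]; exact (commute_pureMat hM _).symm
  have ht : 0 < t := Nat.pos_of_ne_zero (NeZero.ne t)
  have hne : a ≠ 0 := fun h0 => by
    have : M = 0 := by rw [← ha, h0, map_zero]
    exact (K⁻¹ * g).ne_zero this
  let z : GL (Fin m) F := Units.map (Matrix.scalar (Fin m) : F →+* _).toMonoidHom
    (Units.mk0 a hne)
  let i₀ : Fin t := ⟨0, ht⟩
  refine ⟨fun j => c (σ.symm j) * Function.update (1 : Fin t → GL (Fin m) F) (σ i₀) z j,
    Units.ext ?_⟩
  have hpm : (fun i => ((Function.update (1 : Fin t → GL (Fin m) F) i₀ z i :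
      GL (Fin m) F) : Matrix (Fin m) (Fin m) F)) =
      Function.update (1 : Fin t → Matrix (Fin m) (Fin m) F) i₀
        (a • (1 : Matrix (Fin m) (Fin m) F)) := by
    funext i
    by_cases hi : i = i₀
    · subst hi; simp [z, Matrix.smul_one_eq_diagonal]
    · rw [Function.update_of_ne hi, Function.update_of_ne hi]; rfl
  have hMa : M = factor i₀ (a • (1 : Matrix (Fin m) (Fin m) F)) := by
    show M = factorLin _ _
    rw [map_smul]
    show M = a • factor _ 1
    rw [factor_one, ← ha]
    simp [Matrix.smul_one_eq_diagonal]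
  have hG : G = (K : Matrix (Fin t → Fin m) (Fin t → Fin m) F) * M := by
    simp [M, ← mul_assoc]
  show G = pureMat _ * permMat m F σ
  rw [hG, hMa, factor, ← hpm]
  show pureMat _ * permMat m F σ * pureMat _ = _
  rw [mul_assoc, permMat_mul_pureMat, ← mul_assoc, pureMat_mul]
  congr 2
  funext j
  by_cases hj : j = σ i₀
  · subst hj; simp
  · have hj' : σ.symm j ≠ i₀ := fun h' => hj (by simp [← h'])
    simp [hj, hj']

/-- A matrix permuting the factor algebras lies in the standard tensor-wreath group. -/
theorem mem_tensorWreathStandard_of_permuting [NeZero m] [NeZero t] {g : GL (Fin t → Fin m) F}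
    {σ : Equiv.Perm (Fin t)}
    (h : ∀ i k l, ∃ Y, (g : Matrix (Fin t → Fin m) (Fin t → Fin m) F) *
      factor i (Matrix.single k l (1 : F)) *
        ((g⁻¹ : GL (Fin t → Fin m) F) : Matrix (Fin t → Fin m) (Fin t → Fin m) F) =
          factor (σ i) Y) :
    g ∈ Cfsg.Geo.tensorWreathStandard m t F := by
  obtain ⟨A, rfl⟩ := exists_pure_mul_perm_of_permuting h
  exact Subgroup.mul_mem _ (Subgroup.subset_closure (Or.inl (isPureTensor_pureGL _)))
    (Subgroup.subset_closure (Or.inr (isFactorPermutation_permGL _)))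

end power

end CfsgLib.Aschbacher
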