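import Cfsg.Agent.Lib.Aschbacher.Herm
import Cfsg.Agent.Lib.Aschbacher.Tensor
import Cfsg.Agent.Lib.Aschbacher.TensorClass

/-!
Reflexive forms in a frame: pull-back along a change of basis, the Gram matrix and adjoints, and the
splitting of the Gram matrix when the adjoint preserves a full matrix algebra.
-/

set_option autoImplicit false

namespace CfsgLib.Aschbacher

open Matrix Module

open scoped Kronecker

variable {F : Type*} [Field F] {ι κ : Type} [Fintype ι] [DecidableEq ι] [Fintype κ] [DecidableEq κ]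
  {σ : F ≃+* F} {ε : F} {f : (ι → F) → (ι → F) → F}

/-- The pull-back of a form along a frame. -/
def pullForm (e : ι ≃ κ) (P : GL ι F) (f : (ι → F) → (ι → F) → F) (x y : κ → F) : F :=
  f ((P : Matrix ι ι F) *ᵥ (x ∘ e)) ((P : Matrix ι ι F) *ᵥ (y ∘ e))

omit [Fintype κ] [DecidableEq κ] in
lemma pullForm_surj (e : ι ≃ κ) (P : GL ι F) (u : ι → F) :
    ∃ x : κ → F, (P : Matrix ι ι F) *ᵥ (x ∘ e) = u :=
  ⟨(((P⁻¹ : GL ι F) : Matrix ι ι F) *ᵥ u) ∘ e.symm, by
    rw [Function.comp_assoc, e.symm_comp_self, Function.comp_id, mulVec_inv_cancel]⟩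

omit [Fintype κ] [DecidableEq κ] in
lemma IsRefl.pull (hf : IsRefl σ ε f) (e : ι ≃ κ) (P : GL ι F) :
    IsRefl σ ε (pullForm e P f) := by
  refine ⟨⟨fun x y v => ?_, fun c x v => ?_, fun v x y => ?_, fun c v x => ?_⟩,
    fun u v => hf.swap _ _, hf.invol, fun v hv => ?_⟩
  · show f (_ *ᵥ (x ∘ e + y ∘ e)) _ = _
    rw [Matrix.mulVec_add, hf.sesq.add_left]; rfl
  · show f (_ *ᵥ (c • (x ∘ e))) _ = _
    rw [Matrix.mulVec_smul, hf.sesq.smul_left]; rfl
  · show f _ (_ *ᵥ (x ∘ e + y ∘ e)) = _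
    rw [Matrix.mulVec_add, hf.sesq.add_right]; rfl
  · show f _ (_ *ᵥ (c • (x ∘ e))) = _
    rw [Matrix.mulVec_smul, hf.sesq.smul_right]; rfl
  · have hv' : (P : Matrix ι ι F) *ᵥ (v ∘ e) ≠ 0 := by
      intro h
      refine hv (funext fun k => ?_)
      have h1 : v ∘ e = 0 := mulVec_injective P (by simpa using h)
      simpa using congrFun h1 (e.symm k)
    obtain ⟨⟨a, ha⟩, ⟨b, hb⟩⟩ := hf.nondeg _ hv'
    obtain ⟨x, rfl⟩ := pullForm_surj e P a
    obtain ⟨y, rfl⟩ := pullForm_surj e P b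
    exact ⟨⟨x, ha⟩, ⟨y, hb⟩⟩

lemma frAlg_mulVec (e : ι ≃ κ) (P : GL ι F) (X : Matrix κ κ F) (x : κ → F) :
    frAlg e P X *ᵥ ((P : Matrix ι ι F) *ᵥ (x ∘ e)) = (P : Matrix ι ι F) *ᵥ ((X *ᵥ x) ∘ e) := by
  rw [frAlg_apply, ← Matrix.mulVec_mulVec, inv_mulVec_cancel, ← Matrix.mulVec_mulVec,
    Matrix.submatrix_mulVec_equiv, Function.comp_assoc, e.self_comp_symm, Function.comp_id]

lemma IsRefl.adj_pull (hf : IsRefl σ ε f) (e : ι ≃ κ) (P : GL ι F) (X : Matrix κ κ F) :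
    frAlg e P ((hf.pull e P).adj X) = hf.adj (frAlg e P X) := by
  refine (hf.adj_eq fun u v => ?_).symm
  obtain ⟨x, rfl⟩ := pullForm_surj e P u
  obtain ⟨y, rfl⟩ := pullForm_surj e P v
  rw [frAlg_mulVec, frAlg_mulVec]
  exact (hf.pull e P).adj_spec X x y

lemma pullForm_isometry (e : ι ≃ κ) (P : GL ι F) {g : GL ι F} {X : Matrix κ κ F}
    (hgX : (g : Matrix ι ι F) = frAlg e P X)
    (hg : ∀ u v, f ((g : Matrix ι ι F) *ᵥ u) ((g : Matrix ι ι F) *ᵥ v) = f u v) (x y : κ → F) :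
    pullForm e P f (X *ᵥ x) (X *ᵥ y) = pullForm e P f x y := by
  show f (_ *ᵥ ((X *ᵥ x) ∘ e)) (_ *ᵥ ((X *ᵥ y) ∘ e)) = _
  rw [← frAlg_mulVec, ← frAlg_mulVec, ← hgX, hg]
  rfl

omit [DecidableEq ι] in
lemma formOfGram_eq (s : F → F) (G : Matrix ι ι F) (x y : ι → F) :
    Cfsg.Geo.formOfGram s G x y = x ⬝ᵥ (G *ᵥ (s ∘ y)) := by
  simp only [Cfsg.Geo.formOfGram, dotProduct, Matrix.mulVec, Finset.mul_sum, mul_assoc,
    Function.comp_apply]

lemma IsSesq.eq_formOfGram (h : IsSesq σ f) (u v : ι → F) :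
    f u v = Cfsg.Geo.formOfGram σ (Cfsg.Geo.gramMatrix f) u v := by
  rw [formOfGram_eq, h.eq_dot]

lemma gramMatrix_formOfGram (G : Matrix ι ι F) :
    Cfsg.Geo.gramMatrix (Cfsg.Geo.formOfGram (σ : F → F) G) = G := by
  ext a b
  show Cfsg.Geo.formOfGram _ G (Pi.single a 1) (Pi.single b 1) = _
  rw [formOfGram_eq]
  have hb : (σ : F → F) ∘ (Pi.single b (1 : F) : ι → F) = (Pi.single b 1 : ι → F) := by
    funext i
    by_cases hi : i = b <;> simp [Function.comp, hi, map_zero, map_one]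
  rw [hb, Matrix.mulVec_single_one]
  simp

lemma map_single_one (b : ι) :
    (σ : F → F) ∘ (Pi.single b (1 : F) : ι → F) = (Pi.single b 1 : ι → F) := by
  funext i
  by_cases hi : i = b <;> simp [Function.comp, hi, map_zero, map_one]

lemma IsRefl.gram_adj (hf : IsRefl σ ε f) (X : Matrix ι ι F) :
    Xᵀ * Cfsg.Geo.gramMatrix f = Cfsg.Geo.gramMatrix f * (hf.adj X).map σ := by
  ext a b
  have h := hf.adj_spec X (Pi.single a 1) (Pi.single b 1)
  rw [hf.sesq.eq_dot, hf.sesq.eq_dot, comp_mulVec, map_single_one, Matrix.mulVec_mulVec,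
    Matrix.mulVec_single_one, Matrix.mulVec_single_one, Matrix.mulVec_single_one, single_dotProduct,
    one_mul] at h
  simpa [Matrix.mul_apply, dotProduct, Matrix.col] using h

lemma IsRefl.gram_swap (hf : IsRefl σ ε f) :
    (Cfsg.Geo.gramMatrix f)ᵀ = ε • (Cfsg.Geo.gramMatrix f).map σ := by
  ext a b
  exact hf.swap _ _

lemma kron_eq_kron {α β : Type} {A C : Matrix α α F} {B D : Matrix β β F} (hB : B ≠ 0)
    (h : A ⊗ₖ B = C ⊗ₖ D) : ∃ z : F, A = z • C := by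
  obtain ⟨p, q, hpq⟩ : ∃ p q, B p q ≠ 0 := by
    by_contra hc
    push Not at hc
    exact hB (Matrix.ext hc)
  refine ⟨D p q / B p q, Matrix.ext fun i j => ?_⟩
  have h1 := congrFun (congrFun h (i, p)) (j, q)
  simp only [Matrix.kroneckerMap_apply] at h1
  rw [Matrix.smul_apply, smul_eq_mul]
  field_simp
  linear_combination h1

lemma kron_eq_kron' {α β : Type} {A C : Matrix α α F} {B D : Matrix β β F} (hA : A ≠ 0)
    (h : A ⊗ₖ B = C ⊗ₖ D) : ∃ z : F, B = z • D := by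
  obtain ⟨p, q, hpq⟩ : ∃ p q, A p q ≠ 0 := by
    by_contra hc
    push Not at hc
    exact hA (Matrix.ext hc)
  refine ⟨C p q / A p q, Matrix.ext fun i j => ?_⟩
  have h1 := congrFun (congrFun h (p, i)) (q, j)
  simp only [Matrix.kroneckerMap_apply] at h1
  rw [Matrix.smul_apply, smul_eq_mul]
  field_simp
  linear_combination h1

lemma smul_cancel_matrix {α : Type} {G : Matrix α α F} (hG : G ≠ 0) {a b : F}
    (h : a • G = b • G) : a = b :=
  smul_left_injective F hG h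

/-- A group of isometries normalising a full matrix algebra closed under adjoints: the form is a
tensor product in a frame. -/
theorem tensor_frame_form [Nonempty ι] (hf : IsRefl σ ε f) {a : ℕ}
    {E : Fin a → Fin a → Matrix ι ι F} (hE : IsUnits E)
    (hEadj : ∀ k l, hf.adj (E k l) ∈
      Submodule.span F (Set.range fun p : Fin a × Fin a => E p.1 p.2))
    {H : Subgroup (GL ι F)} (hH : Cfsg.Geo.FixesForm (Cfsg.Geo.matrixSet H) f)
    (hHn : ∀ g ∈ H, ∀ k l, (g : Matrix ι ι F) * E k l * ((g⁻¹ : GL ι F) : Matrix ι ι F) ∈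
      Submodule.span F (Set.range fun p : Fin a × Fin a => E p.1 p.2)) :
    ∃ (b : ℕ) (e : ι ≃ Fin a × Fin b) (P : GL ι F) (G₁ : Matrix (Fin a) (Fin a) F)
      (G₂ : Matrix (Fin b) (Fin b) F) (α β : F),
      0 < b ∧ Fintype.card ι = a * b ∧ IsUnit G₁ ∧ IsUnit G₂ ∧
      (∀ x y, pullForm e P f x y = Cfsg.Geo.formOfGram σ (G₁ ⊗ₖ G₂) x y) ∧
      α * β = ε ∧ G₁ᵀ = α • G₁.map σ ∧ G₂ᵀ = β • G₂.map σ ∧
      H ≤ Cfsg.Geo.tensorProductSubgroup a b e P ∧
      ∀ g ∈ H, ∃ (c : GL (Fin a) F) (d : GL (Fin b) F) (u v : F), u * v = 1 ∧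
        (g : Matrix ι ι F) = frAlg e P ((c : Matrix (Fin a) (Fin a) F) ⊗ₖ (d : Matrix (Fin b) (Fin b) F)) ∧
        (c : Matrix (Fin a) (Fin a) F)ᵀ * G₁ * (c : Matrix (Fin a) (Fin a) F).map σ = u • G₁ ∧
        (d : Matrix (Fin b) (Fin b) F)ᵀ * G₂ * (d : Matrix (Fin b) (Fin b) F).map σ = v • G₂ := by
  obtain ⟨b, hb, hcard, hfr⟩ := hE.exists_frame
  rw [Fintype.card_fin] at hcard
  let e : ι ≃ Fin a × Fin b := Fintype.equivOfCardEq (by simp [hcard])
  obtain ⟨P, hP⟩ := hfr e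
  have : NeZero b := ⟨hb.ne'⟩
  have : NeZero a := ⟨fun h0 => Fintype.card_ne_zero (by rw [hcard, h0, zero_mul])⟩
  set f' := pullForm e P f with hf'
  have hf'r : IsRefl σ ε f' := hf.pull e P
  have hspan : ∀ M ∈ Submodule.span F (Set.range fun p : Fin a × Fin a => E p.1 p.2),
      ∃ Y : Matrix (Fin a) (Fin a) F, M = frAlg e P (Y ⊗ₖ 1) := by
    intro M hM
    obtain ⟨c, hc⟩ := (Submodule.mem_span_range_iff_exists_fun F).1 hM
    refine ⟨∑ p : Fin a × Fin a, c p • Matrix.single p.1 p.2 1, ?_⟩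
    have hs : (∑ p : Fin a × Fin a, c p • Matrix.single p.1 p.2 (1 : F)) ⊗ₖ
        (1 : Matrix (Fin b) (Fin b) F) =
        ∑ p : Fin a × Fin a, c p • (Matrix.single p.1 p.2 (1 : F) ⊗ₖ 1) := by
      ext ⟨p, q⟩ ⟨r, s⟩
      simp only [Matrix.kroneckerMap_apply, Matrix.sum_apply, Finset.sum_mul, Matrix.smul_apply,
        smul_eq_mul, mul_assoc]
    rw [hs, ← hc]
    simp only [map_sum, map_smul, hP]
  -- the Gram matrix
  set J := Cfsg.Geo.gramMatrix f' with hJ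
  obtain ⟨Ju, hJu⟩ := hf'r.sesq.gram_isUnit hf'r.nondeg
  rw [← hJ] at hJu
  have hkron : Ju⁻¹ ∈ Cfsg.Geo.kroneckerSubgroup a b F := by
    refine mem_kronecker_of_normalises fun k l => ?_
    obtain ⟨Y, hY⟩ := hspan _ (hEadj l k)
    have hadj : hf'r.adj (Matrix.single l k (1 : F) ⊗ₖ 1) = Y ⊗ₖ 1 :=
      (frAlg e P).injective ((hf.adj_pull e P _).trans (by rw [← hP, hY]))
    refine ⟨Y.map σ, ?_⟩
    have h1 := hf'r.gram_adj (Matrix.single l k (1 : F) ⊗ₖ 1)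
    have h2 : (Y ⊗ₖ (1 : Matrix (Fin b) (Fin b) F)).map σ = Y.map σ ⊗ₖ 1 := by
      ext ⟨p, q⟩ ⟨r, s⟩
      by_cases hqs : q = s <;> simp [Matrix.one_apply, hqs]
    have h3 : ((Matrix.single l k (1 : F)) ⊗ₖ (1 : Matrix (Fin b) (Fin b) F))ᵀ =
        Matrix.single k l (1 : F) ⊗ₖ 1 := by
      rw [← Matrix.kroneckerMap_transpose, Matrix.transpose_single, Matrix.transpose_one]
    rw [hadj, h2, h3, ← hJ, ← hJu] at h1
    rw [inv_inv, mul_assoc, h1, ← mul_assoc, Units.inv_mul, one_mul]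
  obtain ⟨g₁, g₂, hg⟩ : Ju ∈ Cfsg.Geo.kroneckerSubgroup a b F := by
    simpa using (Cfsg.Geo.kroneckerSubgroup a b F).inv_mem hkron
  set G₁ := (g₁ : Matrix (Fin a) (Fin a) F) with hG₁
  set G₂ := (g₂ : Matrix (Fin b) (Fin b) F) with hG₂
  have hJG : J = G₁ ⊗ₖ G₂ := by rw [← hJu]; exact hg
  have hG1ne : G₁ ≠ 0 := g₁.ne_zero
  have hG2ne : G₂ ≠ 0 := g₂.ne_zero
  have hswap := hf'r.gram_swap
  rw [← hJ, hJG, ← Matrix.kroneckerMap_transpose] at hswap
  have hmapk : (G₁ ⊗ₖ G₂).map σ = G₁.map σ ⊗ₖ G₂.map σ := by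
    ext ⟨p, q⟩ ⟨r, s⟩; simp
  have hmap1 : G₁.map σ ≠ 0 := fun h => hG1ne (Matrix.ext fun i j => σ.injective (by
    simpa using congrFun (congrFun h i) j))
  have hmap2 : G₂.map σ ≠ 0 := fun h => hG2ne (Matrix.ext fun i j => σ.injective (by
    simpa using congrFun (congrFun h i) j))
  rw [hmapk, ← Matrix.smul_kronecker] at hswap
  obtain ⟨α', hα⟩ := kron_eq_kron (fun h => hG2ne (by simpa using congrArg Matrix.transpose h)) hswap
  obtain ⟨β, hβ⟩ := kron_eq_kron' (fun h => hG1ne (by simpa using congrArg Matrix.transpose h)) hswap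
  rw [smul_smul] at hα
  have hαβ : α' * ε * β = ε := by
    rw [hα, hβ, Matrix.smul_kronecker, Matrix.kronecker_smul, Matrix.smul_kronecker, smul_smul]
      at hswap
    have := smul_cancel_matrix (fun h => hmap1 (by
      obtain ⟨p, q, hpq⟩ : ∃ p q, (G₂.map σ) p q ≠ 0 := by
        by_contra hc
        push Not at hc
        exact hmap2 (Matrix.ext hc)
      refine Matrix.ext fun i j => ?_
      have := congrFun (congrFun h (i, p)) (j, q)
      have hpq' : G₂ p q ≠ 0 := fun h0 => hpq (by simp [h0])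
      simpa [hpq'] using this)) hswap
    exact this
  refine ⟨b, e, P, G₁, G₂, α' * ε, β, hb, hcard, g₁.isUnit, g₂.isUnit, fun x y => ?_, hαβ, hα, hβ,
    ?_, ?_⟩
  · rw [← hJG, hJ, ← hf'r.sesq.eq_formOfGram]
  · intro g hgH
    rw [Cfsg.Geo.tensorProductSubgroup, map_glReindex_conj]
    refine ⟨(frU e P).symm g, mem_kronecker_of_normalises fun k l => ?_,
      (frU e P).apply_symm_apply g⟩
    obtain ⟨Y, hY⟩ := hspan _ (hHn g hgH k l)
    refine ⟨Y, (frAlg e P).injective ?_⟩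
    have hg' : frU e P ((frU e P).symm g) = g := (frU e P).apply_symm_apply g
    rw [map_mul, map_mul, ← frU_val, ← frU_val, map_inv, hg', ← hP, ← hY]
  · intro g hgH
    have hmem : (frU e P).symm g ∈ Cfsg.Geo.kroneckerSubgroup a b F := by
      refine mem_kronecker_of_normalises fun k l => ?_
      obtain ⟨Y, hY⟩ := hspan _ (hHn g hgH k l)
      refine ⟨Y, (frAlg e P).injective ?_⟩
      have hg' : frU e P ((frU e P).symm g) = g := (frU e P).apply_symm_apply g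
      rw [map_mul, map_mul, ← frU_val, ← frU_val, map_inv, hg', ← hP, ← hY]
    obtain ⟨c, d, hcd⟩ := hmem
    have hgX : (g : Matrix ι ι F) =
        frAlg e P ((c : Matrix (Fin a) (Fin a) F) ⊗ₖ (d : Matrix (Fin b) (Fin b) F)) := by
      rw [← hcd, ← frU_val, (frU e P).apply_symm_apply]
    have hgram : ((c : Matrix (Fin a) (Fin a) F) ⊗ₖ (d : Matrix (Fin b) (Fin b) F))ᵀ * J *
        ((c : Matrix (Fin a) (Fin a) F) ⊗ₖ (d : Matrix (Fin b) (Fin b) F)).map σ = J := by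
      rw [hJ, ← hf'r.sesq.gram_comp]
      ext p q
      exact pullForm_isometry e P hgX (isometry_apply hH hgH) _ _
    have hmapcd : ((c : Matrix (Fin a) (Fin a) F) ⊗ₖ (d : Matrix (Fin b) (Fin b) F)).map σ =
        (c : Matrix (Fin a) (Fin a) F).map σ ⊗ₖ (d : Matrix (Fin b) (Fin b) F).map σ := by
      ext ⟨p, q⟩ ⟨r, s⟩; simp
    rw [hJG, hmapcd, ← Matrix.kroneckerMap_transpose, ← Matrix.mul_kronecker_mul,
      ← Matrix.mul_kronecker_mul] at hgram
    set L₁ := (c : Matrix (Fin a) (Fin a) F)ᵀ * G₁ * (c : Matrix (Fin a) (Fin a) F).map σ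
    set L₂ := (d : Matrix (Fin b) (Fin b) F)ᵀ * G₂ * (d : Matrix (Fin b) (Fin b) F).map σ
    have hL2 : L₂ ≠ 0 := fun h => by
      rw [h, Matrix.kronecker_zero] at hgram
      exact Ju.ne_zero (by rw [hg]; exact hgram.symm)
    have hL1 : L₁ ≠ 0 := fun h => by
      rw [h, Matrix.zero_kronecker] at hgram
      exact Ju.ne_zero (by rw [hg]; exact hgram.symm)
    obtain ⟨u, hu⟩ := kron_eq_kron hL2 hgram
    obtain ⟨v, hv⟩ := kron_eq_kron' hL1 hgram
    refine ⟨c, d, u, v, ?_, hgX, hu, hv⟩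
    rw [hu, hv, Matrix.smul_kronecker, Matrix.kronecker_smul, smul_smul] at hgram
    refine smul_cancel_matrix (fun h => Ju.ne_zero (by rw [hg]; exact h)) ?_
    rw [hgram, one_smul]

end CfsgLib.Aschbacher
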