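import Cfsg.Agent.Lib.Aschbacher.UnitaryRational

/-!
An automorphism of order two of a finite field is the `q`th power map with `q²` the order.
-/

set_option autoImplicit false

namespace CfsgLib.Aschbacher

variable {F : Type*} [Field F]

/-- An involutive automorphism of a finite field is the power map by the square root of the
order. -/
theorem exists_sq_of_involutive' [Fintype F] {σ : F ≃+* F}
    (hne : σ ≠ RingEquiv.refl F) (hinv : ∀ a, σ (σ a) = a) :
    ∃ q : ℕ, Fintype.card F = q ^ 2 ∧ ∀ a, σ a = a ^ q := by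
  classical
  let F₀ : Subfield F := σ.toRingHom.eqLocusField (RingHom.id F)
  have hF₀ : ∀ x, x ∈ F₀ ↔ σ x = x := fun x => Iff.rfl
  obtain ⟨μ, hμ⟩ : ∃ μ, σ μ ≠ μ := by
    by_contra h
    push Not at h
    exact hne (RingEquiv.ext h)
  set δ := μ - σ μ with hδ
  have hδ0 : δ ≠ 0 := sub_ne_zero.2 (Ne.symm hμ)
  let e : F₀ × F₀ → F := fun x => (x.1 : F) + x.2 * μ
  have he : Function.Bijective e := by
    constructor
    · rintro ⟨a, b⟩ ⟨c, d⟩ h
      simp only [e] at h
      have h' := congrArg σ h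
      simp only [map_add, map_mul, (hF₀ _).1 a.2, (hF₀ _).1 b.2, (hF₀ _).1 c.2, (hF₀ _).1 d.2] at h'
      have hb : (b : F) = d := mul_right_cancel₀ hδ0 (by rw [hδ]; linear_combination h - h')
      rw [hb] at h
      exact Prod.ext (Subtype.ext (add_right_cancel h)) (Subtype.ext hb)
    · intro x
      have hb : σ ((x - σ x) / δ) = (x - σ x) / δ := by
        rw [map_div₀, map_sub, hinv, hδ, map_sub, hinv, ← neg_sub x, ← neg_sub μ, neg_div_neg_eq]
      refine ⟨(⟨x - (x - σ x) / δ * μ, (hF₀ _).2 ?_⟩, ⟨(x - σ x) / δ, (hF₀ _).2 hb⟩), ?_⟩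
      · rw [map_sub, map_mul, hb]
        field_simp
        rw [hδ]; ring
      · simp [e]
  have hc : Fintype.card F = Nat.card F₀ ^ 2 := by
    rw [← Nat.card_eq_fintype_card, ← Nat.card_eq_of_bijective e he, Nat.card_prod, sq]
  obtain ⟨τ, hτ, hτfix⟩ := exists_frobenius_subfield F₀
  refine ⟨_, hc, fun a => ?_⟩
  have hs : τ (μ + σ μ) = μ + σ μ :=
    (hτfix _).2 ((hF₀ _).2 (by rw [map_add, hinv, add_comm]))
  have hp : τ (μ * σ μ) = μ * σ μ :=
    (hτfix _).2 ((hF₀ _).2 (by rw [map_mul, hinv, mul_comm]))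
  have hroot : (τ μ - μ) * (τ μ - σ μ) = 0 := by
    rw [map_add] at hs; rw [map_mul] at hp
    linear_combination τ μ * hs - hp
  have hτμ : τ μ = σ μ := by
    rcases mul_eq_zero.1 hroot with h | h
    · exact absurd ((hF₀ _).1 ((hτfix μ).1 (sub_eq_zero.1 h))) hμ
    · exact sub_eq_zero.1 h
  obtain ⟨⟨x, y⟩, rfl⟩ := he.2 a
  rw [← hτ]
  simp only [e, map_add, map_mul, (hF₀ _).1 x.2, (hF₀ _).1 y.2, (hτfix _).2 x.2,
    (hτfix _).2 y.2, hτμ]

end CfsgLib.Aschbacher
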