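import Cfsg.Agent.Lib.Aschbacher.ExtraClass

/-!
None of the members of the geometric classes contains `SL_n`, `n ≥ 3`.
-/

set_option autoImplicit false

namespace CfsgLib.Aschbacher

open Matrix Module

variable {ι : Type} [Fintype ι] [DecidableEq ι] {F : Type*} [Field F]

lemma exists_functional {u w : ι → F} (h : w ∉ Submodule.span F {u}) :
    ∃ φ : ι → F, φ ⬝ᵥ u = 0 ∧ φ ⬝ᵥ w = 1 := by
  obtain ⟨f, hf, hf'⟩ := Submodule.exists_dual_map_eq_bot_of_notMem h inferInstance
  let φ : ι → F := fun i => f (Pi.single i 1) / f w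
  have key : ∀ v : ι → F, φ ⬝ᵥ v = f v / f w := by
    intro v
    conv_rhs => rw [pi_eq_sum_univ' v, map_sum, Finset.sum_div]
    exact Finset.sum_congr rfl fun i _ => by rw [map_smul, smul_eq_mul]; ring
  refine ⟨φ, ?_, ?_⟩
  · rw [key]
    have : f u ∈ (Submodule.span F {u}).map f :=
      Submodule.mem_map_of_mem (Submodule.mem_span_singleton_self u)
    rw [hf', Submodule.mem_bot] at this
    rw [this, zero_div]
  · rw [key, div_self hf]

/-- The transvection attached to a vector and a functional vanishing on it. -/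
noncomputable def transv (u φ : ι → F) (h : φ ⬝ᵥ u = 0) : GL ι F :=
  Matrix.GeneralLinearGroup.mkOfDetNeZero (1 + Matrix.vecMulVec u φ) (by
    rw [Matrix.vecMulVec_eq Unit, Matrix.det_one_add_replicateCol_mul_replicateRow, h, add_zero]
    exact one_ne_zero)

lemma transv_mulVec {u φ : ι → F} (h : φ ⬝ᵥ u = 0) (v : ι → F) :
    (transv u φ h : Matrix ι ι F) *ᵥ v = v + (φ ⬝ᵥ v) • u := by
  show (1 + Matrix.vecMulVec u φ) *ᵥ v = _
  rw [Matrix.add_mulVec, Matrix.one_mulVec, Matrix.vecMulVec_mulVec]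
  congr 1
  funext i
  simp [mul_comm]

lemma transv_mem {u φ : ι → F} (h : φ ⬝ᵥ u = 0) :
    transv u φ h ∈ Cfsg.Geo.specialLinear ι F := by
  rw [Cfsg.Geo.specialLinear, MonoidHom.mem_ker]
  refine Units.ext ?_
  show (1 + Matrix.vecMulVec u φ).det = 1
  rw [Matrix.vecMulVec_eq Unit, Matrix.det_one_add_replicateCol_mul_replicateRow, h, add_zero]

/-- Elementary transvection in `GL`. -/
noncomputable def elemTransv (i j : ι) (hij : i ≠ j) (c : F) : GL ι F :=
  Matrix.GeneralLinearGroup.mkOfDetNeZero (Matrix.transvection i j c) (by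
    rw [Matrix.det_transvection_of_ne i j hij c]; exact one_ne_zero)

lemma elemTransv_mem {i j : ι} (hij : i ≠ j) (c : F) :
    elemTransv i j hij c ∈ Cfsg.Geo.specialLinear ι F := by
  rw [Cfsg.Geo.specialLinear, MonoidHom.mem_ker]
  exact Units.ext (Matrix.det_transvection_of_ne i j hij c)

lemma conj_mem_specialLinear {g t : GL ι F} (ht : t ∈ Cfsg.Geo.specialLinear ι F) :
    g * t * g⁻¹ ∈ Cfsg.Geo.specialLinear ι F := by
  rw [Cfsg.Geo.specialLinear] at ht ⊢
  exact (MonoidHom.normal_ker _).conj_mem t ht g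

theorem not_le_subspaceStabilizer {W : Submodule F (ι → F)} (h0 : W ≠ ⊥) (h1 : W ≠ ⊤) :
    ¬ Cfsg.Geo.specialLinear ι F ≤ Cfsg.Geo.subspaceStabilizer W := by
  intro hle
  obtain ⟨w, hw, hw0⟩ := Submodule.exists_mem_ne_zero_of_ne_bot h0
  obtain ⟨u, hu⟩ : ∃ u, u ∉ W := by
    by_contra h
    push Not at h
    exact h1 (eq_top_iff.2 fun x _ => h x)
  have hind : w ∉ Submodule.span F {u} := by
    intro h
    obtain ⟨c, rfl⟩ := Submodule.mem_span_singleton.1 h
    rcases eq_or_ne c 0 with rfl | hc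
    · exact hw0 (zero_smul F u)
    · exact hu (by simpa [smul_smul, inv_mul_cancel₀ hc] using W.smul_mem c⁻¹ hw)
  obtain ⟨φ, hφu, hφw⟩ := exists_functional hind
  have h := (hle (transv_mem hφu) w).1 hw
  change (transv u φ hφu : Matrix ι ι F) *ᵥ w ∈ W at h
  rw [transv_mulVec, hφw, one_smul] at h
  exact hu (by simpa using W.sub_mem h hw)

theorem not_le_decompositionStabilizer {t : ℕ} {D : Fin t → Submodule F (ι → F)}
    (hD : Cfsg.Geo.IsMDecomposition 1 D) :
    ¬ Cfsg.Geo.specialLinear ι F ≤ Cfsg.Geo.decompositionStabilizer D := by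
  intro hle
  have hne : ∀ i, ∃ b, b ∈ D i ∧ b ≠ 0 := fun i => by
    refine Submodule.exists_mem_ne_zero_of_ne_bot fun h => ?_
    have := hD.finrank_eq i
    rw [h, finrank_bot] at this
    omega
  choose b hb hb0 using hne
  let i₀ : Fin t := ⟨0, by have := hD.two_le; omega⟩
  let i₁ : Fin t := ⟨1, by have := hD.two_le; omega⟩
  have h01 : i₀ ≠ i₁ := by simp [i₀, i₁, Fin.ext_iff]
  have hli := hD.indep.linearIndependent D hb hb0
  have hind : b i₀ ∉ Submodule.span F {b i₁} := by
    have := hli.notMem_span_image (s := {i₁}) (x := i₀) (by simpa using h01)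
    simpa using this
  obtain ⟨φ, hφu, hφw⟩ := exists_functional hind
  obtain ⟨σ, hσ⟩ := hle (transv_mem hφu)
  have h : b i₀ + b i₁ ∈ D (σ i₀) := by
    rw [← hσ i₀]
    refine ⟨b i₀, hb i₀, ?_⟩
    rw [Matrix.toLin'_apply, transv_mulVec, hφw, one_smul]
  -- the line must avoid either summand
  obtain ⟨c, hc⟩ : ∃ c : F, c • b (σ i₀) = b i₀ + b i₁ := by
    obtain ⟨c, hc⟩ := (finrank_eq_one_iff_of_nonzero' (⟨b (σ i₀), hb _⟩ : D (σ i₀))
      (by simpa using hb0 _)).1 (hD.finrank_eq _) ⟨_, h⟩
    exact ⟨c, congrArg Subtype.val hc⟩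
  have hzero : ∑ i : Fin t, ((Pi.single i₀ (1 : F) : Fin t → F) i +
      (Pi.single i₁ (1 : F) : Fin t → F) i - (Pi.single (σ i₀) c : Fin t → F) i) • b i = 0 := by
    simp [sub_smul, add_smul, Finset.sum_sub_distrib, Finset.sum_add_distrib, Pi.single_apply, hc]
  have hg := Fintype.linearIndependent_iff.1 hli _ hzero
  rcases eq_or_ne (σ i₀) i₀ with h' | h'
  · have := hg i₁
    simp [h', h01.symm] at this
  · have := hg i₀
    simp [Ne.symm h', h01] at this

theorem not_le_subalgebraNormalizer {r : ℕ} {K : Subalgebra F (Matrix ι ι F)}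
    (hK : Cfsg.Geo.IsFieldSubalgebra r K) (hr : 1 < r) (hι : 3 ≤ Fintype.card ι) :
    ¬ Cfsg.Geo.specialLinear ι F ≤ Cfsg.Geo.subalgebraNormalizer K := by
  intro hle
  obtain ⟨k, hk, v, hkv⟩ : ∃ k ∈ K, ∃ v : ι → F, k *ᵥ v ∉ Submodule.span F {v} := by
    by_contra h
    push Not at h
    obtain ⟨i₀⟩ : Nonempty ι := Fintype.card_pos_iff.1 (by omega)
    have hle1 : finrank F K ≤ 1 := by
      let v : ι → F := Pi.single i₀ 1
      let f : K →ₗ[F] (ι → F) :=
        ((Matrix.mulVecBilin F F).flip v).comp K.val.toLinearMap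
      have hinj : Function.Injective f := by
        intro a b hab
        by_contra hne
        obtain ⟨y, -, hy⟩ := hK.inv ((a : Matrix ι ι F) - (b : Matrix ι ι F)) (sub_mem a.2 b.2)
          (fun h => hne (Subtype.ext (sub_eq_zero.1 h)))
        have h0 : ((a : Matrix ι ι F) - (b : Matrix ι ι F)) *ᵥ v = 0 := by
          rw [Matrix.sub_mulVec, sub_eq_zero]; exact hab
        have hy' : y * ((a : Matrix ι ι F) - (b : Matrix ι ι F)) = 1 := by
          rw [← mul_eq_one_comm]; exact hy
        have : v = 0 := by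
          rw [← Matrix.one_mulVec v, ← hy', ← Matrix.mulVec_mulVec, h0, Matrix.mulVec_zero]
        simpa [v] using this
      have hrange : LinearMap.range f ≤ Submodule.span F {v} := by
        rintro _ ⟨a, rfl⟩; exact h _ a.2 v
      calc finrank F K = finrank F (LinearMap.range f) :=
            (LinearMap.finrank_range_of_inj hinj).symm
        _ ≤ finrank F (Submodule.span F {v}) := Submodule.finrank_mono hrange
        _ = 1 := finrank_span_singleton (by simp [v])
    rw [hK.finrank_eq] at hle1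
    omega
  obtain ⟨φ, hφv, hφkv⟩ := exists_functional hkv
  let t := transv v φ hφv
  have hk' : (t : Matrix ι ι F) * k * ((t⁻¹ : GL ι F) : Matrix ι ι F) ∈ K :=
    (hle (transv_mem hφv) k).1 hk
  set k' := (t : Matrix ι ι F) * k * ((t⁻¹ : GL ι F) : Matrix ι ι F) with hk'def
  have htv : (t : Matrix ι ι F) *ᵥ v = v := by
    rw [transv_mulVec, hφv, zero_smul, add_zero]
  have hk't : ∀ z, k' *ᵥ ((t : Matrix ι ι F) *ᵥ z) = (t : Matrix ι ι F) *ᵥ (k *ᵥ z) := by
    intro z
    rw [hk'def, ← Matrix.mulVec_mulVec, inv_mulVec_cancel, Matrix.mulVec_mulVec]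
  have heq : k' = k + 1 := by
    by_contra hne
    have hmem : k' - (k + 1) ∈ K := sub_mem hk' (add_mem hk (one_mem K))
    obtain ⟨y, -, hy⟩ := hK.inv _ hmem (sub_ne_zero.2 hne)
    have hy' : y * (k' - (k + 1)) = 1 := by rw [← mul_eq_one_comm]; exact hy
    have h0 : (k' - (k + 1)) *ᵥ v = 0 := by
      have h1 := hk't v
      rw [htv, transv_mulVec, hφkv, one_smul] at h1
      rw [Matrix.sub_mulVec, h1, Matrix.add_mulVec, Matrix.one_mulVec, sub_self]
    have hv0 : v = 0 := by
      rw [← Matrix.one_mulVec v, ← hy', ← Matrix.mulVec_mulVec, h0, Matrix.mulVec_zero]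
    exact hkv (by rw [hv0, Matrix.mulVec_zero]; exact zero_mem _)
  -- the kernel of `φ` would be the line through `v`
  let φl : (ι → F) →ₗ[F] F :=
    { toFun := fun z => φ ⬝ᵥ z
      map_add' := fun a b => dotProduct_add φ a b
      map_smul' := fun c a => dotProduct_smul c φ a }
  have hker : LinearMap.ker φl ≤ Submodule.span F {v} := by
    intro z hz
    have hz' : φ ⬝ᵥ z = 0 := LinearMap.mem_ker.1 hz
    have h := hk't z
    rw [transv_mulVec, hz', zero_smul, add_zero, heq, Matrix.add_mulVec, Matrix.one_mulVec,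
      transv_mulVec] at h
    rw [add_left_cancel h]
    exact Submodule.smul_mem _ _ (Submodule.mem_span_singleton_self v)
  have h1 := φl.finrank_range_add_finrank_ker
  have h2 : finrank F (LinearMap.range φl) ≤ 1 :=
    (Submodule.finrank_le _).trans (by rw [finrank_self])
  have h3 : finrank F (Submodule.span F {v}) ≤ 1 := by
    refine (finrank_span_le_card _).trans ?_
    simp
  have h4 := (Submodule.finrank_mono hker).trans h3
  rw [Module.finrank_fintype_fun_eq_card] at h1
  omega

theorem not_le_subfieldSubgroup [Fintype F] {F₀ : Subfield F} {r : ℕ} (hr : r.Prime)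
    (hc : Fintype.card F = Nat.card F₀ ^ r) (P : GL ι F) (hι : 2 ≤ Fintype.card ι) :
    ¬ Cfsg.Geo.specialLinear ι F ≤ Cfsg.Geo.subfieldSubgroup F₀ P := by
  intro hle
  obtain ⟨i, j, hij⟩ := Fintype.exists_pair_of_one_lt_card (α := ι) (by omega)
  have hall : ∀ c : F, c ∈ F₀ := by
    intro c
    obtain ⟨X, hX, hXe⟩ := hle (conj_mem_specialLinear (g := P) (elemTransv_mem hij c))
    have hXt : X = elemTransv i j hij c := (MulAut.conj P).injective hXe
    subst hXt
    obtain ⟨a, ⟨M, rfl⟩, s, hs, hms⟩ := Subgroup.mem_sup_of_normal_right.1 hX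
    obtain ⟨d, hd⟩ := (Cfsg.Geo.mem_scalars_iff s).1 hs
    have hval : ∀ a b, Matrix.transvection i j c a b =
        (d : F) * (((M : Matrix ι ι F₀) a b : F₀) : F) := by
      intro a b
      have := congrArg (fun Y : GL ι F => (Y : Matrix ι ι F) a b) hms
      simp only [Units.val_mul, hd, Matrix.mul_smul, mul_one, Matrix.smul_apply, smul_eq_mul] at this
      exact this.symm
    have h1 := hval i i
    have h2 := hval i j
    simp [Matrix.transvection, Matrix.single_apply, hij, hij.symm] at h1 h2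
    have hmne : (((M : Matrix ι ι F₀) i i : F₀) : F) ≠ 0 := fun h => by
      rw [h, mul_zero] at h1; exact one_ne_zero h1
    have : c = (((M : Matrix ι ι F₀) i j : F₀) : F) / (((M : Matrix ι ι F₀) i i : F₀) : F) := by
      rw [eq_div_iff hmne, h2]
      linear_combination -((((M : Matrix ι ι F₀) i j : F₀) : F)) * h1
    rw [this]
    exact F₀.div_mem ((M : Matrix ι ι F₀) i j).2 ((M : Matrix ι ι F₀) i i).2
  have hcard : Nat.card F₀ = Fintype.card F := by
    rw [← Nat.card_eq_fintype_card]
    exact Nat.card_congr (Equiv.subtypeUnivEquiv hall)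
  rw [← hcard] at hc
  have h1 : 1 < Nat.card F₀ := hcard ▸ Fintype.one_lt_card
  have := Nat.pow_right_injective h1 ((pow_one (Nat.card F₀)).trans hc)
  exact hr.one_lt.ne this

theorem not_le_similarityGroup {σ : F ≃+* F} {f : (ι → F) → (ι → F) → F} (hf : IsSesq σ f)
    (hnd : Cfsg.Geo.IsNondegenerateForm f) (hι : 3 ≤ Fintype.card ι) :
    ¬ Cfsg.Geo.specialLinear ι F ≤ Cfsg.Geo.similarityGroup f := by
  intro hle
  set G := Cfsg.Geo.gramMatrix f with hG
  obtain ⟨j⟩ : Nonempty ι := Fintype.card_pos_iff.1 (by omega)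
  have hcard : 1 < Fintype.card {i // i ≠ j} := by
    rw [Fintype.card_subtype_compl, Fintype.card_subtype_eq]; omega
  have hrow : ∀ i, i ≠ j → ∀ b, b ≠ j → G i b = 0 := by
    intro i hij b hb
    obtain ⟨c, hc⟩ := hle (elemTransv_mem hij (1 : F))
    have hgram : (Matrix.transvection i j (1 : F))ᵀ * G * (Matrix.transvection i j (1 : F)).map σ =
        (c : F) • G := by
      rw [hG, ← hf.gram_comp]
      ext a b
      exact hc (Pi.single a 1) (Pi.single b 1)
    have hmap : (Matrix.transvection i j (1 : F)).map σ = Matrix.transvection i j (1 : F) := by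
      ext a b
      simp only [Matrix.transvection, Matrix.map_apply, Matrix.add_apply, map_add,
        Matrix.one_apply, Matrix.single_apply]
      split <;> split <;> simp
    rw [hmap] at hgram
    have hentry : ∀ a b, b ≠ j → (c : F) * G a b = G a b + if a = j then G i b else 0 := by
      intro a b hb
      have h := congrFun (congrFun hgram a) b
      rw [Matrix.mul_transvection_apply_of_ne _ _ _ _ hb, Matrix.smul_apply, smul_eq_mul] at h
      rw [← h, Matrix.transvection, Matrix.transpose_add, Matrix.transpose_one,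
        Matrix.transpose_single, add_mul, one_mul, Matrix.add_apply]
      split
      · next ha => subst ha; simp
      · next ha => simp [ha]
    by_cases hc1 : (c : F) = 1
    · have h := hentry j b hb
      rw [hc1, one_mul, if_pos rfl] at h
      linear_combination -h
    · have h := hentry i b hb
      rw [if_neg hij, add_zero] at h
      exact (mul_eq_zero.1 (by linear_combination h : ((c : F) - 1) * G i b = 0)).resolve_left
        (sub_ne_zero.2 hc1)
  obtain ⟨⟨a, ha⟩, ⟨a', ha'⟩, hne⟩ := Fintype.exists_pair_of_one_lt_card hcard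
  have haa : a ≠ a' := fun h => hne (Subtype.ext h)
  have hinj := Matrix.vecMul_injective_iff_isUnit.2 (hf.gram_isUnit hnd)
  let w : ι → F := Pi.single a (G a' j) - Pi.single a' (G a j)
  have hw : w ᵥ* G = 0 := by
    funext b
    simp only [w, Matrix.sub_vecMul, Matrix.single_vecMul, Pi.sub_apply, Pi.smul_apply,
      Matrix.row_apply, smul_eq_mul, Pi.zero_apply]
    rcases eq_or_ne b j with rfl | hb
    · ring
    · rw [hrow a ha b hb, hrow a' ha' b hb]; ring
  have hw0 := hinj (a₁ := w) (a₂ := 0) (by simpa using hw)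
  have h1 : G a' j = 0 := by
    simpa [w, haa] using congrFun hw0 a
  have hz : (Pi.single a' (1 : F)) ᵥ* G = 0 := by
    funext b
    rcases eq_or_ne b j with rfl | hb
    · simpa [Matrix.single_vecMul] using h1
    · simpa [Matrix.single_vecMul] using hrow a' ha' b hb
  simpa using congrFun (hinj (a₁ := Pi.single a' (1 : F)) (a₂ := 0) (by simpa using hz)) a'

theorem not_le_quadSimilarityGroup {Q : (ι → F) → F}
    (hQ : Cfsg.Geo.IsNondegenerateQuadraticForm Q) (hι : 3 ≤ Fintype.card ι) :
    ¬ Cfsg.Geo.specialLinear ι F ≤ Cfsg.Geo.quadSimilarityGroup Q := by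
  intro hle
  refine not_le_similarityGroup (isSesq_of_bilinear hQ.polar_bilinear) hQ.nondegenerate hι ?_
  intro g hg
  obtain ⟨c, hc⟩ := hle hg
  refine ⟨c, fun u v => ?_⟩
  simp only [QuadraticMap.polar, ← Matrix.mulVec_add, hc]
  ring

theorem not_le_normalizer_extraspecial {n : ℕ} [Fact n.Prime] (hodd : Odd n)
    {R : Subgroup (GL (Fin n) F)} (hSL : R ≤ Cfsg.Geo.specialLinear (Fin n) F) (hR : AbsIrr R)
    (h2 : ∀ a ∈ R, ∀ b ∈ R, a * b * a⁻¹ * b⁻¹ ∈ Cfsg.Geo.scalars (Fin n) F) :
    ¬ Cfsg.Geo.specialLinear (Fin n) F ≤ Cfsg.Geo.subgroupNormalizer R := by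
  intro hle
  have hnp : n.Prime := Fact.out
  haveI : NeZero n := ⟨hnp.ne_zero⟩
  obtain ⟨D⟩ := exists_extraData hodd hSL hR h2
  let i : Fin n := ⟨0, hnp.pos⟩
  let j : Fin n := ⟨1, hnp.one_lt⟩
  have hij : i ≠ j := by simp [i, j, Fin.ext_iff]
  let E := elemTransv i j hij (1 : F)
  let t := D.B * E * D.B⁻¹
  have ht : t ∈ Cfsg.Geo.subgroupNormalizer R := hle (conj_mem_specialLinear (elemTransv_mem hij 1))
  let X := D.B⁻¹ * D.x * D.B
  let w := D.x * t * D.x⁻¹ * t⁻¹
  have hw : w ∈ R := by
    have h1 := (Subgroup.mem_normalizer_iff.1 ht D.x⁻¹).1 (R.inv_mem D.hx)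
    have h2' := R.mul_mem D.hx h1
    convert h2' using 1
    simp only [w, mul_assoc]
  have hu1 : (D.u : F) ≠ 1 := fun h => D.prim.ne_one hnp.one_lt (Units.ext (by simpa using h))
  let d : F := (D.u : F)⁻¹ - 1
  have hW : D.B⁻¹ * w * D.B = elemTransv i j hij d := by
    have h1 : D.B⁻¹ * w * D.B = X * E * X⁻¹ * E⁻¹ := by
      simp only [w, t, X]; group
    rw [h1, mul_inv_eq_iff_eq_mul, mul_inv_eq_iff_eq_mul]
    refine Units.ext ?_
    have hXdiag : (X : Matrix (Fin n) (Fin n) F) = Matrix.diagonal fun k : Fin n => (D.u : F) ^ (k : ℕ) := by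
      refine Matrix.ext_of_mulVec_single fun k => ?_
      rw [D.x_col, Matrix.mulVec_single_one]
      funext a
      by_cases hak : a = k <;> simp [hak]
    show (X : Matrix (Fin n) (Fin n) F) * Matrix.transvection i j (1 : F) =
      Matrix.transvection i j d * Matrix.transvection i j (1 : F) * X
    rw [Matrix.transvection_mul_transvection_same i j hij, hXdiag]
    ext a b
    simp only [Matrix.diagonal_mul, Matrix.mul_diagonal, Matrix.transvection, Matrix.add_apply,
      Matrix.single_apply, Matrix.one_apply]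
    by_cases hab : i = a ∧ j = b
    · obtain ⟨rfl, rfl⟩ := hab
      simp [hij, i, j, d]
    · rw [if_neg hab, if_neg hab]
      by_cases h : a = b <;> simp [h, mul_comm]
  have hpow : ∀ m : ℕ, ((elemTransv i j hij d ^ m : GL (Fin n) F) : Matrix (Fin n) (Fin n) F) =
      Matrix.transvection i j (m * d) := by
    intro m
    induction m with
    | zero => simp [Matrix.transvection]
    | succ m ih =>
      rw [pow_succ, Units.val_mul, ih]
      show _ * Matrix.transvection i j d = _
      rw [Matrix.transvection_mul_transvection_same i j hij]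
      congr 1
      push_cast
      ring
  have hwn : (D.B⁻¹ * w * D.B) ^ n = 1 := by
    have : D.B⁻¹ * w * D.B = MulAut.conj D.B⁻¹ w := by simp
    rw [this, ← map_pow, D.pow w hw, map_one]
  rw [hW] at hwn
  have h := congrArg (fun Y : GL (Fin n) F => (Y : Matrix (Fin n) (Fin n) F) i j) hwn
  simp only [hpow, Matrix.transvection, Units.val_one] at h
  simp [hij] at h
  rcases h with h | h
  · exact (IsPrimitiveRoot.coe_units_iff.2 D.prim).neZero'.out h
  · exact hu1 (inv_eq_one.1 (sub_eq_zero.1 h))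

end CfsgLib.Aschbacher
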