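import Cfsg.Agent.Lib.Aschbacher.SmallFields
import Cfsg.Agent.Lib.Aschbacher.Proper

/-!
The shape of the maximal subgroups of `SL_n`, `n` an odd prime.
-/

set_option autoImplicit false

namespace CfsgLib.Aschbacher

open Matrix Module

variable {F : Type*} [Field F] {n : ℕ}

lemma eq_inf_of_maximal {G : Type*} [Group G] {S H M : Subgroup G}
    (hH : Cfsg.Geo.IsMaximalIn S H) (hle : H ≤ M) (hne : ¬ S ≤ M) : H = M ⊓ S := by
  rcases hH.2 (M ⊓ S) (le_inf hle hH.1.le) inf_le_right with h | h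
  · exact h.symm
  · exact absurd (h ▸ inf_le_left) hne

/-- Maximal subgroups of `SL_n`, `n` an odd prime. -/
theorem maximal_prime [Fintype F] [Fact n.Prime] (hodd : Odd n) {H : Subgroup (GL (Fin n) F)}
    (hH : Cfsg.Geo.IsMaximalIn (Cfsg.Geo.specialLinear (Fin n) F) H) :
    (∃ W : Submodule F (Fin n → F), W ≠ ⊥ ∧ W ≠ ⊤ ∧
        H = Cfsg.Geo.subspaceStabilizer W ⊓ Cfsg.Geo.specialLinear (Fin n) F) ∨
    (5 ≤ Fintype.card F ∧ ∃ D : Fin n → Submodule F (Fin n → F), Cfsg.Geo.IsMDecomposition 1 D ∧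
        H = Cfsg.Geo.decompositionStabilizer D ⊓ Cfsg.Geo.specialLinear (Fin n) F) ∨
    (∃ K, Cfsg.Geo.IsFieldSubalgebra n K ∧
        H = Cfsg.Geo.subalgebraNormalizer K ⊓ Cfsg.Geo.specialLinear (Fin n) F) ∨
    (∃ (F₀ : Subfield F) (r : ℕ) (B : GL (Fin n) F), r.Prime ∧
        Fintype.card F = Nat.card F₀ ^ r ∧
        H = Cfsg.Geo.subfieldSubgroup F₀ B ⊓ Cfsg.Geo.specialLinear (Fin n) F) ∨
    (∃ p e : ℕ, p.Prime ∧ CharP F p ∧ Fintype.card F = p ^ e ∧ Odd e ∧ e ∣ n - 1 ∧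
        n ∣ p ^ e - 1 ∧ (∀ d, 0 < d → d < e → ¬ n ∣ p ^ d - 1) ∧
        ∃ R : Subgroup (GL (Fin n) F), Cfsg.Geo.IsLinearSymplecticTypeData n R ∧
          H = Cfsg.Geo.subgroupNormalizer R ⊓ Cfsg.Geo.specialLinear (Fin n) F) ∨
    (Odd (Fintype.card F) ∧ ∃ Q : (Fin n → F) → F, Cfsg.Geo.IsNondegenerateQuadraticForm Q ∧
        H = Cfsg.Geo.quadSimilarityGroup Q ⊓ Cfsg.Geo.specialLinear (Fin n) F) ∨
    (∃ (σ : F ≃+* F) (f : (Fin n → F) → (Fin n → F) → F), Cfsg.Geo.IsUnitaryForm σ f ∧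
        H = Cfsg.Geo.similarityGroup f ⊓ Cfsg.Geo.specialLinear (Fin n) F) ∨
    Cfsg.Geo.InLinearResidualClass H := by
  have hp : n.Prime := Fact.out
  have hn3 : 3 ≤ n := by
    obtain ⟨k, rfl⟩ := hodd
    have := hp.two_le
    omega
  have hι : 3 ≤ Fintype.card (Fin n) := by rwa [Fintype.card_fin]
  rcases prime_aschbacher hodd hH.1.le with
    ⟨W, h0, h1, hle⟩ | ⟨hirr, D, hD, hle⟩ | ⟨K, hK, hle⟩ | ⟨F₀, r, B, hr, hc, hle⟩ |
    ⟨R, p, e, hR, hpp, hpc, hF, he, hmin, hRSL, -, hRabs, hR2, hle⟩ | ⟨hq, Q, hQ, hle⟩ |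
    ⟨σ, f, hf, hle⟩ | hres
  · exact Or.inl ⟨W, h0, h1, eq_inf_of_maximal hH hle (not_le_subspaceStabilizer h0 h1)⟩
  · by_cases h5 : 5 ≤ Fintype.card F
    · exact Or.inr (Or.inl ⟨h5, D, hD,
        eq_inf_of_maximal hH hle (not_le_decompositionStabilizer hD)⟩)
    · rcases frame_small_field (by omega) hirr hD hle with ⟨hq, Q, hQ, hle'⟩ | ⟨σ, f, hf, hle'⟩
      · exact Or.inr (Or.inr (Or.inr (Or.inr (Or.inr (Or.inl ⟨hq, Q, hQ,
          eq_inf_of_maximal hH hle' (not_le_quadSimilarityGroup hQ hι)⟩)))))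
      · exact Or.inr (Or.inr (Or.inr (Or.inr (Or.inr (Or.inr (Or.inl ⟨σ, f, hf,
          eq_inf_of_maximal hH hle'
            (not_le_similarityGroup (isSesq_of_unitary hf) hf.nondegenerate hι)⟩))))))
  · exact Or.inr (Or.inr (Or.inl ⟨K, hK,
      eq_inf_of_maximal hH hle (not_le_subalgebraNormalizer hK hp.one_lt hι)⟩))
  · exact Or.inr (Or.inr (Or.inr (Or.inl ⟨F₀, r, B, hr, hc,
      eq_inf_of_maximal hH hle (not_le_subfieldSubgroup hr hc B (by omega))⟩)))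
  · refine Or.inr (Or.inr (Or.inr (Or.inr (Or.inl ⟨p, e, hpp, hpc, hF, he, ?_, hmin.2.2.2.1,
      hmin.2.2.2.2, R, hR,
      eq_inf_of_maximal hH hle (not_le_normalizer_extraspecial hodd hRSL hRabs hR2)⟩))))
    -- the degree divides `n - 1`
    have hne : n ≠ p := by
      intro hnp
      have h1 : n ∣ p ^ e := hnp ▸ dvd_pow_self n he.pos.ne'
      have h2 : n ∣ p ^ e - 1 := hmin.2.2.2.1
      have h3 := Nat.dvd_sub h1 h2
      rw [Nat.sub_sub_self (Nat.one_le_pow _ _ hpp.pos)] at h3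
      exact hp.one_lt.ne' (Nat.dvd_one.1 h3)
    have hfer : n ∣ p ^ (n - 1) - 1 := by
      have hcop : p.Coprime n := (Nat.coprime_primes hpp hp).2 hne.symm
      have := Nat.ModEq.pow_totient hcop
      rw [Nat.totient_prime hp] at this
      exact (Nat.modEq_iff_dvd' (Nat.one_le_pow _ _ hpp.pos)).1 this.symm
    have hgcd : n ∣ p ^ Nat.gcd e (n - 1) - 1 := by
      rw [← Nat.pow_sub_one_gcd_pow_sub_one]
      exact Nat.dvd_gcd hmin.2.2.2.1 hfer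
    have hg : Nat.gcd e (n - 1) = e := by
      refine le_antisymm (Nat.gcd_le_left _ he.pos) (Nat.le_of_not_lt fun h => ?_)
      exact hmin.2.2.2.2 _ (Nat.gcd_pos_of_pos_left _ he.pos) h hgcd
    exact hg ▸ Nat.gcd_dvd_right e (n - 1)
  · exact Or.inr (Or.inr (Or.inr (Or.inr (Or.inr (Or.inl ⟨hq, Q, hQ,
      eq_inf_of_maximal hH hle (not_le_quadSimilarityGroup hQ hι)⟩)))))
  · exact Or.inr (Or.inr (Or.inr (Or.inr (Or.inr (Or.inr (Or.inl ⟨σ, f, hf,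
      eq_inf_of_maximal hH hle
        (not_le_similarityGroup (isSesq_of_unitary hf) hf.nondegenerate hι)⟩))))))
  · exact Or.inr (Or.inr (Or.inr (Or.inr (Or.inr (Or.inr (Or.inr hres))))))

end CfsgLib.Aschbacher
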