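import Cfsg.Agent.Lib.Aschbacher.TensorClass
import Cfsg.Agent.Lib.Aschbacher.Proper

/-!
The members of the geometric classes, in every dimension, do not contain `SL_n`.
-/

set_option autoImplicit false

namespace CfsgLib.Aschbacher

open Matrix Module

variable {ι : Type} [Fintype ι] [DecidableEq ι] {F : Type*} [Field F]

theorem not_le_decompositionStabilizer' {t m : ℕ} {D : Fin t → Submodule F (ι → F)}
    (hD : Cfsg.Geo.IsMDecomposition m D) :
    ¬ Cfsg.Geo.specialLinear ι F ≤ Cfsg.Geo.decompositionStabilizer D := by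
  intro hle
  have hne : ∀ i, ∃ b, b ∈ D i ∧ b ≠ 0 := fun i => by
    refine Submodule.exists_mem_ne_zero_of_ne_bot fun h => ?_
    have := hD.finrank_eq i
    have := hD.pos
    rw [h, finrank_bot] at *
    omega
  choose b hb hb0 using hne
  let i₀ : Fin t := ⟨0, by have := hD.two_le; omega⟩
  let i₁ : Fin t := ⟨1, by have := hD.two_le; omega⟩
  have h01 : i₀ ≠ i₁ := by simp [i₀, i₁, Fin.ext_iff]
  have hli := hD.indep.linearIndependent D hb hb0
  have hind : b i₀ ∉ Submodule.span F {b i₁} := by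
    have := hli.notMem_span_image (s := {i₁}) (x := i₀) (by simpa using h01)
    simpa using this
  obtain ⟨φ, hφu, hφw⟩ := exists_functional hind
  obtain ⟨σ, hσ⟩ := hle (transv_mem hφu)
  have h : b i₀ + b i₁ ∈ D (σ i₀) := by
    rw [← hσ i₀]
    refine ⟨b i₀, hb i₀, ?_⟩
    rw [Matrix.toLin'_apply, transv_mulVec, hφw, one_smul]
  have hdis : ∀ k, ∀ v ∈ D k, v ∈ (⨆ j, ⨆ (_ : j ≠ k), D j) → v = 0 := fun k v hv hv' =>
    Submodule.disjoint_def.1 (hD.indep k) v hv hv'
  have hmem : ∀ {k j : Fin t}, j ≠ k → ∀ v ∈ D j, v ∈ (⨆ j, ⨆ (_ : j ≠ k), D j) :=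
    fun {k j} hjk v hv =>
      Submodule.mem_iSup_of_mem j (Submodule.mem_iSup_of_mem hjk hv)
  rcases eq_or_ne (σ i₀) i₀ with h' | h'
  · rw [h'] at h
    have h1 : b i₁ ∈ D i₀ := by simpa using (D i₀).sub_mem h (hb i₀)
    exact hb0 i₁ (hdis i₁ _ (hb i₁) (hmem h01 _ h1))
  · have h1 : b i₀ ∈ (⨆ j, ⨆ (_ : j ≠ i₀), D j) := by
      have := Submodule.sub_mem _ (hmem h' _ h) (hmem h01.symm _ (hb i₁))
      simpa using this
    exact hb0 i₀ (hdis i₀ _ (hb i₀) h1)

/-- The transported transvection of two indices. -/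
lemma frU_transv_mem {κ : Type} [Fintype κ] [DecidableEq κ] (e : ι ≃ κ) (P : GL ι F) {i j : κ}
    (hij : i ≠ j) :
    frU e P (elemTransv i j hij (1 : F)) ∈ Cfsg.Geo.specialLinear ι F := by
  rw [Cfsg.Geo.specialLinear, MonoidHom.mem_ker]
  refine Units.ext ?_
  show ((frU e P (elemTransv i j hij (1 : F)) : GL ι F) : Matrix ι ι F).det = 1
  rw [frU_val, frAlg_apply, Matrix.det_units_conj, Matrix.det_submatrix_equiv_self]
  exact Matrix.det_transvection_of_ne i j hij 1

theorem not_le_tensorProductSubgroup {a b : ℕ} (ha : 2 ≤ a) (hb : 2 ≤ b)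
    (e : ι ≃ Fin a × Fin b) (P : GL ι F) :
    ¬ Cfsg.Geo.specialLinear ι F ≤ Cfsg.Geo.tensorProductSubgroup a b e P := by
  intro hle
  let x : Fin a × Fin b := (⟨0, by omega⟩, ⟨0, by omega⟩)
  let y : Fin a × Fin b := (⟨1, by omega⟩, ⟨1, by omega⟩)
  have hxy : x ≠ y := by simp [x, y, Prod.ext_iff, Fin.ext_iff]
  have h := hle (frU_transv_mem e P hxy)
  rw [Cfsg.Geo.tensorProductSubgroup, map_glReindex_conj] at h
  obtain ⟨g, ⟨A, B, hg⟩, hgE⟩ := h
  obtain rfl : g = elemTransv x y hxy (1 : F) := (frU e P).injective hgE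
  have hent : ∀ z, Matrix.transvection x y (1 : F) x z =
      (A : Matrix (Fin a) (Fin a) F) x.1 z.1 * (B : Matrix (Fin b) (Fin b) F) x.2 z.2 :=
    fun z => congrFun (congrFun hg x) z
  have h1 := hent x
  have h2 := hent y
  have h3 := hent (x.1, y.2)
  have hne1 : x ≠ (x.1, y.2) := by simp [x, y, Prod.ext_iff, Fin.ext_iff]
  have hne2 : y ≠ (x.1, y.2) := by simp [x, y, Prod.ext_iff, Fin.ext_iff]
  simp [Matrix.transvection, Matrix.single_apply, hxy, hxy.symm, hne1, hne2] at h1 h2 h3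
  rcases h3 with h3 | h3
  · rw [h3, zero_mul] at h1; exact one_ne_zero h1
  · rw [h3, mul_zero] at h2; exact one_ne_zero h2

lemma exists_pure_perm {m t : ℕ} {g : GL (Fin t → Fin m) F}
    (hg : g ∈ Cfsg.Geo.tensorWreathStandard m t F) :
    ∃ (A : Fin t → GL (Fin m) F) (σ : Equiv.Perm (Fin t)), g = pureGL A * permGL m F σ := by
  have hswap : ∀ (σ : Equiv.Perm (Fin t)) (A : Fin t → GL (Fin m) F),
      permGL m F σ * pureGL A = pureGL (A ∘ σ.symm) * permGL m F σ := fun σ A =>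
    Units.ext (permMat_mul_pureMat σ fun i => (A i : Matrix (Fin m) (Fin m) F))
  have hpm : ∀ A B : Fin t → GL (Fin m) F, pureGL A * pureGL B = pureGL (A * B) := fun A B =>
    Units.ext (pureMat_mul _ _)
  have hperm : ∀ σ τ : Equiv.Perm (Fin t), permGL m F σ * permGL m F τ = permGL m F (σ * τ) :=
    fun σ τ => Units.ext (permMat_mul σ τ)
  have hone : pureGL (1 : Fin t → GL (Fin m) F) = 1 := Units.ext pureMat_one
  have hone' : permGL m F (1 : Equiv.Perm (Fin t)) = 1 := Units.ext permMat_one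
  refine Subgroup.closure_induction
    (p := fun g _ => ∃ (A : Fin t → GL (Fin m) F) (σ : Equiv.Perm (Fin t)),
      g = pureGL A * permGL m F σ) ?_ ?_ ?_ ?_ hg
  · rintro x (⟨A, hA⟩ | ⟨σ, hσ⟩)
    · exact ⟨A, 1, by rw [hone', mul_one]; exact Units.ext (Matrix.ext hA)⟩
    · exact ⟨1, σ, by rw [hone, one_mul]; exact Units.ext (Matrix.ext hσ)⟩
  · exact ⟨1, 1, by rw [hone, hone', one_mul]⟩
  · rintro x y _ _ ⟨A, σ, rfl⟩ ⟨B, τ, rfl⟩
    refine ⟨A * (B ∘ σ.symm), σ * τ, ?_⟩
    rw [← hpm, ← hperm]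
    calc pureGL A * permGL m F σ * (pureGL B * permGL m F τ)
        = pureGL A * (permGL m F σ * pureGL B) * permGL m F τ := by group
      _ = _ := by rw [hswap]; group
  · rintro x _ ⟨A, σ, rfl⟩
    refine ⟨A⁻¹ ∘ σ, σ⁻¹, inv_eq_of_mul_eq_one_right ?_⟩
    calc pureGL A * permGL m F σ * (pureGL (A⁻¹ ∘ σ) * permGL m F σ⁻¹)
        = pureGL A * (permGL m F σ * pureGL (A⁻¹ ∘ σ)) * permGL m F σ⁻¹ := by group
      _ = pureGL (A * A⁻¹) * (permGL m F σ * permGL m F σ⁻¹) := by
          rw [hswap, ← hpm, show (A⁻¹ ∘ σ) ∘ σ.symm = A⁻¹ by funext i; simp]; group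
      _ = 1 := by rw [mul_inv_cancel, hone, hperm, mul_inv_cancel, hone', one_mul]

theorem not_le_tensorWreathSubgroup {m t : ℕ} (hm : 2 ≤ m) (ht : 2 ≤ t)
    (e : ι ≃ (Fin t → Fin m)) (P : GL ι F) :
    ¬ Cfsg.Geo.specialLinear ι F ≤ Cfsg.Geo.tensorWreathSubgroup m t e P := by
  intro hle
  let a : Fin m := ⟨0, by omega⟩
  let b : Fin m := ⟨1, by omega⟩
  have hab : a ≠ b := by simp [a, b, Fin.ext_iff]
  let i₀ : Fin t := ⟨0, by omega⟩
  let i₁ : Fin t := ⟨1, by omega⟩
  have h01 : i₀ ≠ i₁ := by simp [i₀, i₁, Fin.ext_iff]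
  let x : Fin t → Fin m := fun _ => a
  let y : Fin t → Fin m := fun _ => b
  have hxy : x ≠ y := fun h => hab (congrFun h i₀)
  let z : Fin t → Fin m := Function.update x i₀ b
  have hzx : x ≠ z := fun h => hab (by simpa [z, x] using congrFun h i₀)
  have hzy : y ≠ z := fun h => hab (by simpa [z, x, y, h01.symm] using (congrFun h i₁).symm)
  have h := hle (frU_transv_mem e P hxy)
  rw [Cfsg.Geo.tensorWreathSubgroup, map_glReindex_conj] at h
  obtain ⟨g, hg, hgE⟩ := h
  obtain rfl : g = elemTransv x y hxy (1 : F) := (frU e P).injective hgE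
  obtain ⟨A, σ, hA⟩ := exists_pure_perm hg
  have hent : ∀ w : Fin t → Fin m, Matrix.transvection x y (1 : F) x w =
      ∏ i, (A i : Matrix (Fin m) (Fin m) F) (x i) (w (σ.symm i)) := by
    intro w
    have h1 := congrArg
      (fun g : GL (Fin t → Fin m) F => (g : Matrix (Fin t → Fin m) (Fin t → Fin m) F) x w) hA
    refine h1.trans ?_
    show (pureMat (fun i => (A i : Matrix (Fin m) (Fin m) F)) * permMat m F σ) x w = _
    rw [Matrix.mul_apply, Finset.sum_eq_single (w ∘ σ.symm)]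
    · simp [permMat, pureMat_apply, Function.comp_assoc]
    · intro v _ hv
      have : w ≠ v ∘ σ := fun h => hv (by simp [h, Function.comp_assoc])
      simp [permMat, this]
    · simp
  have h1 := hent x
  have h2 := hent y
  have h3 := hent z
  simp [Matrix.transvection, Matrix.single_apply, hxy, hxy.symm, hzx, hzy] at h1 h2 h3
  obtain ⟨i, hi⟩ := Finset.prod_eq_zero_iff.1 h3.symm
  have hne : ∀ {c : Fin m}, (1 : F) = ∏ j, (A j : Matrix (Fin m) (Fin m) F) a c →
      (A i : Matrix (Fin m) (Fin m) F) a c ≠ 0 := fun hprod h0 =>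
    one_ne_zero (hprod.trans (Finset.prod_eq_zero (Finset.mem_univ i) h0))
  by_cases hzi : σ.symm i = i₀
  · exact hne (c := b) h2 (by simpa [z, x, hzi] using hi.2)
  · exact hne (c := a) h1 (by simpa [z, x, hzi] using hi.2)

/-- An irreducible `r`-group, `r` different from the characteristic, is not normalised by `SL_n`. -/
theorem not_le_normalizer_pGroup [Fintype F] {n r p : ℕ} (hn : 4 ≤ n) [CharP F p] (hp : p.Prime)
    (hr : r.Prime) (hrp : r ≠ p) {R : Subgroup (GL (Fin n) F)} (hR : IsPGroup r R) (hirr : Irr R) :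
    ¬ Cfsg.Geo.specialLinear (Fin n) F ≤ Cfsg.Geo.subgroupNormalizer R := by
  intro hle
  classical
  have : Nonempty (Fin n) := ⟨⟨0, by omega⟩⟩
  -- an element moving some line
  obtain ⟨x, hx, u, hxu⟩ : ∃ x ∈ R, ∃ u : Fin n → F,
      (x : Matrix (Fin n) (Fin n) F) *ᵥ u ∉ Submodule.span F {u} := by
    by_contra h
    push Not at h
    let v : Fin n → F := Pi.single ⟨0, by omega⟩ 1
    rcases irr_iff.1 hirr (Submodule.span F {v}) (fun a ha w hw => by
      obtain ⟨c, rfl⟩ := Submodule.mem_span_singleton.1 hw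
      rw [Matrix.mulVec_smul]
      exact Submodule.smul_mem _ _ (h a ha v)) with h' | h'
    · exact absurd (Submodule.span_singleton_eq_bot.1 h') (by simp [v])
    · have h1 := congrArg (fun V : Submodule F (Fin n → F) => finrank F V) h'
      rw [finrank_span_singleton (by simp [v]), finrank_top, Module.finrank_fin_fun] at h1
      omega
  set xu := (x : Matrix (Fin n) (Fin n) F) *ᵥ u with hxudef
  set w := ((x⁻¹ : GL (Fin n) F) : Matrix (Fin n) (Fin n) F) *ᵥ u with hwdef
  let S : Submodule F (Fin n → F) :=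
    Submodule.span F (↑({u, xu, w} : Finset (Fin n → F)) : Set (Fin n → F))
  have hStop : S ≠ ⊤ := by
    intro h
    have h1 : finrank F S ≤ 3 :=
      (finrank_span_finset_le_card ({u, xu, w} : Finset (Fin n → F))).trans Finset.card_le_three
    rw [h, finrank_top, Module.finrank_fin_fun] at h1
    omega
  obtain ⟨z, hz⟩ : ∃ z, z ∉ S := by
    by_contra h
    push Not at h
    exact hStop (eq_top_iff.2 fun v _ => h v)
  obtain ⟨f, hf, hf'⟩ := Submodule.exists_dual_map_eq_bot_of_notMem hz inferInstance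
  have hfS : ∀ v ∈ S, f v = 0 := fun v hv => by
    have := Submodule.mem_map_of_mem (f := f) hv
    rwa [hf', Submodule.mem_bot] at this
  let φ : Fin n → F := fun i => f (Pi.single i 1)
  have key : ∀ v : Fin n → F, φ ⬝ᵥ v = f v := by
    intro v
    conv_rhs => rw [pi_eq_sum_univ' v, map_sum]
    exact Finset.sum_congr rfl fun i _ => by rw [map_smul, smul_eq_mul]; ring
  have hφu : φ ⬝ᵥ u = 0 := by rw [key]; exact hfS u (Submodule.subset_span (by simp))
  have hφxu : φ ⬝ᵥ xu = 0 := by rw [key]; exact hfS xu (Submodule.subset_span (by simp))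
  have hφw : φ ⬝ᵥ w = 0 := by rw [key]; exact hfS w (Submodule.subset_span (by simp))
  let t := transv u φ hφu
  let y := x * t * x⁻¹ * t⁻¹
  have hy : y ∈ R := by
    have h1 := (Subgroup.mem_normalizer_iff.1 (hle (transv_mem hφu)) x⁻¹).1 (R.inv_mem hx)
    have h2 := R.mul_mem hx h1
    convert h2 using 1
    simp only [y, t, mul_assoc]
  have ht' : ∀ v, ((t⁻¹ : GL (Fin n) F) : Matrix (Fin n) (Fin n) F) *ᵥ v = v - (φ ⬝ᵥ v) • u := by
    intro v
    apply mulVec_injective t
    simp only [mulVec_inv_cancel]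
    rw [transv_mulVec, dotProduct_sub, dotProduct_smul, hφu, smul_zero, sub_zero, sub_add_cancel]
  let D : (Fin n → F) → Fin n → F := fun v =>
    (φ ⬝ᵥ (((x⁻¹ : GL (Fin n) F) : Matrix (Fin n) (Fin n) F) *ᵥ v)) • xu - (φ ⬝ᵥ v) • u
  have hyv : ∀ v, (y : Matrix (Fin n) (Fin n) F) *ᵥ v = v + D v := by
    intro v
    simp only [y, mul_mulVec, ht']
    rw [transv_mulVec, Matrix.mulVec_add, Matrix.mulVec_smul, mulVec_inv_cancel, Matrix.mulVec_sub,
      Matrix.mulVec_smul, ← hwdef, ← hxudef, dotProduct_sub, dotProduct_smul, hφw, smul_zero,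
      sub_zero]
    simp only [D]
    abel
  have hDxu : D xu = 0 := by
    simp only [D, hxudef, inv_mulVec_cancel]
    rw [← hxudef, hφu, hφxu, zero_smul, zero_smul, sub_zero]
  have hDu : D u = 0 := by
    simp only [D]
    rw [← hwdef, hφw, hφu, zero_smul, zero_smul, sub_zero]
  have hDD : ∀ v, D (D v) = 0 := by
    intro v
    have hlin : ∀ (c d : F), D (c • xu - d • u) = c • D xu - d • D u := by
      intro c d
      simp only [D, Matrix.mulVec_sub, Matrix.mulVec_smul, dotProduct_sub, dotProduct_smul,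
        smul_eq_mul]
      module
    show D (_ • xu - _ • u) = 0
    rw [hlin, hDxu, hDu, smul_zero, smul_zero, sub_zero]
  have hpow : ∀ (k : ℕ) (v : Fin n → F),
      ((y ^ k : GL (Fin n) F) : Matrix (Fin n) (Fin n) F) *ᵥ v = v + (k : F) • D v := by
    intro k
    induction k with
    | zero => intro v; simp
    | succ k ih =>
      intro v
      rw [pow_succ', mul_mulVec, ih, Matrix.mulVec_add, Matrix.mulVec_smul, hyv, hyv, hDD, add_zero,
        Nat.cast_succ, add_smul, one_smul]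
      abel
  have hyp : y ^ p = 1 := by
    refine Units.ext (Matrix.toLin'.injective (LinearMap.ext fun v => ?_))
    rw [Matrix.toLin'_apply, Matrix.toLin'_apply, hpow, CharP.cast_eq_zero, zero_smul, add_zero,
      Units.val_one, Matrix.one_mulVec]
  obtain ⟨k, hk⟩ := hR ⟨y, hy⟩
  have hy1 : y = 1 := by
    have hk' : y ^ r ^ k = 1 := congrArg Subtype.val hk
    refine orderOf_eq_one_iff.1 (Nat.eq_one_of_dvd_coprimes
      (((Nat.coprime_primes hr hp).2 hrp).pow_left k) (orderOf_dvd_of_pow_eq_one hk')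
      (orderOf_dvd_of_pow_eq_one hyp))
  -- but `y` is not trivial
  have h0 : D z = 0 := by
    have h := hyv z
    rw [hy1, Units.val_one, Matrix.one_mulVec] at h
    simpa using h.symm
  apply hxu
  have hd : φ ⬝ᵥ z ≠ 0 := by rw [key]; exact hf
  rw [Submodule.mem_span_singleton]
  simp only [D, sub_eq_zero] at h0
  rcases eq_or_ne (φ ⬝ᵥ (((x⁻¹ : GL (Fin n) F) : Matrix (Fin n) (Fin n) F) *ᵥ z)) 0 with hc | hc
  · rw [hc, zero_smul] at h0
    rcases smul_eq_zero.1 h0.symm with h | h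
    · exact absurd h hd
    · exact ⟨0, by rw [zero_smul, hxudef, h, Matrix.mulVec_zero]⟩
  · exact ⟨(φ ⬝ᵥ (((x⁻¹ : GL (Fin n) F) : Matrix (Fin n) (Fin n) F) *ᵥ z))⁻¹ * (φ ⬝ᵥ z), by
      rw [mul_smul, ← h0, smul_smul, inv_mul_cancel₀ hc, one_smul]⟩

end CfsgLib.Aschbacher
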