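import Cfsg.Agent.Lib.Aschbacher.PrimeDim

/-!
Monomial groups over the fields with two, three and four elements: they fix a vector, preserve a
quadratic form, or preserve a unitary form.
-/

set_option autoImplicit false

namespace CfsgLib.Aschbacher

open Matrix Module

variable {F : Type*} [Field F] {n : ℕ}

/-- A frame is given by a basis, and its stabiliser is monomial in that basis. -/
theorem frame_monomial [Finite F] {D : Fin n → Submodule F (Fin n → F)}
    (hD : Cfsg.Geo.IsMDecomposition 1 D) :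
    ∃ B : GL (Fin n) F, ∀ g ∈ Cfsg.Geo.decompositionStabilizer D,
      ∃ (σ : Equiv.Perm (Fin n)) (a : Fin n → F), (∀ i, a i ≠ 0) ∧
        ∀ (v : Fin n → F) (i : Fin n), (((B⁻¹ * g * B : GL (Fin n) F) : Matrix (Fin n) (Fin n) F) *ᵥ v) (σ i) = a i * v i := by
  have hne : ∀ i, ∃ b, b ∈ D i ∧ b ≠ 0 := fun i => by
    refine Submodule.exists_mem_ne_zero_of_ne_bot fun h => ?_
    have := hD.finrank_eq i
    rw [h, finrank_bot] at this
    omega
  choose b hb hb0 using hne
  have hli := hD.indep.linearIndependent D hb hb0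
  let Bm : Matrix (Fin n) (Fin n) F := Matrix.of fun i j => b j i
  obtain ⟨B, hB⟩ : IsUnit Bm := Matrix.linearIndependent_cols_iff_isUnit.1 hli
  have hBcol : ∀ j, (B : Matrix (Fin n) (Fin n) F) *ᵥ Pi.single j 1 = b j := fun j => by
    rw [hB, Matrix.mulVec_single_one]; rfl
  refine ⟨B, fun g hg => ?_⟩
  obtain ⟨σ, hσ⟩ := hg
  have hcol : ∀ i, ∃ a : F, a • b (σ i) = (g : Matrix (Fin n) (Fin n) F) *ᵥ b i := by
    intro i
    have hmem : (g : Matrix (Fin n) (Fin n) F) *ᵥ b i ∈ D (σ i) := by
      rw [← hσ i]; exact ⟨b i, hb i, Matrix.toLin'_apply _ _⟩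
    obtain ⟨c, hc⟩ := (finrank_eq_one_iff_of_nonzero' (⟨b (σ i), hb _⟩ : D (σ i))
      (by simpa using hb0 _)).1 (hD.finrank_eq _) ⟨_, hmem⟩
    exact ⟨c, congrArg Subtype.val hc⟩
  choose a ha using hcol
  refine ⟨σ, a, fun i h => ?_, fun v i => ?_⟩
  · have := ha i
    rw [h, zero_smul] at this
    exact hb0 i (mulVec_injective g (this.symm.trans (Matrix.mulVec_zero _).symm))
  · have hc : ∀ k, ((B⁻¹ * g * B : GL (Fin n) F) : Matrix (Fin n) (Fin n) F) *ᵥ Pi.single k 1 =
        a k • (Pi.single (σ k) 1 : Fin n → F) := by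
      intro k
      rw [mul_mulVec, mul_mulVec, hBcol, ← ha, Matrix.mulVec_smul, ← hBcol, inv_mulVec_cancel]
    conv_lhs => rw [pi_eq_sum_univ' v]
    rw [Matrix.mulVec_sum, Finset.sum_apply, Finset.sum_eq_single i]
    · rw [Matrix.mulVec_smul, hc]; simp [mul_comm]
    · intro k _ hk; rw [Matrix.mulVec_smul, hc]; simp [hk.symm]
    · simp

/-- The diagonal form in the basis `B`. -/
def diagForm (σ : F ≃+* F) (B : GL (Fin n) F) (u v : Fin n → F) : F :=
  ∑ i, (((B⁻¹ : GL (Fin n) F) : Matrix (Fin n) (Fin n) F) *ᵥ u) i *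
    σ ((((B⁻¹ : GL (Fin n) F) : Matrix (Fin n) (Fin n) F) *ᵥ v) i)

lemma diagForm_nondegenerate (σ : F ≃+* F) (B : GL (Fin n) F) :
    Cfsg.Geo.IsNondegenerateForm (diagForm σ B) := by
  intro v hv
  obtain ⟨i, hi⟩ : ∃ i, (((B⁻¹ : GL (Fin n) F) : Matrix (Fin n) (Fin n) F) *ᵥ v) i ≠ 0 := by
    by_contra h
    push Not at h
    exact hv (mulVec_injective B⁻¹ ((funext h).trans (Matrix.mulVec_zero _).symm))
  refine ⟨⟨(B : Matrix (Fin n) (Fin n) F) *ᵥ Pi.single i 1, ?_⟩,
    ⟨(B : Matrix (Fin n) (Fin n) F) *ᵥ Pi.single i 1, ?_⟩⟩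
  · simp only [diagForm, inv_mulVec_cancel, Pi.single_apply, ite_mul, one_mul, zero_mul,
      Finset.sum_ite_eq', Finset.mem_univ, if_true]
    exact fun h => hi ((map_eq_zero_iff σ σ.injective).1 h)
  · simp only [diagForm, inv_mulVec_cancel, Pi.single_apply, apply_ite σ, map_one, map_zero,
      mul_ite, mul_one, mul_zero, Finset.sum_ite_eq', Finset.mem_univ, if_true]
    exact hi

lemma diagForm_unitary (σ : F ≃+* F) (hne : σ ≠ RingEquiv.refl F) (hinv : ∀ a, σ (σ a) = a)
    (B : GL (Fin n) F) : Cfsg.Geo.IsUnitaryForm σ (diagForm σ B) := by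
  refine ⟨hne, hinv, ?_, ?_, ?_, diagForm_nondegenerate σ B⟩
  · intro x y v; simp [diagForm, Matrix.mulVec_add, add_mul, Finset.sum_add_distrib]
  · intro c x v; simp [diagForm, Matrix.mulVec_smul, Finset.mul_sum, mul_assoc]
  · intro v w
    simp only [diagForm, map_sum, map_mul, hinv]
    exact Finset.sum_congr rfl fun i _ => mul_comm _ _

lemma diagForm_monomial (σ : F ≃+* F) (hnorm : ∀ a : F, a ≠ 0 → a * σ a = 1) (B g : GL (Fin n) F)
    (π : Equiv.Perm (Fin n)) (a : Fin n → F) (ha : ∀ i, a i ≠ 0)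
    (hg : ∀ (v : Fin n → F) (i : Fin n),
      (((B⁻¹ * g * B : GL (Fin n) F) : Matrix (Fin n) (Fin n) F) *ᵥ v) (π i) = a i * v i)
    (u v : Fin n → F) :
    diagForm σ B ((g : Matrix (Fin n) (Fin n) F) *ᵥ u) ((g : Matrix (Fin n) (Fin n) F) *ᵥ v) =
      diagForm σ B u v := by
  have h : ∀ (w : Fin n → F) (i : Fin n),
      (((B⁻¹ : GL (Fin n) F) : Matrix (Fin n) (Fin n) F) *ᵥ ((g : Matrix (Fin n) (Fin n) F) *ᵥ w))
          (π i) =
        a i * (((B⁻¹ : GL (Fin n) F) : Matrix (Fin n) (Fin n) F) *ᵥ w) i := by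
    intro w i
    rw [← hg, mul_mulVec, mul_mulVec, mulVec_inv_cancel]
  simp only [diagForm]
  rw [← Equiv.sum_comp π]
  refine Finset.sum_congr rfl fun i _ => ?_
  rw [h, h, map_mul]
  linear_combination
    ((((B⁻¹ : GL (Fin n) F) : Matrix (Fin n) (Fin n) F) *ᵥ u) i *
      σ ((((B⁻¹ : GL (Fin n) F) : Matrix (Fin n) (Fin n) F) *ᵥ v) i)) * hnorm (a i) (ha i)

/-- An irreducible monomial group over a field with at most four elements lies in an orthogonal or
unitary similarity group. -/
theorem frame_small_field [Fintype F] [Fact n.Prime] (hsmall : Fintype.card F < 5)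
    {H : Subgroup (GL (Fin n) F)} (hirr : Irr H) {D : Fin n → Submodule F (Fin n → F)}
    (hD : Cfsg.Geo.IsMDecomposition 1 D) (hle : H ≤ Cfsg.Geo.decompositionStabilizer D) :
    (Odd (Fintype.card F) ∧ ∃ Q : (Fin n → F) → F, Cfsg.Geo.IsNondegenerateQuadraticForm Q ∧
        H ≤ Cfsg.Geo.quadSimilarityGroup Q) ∨
      ∃ (σ : F ≃+* F) (f : (Fin n → F) → (Fin n → F) → F),
        Cfsg.Geo.IsUnitaryForm σ f ∧ H ≤ Cfsg.Geo.similarityGroup f := by
  have hnp : n.Prime := Fact.out
  haveI : NeZero n := ⟨hnp.ne_zero⟩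
  obtain ⟨B, hB⟩ := frame_monomial hD
  classical
  have h2 : 2 ≤ Fintype.card F := Fintype.one_lt_card
  rcases (by omega : Fintype.card F = 2 ∨ Fintype.card F = 3 ∨ Fintype.card F = 4) with hq | hq | hq
  · -- a fixed vector
    exfalso
    have hone : ∀ a : F, a ≠ 0 → a = 1 := by
      intro a ha
      have h := FiniteField.pow_card_sub_one_eq_one a ha
      rwa [hq, pow_one] at h
    let w : Fin n → F := (B : Matrix (Fin n) (Fin n) F) *ᵥ (fun _ => 1)
    have hw : w ≠ 0 := fun h =>
      one_ne_zero (congrFun (mulVec_injective B (h.trans (Matrix.mulVec_zero _).symm)) 0)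
    have hfix : ∀ g ∈ H, (g : Matrix (Fin n) (Fin n) F) *ᵥ w = w := by
      intro g hg
      obtain ⟨π, a, ha, h⟩ := hB g (hle hg)
      have : ((B⁻¹ * g * B : GL (Fin n) F) : Matrix (Fin n) (Fin n) F) *ᵥ (fun _ => (1 : F)) =
          fun _ => 1 := by
        funext j
        obtain ⟨i, rfl⟩ := π.surjective j
        rw [h, hone _ (ha i), one_mul]
      rw [mul_mulVec, mul_mulVec] at this
      have h' := congrArg (fun z => (B : Matrix (Fin n) (Fin n) F) *ᵥ z) this
      simp only [mulVec_inv_cancel] at h'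
      exact h'
    rcases irr_iff.1 hirr (Submodule.span F {w}) (fun g hg x hx => by
      obtain ⟨c, rfl⟩ := Submodule.mem_span_singleton.1 hx
      rw [Matrix.mulVec_smul, hfix g hg]
      exact Submodule.smul_mem _ _ (Submodule.mem_span_singleton_self w)) with h | h
    · exact hw (Submodule.span_singleton_eq_bot.1 h)
    · have h' := congrArg (fun V : Submodule F (Fin n → F) => finrank F V) h
      simp only [finrank_span_singleton hw, finrank_top, Module.finrank_fin_fun] at h'
      exact hnp.one_lt.ne h'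
  · left
    have hodd : Odd (Fintype.card F) := by rw [hq]; decide
    have hnorm : ∀ a : F, a ≠ 0 → a * (RingEquiv.refl F) a = 1 := by
      intro a ha
      have h := FiniteField.pow_card_sub_one_eq_one a ha
      rw [hq] at h
      simpa [sq] using h
    have h2' : (2 : F) ≠ 0 := by
      intro h
      have : Fact (Nat.Prime 3) := ⟨Nat.prime_three⟩
      have : CharP F 3 := charP_of_card_eq_prime_pow (f := 1) (by rw [hq]; norm_num)
      have h3 : 3 ∣ 2 := (CharP.cast_eq_zero_iff F 3 2).1 (by exact_mod_cast h)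
      omega
    let Q : (Fin n → F) → F := fun v => diagForm (RingEquiv.refl F) B v v
    have hpolar : ∀ u v, QuadraticMap.polar Q u v = 2 * diagForm (RingEquiv.refl F) B u v := by
      intro u v
      simp only [Q, QuadraticMap.polar, diagForm, RingEquiv.refl_apply, Matrix.mulVec_add,
        Pi.add_apply, Finset.mul_sum, ← Finset.sum_sub_distrib]
      exact Finset.sum_congr rfl fun i _ => by ring
    refine ⟨hodd, Q, ⟨?_, ?_, ?_⟩, fun g hg => ?_⟩
    · intro c v
      simp only [Q, diagForm, RingEquiv.refl_apply, Matrix.mulVec_smul, Pi.smul_apply, smul_eq_mul,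
        Finset.mul_sum]
      exact Finset.sum_congr rfl fun i _ => by ring
    · constructor
      all_goals intros
      all_goals simp only [hpolar, diagForm, RingEquiv.refl_apply, Matrix.mulVec_add,
        Matrix.mulVec_smul, Pi.add_apply, Pi.smul_apply, smul_eq_mul, Finset.mul_sum,
        ← Finset.sum_add_distrib]
      all_goals exact Finset.sum_congr rfl fun i _ => by ring
    · intro v hv
      obtain ⟨⟨x, hx⟩, y, hy⟩ := diagForm_nondegenerate (RingEquiv.refl F) B v hv
      exact ⟨⟨x, by rw [hpolar]; exact mul_ne_zero h2' hx⟩,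
        ⟨y, by rw [hpolar]; exact mul_ne_zero h2' hy⟩⟩
    · obtain ⟨π, a, ha, h⟩ := hB g (hle hg)
      refine ⟨1, fun v => ?_⟩
      rw [Units.val_one, one_mul]
      exact diagForm_monomial _ hnorm B g π a ha h v v
  · right
    haveI : Fact (Nat.Prime 2) := ⟨Nat.prime_two⟩
    haveI : CharP F 2 := by
      refine charP_of_card_eq_prime_pow (p := 2) (f := 2) ?_
      rw [hq]
      norm_num
    let σ : F ≃+* F := RingEquiv.ofBijective (frobenius F 2)
      (Finite.injective_iff_bijective.1 (frobenius F 2).injective)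
    have hσ : ∀ a, σ a = a ^ 2 := fun a => rfl
    have hnorm : ∀ a : F, a ≠ 0 → a * σ a = 1 := by
      intro a ha
      have h := FiniteField.pow_card_sub_one_eq_one a ha
      rw [hq] at h
      rw [hσ, ← pow_succ']
      exact h
    refine ⟨σ, diagForm σ B, diagForm_unitary σ ?_ ?_ B, fun g hg => ?_⟩
    · intro hc
      obtain ⟨a, ha⟩ : ∃ a : F, a ∉ ({0, 1} : Finset F) := by
        by_contra h
        push Not at h
        have h1 := Finset.card_le_card (fun x _ => h x : (Finset.univ : Finset F) ⊆ {0, 1})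
        have h2'' : ({0, 1} : Finset F).card ≤ 2 := Finset.card_le_two
        rw [Finset.card_univ] at h1
        omega
      simp only [Finset.mem_insert, Finset.mem_singleton, not_or] at ha
      have h' := hσ a
      rw [hc] at h'
      exact ha.2 (mul_left_cancel₀ ha.1 (by rw [mul_one, ← sq]; exact h'.symm))
    · intro a
      rw [hσ, hσ, ← pow_mul]
      have := FiniteField.pow_card a
      rwa [hq] at this
    · obtain ⟨π, a, ha, h⟩ := hB g (hle hg)
      exact ⟨1, fun u v => by rw [Units.val_one, one_mul]; exact diagForm_monomial σ hnorm B g π a ha h u v⟩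

end CfsgLib.Aschbacher
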