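import Cfsg.Agent.Lib.Aschbacher.TensorClass
import Cfsg.Agent.Lib.Aschbacher.SmallFields

/-!
Imprimitive and tensor subgroups over very small fields lie in other geometric members.
-/

set_option autoImplicit false

namespace CfsgLib.Aschbacher

open Matrix Module

open scoped Kronecker

variable {F : Type*} [Field F] {n : ℕ}

lemma card_two_or_three_or_four [Fintype F] (h : Fintype.card F < 5) :
    Fintype.card F = 2 ∨ Fintype.card F = 3 ∨ Fintype.card F = 4 := by
  have := Fintype.one_lt_card (α := F)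
  omega

lemma eq_one_of_card_two [Fintype F] (hq : Fintype.card F = 2) {a : F} (ha : a ≠ 0) : a = 1 := by
  have h := FiniteField.pow_card_sub_one_eq_one a ha
  rwa [hq, pow_one] at h

/-- Monomial groups over at most four elements fix a line, a quadratic or a unitary form. -/
theorem frame_small_field' [Fintype F] (hn : 2 ≤ n) (hsmall : Fintype.card F < 5)
    {H : Subgroup (GL (Fin n) F)} {D : Fin n → Submodule F (Fin n → F)}
    (hD : Cfsg.Geo.IsMDecomposition 1 D) (hle : H ≤ Cfsg.Geo.decompositionStabilizer D) :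
    (∃ W : Submodule F (Fin n → F), W ≠ ⊥ ∧ W ≠ ⊤ ∧ H ≤ Cfsg.Geo.subspaceStabilizer W) ∨
    (Odd (Fintype.card F) ∧ ∃ Q : (Fin n → F) → F, Cfsg.Geo.IsNondegenerateQuadraticForm Q ∧
        H ≤ Cfsg.Geo.quadSimilarityGroup Q) ∨
      ∃ (σ : F ≃+* F) (f : (Fin n → F) → (Fin n → F) → F),
        Cfsg.Geo.IsUnitaryForm σ f ∧ H ≤ Cfsg.Geo.similarityGroup f := by
  have : NeZero n := ⟨by omega⟩
  obtain ⟨B, hB⟩ := frame_monomial hD
  classical
  rcases card_two_or_three_or_four hsmall with hq | hq | hq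
  · left
    let w : Fin n → F := (B : Matrix (Fin n) (Fin n) F) *ᵥ (fun _ => 1)
    have hw : w ≠ 0 := fun h =>
      one_ne_zero (congrFun (mulVec_injective B (h.trans (Matrix.mulVec_zero _).symm)) 0)
    have hfix : ∀ g ∈ H, (g : Matrix (Fin n) (Fin n) F) *ᵥ w = w := by
      intro g hg
      obtain ⟨π, a, ha, h⟩ := hB g (hle hg)
      have : ((B⁻¹ * g * B : GL (Fin n) F) : Matrix (Fin n) (Fin n) F) *ᵥ (fun _ => (1 : F)) =
          fun _ => 1 := by
        funext j
        obtain ⟨i, rfl⟩ := π.surjective j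
        rw [h, eq_one_of_card_two hq (ha i), one_mul]
      rw [mul_mulVec, mul_mulVec] at this
      have h' := congrArg (fun z => (B : Matrix (Fin n) (Fin n) F) *ᵥ z) this
      simp only [mulVec_inv_cancel] at h'
      exact h'
    refine ⟨Submodule.span F {w}, fun h => hw (Submodule.span_singleton_eq_bot.1 h), fun h => ?_,
      le_subspaceStabilizer fun g hg x hx => ?_⟩
    · have h' := congrArg (fun V : Submodule F (Fin n → F) => finrank F V) h
      simp only [finrank_span_singleton hw, finrank_top, Module.finrank_fin_fun] at h'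
      omega
    · obtain ⟨c, rfl⟩ := Submodule.mem_span_singleton.1 hx
      rw [Matrix.mulVec_smul, hfix g hg]
      exact Submodule.smul_mem _ _ (Submodule.mem_span_singleton_self w)
  · right; left
    have hodd : Odd (Fintype.card F) := by rw [hq]; decide
    have hnorm : ∀ a : F, a ≠ 0 → a * (RingEquiv.refl F) a = 1 := by
      intro a ha
      have h := FiniteField.pow_card_sub_one_eq_one a ha
      rw [hq] at h
      simpa [sq] using h
    have h2' : (2 : F) ≠ 0 := by
      intro h
      have : Fact (Nat.Prime 3) := ⟨Nat.prime_three⟩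
      have : CharP F 3 := charP_of_card_eq_prime_pow (f := 1) (by rw [hq]; norm_num)
      have h3 : 3 ∣ 2 := (CharP.cast_eq_zero_iff F 3 2).1 (by exact_mod_cast h)
      omega
    let Q : (Fin n → F) → F := fun v => diagForm (RingEquiv.refl F) B v v
    have hpolar : ∀ u v, QuadraticMap.polar Q u v = 2 * diagForm (RingEquiv.refl F) B u v := by
      intro u v
      simp only [Q, QuadraticMap.polar, diagForm, RingEquiv.refl_apply, Matrix.mulVec_add,
        Pi.add_apply, Finset.mul_sum, ← Finset.sum_sub_distrib]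
      exact Finset.sum_congr rfl fun i _ => by ring
    refine ⟨hodd, Q, ⟨?_, ?_, ?_⟩, fun g hg => ?_⟩
    · intro c v
      simp only [Q, diagForm, RingEquiv.refl_apply, Matrix.mulVec_smul, Pi.smul_apply, smul_eq_mul,
        Finset.mul_sum]
      exact Finset.sum_congr rfl fun i _ => by ring
    · constructor
      all_goals intros
      all_goals simp only [hpolar, diagForm, RingEquiv.refl_apply, Matrix.mulVec_add,
        Matrix.mulVec_smul, Pi.add_apply, Pi.smul_apply, smul_eq_mul, Finset.mul_sum,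
        ← Finset.sum_add_distrib]
      all_goals exact Finset.sum_congr rfl fun i _ => by ring
    · intro v hv
      obtain ⟨⟨x, hx⟩, y, hy⟩ := diagForm_nondegenerate (RingEquiv.refl F) B v hv
      exact ⟨⟨x, by rw [hpolar]; exact mul_ne_zero h2' hx⟩,
        ⟨y, by rw [hpolar]; exact mul_ne_zero h2' hy⟩⟩
    · obtain ⟨π, a, ha, h⟩ := hB g (hle hg)
      refine ⟨1, fun v => ?_⟩
      rw [Units.val_one, one_mul]
      exact diagForm_monomial _ hnorm B g π a ha h v v
  · right; right
    have : Fact (Nat.Prime 2) := ⟨Nat.prime_two⟩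
    have : CharP F 2 := by
      refine charP_of_card_eq_prime_pow (p := 2) (f := 2) ?_
      rw [hq]
      norm_num
    let σ : F ≃+* F := RingEquiv.ofBijective (frobenius F 2)
      (Finite.injective_iff_bijective.1 (frobenius F 2).injective)
    have hσ : ∀ a, σ a = a ^ 2 := fun a => rfl
    have hnorm : ∀ a : F, a ≠ 0 → a * σ a = 1 := by
      intro a ha
      have h := FiniteField.pow_card_sub_one_eq_one a ha
      rw [hq] at h
      rw [hσ, ← pow_succ']
      exact h
    refine ⟨σ, diagForm σ B, diagForm_unitary σ ?_ ?_ B, fun g hg => ?_⟩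
    · intro hc
      obtain ⟨a, ha⟩ : ∃ a : F, a ∉ ({0, 1} : Finset F) := by
        by_contra h
        push Not at h
        have h1 := Finset.card_le_card (fun x _ => h x : (Finset.univ : Finset F) ⊆ {0, 1})
        have h2'' : ({0, 1} : Finset F).card ≤ 2 := Finset.card_le_two
        rw [Finset.card_univ] at h1
        omega
      simp only [Finset.mem_insert, Finset.mem_singleton, not_or] at ha
      have h' := hσ a
      rw [hc] at h'
      exact ha.2 (mul_left_cancel₀ ha.1 (by rw [mul_one, ← sq]; exact h'.symm))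
    · intro a
      rw [hσ, hσ, ← pow_mul]
      have := FiniteField.pow_card a
      rwa [hq] at this
    · obtain ⟨π, a, ha, h⟩ := hB g (hle hg)
      exact ⟨1, fun u v => by rw [Units.val_one, one_mul]; exact diagForm_monomial σ hnorm B g π a ha h u v⟩

/-- The symplectic form of an invertible alternating matrix. -/
theorem symplectic_of_matrix {ι : Type} [Fintype ι] [DecidableEq ι] {J : Matrix ι ι F}
    (hJ : IsUnit J) (hskew : Jᵀ = (-1 : F) • J) (hdiag : ∀ i, J i i = 0) :
    ∃ f : (ι → F) → (ι → F) → F, Cfsg.Geo.IsSymplecticForm f ∧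
      simSubgroup J ≤ Cfsg.Geo.similarityGroup f := by
  let f : (ι → F) → (ι → F) → F := fun u v => u ⬝ᵥ (J *ᵥ v)
  have hb : Cfsg.Geo.IsBilinearForm f := by
    refine ⟨fun x y v => add_dotProduct _ _ _, fun c x v => smul_dotProduct _ _ _,
      fun v x y => ?_, fun c v x => ?_⟩
    · simp [f, Matrix.mulVec_add, dotProduct_add]
    · simp [f, Matrix.mulVec_smul]
  have hswap : ∀ u v, f v u = - f u v := by
    intro u v
    show v ⬝ᵥ (J *ᵥ u) = -(u ⬝ᵥ (J *ᵥ v))
    rw [dotProduct_comm, ← Matrix.vecMul_transpose, ← Matrix.dotProduct_mulVec, hskew,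
      Matrix.smul_mulVec, dotProduct_smul, smul_eq_mul, neg_one_mul]
  have halt : ∀ v, f v v = 0 := by
    intro v
    show ∑ i, v i * (J *ᵥ v) i = 0
    simp only [Matrix.mulVec, dotProduct, Finset.mul_sum]
    rw [← Fintype.sum_prod_type']
    refine Finset.sum_ninvolution Prod.swap (fun p => ?_) (fun p hp hne => hp ?_) (by simp)
      (fun p => Prod.swap_swap p)
    · have hs := congrFun (congrFun hskew p.1) p.2
      rw [Matrix.transpose_apply, Matrix.smul_apply, smul_eq_mul, neg_one_mul] at hs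
      simp only [Prod.fst_swap, Prod.snd_swap, hs]
      ring
    · have h12 : p.1 = p.2 := (congrArg Prod.fst hne).symm
      rw [← h12, hdiag, zero_mul, mul_zero]
  refine ⟨f, ⟨hb, fun v w => hswap w v, halt, fun v hv => ?_⟩, fun g hg => ?_⟩
  · obtain ⟨i, hi⟩ : ∃ i, (J *ᵥ v) i ≠ 0 := by
      by_contra h
      push Not at h
      refine hv (Matrix.mulVec_injective_iff_isUnit.2 hJ (?_ : J *ᵥ v = J *ᵥ 0))
      rw [Matrix.mulVec_zero]
      exact funext h
    have h1 : f (Pi.single i 1) v ≠ 0 := by simpa [f] using hi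
    exact ⟨⟨_, h1⟩, ⟨Pi.single i 1, by rw [hswap]; exact neg_ne_zero.2 h1⟩⟩
  · obtain ⟨c, hc⟩ := hg
    refine ⟨c, fun u v => ?_⟩
    show ((g : Matrix ι ι F) *ᵥ u) ⬝ᵥ (J *ᵥ ((g : Matrix ι ι F) *ᵥ v)) = (c : F) * (u ⬝ᵥ (J *ᵥ v))
    rw [← Matrix.vecMul_transpose, ← Matrix.dotProduct_mulVec, Matrix.mulVec_mulVec,
      Matrix.mulVec_mulVec, hc, Matrix.smul_mulVec, dotProduct_smul, smul_eq_mul]

/-- Conjugation by reindexing carries similitudes to similitudes. -/
theorem frU_mem_sim {κ : Type} [Fintype κ] [DecidableEq κ] [NeZero n] (e : Fin n ≃ κ)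
    (P : GL (Fin n) F) {J : Matrix κ κ F} (hJ : IsUnit J) {g : GL κ F} {c : F}
    (hc : (g : Matrix κ κ F)ᵀ * J * (g : Matrix κ κ F) = c • J) :
    frU e P g ∈ simSubgroup (((P⁻¹ : GL (Fin n) F) : Matrix (Fin n) (Fin n) F)ᵀ * J.submatrix e e *
      ((P⁻¹ : GL (Fin n) F) : Matrix (Fin n) (Fin n) F)) := by
  let Pi' : Matrix (Fin n) (Fin n) F := ((P⁻¹ : GL (Fin n) F) : Matrix (Fin n) (Fin n) F)
  refine mem_simSubgroup ?_ (c := c) ?_
  · exact (((Matrix.isUnit_transpose _).2 (P⁻¹).isUnit).mul
      ((Matrix.isUnit_submatrix_equiv e e).2 hJ)).mul (P⁻¹).isUnit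
  rw [frU_val, frAlg_apply]
  simp only [Matrix.transpose_mul, Matrix.transpose_submatrix]
  calc _ = Pi'ᵀ * (((g : Matrix κ κ F)ᵀ.submatrix e e) * (J.submatrix e e) *
        ((g : Matrix κ κ F).submatrix e e)) * Pi' := by
          have h1 : (P : Matrix (Fin n) (Fin n) F)ᵀ * Pi'ᵀ = 1 := by
            rw [← Matrix.transpose_mul, Units.inv_mul, Matrix.transpose_one]
          have h2 : Pi' * (P : Matrix (Fin n) (Fin n) F) = 1 := Units.inv_mul P
          simp only [Pi', mul_assoc] at h1 h2 ⊢
          rw [← mul_assoc ((P : Matrix (Fin n) (Fin n) F)ᵀ), h1, one_mul,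
            ← mul_assoc ((P⁻¹ : GL (Fin n) F) : Matrix (Fin n) (Fin n) F)
              (P : Matrix (Fin n) (Fin n) F), h2, one_mul]
    _ = _ := by
          rw [Matrix.submatrix_mul_equiv, Matrix.submatrix_mul_equiv, hc, Matrix.submatrix_smul]
          simp [Pi', mul_assoc]

/-- Splittings into planes over two elements, and into two planes over three elements. -/
theorem planes_small_field [Fintype F] {t : ℕ}
    (hq : Fintype.card F = 2 ∨ (Fintype.card F = 3 ∧ t = 2))
    {H : Subgroup (GL (Fin n) F)} (hH : H ≤ Cfsg.Geo.specialLinear (Fin n) F)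
    {D : Fin t → Submodule F (Fin n → F)} (hD : Cfsg.Geo.IsMDecomposition 2 D)
    (hle : H ≤ Cfsg.Geo.decompositionStabilizer D) :
    ∃ f : (Fin n → F) → (Fin n → F) → F,
      Cfsg.Geo.IsSymplecticForm f ∧ H ≤ Cfsg.Geo.similarityGroup f := by
  classical
  have hn0 : NeZero n := by
    refine ⟨fun h => ?_⟩
    have h' := mDecomposition_mul_eq hD
    rw [Fintype.card_fin, h] at h'
    have := hD.two_le
    omega
  have hI := DirectSum.isInternal_submodule_of_iSupIndep_of_iSup_eq_top hD.indep hD.iSup_eq_top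
  let b := hI.collectedBasis fun i => Module.finBasisOfFinrankEq F (D i) (hD.finrank_eq i)
  let v : Fin 2 × Fin t → Fin n → F := fun p => b ⟨p.2, p.1⟩
  have hcard : n = 2 * t := by
    have h := mDecomposition_mul_eq hD
    rw [Fintype.card_fin] at h
    omega
  let e : Fin n ≃ Fin 2 × Fin t := Fintype.equivOfCardEq (by simp [hcard])
  let Bm : Matrix (Fin n) (Fin n) F := Matrix.of fun i j => v (e j) i
  obtain ⟨B, hB⟩ : IsUnit Bm := by
    rw [← Matrix.linearIndependent_cols_iff_isUnit]
    exact b.linearIndependent.comp (fun j => (⟨(e j).2, (e j).1⟩ : Σ _ : Fin t, Fin 2))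
      (fun i j h => e.injective (by
        simp only [Sigma.mk.inj_iff, heq_eq_eq] at h
        exact Prod.ext h.2 h.1))
  have hcol : ∀ j, (B : Matrix (Fin n) (Fin n) F) *ᵥ Pi.single j 1 = v (e j) := fun j => by
    rw [hB, Matrix.mulVec_single_one]
    funext i
    simp only [Bm, Matrix.col_apply, Matrix.of_apply]
  have hvmem : ∀ p, v p ∈ D p.2 := fun p => by
    simp only [v, b]
    exact hI.collectedBasis_mem (fun i => Module.finBasisOfFinrankEq F (D i) (hD.finrank_eq i))
      ⟨p.2, p.1⟩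
  have hvdef : ∀ p, v p = b ⟨p.2, p.1⟩ := fun p => rfl
  clear_value v
  let J : Matrix (Fin 2 × Fin t) (Fin 2 × Fin t) F := Matrix.blockDiagonal fun _ => omega2 F
  have hJ : IsUnit J := by
    rw [Matrix.isUnit_iff_isUnit_det, Matrix.det_blockDiagonal]
    simp [omega2, Matrix.det_fin_two]
  have hJT : Jᵀ = (-1 : F) • J := by
    simp only [J, Matrix.blockDiagonal_transpose, omega2_transpose, ← Matrix.blockDiagonal_smul]
    rfl
  let Ji : Matrix (Fin n) (Fin n) F := ((B⁻¹ : GL (Fin n) F) : Matrix (Fin n) (Fin n) F)ᵀ *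
    J.submatrix e e * ((B⁻¹ : GL (Fin n) F) : Matrix (Fin n) (Fin n) F)
  obtain ⟨f, hf, hsim⟩ := symplectic_of_matrix (J := Ji)
    ((((Matrix.isUnit_transpose _).2 (B⁻¹).isUnit).mul
      ((Matrix.isUnit_submatrix_equiv e e).2 hJ)).mul (B⁻¹).isUnit)
    (by
      simp only [Ji, Matrix.transpose_mul, Matrix.transpose_transpose, Matrix.transpose_submatrix,
        hJT, mul_assoc]
      rw [← Matrix.mul_smul, ← Matrix.smul_mul, Matrix.submatrix_smul]
      rfl)
    (by
      intro i
      let w : Fin 2 × Fin t → F := fun x =>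
        ((B⁻¹ : GL (Fin n) F) : Matrix (Fin n) (Fin n) F) (e.symm x) i
      have hq : Ji i i = ∑ x, ∑ y, w x * J x y * w y := by
        simp only [Ji, Matrix.mul_apply, Matrix.transpose_apply, Matrix.submatrix_apply,
          Finset.sum_mul, w]
        rw [Finset.sum_comm, ← e.symm.sum_comp]
        refine Finset.sum_congr rfl fun x _ => ?_
        rw [← e.symm.sum_comp]
        simp
      rw [hq, ← Fintype.sum_prod_type']
      refine Finset.sum_ninvolution Prod.swap (fun p => ?_) (fun p hp hne => hp ?_) (by simp)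
        (fun p => Prod.swap_swap p)
      · have hs := congrFun (congrFun hJT p.1) p.2
        rw [Matrix.transpose_apply, Matrix.smul_apply, smul_eq_mul, neg_one_mul] at hs
        simp only [Prod.fst_swap, Prod.snd_swap, hs]
        ring
      · have h12 : p.1 = p.2 := (congrArg Prod.fst hne).symm
        have h0 : J p.1 p.1 = 0 := by
          obtain ⟨⟨a, k⟩, -⟩ := p
          fin_cases a <;> simp [J, omega2]
        rw [← h12, h0, mul_zero, zero_mul])
  refine ⟨f, hf, fun g hg => hsim ?_⟩
  obtain ⟨g', rfl⟩ := (frU e B).surjective g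
  obtain ⟨σ, hσ⟩ := hle hg
  let A : Fin t → Matrix (Fin 2) (Fin 2) F := fun i =>
    Matrix.of fun a b => (g' : Matrix (Fin 2 × Fin t) (Fin 2 × Fin t) F) (a, σ i) (b, i)
  have hzero : ∀ a b k i, k ≠ σ i →
      (g' : Matrix (Fin 2 × Fin t) (Fin 2 × Fin t) F) (a, k) (b, i) = 0 := by
    intro a c k i hki
    have hgv : ((frU e B g' : GL (Fin n) F) : Matrix (Fin n) (Fin n) F) *ᵥ v (c, i) ∈ D (σ i) := by
      rw [← hσ i]; exact ⟨_, hvmem (c, i), Matrix.toLin'_apply _ _⟩
    have hexp : ((frU e B g' : GL (Fin n) F) : Matrix (Fin n) (Fin n) F) *ᵥ v (c, i) =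
        ∑ p : Fin 2 × Fin t, (g' : Matrix (Fin 2 × Fin t) (Fin 2 × Fin t) F) p (c, i) •
          b ⟨p.2, p.1⟩ := by
      have h1 : v (c, i) = (B : Matrix (Fin n) (Fin n) F) *ᵥ Pi.single (e.symm (c, i)) 1 := by
        rw [hcol, Equiv.apply_symm_apply]
      rw [h1, frU_val, frAlg_apply, ← Matrix.mulVec_mulVec, inv_mulVec_cancel,
        ← Matrix.mulVec_mulVec, Matrix.mulVec_single_one]
      conv_lhs => rw [pi_eq_sum_univ' (Matrix.col _ _)]
      rw [Matrix.mulVec_sum, ← e.symm.sum_comp]
      refine Finset.sum_congr rfl fun p _ => ?_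
      rw [Matrix.mulVec_smul, hcol, Equiv.apply_symm_apply]
      simp [hvdef]
    rw [hexp] at hgv
    have hrep := hI.collectedBasis_repr_of_mem_ne
      (fun i => Module.finBasisOfFinrankEq F (D i) (hD.finrank_eq i)) (Ne.symm hki) (a := a) hgv
    rw [map_sum, Finsupp.coe_finsetSum, Finset.sum_apply, Finset.sum_eq_single (a, k)] at hrep
    · simp only [b] at hrep
      rw [map_smul, Finsupp.smul_apply, Basis.repr_self, Finsupp.single_eq_same, smul_eq_mul,
        mul_one] at hrep
      exact hrep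
    · rintro ⟨a', k'⟩ _ hne
      have : (⟨k', a'⟩ : Σ _ : Fin t, Fin 2) ≠ ⟨k, a⟩ := by
        intro h
        simp only [Sigma.mk.inj_iff, heq_eq_eq] at h
        exact hne (Prod.ext h.2 h.1)
      simp only [b]
      rw [map_smul, Finsupp.smul_apply, Basis.repr_self, Finsupp.single_eq_of_ne this.symm, smul_zero]
    · simp
  let Pm : Matrix (Fin 2 × Fin t) (Fin 2 × Fin t) F :=
    ((Equiv.prodCongr (Equiv.refl (Fin 2)) σ.symm).toPEquiv.toMatrix)
  have hg' : (g' : Matrix (Fin 2 × Fin t) (Fin 2 × Fin t) F) =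
      Pm * Matrix.blockDiagonal A := by
    ext ⟨a, k⟩ ⟨c, i⟩
    rw [PEquiv.toMatrix_toPEquiv_mul, Matrix.submatrix_apply]
    by_cases hki : k = σ i
    · subst hki; simp [A]
    · rw [hzero a c k i hki]
      have : σ.symm k ≠ i := fun h => hki (by simp [← h])
      simp [Matrix.blockDiagonal_apply, this]
  obtain ⟨d, hd⟩ : ∃ d : F, ∀ i, (A i).det = d := by
    have hdet : (g' : Matrix (Fin 2 × Fin t) (Fin 2 × Fin t) F).det = 1 := by
      have h1 := det_eq_one_of_mem (hH hg)
      rwa [frU_val, frAlg_apply, Matrix.det_units_conj, Matrix.det_submatrix_equiv_self] at h1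
    have hne : ∀ i, (A i).det ≠ 0 := by
      intro i h0
      rw [hg', Matrix.det_mul, Matrix.det_blockDiagonal,
        Finset.prod_eq_zero (Finset.mem_univ i) h0, mul_zero] at hdet
      exact zero_ne_one hdet
    rcases hq with hq | ⟨hq, rfl⟩
    · exact ⟨1, fun i => eq_one_of_card_two hq (hne i)⟩
    · refine ⟨(A 0).det, Fin.forall_fin_two.2 ⟨rfl, ?_⟩⟩
      have hsign : Pm.det = 1 := by
        show (Equiv.toPEquiv _).toMatrix.det = 1
        rw [Matrix.det_permutation]
        rcases (by decide : ∀ s : Equiv.Perm (Fin 2),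
          Equiv.Perm.sign (Equiv.prodCongr (Equiv.refl (Fin 2)) s) = 1) σ.symm with h
        rw [h]; simp
      rw [hg', Matrix.det_mul, hsign, one_mul, Matrix.det_blockDiagonal, Fin.prod_univ_two] at hdet
      have hsq : (A 0).det * (A 0).det = 1 := by
        have h := FiniteField.pow_card_sub_one_eq_one _ (hne 0)
        rw [hq] at h
        simpa [sq] using h
      calc (A 1).det = (A 0).det * (A 0).det * (A 1).det := by rw [hsq, one_mul]
        _ = _ := by rw [mul_assoc, hdet, mul_one]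
  refine frU_mem_sim e B hJ (c := d) ?_
  rw [hg', Matrix.transpose_mul]
  calc (Matrix.blockDiagonal A)ᵀ * Pmᵀ * J * (Pm * Matrix.blockDiagonal A)
      = (Matrix.blockDiagonal A)ᵀ * (Pmᵀ * J * Pm) * Matrix.blockDiagonal A := by
        simp only [mul_assoc]
    _ = (Matrix.blockDiagonal A)ᵀ * J * Matrix.blockDiagonal A := by
        have hPm : Pmᵀ * J * Pm = J := by
          simp only [Pm, ← PEquiv.toMatrix_symm, ← Equiv.toPEquiv_symm,
            PEquiv.toMatrix_toPEquiv_mul, PEquiv.mul_toMatrix_toPEquiv]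
          ext ⟨a, k⟩ ⟨c, i⟩
          simp [J, Matrix.blockDiagonal_apply]
        rw [hPm]
    _ = d • J := by
        simp only [J, Matrix.blockDiagonal_transpose, ← Matrix.blockDiagonal_mul, omega2_sim, hd]
        rw [← Matrix.blockDiagonal_smul]
        rfl

/-- `GL_2(2) ⊗ GL_m(2)` normalises a field of four elements, generated by `w ⊗ 1`. -/
theorem tensor_two_small_field_span [Fintype F] (hq : Fintype.card F = 2) {m : ℕ} [NeZero m]
    (e : Fin n ≃ Fin 2 × Fin m) (P : GL (Fin n) F) :
    ∃ K : Subalgebra F (Matrix (Fin n) (Fin n) F), Cfsg.Geo.IsFieldSubalgebra 2 K ∧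
      Cfsg.Geo.tensorProductSubgroup 2 m e P ≤ Cfsg.Geo.subalgebraNormalizer K ∧
      ∀ g : GL (Fin n) F, Commute (g : Matrix (Fin n) (Fin n) F)
        (frAlg e P ((!![0, 1; 1, 1] : Matrix (Fin 2) (Fin 2) F) ⊗ₖ (1 : Matrix (Fin m) (Fin m) F))) →
        g ∈ Cfsg.Geo.subalgebraNormalizer K := by
  classical
  have : Fact (Nat.Prime 2) := ⟨Nat.prime_two⟩
  have : CharP F 2 := charP_of_card_eq_prime_pow (p := 2) (f := 1) (by rw [hq]; norm_num)
  let w : Matrix (Fin 2) (Fin 2) F := !![0, 1; 1, 1]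
  have hw2 : w * w = w + 1 := by
    ext i j
    fin_cases i <;> fin_cases j <;>
      simp [w, Matrix.mul_apply, Fin.sum_univ_two, CharTwo.add_self_eq_zero]
  have h01 : ∀ a : F, a = 0 ∨ a = 1 := fun a => (em (a = 0)).imp id (eq_one_of_card_two hq)
  let W : Matrix (Fin n) (Fin n) F := frAlg e P (w ⊗ₖ (1 : Matrix (Fin m) (Fin m) F))
  have hW2 : W * W = W + 1 := by
    simp only [W]
    rw [← map_one (frAlg e P), ← map_mul, ← Matrix.mul_kronecker_mul, mul_one, hw2, ← map_add,
      Matrix.add_kronecker, Matrix.one_kronecker_one]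
  let K : Subalgebra F (Matrix (Fin n) (Fin n) F) :=
    (Submodule.span F (Set.range ![1, W])).toSubalgebra (Submodule.subset_span ⟨0, rfl⟩)
      (fun x y hx hy => by
        obtain ⟨c, rfl⟩ := (Submodule.mem_span_range_iff_exists_fun F).1 hx
        obtain ⟨d, rfl⟩ := (Submodule.mem_span_range_iff_exists_fun F).1 hy
        refine (Submodule.mem_span_range_iff_exists_fun F).2
          ⟨![c 0 * d 0 + c 1 * d 1, c 0 * d 1 + c 1 * d 0 + c 1 * d 1], ?_⟩
        simp only [Fin.sum_univ_two, Matrix.cons_val_zero, Matrix.cons_val_one]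
        simp only [add_mul, mul_add, smul_mul_smul_comm, one_mul, mul_one, hW2]
        module)
  have hmemK : ∀ {x}, x ∈ K ↔ ∃ a b : F, a • (1 : Matrix (Fin n) (Fin n) F) + b • W = x := by
    intro x
    show x ∈ Submodule.span F _ ↔ _
    rw [Submodule.mem_span_range_iff_exists_fun]
    constructor
    · rintro ⟨c, rfl⟩; exact ⟨c 0, c 1, by simp [Fin.sum_univ_two]⟩
    · rintro ⟨a, b, rfl⟩; exact ⟨![a, b], by simp [Fin.sum_univ_two]⟩
  have hli : ∀ a b : F, a • (1 : Matrix (Fin n) (Fin n) F) + b • W = 0 → a = 0 ∧ b = 0 := by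
    intro a b h
    have h1 : a • (1 : Matrix (Fin 2) (Fin 2) F) + b • w = 0 := by
      refine kron_one_injective (b := m) ((frAlg e P).injective ?_)
      rw [Matrix.zero_kronecker, map_zero, Matrix.add_kronecker, Matrix.smul_kronecker,
        Matrix.smul_kronecker, Matrix.one_kronecker_one, map_add, map_smul, map_smul, map_one]
      exact h
    have ha := congrFun (congrFun h1 0) 0
    have hb := congrFun (congrFun h1 0) 1
    simp [w] at ha hb
    exact ⟨ha, hb⟩
  refine ⟨K, ⟨?_, ?_, ?_⟩, ?_, ?_⟩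
  · intro x hx y hy
    obtain ⟨a, b, rfl⟩ := hmemK.1 hx
    obtain ⟨c, d, rfl⟩ := hmemK.1 hy
    simp only [add_mul, mul_add, smul_mul_smul_comm, one_mul, mul_one]
    module
  · intro x hx hx0
    obtain ⟨a, b, rfl⟩ := hmemK.1 hx
    refine ⟨_, hmemK.2 ⟨a + b, b, rfl⟩, ?_⟩
    simp only [add_mul, mul_add, smul_mul_smul_comm, one_mul, mul_one, hW2]
    rcases h01 a with rfl | rfl <;> rcases h01 b with rfl | rfl
    · simp at hx0
    · have h2 : W + W = 0 := by rw [← two_smul F W, CharTwo.two_eq_zero, zero_smul]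
      simp only [zero_smul, zero_add, add_zero, zero_mul, mul_zero, one_mul, mul_one, one_smul]
      rw [← add_assoc, h2, zero_add]
    · simp
    · have h2 : W + W = 0 := by rw [← two_smul F W, CharTwo.two_eq_zero, zero_smul]
      simp only [CharTwo.add_self_eq_zero, zero_smul, zero_add, one_mul, mul_one, zero_mul,
        one_smul]
      rw [← add_assoc, h2, zero_add]
  · rw [← Subalgebra.finrank_toSubmodule, Submodule.toSubalgebra_toSubmodule,
      finrank_span_eq_card ((LinearIndependent.pair_iff (R := F)).2 hli)]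
    simp
  · intro g hg
    rw [Cfsg.Geo.tensorProductSubgroup, map_glReindex_conj] at hg
    have key : ∀ g ∈ (Cfsg.Geo.kroneckerSubgroup 2 m F).map (frU e P).toMonoidHom, ∀ k ∈ K,
        (g : Matrix (Fin n) (Fin n) F) * k * ((g⁻¹ : GL (Fin n) F) : Matrix (Fin n) (Fin n) F)
          ∈ K := by
      rintro _ ⟨g', ⟨A, B, hAB⟩, rfl⟩ k hk
      obtain ⟨a, b, rfl⟩ := hmemK.1 hk
      obtain ⟨c, hc⟩ : ∃ c : F, (A : Matrix (Fin 2) (Fin 2) F) * w =
          (c • (1 : Matrix (Fin 2) (Fin 2) F) + w) * A := by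
        have hdet : (A : Matrix (Fin 2) (Fin 2) F) 0 0 * (A : Matrix (Fin 2) (Fin 2) F) 1 1 -
            (A : Matrix (Fin 2) (Fin 2) F) 0 1 * (A : Matrix (Fin 2) (Fin 2) F) 1 0 ≠ 0 := by
          rw [← Matrix.det_fin_two]; exact A.det_ne_zero
        rw [Matrix.eta_fin_two (A : Matrix (Fin 2) (Fin 2) F)]
        rcases h01 ((A : Matrix (Fin 2) (Fin 2) F) 0 0) with ha | ha <;>
        rcases h01 ((A : Matrix (Fin 2) (Fin 2) F) 0 1) with hb | hb <;>
        rcases h01 ((A : Matrix (Fin 2) (Fin 2) F) 1 0) with hc | hc <;>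
        rcases h01 ((A : Matrix (Fin 2) (Fin 2) F) 1 1) with hd | hd <;>
        simp only [ha, hb, hc, hd] at hdet ⊢ <;>
        first
        | (simp [CharTwo.add_self_eq_zero] at hdet; done)
        | (refine ⟨0, ?_⟩; ext i j; fin_cases i <;> fin_cases j <;>
            simp [w, Matrix.mul_apply, Fin.sum_univ_two, CharTwo.add_self_eq_zero]; done)
        | (refine ⟨1, ?_⟩; ext i j; fin_cases i <;> fin_cases j <;>
            simp [w, Matrix.mul_apply, Fin.sum_univ_two, CharTwo.add_self_eq_zero]; done)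
      have hgW : ((frU e P g' : GL (Fin n) F) : Matrix (Fin n) (Fin n) F) * W =
          (c • (1 : Matrix (Fin n) (Fin n) F) + W) *
            ((frU e P g' : GL (Fin n) F) : Matrix (Fin n) (Fin n) F) := by
        rw [frU_val, hAB]
        simp only [W]
        rw [← map_one (frAlg e P), ← map_smul, ← map_add, ← map_mul, ← map_mul]
        congr 1
        rw [← Matrix.one_kronecker_one, ← Matrix.smul_kronecker, ← Matrix.add_kronecker,
          ← Matrix.mul_kronecker_mul, ← Matrix.mul_kronecker_mul, hc, mul_one, one_mul]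
      refine hmemK.2 ⟨a + b * c, b, ?_⟩
      simp only [MulEquiv.coe_toMonoidHom]
      rw [mul_add, Matrix.mul_smul, mul_one, Matrix.mul_smul, hgW, add_mul, Matrix.smul_mul,
        Units.mul_inv, Matrix.smul_mul, mul_assoc, Units.mul_inv, mul_one]
      module
    intro k
    refine ⟨key g hg k, fun h => ?_⟩
    have := key g⁻¹ (Subgroup.inv_mem _ hg) _ h
    simpa [mul_assoc] using this

  · intro g hg k
    have hcomm : ∀ x ∈ K, (g : Matrix (Fin n) (Fin n) F) * x = x * (g : Matrix (Fin n) (Fin n) F) := by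
      intro x hx
      obtain ⟨a, b, rfl⟩ := hmemK.1 hx
      rw [mul_add, add_mul, Matrix.mul_smul, Matrix.mul_smul, mul_one, Matrix.smul_mul,
        Matrix.smul_mul, one_mul, show (g : Matrix (Fin n) (Fin n) F) * W = W * _ from hg.eq]
    constructor
    · intro hk
      rwa [hcomm k hk, mul_assoc, Units.mul_inv, mul_one]
    · intro hk
      have h := hcomm _ hk
      have h2 : (g : Matrix (Fin n) (Fin n) F) * k * ((g⁻¹ : GL (Fin n) F) : Matrix (Fin n) (Fin n) F) = k := by
        have h3 := congrArg (fun X => ((g⁻¹ : GL (Fin n) F) : Matrix (Fin n) (Fin n) F) * X) h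
        simpa [mul_assoc] using h3
      rwa [h2] at hk

/-- `GL_2(2) ⊗ GL_m(2)` normalises a field of four elements. -/
theorem tensor_two_small_field [Fintype F] (hq : Fintype.card F = 2) {m : ℕ} [NeZero m]
    (e : Fin n ≃ Fin 2 × Fin m) (P : GL (Fin n) F) :
    ∃ K : Subalgebra F (Matrix (Fin n) (Fin n) F), Cfsg.Geo.IsFieldSubalgebra 2 K ∧
      Cfsg.Geo.tensorProductSubgroup 2 m e P ≤ Cfsg.Geo.subalgebraNormalizer K := by
  obtain ⟨K, h1, h2, -⟩ := tensor_two_small_field_span hq e P
  exact ⟨K, h1, h2⟩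

end CfsgLib.Aschbacher
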