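import Cfsg.Agent.Lib.Aschbacher.General
import Cfsg.Agent.Lib.Aschbacher.ProperGeneral
import Cfsg.Agent.Lib.Aschbacher.SmallFieldsGeneral
import Cfsg.Agent.Lib.Aschbacher.MaximalPrime

/-!
The shape of the maximal subgroups of `SL_n` over a finite field, `n ≥ 4`.
-/

set_option autoImplicit false

namespace CfsgLib.Aschbacher

open Matrix Module

variable {F : Type*} [Field F] [Fintype F] {n : ℕ}

open Cfsg.Geo in
/-- The possible shapes of a maximal subgroup of `SL_n`. -/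
def LinearMaxShape (H : Subgroup (GL (Fin n) F)) : Prop :=
  (∃ W : Submodule F (Fin n → F), W ≠ ⊥ ∧ W ≠ ⊤ ∧
      H = subspaceStabilizer W ⊓ specialLinear (Fin n) F) ∨
  (∃ (t m : ℕ) (D : Fin t → Submodule F (Fin n → F)), IsMDecomposition m D ∧ t * m = n ∧
      (m = 1 → 5 ≤ Fintype.card F) ∧ (m = 2 → 3 ≤ Fintype.card F ∧ (t = 2 → 4 ≤ Fintype.card F)) ∧
      H = decompositionStabilizer D ⊓ specialLinear (Fin n) F) ∨
  (∃ (r : ℕ) (K : Subalgebra F (Matrix (Fin n) (Fin n) F)), r.Prime ∧ r ∣ n ∧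
      IsFieldSubalgebra r K ∧ H = subalgebraNormalizer K ⊓ specialLinear (Fin n) F) ∨
  (∃ (a b : ℕ) (e : Fin n ≃ Fin a × Fin b) (P : GL (Fin n) F), 2 ≤ a ∧ a < b ∧ n = a * b ∧
      (a = 2 → 3 ≤ Fintype.card F) ∧
      H = tensorProductSubgroup a b e P ⊓ specialLinear (Fin n) F) ∨
  (∃ (F₀ : Subfield F) (r : ℕ) (P : GL (Fin n) F), r.Prime ∧
      Fintype.card F = Nat.card F₀ ^ r ∧ H = subfieldSubgroup F₀ P ⊓ specialLinear (Fin n) F) ∨
  (∃ (r : ℕ) (R : Subgroup (GL (Fin n) F)), r.Prime ∧ (∃ m, n = r ^ m) ∧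
      IsLinearSymplecticTypeData r R ∧ H = subgroupNormalizer R ⊓ specialLinear (Fin n) F) ∨
  (∃ (m t : ℕ) (e : Fin n ≃ (Fin t → Fin m)) (P : GL (Fin n) F), 3 ≤ m ∧ 2 ≤ t ∧ n = m ^ t ∧
      H = tensorWreathSubgroup m t e P ⊓ specialLinear (Fin n) F) ∨
  (Odd (Fintype.card F) ∧ ∃ Q : (Fin n → F) → F, IsNondegenerateQuadraticForm Q ∧
      H = quadSimilarityGroup Q ⊓ specialLinear (Fin n) F) ∨
  (∃ f : (Fin n → F) → (Fin n → F) → F, IsSymplecticForm f ∧ Even n ∧
      H = similarityGroup f ⊓ specialLinear (Fin n) F) ∨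
  (∃ (σ : F ≃+* F) (f : (Fin n → F) → (Fin n → F) → F), IsUnitaryForm σ f ∧
      H = similarityGroup f ⊓ specialLinear (Fin n) F) ∨
  InLinearResidualClass H

theorem maximal_linear (hn : 4 ≤ n) {H : Subgroup (GL (Fin n) F)}
    (hH : Cfsg.Geo.IsMaximalIn (Cfsg.Geo.specialLinear (Fin n) F) H) : LinearMaxShape H := by
  have : Nonempty (Fin n) := ⟨⟨0, by omega⟩⟩
  have hι : 3 ≤ Fintype.card (Fin n) := by rw [Fintype.card_fin]; omega
  have hsub : ∀ W : Submodule F (Fin n → F), W ≠ ⊥ → W ≠ ⊤ →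
      H ≤ Cfsg.Geo.subspaceStabilizer W → LinearMaxShape H := fun W h0 h1 hle =>
    Or.inl ⟨W, h0, h1, eq_inf_of_maximal hH hle (not_le_subspaceStabilizer h0 h1)⟩
  have hquad : ∀ Q : (Fin n → F) → F, Cfsg.Geo.IsNondegenerateQuadraticForm Q →
      Odd (Fintype.card F) → H ≤ Cfsg.Geo.quadSimilarityGroup Q → LinearMaxShape H := by
    intro Q hQ hq hle
    iterate 7 right
    left
    exact ⟨hq, Q, hQ, eq_inf_of_maximal hH hle (not_le_quadSimilarityGroup hQ hι)⟩
  have hsymp : ∀ f : (Fin n → F) → (Fin n → F) → F, Cfsg.Geo.IsSymplecticForm f →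
      Even n → H ≤ Cfsg.Geo.similarityGroup f → LinearMaxShape H := by
    intro f hf hev hle
    iterate 8 right
    left
    exact ⟨f, hf, hev, eq_inf_of_maximal hH hle
      (not_le_similarityGroup (isSesq_of_bilinear hf.bilinear) hf.nondegenerate hι)⟩
  have hunit : ∀ (σ : F ≃+* F) (f : (Fin n → F) → (Fin n → F) → F),
      Cfsg.Geo.IsUnitaryForm σ f → H ≤ Cfsg.Geo.similarityGroup f → LinearMaxShape H := by
    intro σ f hf hle
    iterate 9 right
    left
    exact ⟨σ, f, hf, eq_inf_of_maximal hH hle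
      (not_le_similarityGroup (isSesq_of_unitary hf) hf.nondegenerate hι)⟩
  have hfield : ∀ (r : ℕ) (K : Subalgebra F (Matrix (Fin n) (Fin n) F)), r.Prime →
      Cfsg.Geo.IsFieldSubalgebra r K → H ≤ Cfsg.Geo.subalgebraNormalizer K → LinearMaxShape H := by
    intro r K hr hK hle
    iterate 2 right
    left
    exact ⟨r, K, hr, by simpa using fieldSubalgebra_dvd hK, hK,
      eq_inf_of_maximal hH hle (not_le_subalgebraNormalizer hK hr.one_lt hι)⟩
  rcases linear_aschbacher (by omega) H with ⟨M, hM, hle⟩ | hres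
  swap
  · iterate 10 right
    exact hres
  rcases hM with ⟨W, h0, h1, rfl⟩ | ⟨W, U, h0, hlt, -, rfl⟩ | ⟨W, U, h0, -, -, hfr, rfl⟩ |
    ⟨t, m, D, hD, rfl⟩ | ⟨r, K, hr, hK, rfl⟩ | ⟨a, b, e, P, ha, hab, rfl⟩ |
    ⟨F₀, r, P, hr, hc, rfl⟩ | ⟨r, R, hR, hm, rfl⟩ | ⟨m, t, e, P, hm, ht, rfl⟩ |
    ⟨f, hf, hev, -, rfl⟩ | ⟨σ, f, hf, -, rfl⟩ | ⟨Q, hQ, hq, -, rfl⟩
  · exact hsub W h0 h1 hle
  · exact hsub W h0 (fun h => not_top_lt (h ▸ hlt)) (hle.trans inf_le_left)
  · refine hsub W h0 (fun h => ?_) (hle.trans inf_le_left)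
    have h1 := Submodule.finrank_le U
    rw [h, finrank_top] at hfr
    omega
  · have hprod := mDecomposition_mul_eq hD
    rw [Fintype.card_fin] at hprod
    by_cases hm1 : m = 1 ∧ Fintype.card F < 5
    · obtain ⟨rfl, hq⟩ := hm1
      obtain rfl : t = n := by omega
      rcases frame_small_field' (by omega) hq hD hle with
        ⟨W, h0, h1, h⟩ | ⟨hodd, Q, hQ, h⟩ | ⟨σ, f, hf, h⟩
      · exact hsub W h0 h1 h
      · exact hquad Q hQ hodd h
      · exact hunit σ f hf h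
    by_cases hm2 : m = 2 ∧ (Fintype.card F = 2 ∨ (Fintype.card F = 3 ∧ t = 2))
    · obtain ⟨rfl, hq⟩ := hm2
      obtain ⟨f, hf, h⟩ := planes_small_field hq hH.1.le hD hle
      exact hsymp f hf ⟨t, by omega⟩ h
    have := Fintype.one_lt_card (α := F)
    right; left
    refine ⟨t, m, D, hD, hprod, fun h => ?_, fun h => ⟨?_, fun h' => ?_⟩,
      eq_inf_of_maximal hH hle (not_le_decompositionStabilizer' hD)⟩
    all_goals omega
  · exact hfield r K hr hK hle
  · have hprod : n = a * b := by simpa using Fintype.card_congr e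
    by_cases h2 : a = 2 ∧ Fintype.card F = 2
    · obtain ⟨rfl, hq⟩ := h2
      have : NeZero b := ⟨by omega⟩
      obtain ⟨K, hK, h⟩ := tensor_two_small_field hq e P
      exact hfield 2 K Nat.prime_two hK (hle.trans h)
    have := Fintype.one_lt_card (α := F)
    iterate 3 right
    left
    exact ⟨a, b, e, P, ha, hab, hprod, fun h => by omega,
      eq_inf_of_maximal hH hle (not_le_tensorProductSubgroup ha (by omega) e P)⟩
  · iterate 4 right
    left
    exact ⟨F₀, r, P, hr, hc,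
      eq_inf_of_maximal hH hle (not_le_subfieldSubgroup hr hc P (by omega))⟩
  · iterate 5 right
    left
    obtain ⟨p, e, hrp, ⟨hp, hchar, -⟩, -⟩ := hR.field
    have hr := hR.symplecticType.prime
    exact ⟨r, R, hr, hm, hR, eq_inf_of_maximal hH hle
      (not_le_normalizer_pGroup (p := p) hn hp hr hrp hR.symplecticType.pGroup hR.absIrred.1)⟩
  · iterate 6 right
    left
    exact ⟨m, t, e, P, hm, ht, by simpa using Fintype.card_congr e,
      eq_inf_of_maximal hH hle (not_le_tensorWreathSubgroup (by omega) ht e P)⟩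
  · exact hsymp f hf hev hle
  · exact hunit σ f hf hle
  · exact hquad Q hQ hq hle

end CfsgLib.Aschbacher

namespace CfsgLib.Aschbacher

open Matrix Module

variable {F : Type*} [Field F] [Fintype F] {n : ℕ}

lemma symplectic_data_two {R : Subgroup (GL (Fin n) F)} (hn : 4 ≤ n)
    (hR : Cfsg.Geo.IsLinearSymplecticTypeData 2 R) :
    ∃ p : ℕ, p.Prime ∧ Fintype.card F = p ∧ p % 4 = 1 := by
  obtain ⟨p, e, -, ⟨hp, -, hF, hz, -⟩, h⟩ := hR.field
  rcases h with ⟨hodd, -⟩ | ⟨-, rfl, hc, -⟩ | ⟨-, -, hι, -⟩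
  · exact absurd hodd (by decide)
  · refine ⟨p, hp, by simpa using hF, ?_⟩
    rw [hc, pow_one] at hz
    have := hp.two_le
    omega
  · rw [Fintype.card_fin] at hι
    omega

lemma symplectic_data_three {R : Subgroup (GL (Fin n) F)}
    (hR : Cfsg.Geo.IsLinearSymplecticTypeData 3 R) :
    ∃ p : ℕ, p.Prime ∧ Fintype.card F = p ∧ p % 3 = 1 := by
  obtain ⟨p, e, hrp, ⟨hp, -, hF, hz, hmin⟩, h⟩ := hR.field
  rcases h with ⟨-, he, hc, -⟩ | ⟨h, -⟩ | ⟨h, -⟩
  · rw [hc] at hz hmin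
    have hp3 : p % 3 ≠ 0 := fun h0 =>
      hrp ((Nat.prime_dvd_prime_iff_eq Nat.prime_three hp).1 (Nat.dvd_of_mod_eq_zero h0))
    have h2 : 3 ∣ p ^ 2 - 1 := by
      have hm : p ^ 2 % 3 = 1 := by
        rcases (by omega : p % 3 = 1 ∨ p % 3 = 2) with h | h <;> rw [Nat.pow_mod, h]
      omega
    have he1 : e = 1 := by
      obtain ⟨k, rfl⟩ := he
      rcases k.eq_zero_or_pos with rfl | hk
      · rfl
      · exact absurd h2 (hmin 2 two_pos (by omega))
    subst he1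
    refine ⟨p, hp, by simpa using hF, ?_⟩
    rw [pow_one] at hz
    have := hp.two_le
    omega
  all_goals exact absurd h (by decide)

end CfsgLib.Aschbacher
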