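import Cfsg.Agent.Lib.Aschbacher.SympTensor
import Cfsg.Agent.Lib.Aschbacher.Factors
import Cfsg.Agent.Lib.CharTheory.Burnside

/-!
Isometries of a reflexive bilinear form permuting commuting full matrix algebras: the form is a
tensor power, and in the symplectic case this gives class seven or, in characteristic two, a
quadratic form.
-/

set_option autoImplicit false

namespace CfsgLib.Aschbacher

open Matrix Module

variable {F : Type*} [Field F] {ι : Type} [Fintype ι] [DecidableEq ι]

/-- The frame of a generating family of commuting full matrix algebras. -/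
theorem exists_frame_of_family [Nonempty ι] {t m : ℕ} (ht : 0 < t) (hm : 0 < m)
    {E : Fin t → Fin m → Fin m → Matrix ι ι F} (hE : ∀ i, IsUnits (E i))
    (hc : ∀ i j, i ≠ j → ∀ k l k' l', Commute (E i k l) (E j k' l'))
    (hscalar : ∀ M : Matrix ι ι F, (∀ i k l, Commute M (E i k l)) →
      ∃ c : F, M = c • (1 : Matrix ι ι F)) :
    ∃ (e : ι ≃ (Fin t → Fin m)) (P : GL ι F),
      (∀ i k l, E i k l = frAlg e P (factor i (Matrix.single k l (1 : F)))) ∧
      ∀ (g : GL ι F) (σ : Equiv.Perm (Fin t)),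
        (∀ i k l, (g : Matrix ι ι F) * E i k l * ((g⁻¹ : GL ι F) : Matrix ι ι F) ∈
          Submodule.span F (Set.range fun p : Fin m × Fin m => E (σ i) p.1 p.2)) →
        ∃ A : Fin t → GL (Fin m) F, g = frU e P (pureGL A * permGL m F σ) := by
  classical
  have : NeZero m := ⟨hm.ne'⟩
  have : NeZero t := ⟨ht.ne'⟩
  obtain ⟨b, hb, hcard, hfr⟩ := (isUnits_prodUnits hc hE).exists_frame
  have hb1 : b = 1 := by
    by_contra hne
    let e : ι ≃ (Fin t → Fin m) × Fin b := Fintype.equivOfCardEq
      (by rw [hcard, Fintype.card_prod, Fintype.card_fin b])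
    obtain ⟨P, hP⟩ := hfr e
    let j0 : Fin b := ⟨0, hb⟩
    let j1 : Fin b := ⟨1, by omega⟩
    let D : Matrix ((Fin t → Fin m) × Fin b) ((Fin t → Fin m) × Fin b) F :=
      Matrix.kroneckerMap (· * ·) (1 : Matrix (Fin t → Fin m) (Fin t → Fin m) F) (Matrix.single j0 j0 1)
    obtain ⟨c, hcD⟩ := hscalar (frAlg e P D) fun i k l => by
      rw [eq_sum_prodUnits hc hE i k l]
      refine Commute.sum_right _ _ _ fun x _ => ?_
      rw [hP]
      refine Commute.map ?_ (frAlg e P)
      show D * _ = _ * D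
      simp only [D, ← Matrix.mul_kronecker_mul, one_mul, mul_one]
    have hD : D = c • 1 := (frAlg e P).injective (by rw [hcD, map_smul, map_one])
    have h0 := congrFun (congrFun hD (0, j0)) (0, j0)
    have h1 := congrFun (congrFun hD (0, j1)) (0, j1)
    have hj : j0 ≠ j1 := fun h => by simp [j0, j1, Fin.ext_iff] at h
    simp [D, hj] at h0 h1
    exact one_ne_zero (h0.trans h1.symm)
  subst hb1
  rw [mul_one] at hcard
  let e : ι ≃ (Fin t → Fin m) := Fintype.equivOfCardEq (by simp [← hcard])
  obtain ⟨P, hP⟩ := hfr (e.trans (Equiv.prodUnique _ (Fin 1)).symm)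
  have hP' : ∀ y z, prodUnits hc y z = frAlg e P (Matrix.single y z (1 : F)) := by
    intro y z
    rw [hP, frAlg_apply, frAlg_apply]
    congr 2
    ext a c
    simp
  have hEfac : ∀ i k l, E i k l = frAlg e P (factor i (Matrix.single k l (1 : F))) := by
    intro i k l
    rw [eq_sum_prodUnits hc hE, factor_single, map_sum]
    exact Finset.sum_congr rfl fun x _ => hP' _ _
  refine ⟨e, P, hEfac, fun g σ hσ => ?_⟩
  obtain ⟨A, hA⟩ := exists_pure_mul_perm_of_permuting (g := (frU e P).symm g) (σ := σ)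
    fun i k l => by
      obtain ⟨c, hcoef⟩ := (Submodule.mem_span_range_iff_exists_fun F).1 (hσ i k l)
      refine ⟨∑ p : Fin m × Fin m, c p • Matrix.single p.1 p.2 1, (frAlg e P).injective ?_⟩
      rw [map_mul, map_mul, ← frU_val, ← frU_val, map_inv, (frU e P).apply_symm_apply, ← hEfac,
        ← hcoef]
      show _ = frAlg e P (factorLin (σ i) _)
      simp only [map_sum, map_smul]
      exact Finset.sum_congr rfl fun p _ => by rw [hEfac]; rfl
  exact ⟨A, by rw [← hA, (frU e P).apply_symm_apply]⟩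

section gram

variable {t m : ℕ}

lemma span_factor {i : Fin t} {e : ι ≃ (Fin t → Fin m)} {P : GL ι F}
    {E : Fin m → Fin m → Matrix ι ι F}
    (hE : ∀ k l, E k l = frAlg e P (factor i (Matrix.single k l (1 : F)))) {M : Matrix ι ι F}
    (hM : M ∈ Submodule.span F (Set.range fun p : Fin m × Fin m => E p.1 p.2)) :
    ∃ Y, M = frAlg e P (factor i Y) := by
  obtain ⟨c, hc⟩ := (Submodule.mem_span_range_iff_exists_fun F).1 hM
  refine ⟨∑ p : Fin m × Fin m, c p • Matrix.single p.1 p.2 1, ?_⟩
  show M = frAlg e P (factorLin i _)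
  simp only [map_sum, map_smul, ← hc]
  exact Finset.sum_congr rfl fun p _ => by rw [hE]; rfl

lemma pureMat_ne_zero {A : Fin t → Matrix (Fin m) (Fin m) F} (hA : ∀ i, A i ≠ 0) :
    pureMat A ≠ 0 := by
  classical
  have hex : ∀ i, ∃ p : Fin m × Fin m, A i p.1 p.2 ≠ 0 := fun i => by
    by_contra h
    push Not at h
    exact hA i (Matrix.ext fun a b => h (a, b))
  choose p hp using hex
  intro h
  have h1 := congrFun (congrFun h fun i => (p i).1) fun i => (p i).2
  rw [pureMat_apply, Matrix.zero_apply, Finset.prod_eq_zero_iff] at h1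
  obtain ⟨i, -, hi⟩ := h1
  exact hp i hi

lemma pureMat_eq_imp {A B : Fin t → Matrix (Fin m) (Fin m) F} (hA : ∀ i, A i ≠ 0)
    (h : pureMat A = pureMat B) (i : Fin t) : ∃ c : F, A i = c • B i := by
  classical
  have hex : ∀ j, ∃ p : Fin m × Fin m, A j p.1 p.2 ≠ 0 := fun j => by
    by_contra h
    push Not at h
    exact hA j (Matrix.ext fun a b => h (a, b))
  choose p hp using hex
  have key : ∀ a b, A i a b * ∏ j ∈ Finset.univ.erase i, A j (p j).1 (p j).2 =
      B i a b * ∏ j ∈ Finset.univ.erase i, B j (p j).1 (p j).2 := by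
    intro a b
    have h1 := congrFun (congrFun h (Function.update (fun j => (p j).1) i a))
      (Function.update (fun j => (p j).2) i b)
    rw [pureMat_apply, pureMat_apply, ← Finset.mul_prod_erase _ _ (Finset.mem_univ i),
      ← Finset.mul_prod_erase _ _ (Finset.mem_univ i)] at h1
    simp only [Function.update_self] at h1
    convert h1 using 2 <;> exact Finset.prod_congr rfl fun j hj => by
      simp [(Finset.ne_of_mem_erase hj)]
  have hne : ∏ j ∈ Finset.univ.erase i, A j (p j).1 (p j).2 ≠ 0 :=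
    Finset.prod_ne_zero_iff.2 fun j _ => hp j
  refine ⟨(∏ j ∈ Finset.univ.erase i, B j (p j).1 (p j).2) /
    ∏ j ∈ Finset.univ.erase i, A j (p j).1 (p j).2, Matrix.ext fun a b => ?_⟩
  rw [Matrix.smul_apply, smul_eq_mul]
  field_simp
  linear_combination key a b

/-- The tensor of a family of vectors. -/
def pureVec (v : Fin t → Fin m → F) (x : Fin t → Fin m) : F := ∏ i, v i (x i)

lemma pureMat_mulVec (A : Fin t → Matrix (Fin m) (Fin m) F) (v : Fin t → Fin m → F) :
    pureMat A *ᵥ pureVec v = pureVec fun i => A i *ᵥ v i := by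
  funext x
  simp only [pureVec, Matrix.mulVec, dotProduct, pureMat_apply, ← Finset.prod_mul_distrib]
  rw [Finset.prod_univ_sum, Fintype.piFinset_univ]

lemma permMat_mulVec (σ : Equiv.Perm (Fin t)) (v : Fin t → Fin m → F) :
    permMat m F σ *ᵥ pureVec v = pureVec fun i => v (σ.symm i) := by
  funext x
  simp only [Matrix.mulVec, dotProduct, permMat, Matrix.of_apply, ite_mul, one_mul, zero_mul,
    Finset.sum_ite_eq', Finset.mem_univ, if_true, pureVec, Function.comp_apply]
  exact Fintype.prod_equiv σ _ _ fun i => by simp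

lemma single_eq_pureVec (x : Fin t → Fin m) :
    (Pi.single x 1 : (Fin t → Fin m) → F) = pureVec fun i => Pi.single (x i) 1 := by
  classical
  funext y
  by_cases h : y = x
  · subst h; simp [pureVec]
  · obtain ⟨i, hi⟩ := Function.ne_iff.1 h
    rw [Pi.single_eq_of_ne h, pureVec]
    exact (Finset.prod_eq_zero (Finset.mem_univ i) (Pi.single_eq_of_ne hi _)).symm

/-- A form in a frame of `t` equal factors with tensor Gram matrix, congruent factors. -/
theorem power_frame_form [Nonempty ι] [NeZero t] [NeZero m] {ε : F} {f : (ι → F) → (ι → F) → F}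
    (hf : IsRefl (RingEquiv.refl F) ε f) {E : Fin t → Fin m → Fin m → Matrix ι ι F}
    {e : ι ≃ (Fin t → Fin m)} {P : GL ι F}
    (hEfac : ∀ i k l, E i k l = frAlg e P (factor i (Matrix.single k l (1 : F))))
    (hperm : ∀ (g : GL ι F) (σ : Equiv.Perm (Fin t)),
      (∀ i k l, (g : Matrix ι ι F) * E i k l * ((g⁻¹ : GL ι F) : Matrix ι ι F) ∈
        Submodule.span F (Set.range fun p : Fin m × Fin m => E (σ i) p.1 p.2)) →
      ∃ A : Fin t → GL (Fin m) F, g = frU e P (pureGL A * permGL m F σ))
    (hadj : ∀ i k l, hf.adj (E i k l) ∈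
      Submodule.span F (Set.range fun p : Fin m × Fin m => E i p.1 p.2))
    {H : Subgroup (GL ι F)} (hH : Cfsg.Geo.FixesForm (Cfsg.Geo.matrixSet H) f)
    (hHp : ∀ g ∈ H, ∃ σ : Equiv.Perm (Fin t), ∀ i k l,
      (g : Matrix ι ι F) * E i k l * ((g⁻¹ : GL ι F) : Matrix ι ι F) ∈
        Submodule.span F (Set.range fun p : Fin m × Fin m => E (σ i) p.1 p.2))
    (htrans : ∀ j, ∃ g ∈ H, ∃ σ : Equiv.Perm (Fin t), σ 0 = j ∧ ∀ i k l,
      (g : Matrix ι ι F) * E i k l * ((g⁻¹ : GL ι F) : Matrix ι ι F) ∈
        Submodule.span F (Set.range fun p : Fin m × Fin m => E (σ i) p.1 p.2)) :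
    ∃ (P' : GL ι F) (G : Matrix (Fin m) (Fin m) F) (α c : F), c ≠ 0 ∧ IsUnit G ∧ α ^ t = ε ∧
      Gᵀ = α • G ∧
      (∀ x y, pullForm e P' f x y =
        c * Cfsg.Geo.formOfGram id (pureMat fun _ => G) x y) ∧
      H ≤ Cfsg.Geo.tensorWreathSubgroup m t e P' ∧
      ∀ g ∈ H, ∃ (A : Fin t → GL (Fin m) F) (σ : Equiv.Perm (Fin t)),
        g = frU e P' (pureGL A * permGL m F σ) := by
  classical
  set f' := pullForm e P f with hf'
  have hf'r : IsRefl (RingEquiv.refl F) ε f' := hf.pull e P
  set J := Cfsg.Geo.gramMatrix f' with hJ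
  obtain ⟨Ju, hJu⟩ := hf'r.sesq.gram_isUnit hf'r.nondeg
  rw [← hJ] at hJu
  -- the Gram matrix is pure
  obtain ⟨B, hB⟩ := exists_pure_mul_perm_of_permuting (g := Ju⁻¹) (σ := 1) fun i k l => by
    obtain ⟨Y, hY⟩ := span_factor (hEfac i) (hadj i l k)
    have hadj' : hf'r.adj (factor i (Matrix.single l k (1 : F))) = factor i Y :=
      (frAlg e P).injective ((hf.adj_pull e P _).trans (by rw [← hEfac, hY]))
    refine ⟨Y, ?_⟩
    have h1 := hf'r.gram_adj (factor i (Matrix.single l k (1 : F)))
    have h3 : (factor i (Matrix.single l k (1 : F)))ᵀ = factor i (Matrix.single k l (1 : F)) := by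
      simp only [factor, pureMat_transpose]
      congr 1
      funext j
      by_cases hj : j = i
      · subst hj; simp
      · simp [hj]
    rw [hadj', h3, ← hJ, ← hJu, show (factor i Y).map (RingEquiv.refl F) = factor i Y from
      Matrix.map_id _] at h1
    rw [inv_inv, mul_assoc, h1, ← mul_assoc, Units.inv_mul, one_mul]
    rfl
  have hone : permGL m F (1 : Equiv.Perm (Fin t)) = 1 := Units.ext permMat_one
  rw [hone, mul_one] at hB
  let Gs : Fin t → GL (Fin m) F := fun i => (B i)⁻¹
  have hJG : J = pureMat fun i => (Gs i : Matrix (Fin m) (Fin m) F) := by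
    have h1 : Ju = pureGL Gs := by
      rw [← _root_.inv_inj, hB]
      refine (inv_eq_of_mul_eq_one_right (Units.ext ?_)).symm
      show pureMat _ * pureMat _ = 1
      rw [pureMat_mul]
      convert pureMat_one (t := t) (m := m) (F := F) using 2
      funext i
      simp [Gs]
    rw [← hJu, h1]; rfl
  have hpureperm : ∀ (A : Fin t → GL (Fin m) F) (σ : Equiv.Perm (Fin t)) (g : GL ι F),
      g = frU e P (pureGL A * permGL m F σ) → g ∈ H → ∀ i, ∃ z : F, z ≠ 0 ∧
        (A (σ i) : Matrix (Fin m) (Fin m) F)ᵀ * (Gs (σ i) : Matrix (Fin m) (Fin m) F) *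
          (A (σ i) : Matrix (Fin m) (Fin m) F) = z • (Gs i : Matrix (Fin m) (Fin m) F) := by
    intro A σ g hg hgH i
    have hgX : (g : Matrix ι ι F) = frAlg e P
        (pureMat (fun i => (A i : Matrix (Fin m) (Fin m) F)) * permMat m F σ) := by
      rw [hg, frU_val]; rfl
    set X := pureMat (fun i => (A i : Matrix (Fin m) (Fin m) F)) * permMat m F σ with hX
    have hgram : Xᵀ * J * X = J := by
      have := hf'r.sesq.gram_comp X
      rw [show X.map (RingEquiv.refl F : F ≃+* F) = X from Matrix.map_id X] at this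
      rw [hJ, ← this]
      ext p q
      exact pullForm_isometry e P hgX (isometry_apply hH hgH) _ _
    have hpt : (permMat m F σ)ᵀ = permMat m F σ⁻¹ := by
      ext x y
      simp only [permMat, Matrix.transpose_apply, Matrix.of_apply]
      refine if_congr ⟨fun h => ?_, fun h => ?_⟩ rfl rfl
      · subst h; funext i; simp
      · subst h; funext i; simp
    rw [hX, Matrix.transpose_mul, pureMat_transpose, hpt, hJG] at hgram
    have h2 : permMat m F σ⁻¹ * pureMat (fun i => (A i : Matrix (Fin m) (Fin m) F)ᵀ *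
        (Gs i : Matrix (Fin m) (Fin m) F) * (A i : Matrix (Fin m) (Fin m) F)) * permMat m F σ =
        pureMat fun i => (Gs i : Matrix (Fin m) (Fin m) F) := by
      conv_rhs => rw [← hgram]
      rw [show pureMat (fun i => (A i : Matrix (Fin m) (Fin m) F)ᵀ *
          (Gs i : Matrix (Fin m) (Fin m) F) * (A i : Matrix (Fin m) (Fin m) F)) =
        pureMat (fun i => (A i : Matrix (Fin m) (Fin m) F)ᵀ) *
          pureMat (fun i => (Gs i : Matrix (Fin m) (Fin m) F)) *
          pureMat (fun i => (A i : Matrix (Fin m) (Fin m) F)) from by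
        rw [pureMat_mul, pureMat_mul]; rfl]
      simp only [mul_assoc]
    rw [permMat_mul_pureMat, mul_assoc, permMat_mul, inv_mul_cancel, permMat_one, mul_one] at h2
    have hne : ∀ j, (A (σ⁻¹.symm j) : Matrix (Fin m) (Fin m) F)ᵀ *
        (Gs (σ⁻¹.symm j) : Matrix (Fin m) (Fin m) F) * (A (σ⁻¹.symm j) : Matrix (Fin m) (Fin m) F) ≠ 0 := by
      intro j
      exact ((((Matrix.isUnit_transpose _).2 (A _).isUnit).mul (Gs _).isUnit).mul (A _).isUnit).ne_zero
    obtain ⟨z, hz⟩ := pureMat_eq_imp hne h2 i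
    have hsymm : σ⁻¹.symm i = σ i := by
      rw [Equiv.symm_apply_eq]; simp
    rw [hsymm] at hz
    refine ⟨z, fun h0 => ?_, hz⟩
    rw [h0, zero_smul] at hz
    exact ((((Matrix.isUnit_transpose _).2 (A (σ i)).isUnit).mul (Gs (σ i)).isUnit).mul
      (A (σ i)).isUnit).ne_zero hz
  -- congruences to the first factor
  have hcong : ∀ j, ∃ (C : GL (Fin m) F) (z : F), z ≠ 0 ∧ (C : Matrix (Fin m) (Fin m) F)ᵀ *
      (Gs j : Matrix (Fin m) (Fin m) F) * (C : Matrix (Fin m) (Fin m) F) =
        z • (Gs 0 : Matrix (Fin m) (Fin m) F) := by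
    intro j
    obtain ⟨g, hg, σ, hσ0, hσ⟩ := htrans j
    obtain ⟨A, hA⟩ := hperm g σ hσ
    obtain ⟨z, hz, h⟩ := hpureperm A σ g hA hg 0
    rw [hσ0] at h
    exact ⟨A j, z, hz, h⟩
  choose C z hz0 hC using hcong
  set G := (Gs 0 : Matrix (Fin m) (Fin m) F) with hG
  let P' : GL ι F := frU e P (pureGL C) * P
  have hfr' : ∀ x : GL (Fin t → Fin m) F,
      frU e P' x = frU e P (pureGL C * x * (pureGL C)⁻¹) := by
    intro x
    rw [map_mul, map_mul, map_inv]
    show MulAut.conj P' (Cfsg.Geo.glReindex e.symm x) =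
      frU e P (pureGL C) * MulAut.conj P (Cfsg.Geo.glReindex e.symm x) * (frU e P (pureGL C))⁻¹
    simp [P', mul_assoc]
  have hHwreath : ∀ g ∈ H, ∃ (A : Fin t → GL (Fin m) F) (σ : Equiv.Perm (Fin t)),
      g = frU e P' (pureGL A * permGL m F σ) := by
    intro g hg
    obtain ⟨σ, hσ⟩ := hHp g hg
    obtain ⟨A, rfl⟩ := hperm g σ hσ
    refine ⟨C⁻¹ * A * (C ∘ σ.symm), σ, ?_⟩
    rw [hfr']
    congr 1
    have hswap : permGL m F σ * pureGL C = pureGL (C ∘ σ.symm) * permGL m F σ :=
      Units.ext (permMat_mul_pureMat σ fun i => (C i : Matrix (Fin m) (Fin m) F))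
    have hpm : ∀ A B : Fin t → GL (Fin m) F, pureGL A * pureGL B = pureGL (A * B) := fun A B =>
      Units.ext (pureMat_mul _ _)
    have hone' : pureGL (1 : Fin t → GL (Fin m) F) = 1 := Units.ext pureMat_one
    rw [← hpm, ← hpm]
    calc pureGL A * permGL m F σ = (pureGL C * pureGL C⁻¹) * pureGL A *
          (permGL m F σ * pureGL C) * (pureGL C)⁻¹ := by
          rw [hpm C C⁻¹, mul_inv_cancel, hone']; group
      _ = _ := by rw [hswap]; group
  refine ⟨P', G, ?_⟩
  have hpull : ∀ x y, pullForm e P' f x y =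
      (∏ i, z i) * Cfsg.Geo.formOfGram id (pureMat fun _ => G) x y := by
    intro x y
    have h1 : ∀ x : (Fin t → Fin m) → F, (P' : Matrix ι ι F) *ᵥ (x ∘ e) =
        (P : Matrix ι ι F) *ᵥ ((pureMat (fun i => (C i : Matrix (Fin m) (Fin m) F)) *ᵥ x) ∘ e) := by
      intro x
      rw [← frAlg_mulVec, show pureMat (fun i => (C i : Matrix (Fin m) (Fin m) F)) =
        ((pureGL C : GL (Fin t → Fin m) F) : Matrix (Fin t → Fin m) (Fin t → Fin m) F) from rfl,
        ← frU_val, ← mul_mulVec]
    show f _ _ = _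
    rw [h1 x, h1 y]
    show f' _ _ = _
    rw [hf'r.sesq.eq_dot, show (RingEquiv.refl F : F → F) = id from rfl, Function.id_comp,
      formOfGram_eq, Function.id_comp, ← hJ, hJG, Matrix.mulVec_mulVec, ← Matrix.vecMul_transpose,
      ← Matrix.dotProduct_mulVec, Matrix.mulVec_mulVec, pureMat_transpose, pureMat_mul, pureMat_mul,
      show ((fun i => (C i : Matrix (Fin m) (Fin m) F)ᵀ) *
        ((fun i => (Gs i : Matrix (Fin m) (Fin m) F)) * fun i => (C i : Matrix (Fin m) (Fin m) F))) =
        fun i => z i • G from funext fun i => (mul_assoc _ _ _).symm.trans (hC i),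
      pureMat_smul, Matrix.smul_mulVec, dotProduct_smul, smul_eq_mul]
  -- symmetry
  have hf''r := hf.pull e P'
  have hJ' : Cfsg.Geo.gramMatrix (pullForm e P' f) = (∏ i, z i) • pureMat fun _ : Fin t => G := by
    ext p q
    show pullForm e P' f _ _ = _
    rw [hpull, Matrix.smul_apply, smul_eq_mul]
    congr 1
    exact congrFun (congrFun (gramMatrix_formOfGram (σ := RingEquiv.refl F)
      (pureMat fun _ : Fin t => G)) p) q
  have hzprod : (∏ i, z i) ≠ 0 := Finset.prod_ne_zero_iff.2 fun i _ => hz0 i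
  have hsw := hf''r.gram_swap
  rw [hJ', show ((∏ i, z i) • pureMat fun _ : Fin t => G).map (RingEquiv.refl F) =
    (∏ i, z i) • pureMat fun _ : Fin t => G from Matrix.map_id _, Matrix.transpose_smul,
    smul_comm ε, pureMat_transpose] at hsw
  have hsw' := smul_right_injective _ hzprod hsw
  have hGu : IsUnit G := (Gs 0).isUnit
  obtain ⟨α, hα⟩ : ∃ α : F, Gᵀ = α • G := by
    have hne : ∀ _ : Fin t, Gᵀ ≠ 0 := fun _ => ((Matrix.isUnit_transpose _).2 hGu).ne_zero
    have hε : ε • pureMat (fun _ : Fin t => G) =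
        pureMat (Function.update (fun _ : Fin t => G) 0 (ε • G)) := by
      rw [show Function.update (fun _ : Fin t => G) 0 (ε • G) =
        fun i => (if i = 0 then ε else 1) • G from funext fun i => by
          by_cases hi : i = 0
          · subst hi; simp
          · simp [hi],
        pureMat_smul, Finset.prod_ite_eq' Finset.univ (0 : Fin t) fun _ => ε,
        if_pos (Finset.mem_univ _)]
    rw [hε] at hsw'
    obtain ⟨c, hc⟩ := pureMat_eq_imp hne hsw' 0
    rw [Function.update_self, smul_smul] at hc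
    exact ⟨c * ε, hc⟩
  refine ⟨α, ∏ i, z i, hzprod, hGu, ?_, hα, hpull, fun g hg => ?_, hHwreath⟩
  · rw [show (fun _ : Fin t => Gᵀ) = fun _ : Fin t => α • G from funext fun _ => hα,
      pureMat_smul, Finset.prod_const, Finset.card_univ, Fintype.card_fin] at hsw'
    exact smul_cancel_matrix (pureMat_ne_zero fun _ => hGu.ne_zero) hsw'
  · obtain ⟨A, σ, rfl⟩ := hHwreath g hg
    rw [Cfsg.Geo.tensorWreathSubgroup, map_glReindex_conj]
    exact ⟨_, Subgroup.mul_mem _ (Subgroup.subset_closure (Or.inl (isPureTensor_pureGL _)))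
      (Subgroup.subset_closure (Or.inr (isFactorPermutation_permGL _))), rfl⟩

end gram

/-- A perfect subgroup of the group of invertible two by two matrices over three elements is
trivial. -/
lemma perfect_eq_bot_of_card_three [Fintype F] (hq : Fintype.card F = 3) {G : Type*} [Group G]
    (φ : G →* GL (Fin 2) F) (hφ : Function.Injective φ)
    (hperf : ⁅(⊤ : Subgroup G), (⊤ : Subgroup G)⁆ = ⊤) (x : G) : x = 1 := by
  classical
  have hcard : Nat.card (GL (Fin 2) F) = 2 ^ 4 * 3 ^ 1 := by
    rw [Matrix.card_GL_field, hq]; rfl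
  have : Group.IsSolvable (GL (Fin 2) F) :=
    CfsgLib.CharTheory.isSolvable_of_card_two_primes Nat.prime_two Nat.prime_three hcard
  have : Group.IsSolvable G := solvable_of_solvable_injective hφ
  by_contra hx
  have : Nontrivial G := ⟨⟨x, 1, hx⟩⟩
  exact (Group.IsSolvable.commutator_lt_top_of_nontrivial G).ne hperf

set_option maxHeartbeats 800000 in
/-- Commuting conjugates in a symplectic group: class seven, or a quadratic form. -/
theorem symp_factors [Fintype F] [Nonempty ι] {ε : F} {f : (ι → F) → (ι → F) → F}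
    (hf : IsRefl (RingEquiv.refl F) ε f) (halt : ∀ v, f v v = 0) (hε : ε = -1)
    {H N Q : Subgroup (GL ι F)} (hH : Cfsg.Geo.FixesForm (Cfsg.Geo.matrixSet H) f) (hN : AbsIrr N)
    (hNH : N ≤ H) (hnorm : ∀ g ∈ H, ∀ a ∈ N, g * a * g⁻¹ ∈ N)
    (hQs : ¬ Q ≤ Cfsg.Geo.scalars ι F) (hperf : ⁅Q, Q⁆ = Q) (hQN : Q ≤ N)
    (hne : ∃ c ∈ H, Q.map (MulAut.conj c).toMonoidHom ≠ Q)
    (hcomm : ∀ c ∈ H, ∀ d ∈ H,
      Q.map (MulAut.conj c).toMonoidHom ≠ Q.map (MulAut.conj d).toMonoidHom →
        ∀ x ∈ Q.map (MulAut.conj c).toMonoidHom, ∀ y ∈ Q.map (MulAut.conj d).toMonoidHom,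
          x * y = y * x)
    (hgen : N ≤ Subgroup.closure
      (⋃ c ∈ H, (Q.map (MulAut.conj c).toMonoidHom : Set (GL ι F))) ⊔ Cfsg.Geo.scalars ι F) :
    (∃ (k t : ℕ) (e : ι ≃ (Fin t → Fin k)) (P : GL ι F) (f₁ : (Fin k → F) → (Fin k → F) → F),
      Odd (Fintype.card F) ∧ Odd t ∧ 3 ≤ t ∧ ¬ (Fintype.card F = 3 ∧ k = 2) ∧
      Cfsg.Geo.IsSymplecticForm f₁ ∧ Cfsg.Geo.IsTensorPowerFormStructure id f f₁ e P ∧
      H ≤ Cfsg.Geo.tensorWreathSubgroup k t e P) ∨
    (¬ Odd (Fintype.card F) ∧ ∃ Qf : (ι → F) → F, Cfsg.Geo.IsNondegenerateQuadraticForm Qf ∧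
      (∀ u v, QuadraticMap.polar Qf u v = f u v) ∧ H ≤ Cfsg.Geo.quadSimilarityGroup Qf) := by
  classical
  obtain ⟨t, m, E, X, ht, hm, hE, hc, hscal, hX, hmem, hspan, hperm, htrans⟩ :=
    exists_family_of_factors hN hQs hne hcomm hgen
  obtain ⟨e, P, hEfac, hfr⟩ := exists_frame_of_family (by omega) (by omega) hE hc hscal
  have : NeZero t := ⟨by omega⟩
  have : NeZero m := ⟨by omega⟩
  have hXH : ∀ i, X i ≤ H := by
    intro i
    obtain ⟨c, hcH, hXc⟩ := hX i
    rw [hXc]
    rintro _ ⟨x, hx, rfl⟩
    exact hNH (hnorm c hcH x (hQN hx))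
  obtain ⟨P', G, α, c₀, hc₀, hGu, hαt, hGt, hpull, hle, helem⟩ :=
    power_frame_form hf hEfac hfr (fun i k l => hspan i
      (hf.adj_mem_envelope (fixesForm_mono (hXH i) hH) (hmem i k l))) hH
      (fun g hg => (hperm g hg).imp fun σ hσ i k l => hspan _ (hσ i k l))
      (fun j => by
        obtain ⟨g, hg, hgj⟩ := htrans 0 j
        obtain ⟨σ, hσ⟩ := hperm g hg
        refine ⟨g, hg, σ, ?_, fun i k l => hspan _ (hσ i k l)⟩
        by_contra hne'
        let a : Fin m := ⟨0, by omega⟩
        let b : Fin m := ⟨1, by omega⟩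
        have hab : a ≠ b := by simp [a, b, Fin.ext_iff]
        have h1 := hspan _ (hσ 0 a b)
        have h2 := hspan _ (hgj b a)
        obtain ⟨c1, hc1⟩ := (Submodule.mem_span_range_iff_exists_fun F).1 h1
        obtain ⟨c2, hc2⟩ := (Submodule.mem_span_range_iff_exists_fun F).1 h2
        have hcc : Commute (∑ p, c1 p • E (σ 0) p.1 p.2) (∑ p, c2 p • E j p.1 p.2) :=
          Commute.sum_left _ _ _ fun p _ => Commute.sum_right _ _ _ fun r _ =>
            ((hc _ _ hne' _ _ _ _).smul_left _).smul_right _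
        rw [hc1, hc2] at hcc
        have h3 : E 0 a b * E 0 b a = E 0 b a * E 0 a b := by
          have h4 := congrArg (fun M => ((g⁻¹ : GL ι F) : Matrix ι ι F) * M * (g : Matrix ι ι F))
            hcc.eq
          simpa [mul_assoc] using h4
        rw [(hE 0).mul_same, (hE 0).mul_same] at h3
        have h5 := congrArg (fun M => E 0 a a * M) h3
        simp only [(hE 0).mul_same, (hE 0).mul_ne hab] at h5
        have h6 := congrArg (fun M => E 0 b a * M * E 0 a b) h5
        simp only [(hE 0).mul_same, mul_zero, zero_mul] at h6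
        have h7 : ∀ k, E 0 k k = 0 := fun k => by
          rw [← (hE 0).mul_same k b k, ← (hE 0).mul_same k b b, h6, mul_zero, zero_mul]
        refine one_ne_zero (show (1 : Matrix ι ι F) = 0 from ?_)
        rw [← (hE 0).sum]
        exact Finset.sum_eq_zero fun k _ => h7 k)
  have hα2 : α * α = 1 := by
    have h := congrArg Matrix.transpose hGt
    rw [Matrix.transpose_transpose, Matrix.transpose_smul, hGt, smul_smul] at h
    exact (smul_cancel_matrix hGu.ne_zero (h.symm.trans (one_smul F G).symm))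
  by_cases h2 : (2 : F) = 0
  · right
    refine ⟨two_eq_zero_iff.1 h2, ?_⟩
    have hm1 : (-1 : F) = 1 := by linear_combination -h2
    have hα1 : α = 1 := (mul_self_eq_one_iff.1 hα2).elim id fun h => h.trans hm1
    have hGs : ∀ p q, G p q = G q p := fun p q => by
      have := congrFun (congrFun hGt q) p
      rwa [Matrix.transpose_apply, hα1, one_smul] at this
    set J : Matrix (Fin t → Fin m) (Fin t → Fin m) F := c₀ • pureMat fun _ => G with hJ
    have hpullJ : ∀ x y, pullForm e P' f x y = Cfsg.Geo.formOfGram id J x y := by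
      intro x y
      rw [hpull, formOfGram_eq, formOfGram_eq, hJ, Matrix.smul_mulVec, dotProduct_smul, smul_eq_mul]
    have hGd : ∀ a, G a a = 0 := by
      intro a
      have h : pullForm e P' f (Pi.single (fun _ => a) 1) (Pi.single (fun _ => a) 1) = 0 := halt _
      rw [hpullJ, show Cfsg.Geo.formOfGram id J = Cfsg.Geo.formOfGram (RingEquiv.refl F) J from rfl]
        at h
      have h' : J (fun _ => a) (fun _ => a) = 0 := by
        have h1 := congrFun (congrFun (gramMatrix_formOfGram (σ := RingEquiv.refl F) J)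
          (fun _ => a)) (fun _ => a)
        rw [← h1]; exact h
      rw [hJ, Matrix.smul_apply, smul_eq_mul, pureMat_apply, Finset.prod_const] at h'
      exact (pow_eq_zero_iff (by rw [Finset.card_univ, Fintype.card_fin]; omega : (Finset.univ : Finset (Fin t)).card ≠ 0)).1
        ((mul_eq_zero.1 h').resolve_left hc₀)
    refine quad_of_oriented hf hpullJ (fun p q => ?_) (fun p q => p 0 < q 0) (fun p q h => ?_)
      (Set.range pureVec) (fun p => ⟨_, (single_eq_pureVec p).symm⟩) ?_ hH fun g hg => ?_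
    · simp only [hJ, Matrix.smul_apply, pureMat_apply, smul_eq_mul]
      congr 1
      exact Finset.prod_congr rfl fun i _ => hGs _ _
    · have hne' : p 0 ≠ q 0 := fun h' => h (by
        simp only [hJ, Matrix.smul_apply, pureMat_apply, smul_eq_mul]
        exact mul_eq_zero_of_right _
          (Finset.prod_eq_zero (Finset.mem_univ (0 : Fin t)) (by rw [h', hGd])))
      constructor
      · exact fun h1 h2 => lt_asymm h1 h2
      · exact fun h1 => lt_of_le_of_ne (not_lt.1 h1) hne'
    · rintro _ ⟨v, rfl⟩ inst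
      let hh : Fin t → Fin m → Fin m → F := fun i a b =>
        if i = 0 then (if a < b then v i a * G a b * v i b else 0) else v i a * G a b * v i b
      have hval : ∀ p q, (if p 0 < q 0 then pureVec v p * J p q * pureVec v q else 0) =
          c₀ * ∏ i, hh i (p i) (q i) := by
        intro p q
        split <;> rename_i hlt
        · rw [show (∏ i, hh i (p i) (q i)) = ∏ i, v i (p i) * G (p i) (q i) * v i (q i) from
            Finset.prod_congr rfl fun i _ => by
              by_cases hi : i = 0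
              · subst hi; simp [hh, hlt]
              · simp [hh, hi]]
          simp only [hJ, Matrix.smul_apply, pureMat_apply, smul_eq_mul, pureVec,
            Finset.prod_mul_distrib]
          ring
        · rw [Finset.prod_eq_zero (Finset.mem_univ (0 : Fin t)) (by simp [hh, hlt]), mul_zero]
      simp only [hval, ← Finset.mul_sum]
      refine mul_eq_zero_of_right _ ?_
      have hexp : ∑ p : Fin t → Fin m, ∑ q : Fin t → Fin m, ∏ i, hh i (p i) (q i) =
          ∏ i, ∑ a, ∑ b, hh i a b := by
        rw [Finset.prod_univ_sum, Fintype.piFinset_univ]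
        refine Finset.sum_congr rfl fun p _ => ?_
        rw [Finset.prod_univ_sum, Fintype.piFinset_univ]
      rw [hexp]
      have h10 : (⟨1, by omega⟩ : Fin t) ≠ 0 := by
        intro h
        simpa using congrArg Fin.val h
      refine Finset.prod_eq_zero (Finset.mem_univ (⟨1, by omega⟩ : Fin t)) ?_
      simp only [hh, if_neg h10]
      let φ : (Fin m → F) →+ F := AddMonoidHom.mk' (fun y => y ⬝ᵥ (G *ᵥ y)) fun y z => by
        have hsw : y ⬝ᵥ (G *ᵥ z) = z ⬝ᵥ (G *ᵥ y) := by
          rw [dotProduct_comm, ← Matrix.vecMul_transpose, ← Matrix.dotProduct_mulVec,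
            show Gᵀ = G from Matrix.ext fun p q => hGs q p]
        rw [Matrix.mulVec_add, add_dotProduct, dotProduct_add, dotProduct_add, hsw]
        linear_combination (z ⬝ᵥ (G *ᵥ y)) * h2
      set y := v ⟨1, by omega⟩
      have hφ : φ y = 0 := by
        rw [pi_eq_sum_univ' y, map_sum]
        refine Finset.sum_eq_zero fun a _ => ?_
        show (y a • (Pi.single a 1 : Fin m → F)) ⬝ᵥ (G *ᵥ (y a • (Pi.single a 1 : Fin m → F))) = 0
        rw [Matrix.mulVec_smul, smul_dotProduct, Matrix.mulVec_single_one, dotProduct_smul,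
          single_dotProduct, one_mul, Matrix.col_apply, hGd, smul_zero, smul_zero]
      rw [← hφ]
      show _ = y ⬝ᵥ (G *ᵥ y)
      simp only [dotProduct, Matrix.mulVec, Finset.mul_sum, mul_assoc]
    · obtain ⟨A, σ, hA⟩ := helem g hg
      refine ⟨_, (congrArg Units.val hA).trans (frU_val e P' _), ?_⟩
      rintro _ ⟨v, rfl⟩
      refine ⟨fun i => (A i : Matrix (Fin m) (Fin m) F) *ᵥ v (σ.symm i), Eq.symm ?_⟩
      show (pureMat _ * permMat m F σ) *ᵥ pureVec v = _
      rw [← Matrix.mulVec_mulVec, permMat_mulVec, pureMat_mulVec]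
  left
  have hne2 : (-1 : F) ≠ 1 := fun h => h2 (by linear_combination -h)
  rw [hε] at hαt
  have hα : α = -1 := (mul_self_eq_one_iff.1 hα2).resolve_left fun h => hne2 (by
    rw [← hαt, h, one_pow])
  have htodd : Odd t := by
    by_contra hev
    rw [Nat.not_odd_iff_even] at hev
    exact hne2 (by rw [← hαt, hα, hev.neg_one_pow])
  have hr := isRefl_formOfGram hGu (by rw [hα]; exact neg_ne_zero.2 one_ne_zero) hGt
  refine ⟨m, t, e, P', Cfsg.Geo.formOfGram id G, not_not.1 fun h => h2 (two_eq_zero_iff.2 h), htodd,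
    by obtain ⟨k, hk⟩ := htodd; omega, ?_, ⟨hr.bilinear, fun v w => ?_, fun v => ?_, hr.nondeg⟩,
    ⟨c₀, hc₀, fun x y => ?_⟩, hle⟩
  · rintro ⟨hq, rfl⟩
    apply hQs
    obtain ⟨c', hc'H, hXc⟩ := hX 0
    -- the factor as a homomorphism
    let ρ : GL (Fin 2) F →* GL ι F :=
      (frU e P).toMonoidHom.comp
        { toFun := fun Y => pureGL (Function.update 1 0 Y)
          map_one' := Units.ext (by
            show pureMat _ = (1 : Matrix (Fin t → Fin 2) (Fin t → Fin 2) F)
            rw [show (fun i => ((Function.update (1 : Fin t → GL (Fin 2) F) 0 1 i : GL (Fin 2) F) :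
              Matrix (Fin 2) (Fin 2) F)) = 1 from funext fun i => by
                by_cases hi : i = 0
                · subst hi; simp
                · simp [hi]]
            exact pureMat_one)
          map_mul' := fun Y Z => Units.ext (by
            show pureMat _ = pureMat _ * pureMat _
            rw [pureMat_mul]
            congr 1
            funext i
            by_cases hi : i = 0
            · subst hi; simp
            · simp [hi]) }
    have hρ : ∀ Y : GL (Fin 2) F, (ρ Y : Matrix ι ι F) =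
        frAlg e P (factor 0 (Y : Matrix (Fin 2) (Fin 2) F)) := by
      intro Y
      show ((frU e P (pureGL _) : GL ι F) : Matrix ι ι F) = _
      rw [frU_val]
      congr 1
      show pureMat _ = pureMat _
      congr 1
      funext i
      by_cases hi : i = 0
      · subst hi; simp
      · simp [hi]
    have hρinj : Function.Injective ρ := by
      intro Y Z h
      refine Units.ext (factor_injective (0 : Fin t) ((frAlg e P).injective ?_))
      rw [← hρ, ← hρ, h]
    have hrange : X 0 ≤ ρ.range := by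
      intro x hx
      obtain ⟨Y, hY⟩ := span_factor (hEfac 0) (hspan 0 (mem_envelope hx))
      obtain ⟨Y', hY'⟩ := span_factor (hEfac 0) (hspan 0 (mem_envelope ((X 0).inv_mem hx)))
      have h1 : Y * Y' = 1 := factor_injective (0 : Fin t) ((frAlg e P).injective (by
        rw [← factor_mul, map_mul, ← hY, ← hY', Units.mul_inv, factor_one, map_one]))
      exact ⟨⟨Y, Y', h1, mul_eq_one_comm.1 h1⟩, Units.ext (by rw [hρ]; exact hY.symm)⟩
    let φ : Q →* GL (Fin 2) F := (MonoidHom.ofInjective hρinj).symm.toMonoidHom.comp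
      (((MulAut.conj c').toMonoidHom.comp Q.subtype).codRestrict ρ.range
        fun x => hrange (by rw [hXc]; exact Subgroup.mem_map_of_mem _ x.2))
    have hφ : Function.Injective φ := by
      intro x y h
      have h' := congrArg Subtype.val ((MonoidHom.ofInjective hρinj).symm.injective h)
      simp only [MonoidHom.codRestrict_apply, MonoidHom.comp_apply] at h'
      exact Subtype.ext ((MulAut.conj c').injective h')
    have htop : ⁅(⊤ : Subgroup Q), (⊤ : Subgroup Q)⁆ = ⊤ := by
      apply Subgroup.map_injective Q.subtype_injective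
      rw [Subgroup.map_commutator, ← MonoidHom.range_eq_map, Subgroup.range_subtype, hperf]
    intro x hx
    have : (⟨x, hx⟩ : Q) = 1 := perfect_eq_bot_of_card_three hq φ hφ htop _
    rw [show x = 1 from congrArg Subtype.val this]
    exact Subgroup.one_mem _
  · rw [hr.swap w v, hα]
    show (-1 : F) * _ = _
    simp
  · have h := hr.swap v v
    rw [hα] at h
    exact (mul_eq_zero.1 (show (2 : F) * Cfsg.Geo.formOfGram id G v v = 0 by
      simp only [RingEquiv.refl_apply] at h; linear_combination h)).resolve_left h2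
  · have h := hpull x y
    simp only [pullForm] at h
    rw [h]
    congr 1
    have hg1 : Cfsg.Geo.gramMatrix (Cfsg.Geo.formOfGram id G) = G :=
      gramMatrix_formOfGram (σ := RingEquiv.refl F) G
    simp only [Cfsg.Geo.formOfGram, hg1, id, pureMat_apply]

end CfsgLib.Aschbacher
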