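import Cfsg.Agent.Lib.Aschbacher.ClassTwo

/-!
Absolutely irreducible groups of symplectic type in any dimension: the monomial frame, realisability
over the field of the roots of unity, the invariant unitary form, and the class-six data.
-/

set_option autoImplicit false

namespace CfsgLib.Aschbacher

open Matrix Module

variable {F : Type*} [Field F]

/-- The data: `R` has scalar commutators, its `r`-th powers are scalars of order dividing
`gcd 2 r`, and it contains the scalar `ω`, a root of unity of order `r * gcd 2 r`. -/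
structure HeisData (n r : ℕ) (R : Subgroup (GL (Fin n) F)) (ω : Fˣ) : Prop where
  prime : r.Prime
  absIrr : AbsIrr R
  comm : ScalarCommutators R
  pow : ∀ x ∈ R, ∃ z : Fˣ, z ^ Nat.gcd 2 r = 1 ∧ x ^ r = scalarGL (Fin n) z
  root : IsPrimitiveRoot ω (r * Nat.gcd 2 r)
  mem : scalarGL (Fin n) ω ∈ R

lemma HeisData.pow_exponent {n r : ℕ} {R : Subgroup (GL (Fin n) F)} {ω : Fˣ}
    (D : HeisData n r R ω) {x : GL (Fin n) F} (hx : x ∈ R) : x ^ (r * Nat.gcd 2 r) = 1 := by
  obtain ⟨z, hz, hxz⟩ := D.pow x hx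
  rw [pow_mul, hxz, ← scalarGL_pow, hz, scalarGL_one]

lemma HeisData.scalar_eq {n r : ℕ} [NeZero n] {R : Subgroup (GL (Fin n) F)} {ω : Fˣ}
    (D : HeisData n r R ω) {a : Fˣ} (ha : scalarGL (Fin n) a ∈ R) : ∃ k, a = ω ^ k := by
  have h := D.pow_exponent ha
  rw [← scalarGL_pow, ← scalarGL_one (ι := Fin n)] at h
  have hpos : 0 < r * Nat.gcd 2 r :=
    Nat.mul_pos D.prime.pos (Nat.gcd_pos_of_pos_left _ (by decide))
  have : NeZero (r * Nat.gcd 2 r) := ⟨hpos.ne'⟩
  obtain ⟨i, -, hi⟩ := (IsPrimitiveRoot.coe_units_iff.2 D.root).eq_pow_of_pow_eq_one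
    (show (a : F) ^ (r * Nat.gcd 2 r) = 1 by
      rw [← Units.val_pow_eq_pow_val, scalarGL_injective h, Units.val_one])
  exact ⟨i, Units.ext (by simpa using hi.symm)⟩

set_option maxHeartbeats 800000 in
/-- The monomial frame. -/
theorem HeisData.exists_frame [Finite F] {n r : ℕ} [NeZero n] {R : Subgroup (GL (Fin n) F)} {ω : Fˣ}
    (D : HeisData n r R ω) :
    ∃ B : GL (Fin n) F, ∀ x ∈ R, ∃ (π : Equiv.Perm (Fin n)) (k : Fin n → ℕ), ∀ i,
      ((B⁻¹ * x * B : GL (Fin n) F) : Matrix (Fin n) (Fin n) F) *ᵥ Pi.single i 1 =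
        (ω : F) ^ k i • (Pi.single (π i) 1 : Fin n → F) := by
  classical
  set E := r * Nat.gcd 2 r with hE
  have hEpos : 0 < E := Nat.mul_pos D.prime.pos (Nat.gcd_pos_of_pos_left _ (by decide))
  have : NeZero E := ⟨hEpos.ne'⟩
  have hωF : IsPrimitiveRoot (ω : F) E := IsPrimitiveRoot.coe_units_iff.2 D.root
  have hEF : (E : F) ≠ 0 := (hωF.neZero').out
  let Z : Subgroup (GL (Fin n) F) := R ⊓ Cfsg.Geo.scalars (Fin n) F
  obtain ⟨A, ⟨hAR, hZA, hAc⟩, hAmax⟩ := (Set.toFinite {A : Subgroup (GL (Fin n) F) |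
    A ≤ R ∧ Z ≤ A ∧ ∀ a ∈ A, ∀ b ∈ A, a * b = b * a}).exists_maximal
    ⟨Z, inf_le_left, le_rfl, fun a ha b _ => scalars_comm ha.2 b⟩
  have hcent : ∀ x ∈ R, (∀ a ∈ A, x * a = a * x) → x ∈ A := by
    intro x hx hxa
    have hle : A ⊔ Subgroup.zpowers x ≤ R := sup_le hAR ((Subgroup.zpowers_le).2 hx)
    have hc1 : A ⊔ Subgroup.zpowers x ≤ Subgroup.centralizer (A : Set (GL (Fin n) F)) :=
      sup_le (fun a ha => Subgroup.mem_centralizer_iff.2 fun b hb => hAc b hb a ha)
        ((Subgroup.zpowers_le).2 (Subgroup.mem_centralizer_iff.2 fun b hb => (hxa b hb).symm))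
    have hc2 : A ⊔ Subgroup.zpowers x ≤ Subgroup.centralizer ({x} : Set (GL (Fin n) F)) :=
      sup_le (fun a ha => Subgroup.mem_centralizer_singleton_iff.2 (hxa a ha).symm)
        ((Subgroup.zpowers_le).2 (Subgroup.mem_centralizer_singleton_iff.2 rfl))
    have hall : A ⊔ Subgroup.zpowers x ≤
        Subgroup.centralizer ((A ⊔ Subgroup.zpowers x : Subgroup _) : Set (GL (Fin n) F)) :=
      sup_le (fun a ha => Subgroup.mem_centralizer_iff.2 fun b hb =>
          (Subgroup.mem_centralizer_iff.1 (hc1 hb) a ha).symm)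
        ((Subgroup.zpowers_le).2 (Subgroup.mem_centralizer_iff.2 fun b hb =>
          Subgroup.mem_centralizer_singleton_iff.1 (hc2 hb)))
    have hA' := hAmax ⟨hle, hZA.trans le_sup_left, fun a ha b hb =>
      (Subgroup.mem_centralizer_iff.1 (hall ha) b hb).symm⟩ le_sup_left
    exact hA' (Subgroup.mem_sup_right (Subgroup.mem_zpowers x))
  -- conjugation
  have hconj : ∀ y ∈ R, ∀ a ∈ A, ∃ k : ℕ,
      y⁻¹ * a * y = scalarGL (Fin n) (ω ^ k) * a ∧ y⁻¹ * a * y ∈ A := by
    intro y hy a ha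
    obtain ⟨c, hc⟩ := D.comm.exists_comm (R.inv_mem hy) (hAR ha)
    have heq : y⁻¹ * a * y = scalarGL (Fin n) c * a := by rw [hc]; group
    have hcR : scalarGL (Fin n) c ∈ R := by
      have : scalarGL (Fin n) c = y⁻¹ * a * y * a⁻¹ := by rw [heq]; group
      rw [this]
      exact R.mul_mem (R.mul_mem (R.mul_mem (R.inv_mem hy) (hAR ha)) hy) (R.inv_mem (hAR ha))
    obtain ⟨k, rfl⟩ := D.scalar_eq hcR
    exact ⟨k, heq, heq ▸ A.mul_mem (hZA ⟨hcR, mem_scalars.2 ⟨_, rfl⟩⟩) ha⟩
  -- common eigenvector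
  obtain ⟨S, -, hS⟩ := exists_minInv (inv_top A) (top_ne_bot (α := Submodule F (Fin n → F)))
  obtain ⟨w, hwS, hw0⟩ := Submodule.exists_mem_ne_zero_of_ne_bot hS.ne_bot
  have heig : ∀ a ∈ A, ∃ j : ℕ, (a : Matrix (Fin n) (Fin n) F) *ᵥ w = (ω : F) ^ j • w := by
    intro a ha
    let u : ℕ → Fin n → F := fun i => ((a ^ i : GL (Fin n) F) : Matrix (Fin n) (Fin n) F) *ᵥ w
    let W : ℕ → Fin n → F := fun j => ∑ i ∈ Finset.range E, ((ω : F) ^ j)⁻¹ ^ i • u i
    have haW : ∀ j, (a : Matrix (Fin n) (Fin n) F) *ᵥ W j = (ω : F) ^ j • W j := by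
      intro j
      set t := ((ω : F) ^ j)⁻¹ with ht
      have ht0 : (ω : F) ^ j * t = 1 := mul_inv_cancel₀ (pow_ne_zero _ ω.ne_zero)
      have hstep : (a : Matrix (Fin n) (Fin n) F) *ᵥ W j =
          (ω : F) ^ j • ∑ i ∈ Finset.range E, t ^ (i + 1) • u (i + 1) := by
        simp only [W, Matrix.mulVec_sum, Matrix.mulVec_smul, Finset.smul_sum, smul_smul, u]
        refine Finset.sum_congr rfl fun i _ => ?_
        rw [← mul_mulVec, ← pow_succ']
        congr 1
        rw [pow_succ t i, mul_comm (t ^ i) t, ← mul_assoc, ht0, one_mul]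
      rw [hstep]
      congr 1
      have h1 := Finset.sum_range_succ' (fun i => t ^ i • u i) E
      have h2 := Finset.sum_range_succ (fun i => t ^ i • u i) E
      have hlast : t ^ E • u E = t ^ 0 • u 0 := by
        have hEa : a ^ E = 1 := D.pow_exponent (hAR ha)
        have hEt : t ^ E = 1 := by
          rw [ht, inv_pow, ← pow_mul, mul_comm, pow_mul, hωF.pow_eq_one, one_pow, inv_one]
        simp [u, hEt]
        rw [← Units.val_pow_eq_pow_val, hEa, Units.val_one, Matrix.one_mulVec]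
      rw [h1, hlast] at h2
      exact add_right_cancel h2
    obtain ⟨j, hj⟩ : ∃ j, j < E ∧ W j ≠ 0 := by
      by_contra h0
      push Not at h0
      have hsum : ∑ j ∈ Finset.range E, W j = (E : F) • w := by
        simp only [W]
        rw [Finset.sum_comm]
        simp only [← Finset.sum_smul]
        rw [Finset.sum_eq_single 0]
        · simp [u]
        · intro i hi hi0
          have hne : ((ω : F) ^ i)⁻¹ ≠ 1 := by
            rw [ne_eq, inv_eq_one]
            exact hωF.pow_ne_one_of_pos_of_lt hi0 (Finset.mem_range.1 hi)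
          have : ∑ j ∈ Finset.range E, ((ω : F) ^ j)⁻¹ ^ i = 0 := by
            have hs : ∀ j, ((ω : F) ^ j)⁻¹ ^ i = (((ω : F) ^ i)⁻¹) ^ j := fun j => by
              simp only [inv_pow, ← pow_mul, mul_comm]
            simp only [hs]
            rw [geom_sum_eq hne, inv_pow, ← pow_mul, mul_comm, pow_mul, hωF.pow_eq_one, one_pow,
              inv_one, sub_self, zero_div]
          rw [this, zero_smul]
        · intro h; exact absurd (Finset.mem_range.2 hEpos) h
      rw [Finset.sum_eq_zero fun j hj => h0 j (Finset.mem_range.1 hj)] at hsum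
      exact hw0 ((smul_eq_zero.1 hsum.symm).resolve_left hEF)
    refine ⟨j, ?_⟩
    have hWS : W j ∈ S := sum_mem fun i _ => S.smul_mem _ (hS.inv _ (A.pow_mem ha i) _ hwS)
    have hinv : Inv A (S ⊓ LinearMap.ker
        (Matrix.toLin' ((a : Matrix (Fin n) (Fin n) F) - (ω : F) ^ j • 1))) := by
      refine inv_inf A hS.inv fun b hb v hv => ?_
      rw [LinearMap.mem_ker, Matrix.toLin'_apply, Matrix.sub_mulVec, Matrix.smul_mulVec,
        Matrix.one_mulVec, sub_eq_zero] at hv ⊢
      rw [← mul_mulVec, hAc a ha b hb, mul_mulVec, hv, Matrix.mulVec_smul]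
    rcases hS.min _ inf_le_left hinv with h | h
    · refine absurd ?_ hj.2
      refine (Submodule.mem_bot F).1 (h ▸ ⟨hWS, ?_⟩)
      rw [SetLike.mem_coe, LinearMap.mem_ker, Matrix.toLin'_apply, Matrix.sub_mulVec,
        Matrix.smul_mulVec, Matrix.one_mulVec, haW, sub_self]
    · have := (h.ge hwS).2
      rwa [SetLike.mem_coe, LinearMap.mem_ker, Matrix.toLin'_apply, Matrix.sub_mulVec,
        Matrix.smul_mulVec, Matrix.one_mulVec, sub_eq_zero] at this
  choose χ hχ using heig
  -- the basis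
  let K := R ⧸ A.subgroupOf R
  let y : K → GL (Fin n) F := fun q => (q.out : R)
  have hyR : ∀ q, y q ∈ R := fun q => (q.out : R).2
  let v : K → Fin n → F := fun q => (y q : Matrix (Fin n) (Fin n) F) *ᵥ w
  choose kc hkc hkA using fun (q : K) (a : A) => hconj (y q) (hyR q) a a.2
  have hev : ∀ (q : K) (a : A), ((a : GL (Fin n) F) : Matrix (Fin n) (Fin n) F) *ᵥ v q =
      ((ω : F) ^ (kc q a + χ a a.2)) • v q := by
    intro q a
    have h1 : (a : GL (Fin n) F) * y q = y q * ((y q)⁻¹ * a * y q) := by group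
    simp only [v]
    rw [← mul_mulVec, h1, hkc q a, mul_mulVec, mul_mulVec, hχ a a.2, scalarGL_mulVec, smul_smul,
      Matrix.mulVec_smul, Units.val_pow_eq_pow_val, ← pow_add]
  have hinj : Function.Injective fun (q : K) (a : A) => (ω : F) ^ (kc q a + χ a a.2) := by
    intro q q' h
    have hmem0 : y q' * (y q)⁻¹ ∈ A := by
      refine hcent _ (R.mul_mem (hyR q') (R.inv_mem (hyR q))) fun a ha => ?_
      have h2 := congrFun h ⟨a, ha⟩
      simp only [pow_add] at h2
      have h3 : ω ^ kc q ⟨a, ha⟩ = ω ^ kc q' ⟨a, ha⟩ :=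
        Units.ext (by simpa using mul_right_cancel₀ (pow_ne_zero _ ω.ne_zero) h2)
      have h4 : (y q)⁻¹ * a * y q = (y q')⁻¹ * a * y q' := by
        rw [hkc q ⟨a, ha⟩, hkc q' ⟨a, ha⟩, h3]
      calc y q' * (y q)⁻¹ * a = y q' * ((y q)⁻¹ * a * y q) * (y q)⁻¹ := by group
        _ = a * (y q' * (y q)⁻¹) := by rw [h4]; group
    have hmem : (y q)⁻¹ * y q' ∈ A := by
      have h5 := hkA q ⟨_, hmem0⟩
      simpa [mul_assoc] using h5
    calc q = QuotientGroup.mk q.out := q.out_eq.symm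
      _ = QuotientGroup.mk q'.out := QuotientGroup.eq.2 (Subgroup.mem_subgroupOf.2 hmem)
      _ = q' := q'.out_eq
  have hli : LinearIndependent F v := linearIndependent_of_eigen
    (fun a : A => Matrix.toLin' ((a : GL (Fin n) F) : Matrix (Fin n) (Fin n) F)) v _
    (fun q h => hw0 (mulVec_injective (y q) (h.trans (Matrix.mulVec_zero _).symm)))
    (fun q a => by rw [Matrix.toLin'_apply]; exact hev q a) hinj
  have hperm : ∀ x ∈ R, ∀ q : K, ∃ (q' : K) (j : ℕ),
      (x : Matrix (Fin n) (Fin n) F) *ᵥ v q = (ω : F) ^ j • v q' := by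
    intro x hx q
    let q' : K := QuotientGroup.mk (⟨x, hx⟩ * q.out)
    have hmem : (y q')⁻¹ * (x * y q) ∈ A := by
      have := QuotientGroup.eq.1 (q'.out_eq : (QuotientGroup.mk q'.out : K) = q')
      exact Subgroup.mem_subgroupOf.1 this
    refine ⟨q', χ _ hmem, ?_⟩
    simp only [v]
    conv_lhs => rw [← mul_mulVec, show x * y q = y q' * ((y q')⁻¹ * (x * y q)) by group, mul_mulVec,
      hχ _ hmem, Matrix.mulVec_smul]
  have hspan : Submodule.span F (Set.range v) = ⊤ := by
    refine (irr_iff.1 D.absIrr.1 _ fun x hx u hu => ?_).resolve_left fun h => ?_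
    · refine Submodule.span_induction ?_ ?_ ?_ ?_ hu
      · rintro _ ⟨q, rfl⟩
        obtain ⟨q', j, h⟩ := hperm x hx q
        rw [h]
        exact Submodule.smul_mem _ _ (Submodule.subset_span ⟨q', rfl⟩)
      · simp
      · intro p q _ _ hp hq; rw [Matrix.mulVec_add]; exact add_mem hp hq
      · intro c p _ hp; rw [Matrix.mulVec_smul]; exact Submodule.smul_mem _ _ hp
    · have h1 : v (QuotientGroup.mk 1) ∈ (⊥ : Submodule F (Fin n → F)) :=
        h ▸ Submodule.subset_span ⟨_, rfl⟩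
      exact hw0 (mulVec_injective (y _)
        (((Submodule.mem_bot F).1 h1).trans (Matrix.mulVec_zero _).symm))
  let _ : Fintype K := Fintype.ofFinite _
  have hK : Fintype.card K = n := by
    have h := Module.finrank_eq_card_basis (Module.Basis.mk hli hspan.ge)
    simpa using h.symm
  let e : Fin n ≃ K := (finCongr hK.symm).trans (Fintype.equivFin K).symm
  let Bm : Matrix (Fin n) (Fin n) F := Matrix.of fun i j => v (e j) i
  obtain ⟨B, hB⟩ : IsUnit Bm := by
    rw [← Matrix.linearIndependent_cols_iff_isUnit]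
    exact hli.comp e e.injective
  have hcol : ∀ j, (B : Matrix (Fin n) (Fin n) F) *ᵥ Pi.single j 1 = v (e j) := fun j => by
    rw [hB, Matrix.mulVec_single_one]; rfl
  refine ⟨B, fun x hx => ?_⟩
  choose q' k hqk using fun i => hperm x hx (e i)
  have hM : ∀ i, ((B⁻¹ * x * B : GL (Fin n) F) : Matrix (Fin n) (Fin n) F) *ᵥ Pi.single i 1 =
      (ω : F) ^ k i • (Pi.single (e.symm (q' i)) 1 : Fin n → F) := by
    intro i
    rw [mul_mulVec, mul_mulVec, hcol, hqk i, Matrix.mulVec_smul]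
    congr 1
    rw [← Equiv.apply_symm_apply e (q' i), ← hcol, Equiv.apply_symm_apply, inv_mulVec_cancel]
  have hπinj : Function.Injective fun i => e.symm (q' i) := by
    intro i i' h
    have hq : q' i = q' i' := e.symm.injective h
    by_contra hne
    have hvec : (x : Matrix (Fin n) (Fin n) F) *ᵥ ((ω : F) ^ k i' • v (e i)) =
        (x : Matrix (Fin n) (Fin n) F) *ᵥ ((ω : F) ^ k i • v (e i')) := by
      rw [Matrix.mulVec_smul, Matrix.mulVec_smul, hqk i, hqk i', hq, smul_smul, smul_smul, mul_comm]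
    have h2 := linearIndependent_iff'.1 hli {e i, e i'}
      (fun q => if q = e i then (ω : F) ^ k i' else -(ω : F) ^ k i) (by
        rw [Finset.sum_pair (fun h' => hne (e.injective h')), if_pos rfl,
          if_neg (fun h' => hne (e.injective h').symm), neg_smul, mulVec_injective x hvec,
          add_neg_cancel]) (e i) (Finset.mem_insert_self _ _)
    rw [if_pos rfl] at h2
    exact pow_ne_zero _ ω.ne_zero h2
  exact ⟨Equiv.ofBijective _ (Finite.injective_iff_bijective.1 hπinj), k, hM⟩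

theorem HeisData.realisable [Finite F] {n r : ℕ} [NeZero n] {R : Subgroup (GL (Fin n) F)} {ω : Fˣ}
    (D : HeisData n r R ω) {L : Subfield F} (hω : (ω : F) ∈ L) :
    Cfsg.Geo.RealisableOver L (Cfsg.Geo.matrixSet R) := by
  obtain ⟨B, hB⟩ := D.exists_frame
  refine ⟨B⁻¹, ?_⟩
  rintro _ ⟨x, hx, rfl⟩ a b
  obtain ⟨π, k, hπ⟩ := hB x hx
  have h := congrFun (hπ b) a
  rw [Matrix.mulVec_single_one] at h
  simp only [Matrix.col_apply, Pi.smul_apply, smul_eq_mul, Units.val_mul] at h
  rw [inv_inv, h, Pi.single_apply]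
  split
  · rw [mul_one]; exact L.pow_mem hω _
  · rw [mul_zero]; exact L.zero_mem

theorem HeisData.exists_unitary [Finite F] {n r : ℕ} [NeZero n] {R : Subgroup (GL (Fin n) F)}
    {ω : Fˣ} (D : HeisData n r R ω) {σ : F ≃+* F} (hne : σ ≠ RingEquiv.refl F)
    (hinv : ∀ a, σ (σ a) = a) (hω : (ω : F) * σ ω = 1) :
    ∃ f : (Fin n → F) → (Fin n → F) → F, Cfsg.Geo.IsUnitaryForm σ f ∧
      Cfsg.Geo.FixesForm (Cfsg.Geo.matrixSet R) f := by
  obtain ⟨B, hB⟩ := D.exists_frame
  let C : Matrix (Fin n) (Fin n) F := ((B⁻¹ : GL (Fin n) F) : Matrix (Fin n) (Fin n) F)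
  let f : (Fin n → F) → (Fin n → F) → F := fun a b => ∑ i, (C *ᵥ a) i * σ ((C *ᵥ b) i)
  have hsurj : ∀ i, ∃ a, C *ᵥ a = Pi.single i 1 := fun i =>
    ⟨(B : Matrix (Fin n) (Fin n) F) *ᵥ Pi.single i 1, inv_mulVec_cancel B _⟩
  have hnd : Cfsg.Geo.IsNondegenerateForm f := by
    intro v hv
    obtain ⟨i, hi⟩ : ∃ i, (C *ᵥ v) i ≠ 0 := by
      by_contra h
      push Not at h
      exact hv (mulVec_injective B⁻¹ (by
        show C *ᵥ v = C *ᵥ 0
        rw [Matrix.mulVec_zero]; exact funext h))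
    obtain ⟨a, ha⟩ := hsurj i
    refine ⟨⟨a, ?_⟩, ⟨a, ?_⟩⟩
    · simp only [f, ha, Pi.single_apply, ite_mul, one_mul, zero_mul, Finset.sum_ite_eq',
        Finset.mem_univ, if_true]
      exact fun h => hi ((map_eq_zero_iff σ σ.injective).1 h)
    · simp only [f, ha, Pi.single_apply, apply_ite σ, map_one, map_zero, mul_ite, mul_one,
        mul_zero, Finset.sum_ite_eq', Finset.mem_univ, if_true]
      exact hi
  refine ⟨f, ⟨hne, hinv, ?_, ?_, ?_, hnd⟩, ?_⟩
  · intro x y v; simp [f, Matrix.mulVec_add, add_mul, Finset.sum_add_distrib]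
  · intro c x v; simp [f, Matrix.mulVec_smul, Finset.mul_sum, mul_assoc]
  · intro v w
    simp only [f, map_sum, map_mul, hinv]
    exact Finset.sum_congr rfl fun i _ => mul_comm _ _
  rintro _ ⟨x, hx, rfl⟩ a b
  obtain ⟨π, k, hπ⟩ := hB x hx
  have hco : ∀ (c : Fin n → F) i,
      (((B⁻¹ * x * B : GL (Fin n) F) : Matrix (Fin n) (Fin n) F) *ᵥ c) (π i) =
        (ω : F) ^ k i * c i := by
    intro c i
    conv_lhs => rw [pi_eq_sum_univ' c, Matrix.mulVec_sum, Finset.sum_apply]
    rw [Finset.sum_eq_single i]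
    · rw [Matrix.mulVec_smul, hπ]; simp [mul_comm]
    · intro j _ hj
      rw [Matrix.mulVec_smul, hπ]
      simp [π.injective.ne (Ne.symm hj)]
    · simp
  have hcoord : ∀ c : Fin n → F, C *ᵥ ((x : Matrix (Fin n) (Fin n) F) *ᵥ c) =
      ((B⁻¹ * x * B : GL (Fin n) F) : Matrix (Fin n) (Fin n) F) *ᵥ (C *ᵥ c) := by
    intro c; rw [mul_mulVec, mul_mulVec, mulVec_inv_cancel]
  simp only [f, hcoord]
  conv_lhs => rw [← Equiv.sum_comp π]
  simp only [hco, map_mul, map_pow]
  refine Finset.sum_congr rfl fun i _ => ?_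
  have h1 : (ω : F) ^ k i * (σ ω) ^ k i = 1 := by rw [← mul_pow, hω, one_pow]
  linear_combination ((C *ᵥ a) i * σ ((C *ᵥ b) i)) * h1

theorem HeisData.card_eq [Finite F] {n r : ℕ} [NeZero n] {R : Subgroup (GL (Fin n) F)} {ω : Fˣ}
    (D : HeisData n r R ω) :
    Nat.card (Subgroup.center R) = r * Nat.gcd 2 r ∧
      Nat.card R = n ^ 2 * (r * Nat.gcd 2 r) ∧
      (∀ w : R, w ∈ Subgroup.center R ↔ (w : GL (Fin n) F) ∈ Cfsg.Geo.scalars (Fin n) F) := by
  classical
  have hcenter : ∀ w : R, w ∈ Subgroup.center R ↔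
      (w : GL (Fin n) F) ∈ Cfsg.Geo.scalars (Fin n) F := by
    intro w
    rw [Subgroup.mem_center_iff]
    constructor
    · intro h
      exact D.absIrr.mem_scalars fun a ha => (congrArg Subtype.val (h ⟨a, ha⟩)).symm
    · intro h g
      exact Subtype.ext (scalars_comm h (g : GL (Fin n) F)).symm
  have hcen : Subgroup.center R = (Cfsg.Geo.scalars (Fin n) F).subgroupOf R := by
    ext w; rw [hcenter, Subgroup.mem_subgroupOf]
  have hZ : Nat.card (Subgroup.center R) = r * Nat.gcd 2 r := by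
    let g : R := ⟨_, D.mem⟩
    have hzp : Subgroup.center R = Subgroup.zpowers g := by
      refine le_antisymm (fun w hw => ?_)
        ((Subgroup.zpowers_le).2 ((hcenter _).2 (mem_scalars.2 ⟨ω, rfl⟩)))
      obtain ⟨a, ha⟩ := mem_scalars.1 ((hcenter w).1 hw)
      obtain ⟨k, rfl⟩ := D.scalar_eq (ha ▸ w.2 : scalarGL (Fin n) a ∈ R)
      have : w = g ^ k := Subtype.ext (by rw [ha, scalarGL_pow]; rfl)
      rw [this]
      exact Subgroup.pow_mem _ (Subgroup.mem_zpowers g) k
    have hord : orderOf g = orderOf ω := by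
      rw [← Subgroup.orderOf_coe, ← orderOf_injective (Units.map
        (Matrix.scalar (Fin n) : F →+* Matrix (Fin n) (Fin n) F).toMonoidHom)
        (scalarGL_injective (ι := Fin n)) ω]
      rfl
    rw [hzp, Nat.card_zpowers, hord, D.root.eq_orderOf]
  refine ⟨hZ, ?_, hcenter⟩
  let S := (Cfsg.Geo.scalars (Fin n) F).subgroupOf R
  let Q := R ⧸ S
  let v : Q → GL (Fin n) F := fun q => (q.out : R)
  have hli : LinearIndependent F fun q => (v q : Matrix (Fin n) (Fin n) F) := by
    refine linearIndependent_cosets D.absIrr D.comm v (fun q => (q.out : R).2) fun q q' h => ?_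
    calc q = QuotientGroup.mk q.out := q.out_eq.symm
      _ = QuotientGroup.mk q'.out := QuotientGroup.eq.2 (Subgroup.mem_subgroupOf.2 h)
      _ = q' := q'.out_eq
  have hspan : ⊤ ≤ Submodule.span F (Set.range fun q => (v q : Matrix (Fin n) (Fin n) F)) := by
    rw [← envelope_eq_top D.absIrr]
    refine Submodule.span_le.2 ?_
    rintro _ ⟨x, hx, rfl⟩
    let q : Q := QuotientGroup.mk ⟨x, hx⟩
    have hmem : (v q)⁻¹ * x ∈ Cfsg.Geo.scalars (Fin n) F :=
      Subgroup.mem_subgroupOf.1 (QuotientGroup.eq.1 (q.out_eq : (QuotientGroup.mk q.out : Q) = q))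
    obtain ⟨z, hz⟩ := mem_scalars.1 hmem
    have hx' : x = scalarGL (Fin n) z * v q := by rw [scalarGL_comm, ← hz]; group
    show (x : Matrix (Fin n) (Fin n) F) ∈ _
    rw [hx', Units.val_mul, scalarGL_val, Matrix.smul_mul, one_mul]
    exact Submodule.smul_mem _ _ (Submodule.subset_span ⟨q, rfl⟩)
  let _ : Fintype Q := Fintype.ofFinite _
  have hQ : Nat.card Q = n ^ 2 := by
    have h := Module.finrank_eq_card_basis (Module.Basis.mk hli hspan)
    rw [Module.finrank_matrix, Module.finrank_self, Fintype.card_fin, mul_one] at h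
    rw [Nat.card_eq_fintype_card, ← h, sq]
  rw [Subgroup.card_eq_card_quotient_mul_card_subgroup S, ← hZ, hcen]
  exact congrArg (· * _) hQ

end CfsgLib.Aschbacher
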