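import Cfsg.Agent.Lib.Aschbacher.UnitaryThree
import Cfsg.Agent.Lib.Aschbacher.SymplecticType
import Cfsg.Agent.Lib.PSLn.Descent

/-!
Two equal tensor factors: orthonormal frames, and the extraspecial group of order 243 normalised
by the stabiliser of a pair of planes over four elements.
-/

set_option autoImplicit false
set_option maxHeartbeats 800000

namespace CfsgLib.Aschbacher

open Matrix Module

open scoped Kronecker

variable {F : Type*} [Field F]

/-- Hermitian Gram matrices are congruent to the identity. -/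
theorem exists_orthonormal [Finite F] {σ : F ≃+* F} (hne : σ ≠ RingEquiv.refl F)
    (hinv : ∀ a, σ (σ a) = a) {a : ℕ} {G : Matrix (Fin a) (Fin a) F} (hG : IsUnit G)
    (hherm : Gᵀ = G.map σ) :
    ∃ C : GL (Fin a) F,
      (C : Matrix (Fin a) (Fin a) F)ᵀ * G * (C : Matrix (Fin a) (Fin a) F).map σ = 1 := by
  obtain ⟨g, rfl⟩ := hG
  have hord : orderOf (σ : RingAut F) = 2 :=
    orderOf_eq_prime (by rw [pow_two]; exact RingEquiv.ext hinv) hne
  obtain ⟨k, hk⟩ := CfsgLib.PSLn.exists_hermitian_factor (σ : RingAut F) hord g (by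
    rw [hherm]; ext i j; simp [hinv])
  let m : Matrix (Fin a) (Fin a) F →+* Matrix (Fin a) (Fin a) F := σ.toRingHom.mapMatrix
  have hm : ∀ M, m M = M.map σ := fun _ => rfl
  obtain ⟨kt, hkt⟩ : IsUnit ((k : Matrix (Fin a) (Fin a) F)ᵀ) :=
    (Matrix.isUnit_transpose _).2 k.isUnit
  refine ⟨kt⁻¹, ?_⟩
  have h1 : ((kt⁻¹ : GL (Fin a) F) : Matrix (Fin a) (Fin a) F)ᵀ *
      (k : Matrix (Fin a) (Fin a) F) = 1 := by
    have h := congrArg Matrix.transpose (Units.mul_inv kt)
    rw [Matrix.transpose_mul, hkt, Matrix.transpose_transpose, Matrix.transpose_one] at h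
    exact h
  have h2 : ((k : Matrix (Fin a) (Fin a) F).map σ)ᵀ *
      ((kt⁻¹ : GL (Fin a) F) : Matrix (Fin a) (Fin a) F).map σ = 1 := by
    rw [← Matrix.transpose_map, ← hkt, ← hm, ← hm, ← map_mul, Units.mul_inv, map_one]
  rw [hk, ← mul_assoc, h1, one_mul]
  exact h2

lemma unitaryFormPow_formOfGram {q : ℕ} {σ : F ≃+* F} (hσ : ∀ a, σ a = a ^ q)
    (hinv : ∀ a, σ (σ a) = a) {b : ℕ} {G : Matrix (Fin b) (Fin b) F} (hG : IsUnit G)
    (hherm : Gᵀ = G.map σ) :
    Cfsg.Geo.IsUnitaryFormPow q (Cfsg.Geo.formOfGram (fun x : F => x ^ q) G) := by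
  have hfun : (fun x : F => x ^ q) = (σ : F → F) := funext fun x => (hσ x).symm
  rw [hfun]
  have hsw : ∀ u v, Cfsg.Geo.formOfGram σ G u v = σ (Cfsg.Geo.formOfGram σ G v u) := by
    intro u v
    simp only [Cfsg.Geo.formOfGram, map_sum, map_mul, hinv]
    rw [Finset.sum_comm]
    refine Finset.sum_congr rfl fun c _ => Finset.sum_congr rfl fun d _ => ?_
    have h : σ (G c d) = G d c := (congrFun (congrFun hherm c) d).symm
    rw [h]; ring
  refine ⟨fun x y v => ?_, fun c x v => ?_, fun v w => by rw [hsw v w, hσ], fun v hv => ?_⟩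
  · simp [formOfGram_eq, add_dotProduct]
  · simp [formOfGram_eq, smul_dotProduct]
  · obtain ⟨i, hi⟩ : ∃ i, (G *ᵥ ((σ : F → F) ∘ v)) i ≠ 0 := by
      by_contra h
      push Not at h
      have h0 : (σ : F → F) ∘ v = 0 := Matrix.mulVec_injective_iff_isUnit.2 hG
        (?_ : G *ᵥ _ = G *ᵥ 0)
      · exact hv (funext fun i => (map_eq_zero σ.toRingHom).1 (congrFun h0 i))
      · rw [Matrix.mulVec_zero]; exact funext h
    have h1 : Cfsg.Geo.formOfGram σ G (Pi.single i 1) v ≠ 0 := by simpa [formOfGram_eq] using hi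
    exact ⟨⟨_, h1⟩, ⟨Pi.single i 1, fun h => h1 (by rw [hsw, h, map_zero])⟩⟩

/-- The Kronecker product of invertible matrices, as a homomorphism. -/
def kronHom (a b : ℕ) (F : Type*) [Field F] :
    GL (Fin a) F × GL (Fin b) F →* GL (Fin a × Fin b) F where
  toFun x :=
    ⟨(x.1 : Matrix (Fin a) (Fin a) F) ⊗ₖ (x.2 : Matrix (Fin b) (Fin b) F),
      ((x.1⁻¹ : GL (Fin a) F) : Matrix (Fin a) (Fin a) F) ⊗ₖ
        ((x.2⁻¹ : GL (Fin b) F) : Matrix (Fin b) (Fin b) F),
      by rw [← Matrix.mul_kronecker_mul, Units.mul_inv, Units.mul_inv, Matrix.one_kronecker_one],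
      by rw [← Matrix.mul_kronecker_mul, Units.inv_mul, Units.inv_mul, Matrix.one_kronecker_one]⟩
  map_one' := Units.ext Matrix.one_kronecker_one
  map_mul' x y := Units.ext (Matrix.mul_kronecker_mul _ _ _ _)

@[simp]
lemma kronHom_val {a b : ℕ} (x : GL (Fin a) F × GL (Fin b) F) :
    ((kronHom a b F x : GL (Fin a × Fin b) F) : Matrix (Fin a × Fin b) (Fin a × Fin b) F) =
      (x.1 : Matrix (Fin a) (Fin a) F) ⊗ₖ (x.2 : Matrix (Fin b) (Fin b) F) := rfl

variable {ι κ : Type} [Fintype ι] [DecidableEq ι] [Fintype κ] [DecidableEq κ]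

lemma frU_frame_change (e : ι ≃ κ) (P : GL ι F) (X y : GL κ F) :
    frU e (frU e P X * P) y = frU e P (X * y * X⁻¹) := by
  rw [map_mul, map_mul, map_inv]
  show MulAut.conj (frU e P X * P) (Cfsg.Geo.glReindex e.symm y) =
    frU e P X * MulAut.conj P (Cfsg.Geo.glReindex e.symm y) * (frU e P X)⁻¹
  simp [mul_assoc]

lemma pullForm_frame_change {f : (ι → F) → (ι → F) → F} (e : ι ≃ κ) (P : GL ι F) (X : GL κ F)
    (x y : κ → F) :
    pullForm e (frU e P X * P) f x y =
      pullForm e P f ((X : Matrix κ κ F) *ᵥ x) ((X : Matrix κ κ F) *ᵥ y) := by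
  simp only [pullForm, mul_mulVec, frU_val, frAlg_mulVec]

lemma isometry_of_pull {f : (ι → F) → (ι → F) → F} (e : ι ≃ κ) (P : GL ι F) (X : GL κ F)
    (h : ∀ x y, pullForm e P f ((X : Matrix κ κ F) *ᵥ x) ((X : Matrix κ κ F) *ᵥ y) =
      pullForm e P f x y) (u v : ι → F) :
    f ((frU e P X : Matrix ι ι F) *ᵥ u) ((frU e P X : Matrix ι ι F) *ᵥ v) = f u v := by
  obtain ⟨x, rfl⟩ := pullForm_surj e P u
  obtain ⟨y, rfl⟩ := pullForm_surj e P v
  rw [frU_val, frAlg_mulVec, frAlg_mulVec]
  exact h x y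

lemma E27_scalar_comm [Fintype F] {hF : Fintype.card F = 2 ^ 2} {x y : GL (Fin 3) F}
    (hx : x ∈ E27 hF) (hy : y ∈ E27 hF) :
    x * y * x⁻¹ * y⁻¹ ∈ Cfsg.Geo.scalars (Fin 3) F := by
  obtain ⟨s, ε, hε, hxm⟩ := hx
  obtain ⟨t, δ, hδ, hym⟩ := hy
  have hrot : ∀ {η : Fin 3 → F}, η 0 * η 1 * η 2 = 1 → ∀ t j k,
      η (j + t) * η k = η (k + t) * η j := by
    intro η hη t j k
    have h3 := fun i => cube_of_four hF (mono_support_ne hη i)
    have A0 : η 0 * η 0 = η 1 * η 2 := mul_left_cancel₀ (mono_support_ne hη 0)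
      (by linear_combination h3 0 - hη)
    have A1 : η 1 * η 1 = η 2 * η 0 := mul_left_cancel₀ (mono_support_ne hη 1)
      (by linear_combination h3 1 - hη)
    have A2 : η 2 * η 2 = η 0 * η 1 := mul_left_cancel₀ (mono_support_ne hη 2)
      (by linear_combination h3 2 - hη)
    rcases fin_three_cases t with rfl | rfl | rfl <;> rcases fin_three_cases j with rfl | rfl | rfl <;>
      rcases fin_three_cases k with rfl | rfl | rfl <;> simp <;>
      first | ring1 | linear_combination A0 | linear_combination -A0 | linear_combination A1 |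
        linear_combination -A1 | linear_combination A2 | linear_combination -A2
  set c := ε (0 + t) * δ 0 / (δ (0 + s) * ε 0) with hc
  have hden : δ (0 + s) * ε 0 ≠ 0 :=
    mul_ne_zero (mono_support_ne hδ _) (mono_support_ne hε _)
  have hc0 : c ≠ 0 :=
    div_ne_zero (mul_ne_zero (mono_support_ne hε _) (mono_support_ne hδ _)) hden
  have h : x * y = scalarGL (Fin 3) (Units.mk0 c hc0) * (y * x) := by
    refine Units.ext ?_
    rw [Units.val_mul, Units.val_mul, Units.val_mul, scalarGL_val, Units.val_mk0, hxm, hym,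
      mono_mul, mono_mul, Matrix.smul_mul, one_mul]
    have hmain : ∀ j, c * (δ (j + s) * ε j) = ε (j + t) * δ j := by
      intro j
      refine mul_left_cancel₀ hden ?_
      rw [← mul_assoc, hc, mul_div_cancel₀ _ hden]
      linear_combination (δ 0 * δ (j + s)) * hrot hε t 0 j
        + (ε (j + t) * ε 0) * hrot hδ s j 0
    ext i j
    simp only [mono, Matrix.of_apply, Matrix.smul_apply, smul_eq_mul, add_comm t s]
    split
    · exact (hmain j).symm
    · rw [mul_zero]
  refine mem_scalars.2 ⟨Units.mk0 c hc0, ?_⟩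
  rw [h]; group

lemma mono_diag_sum [Fintype F] (hF : Fintype.card F = 2 ^ 2) {w : F} (hw0 : w ≠ 0) (hw1 : w ≠ 1) :
    Matrix.single 0 0 (1 : F) =
      mono 0 (fun _ => (1 : F)) + mono 0 ![1, w, w ^ 2] + mono 0 ![1, w ^ 2, w] := by
  have h2 := two_zero_of_four hF
  have hww : 1 + w + w ^ 2 = 0 := by
    refine mul_left_cancel₀ (sub_ne_zero.2 hw1) ?_
    linear_combination cube_of_four hF hw0
  ext i j
  rcases fin_three_cases i with rfl | rfl | rfl <;> rcases fin_three_cases j with rfl | rfl | rfl <;>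
    simp [mono, Matrix.single_apply] <;>
    first | linear_combination h2 | linear_combination -h2 | linear_combination hww | linear_combination -hww | linear_combination hww + h2 |
      linear_combination -hww - h2

/-- The elements of the extraspecial group span all matrices. -/
lemma E27_span [Fintype F] (hF : Fintype.card F = 2 ^ 2) :
    Submodule.span F (Cfsg.Geo.matrixSet (E27 hF)) = ⊤ := by
  classical
  set S := Submodule.span F (Cfsg.Geo.matrixSet (E27 hF))
  have hmem : ∀ s (ε : Fin 3 → F), ε 0 * ε 1 * ε 2 = 1 → mono s ε ∈ S := by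
    intro s ε hε
    have h3 := mono_cube_eq s ε (fun j => cube_of_four hF (mono_support_ne hε j)) hε
    exact Submodule.subset_span ⟨⟨mono s ε, mono s ε * mono s ε, by rw [← mul_assoc]; exact h3,
      h3⟩, ⟨s, ε, hε, rfl⟩, rfl⟩
  have hmul : ∀ M ∈ S, ∀ N ∈ S, M * N ∈ S := fun M hM N hN => mul_mem_envelope hM hN
  obtain ⟨w, hw0, hw1⟩ := exists_cube_root hF
  have hw3 := cube_of_four hF hw0
  have h00 : Matrix.single 0 0 (1 : F) ∈ S := by
    rw [mono_diag_sum hF hw0 hw1]
    refine add_mem (add_mem (hmem 0 _ (by simp)) (hmem 0 _ ?_)) (hmem 0 _ ?_) <;>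
      simp <;> linear_combination hw3
  have hsingle : ∀ i j : Fin 3, Matrix.single i j (1 : F) ∈ S := by
    intro i j
    have h : Matrix.single i j (1 : F) =
        mono i (fun _ => (1 : F)) * Matrix.single 0 0 1 * mono (-j) (fun _ => (1 : F)) := by
      ext k l
      rcases fin_three_cases i with rfl | rfl | rfl <;>
        rcases fin_three_cases j with rfl | rfl | rfl <;>
        rcases fin_three_cases k with rfl | rfl | rfl <;>
        rcases fin_three_cases l with rfl | rfl | rfl <;>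
        simp +decide [mono, Matrix.single_apply, Matrix.mul_apply, Fin.sum_univ_three]
    rw [h]
    exact hmul _ (hmul _ (hmem i _ (by simp)) _ h00) _ (hmem _ _ (by simp))
  refine eq_top_iff.2 fun M _ => ?_
  rw [Matrix.matrix_eq_sum_single M]
  refine sum_mem fun i _ => sum_mem fun j _ => ?_
  rw [show Matrix.single i j (M i j) = M i j • Matrix.single i j (1 : F) by
    rw [Matrix.smul_single, smul_eq_mul, mul_one]]
  exact S.smul_mem _ (hsingle i j)

/-- A group of isometries preserving two planes over four elements normalises a group of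
symplectic type. -/
theorem pair_three_class [Fintype F] {n : ℕ} (hF : Fintype.card F = 2 ^ 2) {σ : F ≃+* F}
    (hσ : ∀ a, σ a = a ^ 2) (hf : Cfsg.Geo.IsUnitaryForm σ (Cfsg.hermForm n F 2))
    {H : Subgroup (GL (Fin n) F)} (hH : H ≤ Cfsg.GU n F 2) {e : Fin n ≃ Fin 3 × Fin 3}
    {P : GL (Fin n) F} {c₀ : F} (hc₀ : c₀ ≠ 0)
    (hpull : ∀ x y, pullForm e P (Cfsg.hermForm n F 2) x y =
      c₀ * Cfsg.Geo.formOfGram σ (1 : Matrix (Fin 3 × Fin 3) (Fin 3 × Fin 3) F) x y)
    (hle : H ≤ (Cfsg.Geo.kroneckerSubgroup 3 3 F).map (frU e P).toMonoidHom) :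
    InUnitClassOver 2 H := by
  classical
  have hn : n = 9 := by simpa using Fintype.card_congr e
  subst hn
  have h3 : Nat.Prime 3 := Nat.prime_three
  set E := E27 hF
  let ρ : GL (Fin 3) F × GL (Fin 3) F →* GL (Fin 9) F :=
    (frU e P).toMonoidHom.comp (kronHom 3 3 F)
  have hρval : ∀ a b, (ρ (a, b) : Matrix (Fin 9) (Fin 9) F) =
      frAlg e P ((a : Matrix (Fin 3) (Fin 3) F) ⊗ₖ (b : Matrix (Fin 3) (Fin 3) F)) := fun a b => by
    show ((frU e P (kronHom 3 3 F (a, b)) : GL (Fin 9) F) : Matrix (Fin 9) (Fin 9) F) = _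
    rw [frU_val, kronHom_val]
  set R := (E.prod E).map ρ with hR
  have hmemR : ∀ {a b}, a ∈ E → b ∈ E → ρ (a, b) ∈ R := fun ha hb =>
    Subgroup.mem_map_of_mem _ ⟨ha, hb⟩
  have hU3mat : ∀ {c : GL (Fin 3) F}, c ∈ U3 F ↔
      (c : Matrix (Fin 3) (Fin 3) F)ᵀ * (c : Matrix (Fin 3) (Fin 3) F).map σ = 1 := by
    intro c
    have hs3 : Cfsg.hermForm 3 F 2 = Cfsg.Geo.formOfGram σ (1 : Matrix (Fin 3) (Fin 3) F) := by
      funext u v
      rw [formOfGram_eq, Matrix.one_mulVec]
      simp [Cfsg.hermForm, dotProduct, hσ]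
    rw [mem_GU, hs3]
    simp only [formOfGram_eq, Matrix.one_mulVec, comp_mulVec]
    constructor
    · intro h
      ext i j
      have := h (Pi.single i 1) (Pi.single j 1)
      rw [map_single_one, Matrix.mulVec_single_one, Matrix.mulVec_single_one] at this
      simpa [Matrix.mul_apply, dotProduct, Matrix.col, Matrix.one_apply, Pi.single_apply,
        eq_comm] using this
    · intro h u v
      rw [← Matrix.vecMul_transpose, ← Matrix.dotProduct_mulVec, Matrix.mulVec_mulVec, h,
        Matrix.one_mulVec]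
  -- isometries
  have hsim : R ≤ Cfsg.Geo.similarityGroup (Cfsg.hermForm 9 F 2) := by
    rintro _ ⟨⟨a, b⟩, ⟨ha, hb⟩, rfl⟩
    refine ⟨1, fun u v => ?_⟩
    rw [Units.val_one, one_mul]
    refine isometry_of_pull (f := Cfsg.hermForm 9 F 2) e P _ (fun x y => ?_) u v
    rw [hpull, hpull, formOfGram_eq, formOfGram_eq, comp_mulVec, Matrix.one_mulVec,
      Matrix.one_mulVec, kronHom_val, ← Matrix.vecMul_transpose, ← Matrix.dotProduct_mulVec,
      Matrix.mulVec_mulVec]
    have hk : ((a : Matrix (Fin 3) (Fin 3) F) ⊗ₖ (b : Matrix (Fin 3) (Fin 3) F)).map σ =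
        (a : Matrix (Fin 3) (Fin 3) F).map σ ⊗ₖ (b : Matrix (Fin 3) (Fin 3) F).map σ := by
      ext ⟨p, q⟩ ⟨r, s⟩; simp
    rw [hk, ← Matrix.kroneckerMap_transpose, ← Matrix.mul_kronecker_mul,
      hU3mat.1 (E27_le_U3 hF ha), hU3mat.1 (E27_le_U3 hF hb), Matrix.one_kronecker_one,
      Matrix.one_mulVec]
  -- absolute irreducibility
  have henv : envelope R = ⊤ := by
    have hsub : ∀ M : Matrix (Fin 3 × Fin 3) (Fin 3 × Fin 3) F, frAlg e P M ∈ envelope R := by
      intro M
      rw [Matrix.matrix_eq_sum_single M, map_sum]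
      refine sum_mem fun i _ => ?_
      rw [map_sum]
      refine sum_mem fun j _ => ?_
      rw [show Matrix.single i j (M i j) =
        M i j • (Matrix.single i.1 j.1 (1 : F) ⊗ₖ Matrix.single i.2 j.2 (1 : F)) by
          rw [Matrix.single_kronecker_single, Matrix.smul_single, smul_eq_mul, mul_one, mul_one],
        map_smul]
      refine Submodule.smul_mem _ _ ?_
      have h1 : Matrix.single i.1 j.1 (1 : F) ∈ Submodule.span F (Cfsg.Geo.matrixSet E) := by
        rw [E27_span hF]; exact Submodule.mem_top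
      refine Submodule.span_induction (p := fun A _ =>
        frAlg e P (A ⊗ₖ Matrix.single i.2 j.2 (1 : F)) ∈ envelope R) ?_ ?_ ?_ ?_ h1
      · rintro _ ⟨a, ha, rfl⟩
        have h2 : Matrix.single i.2 j.2 (1 : F) ∈ Submodule.span F (Cfsg.Geo.matrixSet E) := by
          rw [E27_span hF]; exact Submodule.mem_top
        refine Submodule.span_induction (p := fun B _ =>
          frAlg e P ((a : Matrix (Fin 3) (Fin 3) F) ⊗ₖ B) ∈ envelope R) ?_ ?_ ?_ ?_ h2
        · rintro _ ⟨b, hb, rfl⟩
          exact Submodule.subset_span ⟨_, hmemR ha hb, hρval a b⟩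
        · simp
        · intro x y _ _ hx hy; rw [Matrix.kronecker_add, map_add]; exact add_mem hx hy
        · intro c x _ hx; rw [Matrix.kronecker_smul, map_smul]; exact Submodule.smul_mem _ c hx
      · simp
      · intro x y _ _ hx hy; rw [Matrix.add_kronecker, map_add]; exact add_mem hx hy
      · intro c x _ hx; rw [Matrix.smul_kronecker, map_smul]; exact Submodule.smul_mem _ c hx
    refine eq_top_iff.2 fun M _ => ?_
    obtain ⟨M', rfl⟩ := (frAlg e P).surjective M
    exact hsub M'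
  have hRabs : AbsIrr R := by
    refine ⟨irr_iff.2 fun W hW => ?_, fun M hM => ?_⟩
    · by_cases hWb : W = ⊥
      · exact Or.inl hWb
      right
      obtain ⟨v, hv, hv0⟩ := Submodule.exists_mem_ne_zero_of_ne_bot hWb
      obtain ⟨k, hk⟩ := Function.ne_iff.1 hv0
      refine eq_top_iff.2 fun x _ => ?_
      have hx : x = Matrix.of (fun i j => if j = k then x i / v k else 0) *ᵥ v := by
        funext i
        simp [Matrix.mulVec, dotProduct, div_mul_cancel₀ _ (show v k ≠ 0 from hk)]
      rw [hx]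
      exact envelope_mulVec_mem hW (henv ▸ Submodule.mem_top) hv
    · have hall : ∀ X : Matrix (Fin 9) (Fin 9) F, M * X = X * M := by
        intro X
        have hX : X ∈ envelope R := henv ▸ Submodule.mem_top
        refine Submodule.span_induction (p := fun X _ => M * X = X * M) hM ?_ ?_ ?_ hX
        · simp
        · intro x y _ _ hx hy; rw [mul_add, add_mul, hx, hy]
        · intro c x _ hx; rw [Matrix.mul_smul, Matrix.smul_mul, hx]
      refine ⟨M 0 0, Matrix.ext fun i j => ?_⟩
      have := congrFun (congrFun (hall (Matrix.single 0 i (1 : F))) 0) j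
      by_cases hij : i = j
      · subst hij; simpa [Matrix.mul_apply, Matrix.single_apply] using this.symm
      · simpa [Matrix.mul_apply, Matrix.single_apply, hij, Ne.symm hij] using this.symm
  obtain ⟨w, hw0, hw1⟩ := exists_cube_root hF
  set ω : Fˣ := Units.mk0 w hw0 with hωdef
  have hω : orderOf ω = 3 := by
    haveI : Fact (Nat.Prime 3) := ⟨h3⟩
    refine orderOf_eq_prime (Units.ext ?_) fun h => hw1 (congrArg Units.val h)
    simpa [hωdef] using cube_of_four hF hw0
  have hscal : ∀ (u v : Fˣ),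
      ρ (scalarGL (Fin 3) u, scalarGL (Fin 3) v) = scalarGL (Fin 9) (u * v) := by
    intro u v
    refine Units.ext ?_
    rw [hρval, scalarGL_val, scalarGL_val, scalarGL_val, Matrix.smul_kronecker,
      Matrix.kronecker_smul, smul_smul, Matrix.one_kronecker_one, map_smul, map_one]
    simp
  have hωE : scalarGL (Fin 3) ω ∈ E := by
    refine ⟨0, fun _ => w, ?_, ?_⟩
    · linear_combination cube_of_four hF hw0
    · rw [scalarGL_val]; ext i j; simp [mono, Matrix.one_apply, hωdef]
  have hcube : ∀ x ∈ R, x ^ 3 = 1 := by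
    rintro _ ⟨⟨a, b⟩, ⟨ha, hb⟩, rfl⟩
    rw [← map_pow, Prod.pow_mk, E27_cube hF ha, E27_cube hF hb]
    exact map_one ρ
  have hg23 : (3 : ℕ) * Nat.gcd 2 3 = 3 := rfl
  have D : HeisData 9 3 R ω := by
    refine ⟨h3, hRabs, ?_, fun x hx => ⟨1, one_pow _, by rw [hcube x hx, scalarGL_one]⟩,
      by rw [hg23, ← hω]; exact IsPrimitiveRoot.orderOf ω, ?_⟩
    · rintro _ ⟨⟨a, b⟩, ⟨ha, hb⟩, rfl⟩ _ ⟨⟨c, d⟩, ⟨hc, hd⟩, rfl⟩
      obtain ⟨u, hu⟩ := mem_scalars.1 (E27_scalar_comm ha hc)
      obtain ⟨v, hv⟩ := mem_scalars.1 (E27_scalar_comm hb hd)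
      refine mem_scalars.2 ⟨u * v, ?_⟩
      rw [← hscal, ← hu, ← hv]
      simp [← map_mul, ← map_inv]
    · have h := hmemR hωE (E.one_mem)
      rwa [← scalarGL_one (ι := Fin 3), hscal, mul_one] at h
  obtain ⟨hcz, hcard, hcenter⟩ := D.card_eq
  rw [hg23] at hcz hcard
  have hnorm : ∀ g, g ∈ U3 F → ∀ g', g' ∈ U3 F → ∀ x ∈ R,
      ρ (g, g') * x * (ρ (g, g'))⁻¹ ∈ R := by
    rintro g hg g' hg' _ ⟨⟨a, b⟩, ⟨ha, hb⟩, rfl⟩
    rw [← map_inv, ← map_mul, ← map_mul]
    exact hmemR (E27_normal hF hg ha) (E27_normal hF hg' hb)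
  have htype : Cfsg.Geo.IsSymplecticTypeGroup 3 R := by
    refine ⟨h3, fun x => ⟨1, Subtype.ext ?_⟩, fun A hA hcomm => ?_, ?_⟩
    · rw [SubmonoidClass.coe_pow, pow_one]; exact hcube x x.2
    · -- characteristic abelian subgroups are central
      have hconj : ∀ g g', g ∈ U3 F → g' ∈ U3 F → ∀ x : R, x ∈ A →
          ∀ hy : ρ (g, g') * x * (ρ (g, g'))⁻¹ ∈ R, (⟨_, hy⟩ : R) ∈ A := by
        intro g g' hg hg' x hx hy
        let φ : R ≃* R :=
          { toFun := fun a => ⟨ρ (g, g') * a * (ρ (g, g'))⁻¹, hnorm g hg g' hg' a a.2⟩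
            invFun := fun a => ⟨(ρ (g, g'))⁻¹ * a * ρ (g, g'), by
              have := hnorm g⁻¹ ((U3 F).inv_mem hg) g'⁻¹ ((U3 F).inv_mem hg') a a.2
              rwa [← Prod.inv_mk, map_inv, inv_inv] at this⟩
            left_inv := fun a => Subtype.ext (by simp [mul_assoc])
            right_inv := fun a => Subtype.ext (by simp [mul_assoc])
            map_mul' := fun a b => Subtype.ext (by simp [mul_assoc]) }
        have hfix : A.map φ.toMonoidHom = A := Subgroup.characteristic_iff_map_eq.1 hA φ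
        have h := Subgroup.mem_map_of_mem φ.toMonoidHom hx
        rw [hfix] at h
        exact h
      have hle' : A ≤ Subgroup.center R := by
        intro x hx
        obtain ⟨⟨a, b⟩, ⟨ha, hb⟩, hab⟩ := x.2
        have hAc : ∀ y : R, y ∈ A → (x : GL (Fin 9) F) * y = y * x := fun y hy =>
          congrArg Subtype.val (congrArg Subtype.val (mul_comm' (⟨x, hx⟩ : A) ⟨y, hy⟩))
        have hasc : a ∈ Cfsg.Geo.scalars (Fin 3) F := by
          by_contra hns
          obtain ⟨g, hg, hne⟩ := E27_conj_noncomm hF ha hns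
          have hy := hnorm g hg 1 (U3 F).one_mem x x.2
          have hc := hAc ⟨_, hy⟩ (hconj g 1 hg (U3 F).one_mem x hx hy)
          apply hne
          have hc' : kronHom 3 3 F (a * (g * a * g⁻¹), b * b) =
              kronHom 3 3 F (g * a * g⁻¹ * a, b * b) := by
            apply (frU e P).injective
            show ρ (_, _) = ρ (_, _)
            have : ρ (g, 1) * x * (ρ (g, 1))⁻¹ = ρ (g * a * g⁻¹, b) := by
              rw [← hab, ← map_inv, ← map_mul, ← map_mul]; simp
            have hc2 : (x : GL (Fin 9) F) * (ρ (g, 1) * x * (ρ (g, 1))⁻¹) =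
                ρ (g, 1) * x * (ρ (g, 1))⁻¹ * x := hc
            rw [this, ← hab, ← map_mul, ← map_mul] at hc2
            exact hc2
          refine Units.ext ?_
          have hv := congrArg Units.val hc'
          rw [kronHom_val, kronHom_val] at hv
          obtain ⟨p, q, hpq⟩ : ∃ p q, ((b * b : GL (Fin 3) F) : Matrix (Fin 3) (Fin 3) F) p q ≠ 0 := by
            by_contra hcon
            push Not at hcon
            exact (b * b).ne_zero (Matrix.ext hcon)
          ext i j
          exact mul_right_cancel₀ hpq (by simpa using congrFun (congrFun hv (i, p)) (j, q))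
        have hbsc : b ∈ Cfsg.Geo.scalars (Fin 3) F := by
          by_contra hns
          obtain ⟨g, hg, hne⟩ := E27_conj_noncomm hF hb hns
          have hy := hnorm 1 (U3 F).one_mem g hg x x.2
          have hc := hAc ⟨_, hy⟩ (hconj 1 g (U3 F).one_mem hg x hx hy)
          apply hne
          have hc' : kronHom 3 3 F (a * a, b * (g * b * g⁻¹)) =
              kronHom 3 3 F (a * a, g * b * g⁻¹ * b) := by
            apply (frU e P).injective
            show ρ (_, _) = ρ (_, _)
            have : ρ (1, g) * x * (ρ (1, g))⁻¹ = ρ (a, g * b * g⁻¹) := by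
              rw [← hab, ← map_inv, ← map_mul, ← map_mul]; simp
            have hc2 : (x : GL (Fin 9) F) * (ρ (1, g) * x * (ρ (1, g))⁻¹) =
                ρ (1, g) * x * (ρ (1, g))⁻¹ * x := hc
            rw [this, ← hab, ← map_mul, ← map_mul] at hc2
            exact hc2
          refine Units.ext ?_
          have hv := congrArg Units.val hc'
          rw [kronHom_val, kronHom_val] at hv
          obtain ⟨p, q, hpq⟩ : ∃ p q, ((a * a : GL (Fin 3) F) : Matrix (Fin 3) (Fin 3) F) p q ≠ 0 := by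
            by_contra hcon
            push Not at hcon
            exact (a * a).ne_zero (Matrix.ext hcon)
          ext i j
          exact mul_left_cancel₀ hpq (by simpa using congrFun (congrFun hv (p, i)) (q, j))
        obtain ⟨u, rfl⟩ := mem_scalars.1 hasc
        obtain ⟨v, rfl⟩ := mem_scalars.1 hbsc
        exact (hcenter x).2 (mem_scalars.2 ⟨u * v, by rw [← hab, hscal]⟩)
      have : IsCyclic (Subgroup.center R) :=
        have : Fact (Nat.Prime 3) := ⟨h3⟩
        isCyclic_of_prime_card hcz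
      exact isCyclic_of_injective (Subgroup.inclusion hle') (Subgroup.inclusion_injective hle')
    · rw [hg23]
      refine Nat.dvd_antisymm (Monoid.exponent_dvd_of_forall_pow_eq_one fun x =>
        Subtype.ext (by rw [SubmonoidClass.coe_pow]; exact hcube x x.2)) ?_
      have hord : orderOf (⟨_, D.mem⟩ : R) = 3 := by
        rw [← Subgroup.orderOf_coe]
        show orderOf (Units.map (Matrix.scalar (Fin 9) : F →+* Matrix (Fin 9) (Fin 9) F).toMonoidHom
          ω) = 3
        rw [orderOf_injective _ (scalarGL_injective (ι := Fin 9))]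
        exact hω
      rw [← hord]
      exact Monoid.order_dvd_exponent _
  have hchar : CharP F 2 :=
    (CharP.charP_iff_prime_eq_zero Nat.prime_two).2 (by exact_mod_cast two_zero_of_four hF)
  refine ⟨Cfsg.Geo.subgroupNormalizer R ⊓ Cfsg.GU 9 F 2,
    Or.inr (Or.inr (Or.inr (Or.inr (Or.inr (Or.inr (Or.inr (Or.inl
      ⟨3, R, 2, 2, 2, rfl, D.comm, htype, hRabs, hsim, by norm_num,
        ⟨Nat.prime_two, hchar, hF, by rw [hcz]; decide, fun d hd hd2 => by
          rw [show d = 1 by omega, hcz]; decide⟩,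
        Or.inl ⟨by decide, hcz, by norm_num, by rw [hcard]; norm_num⟩, rfl⟩))))))),
    le_inf ?_ hH⟩
  intro g hg
  obtain ⟨y, hy, hyg⟩ := hle hg
  obtain ⟨c, d, hcd⟩ := hy
  have hys : y = kronHom 3 3 F (c, d) := Units.ext hcd
  have hgρ : g = ρ (c, d) := by rw [← hyg, hys]; rfl
  -- the factors are isometries
  have hgram : ((c : Matrix (Fin 3) (Fin 3) F)ᵀ * (c : Matrix (Fin 3) (Fin 3) F).map σ) ⊗ₖ
      ((d : Matrix (Fin 3) (Fin 3) F)ᵀ * (d : Matrix (Fin 3) (Fin 3) F).map σ) =
      (1 : Matrix (Fin 3) (Fin 3) F) ⊗ₖ (1 : Matrix (Fin 3) (Fin 3) F) := by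
    have hk : ((c : Matrix (Fin 3) (Fin 3) F) ⊗ₖ (d : Matrix (Fin 3) (Fin 3) F)).map σ =
        (c : Matrix (Fin 3) (Fin 3) F).map σ ⊗ₖ (d : Matrix (Fin 3) (Fin 3) F).map σ := by
      ext ⟨p, q⟩ ⟨r, s⟩; simp
    rw [Matrix.mul_kronecker_mul, Matrix.kroneckerMap_transpose, ← hk, Matrix.one_kronecker_one]
    ext p r
    have h := pullForm_isometry (f := Cfsg.hermForm 9 F 2) e P (g := g)
      (by rw [← hyg]; exact frU_val e P y) (isometry_apply (fixesForm_GU hH) hg)
      (Pi.single p 1) (Pi.single r 1)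
    rw [hcd, hpull, hpull, formOfGram_eq, formOfGram_eq, comp_mulVec, map_single_one,
      Matrix.one_mulVec, Matrix.one_mulVec, Matrix.mulVec_single_one, Matrix.mulVec_single_one]
      at h
    have h' := mul_left_cancel₀ hc₀ h
    simpa [Matrix.mul_apply, dotProduct, Matrix.col, Matrix.one_apply, Pi.single_apply, eq_comm]
      using h'
  have hfact : ∀ {M : GL (Fin 3) F} {z : F},
      (M : Matrix (Fin 3) (Fin 3) F)ᵀ * (M : Matrix (Fin 3) (Fin 3) F).map σ =
        z • (1 : Matrix (Fin 3) (Fin 3) F) → M ∈ U3 F := by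
    intro M z hz
    refine hU3mat.2 ?_
    have hfix : σ z = z := by
      have h := congrFun (congrFun hz 0) 0
      simp only [Matrix.smul_apply, Matrix.one_apply_eq, smul_eq_mul, mul_one] at h
      rw [← h, Matrix.mul_apply, map_sum]
      refine Finset.sum_congr rfl fun k _ => ?_
      simp only [Matrix.transpose_apply, Matrix.map_apply, map_mul, hf.involutive, mul_comm]
    have hz0 : z ≠ 0 := by
      intro h0
      have hu : IsUnit ((M : Matrix (Fin 3) (Fin 3) F)ᵀ * (M : Matrix (Fin 3) (Fin 3) F).map σ) :=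
        ((Matrix.isUnit_transpose _).2 M.isUnit).mul (M.isUnit.map σ.toRingHom.mapMatrix)
      rw [hz, h0, zero_smul] at hu
      exact hu.ne_zero rfl
    rw [hz, show z = 1 from mul_left_cancel₀ hz0 (by rw [mul_one, ← pow_two, ← hσ, hfix]), one_smul]
  have hne1 : ∀ {M : GL (Fin 3) F},
      (M : Matrix (Fin 3) (Fin 3) F)ᵀ * (M : Matrix (Fin 3) (Fin 3) F).map σ ≠ 0 := fun {M} =>
    (((Matrix.isUnit_transpose _).2 M.isUnit).mul (M.isUnit.map σ.toRingHom.mapMatrix)).ne_zero
  obtain ⟨z, hz⟩ := kron_eq_kron hne1 hgram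
  obtain ⟨z', hz'⟩ := kron_eq_kron' hne1 hgram
  have hc := hfact hz
  have hd := hfact hz'
  refine Subgroup.mem_normalizer_iff.2 fun x => ⟨fun hx => ?_, fun hx => ?_⟩
  · rw [hgρ]; exact hnorm c hc d hd x hx
  · have := hnorm c⁻¹ ((U3 F).inv_mem hc) d⁻¹ ((U3 F).inv_mem hd) _ hx
    rw [← Prod.inv_mk, map_inv, ← hgρ, inv_inv] at this
    simpa [mul_assoc] using this

end CfsgLib.Aschbacher
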