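import Cfsg.Agent.Lib.Aschbacher.ExtraClass

/-!
Aschbacher's theorem for subgroups of `SL_n`, `n` an odd prime.
-/

set_option autoImplicit false

namespace CfsgLib.Aschbacher

open Matrix Module

variable {F : Type*} [Field F]

section general

variable {ι : Type} [Fintype ι] [DecidableEq ι]

lemma mem_subspaceStabilizer {W : Submodule F (ι → F)} {g : GL ι F} :
    g ∈ Cfsg.Geo.subspaceStabilizer W ↔ ∀ v, v ∈ W ↔ (g : Matrix ι ι F) *ᵥ v ∈ W := Iff.rfl

lemma le_subspaceStabilizer {H : Subgroup (GL ι F)} {W : Submodule F (ι → F)} (hW : Inv H W) :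
    H ≤ Cfsg.Geo.subspaceStabilizer W := by
  intro g hg
  rw [mem_subspaceStabilizer]
  refine fun v => ⟨hW g hg v, fun h => ?_⟩
  have := hW g⁻¹ (H.inv_mem hg) _ h
  rwa [inv_mulVec_cancel] at this

lemma mem_subgroupNormalizer {R : Subgroup (GL ι F)} {g : GL ι F} :
    g ∈ Cfsg.Geo.subgroupNormalizer R ↔ ∀ x, x ∈ R ↔ g * x * g⁻¹ ∈ R :=
  Subgroup.mem_normalizer_iff

lemma le_subgroupNormalizer {H R : Subgroup (GL ι F)}
    (hn : ∀ g ∈ H, ∀ a ∈ R, g * a * g⁻¹ ∈ R) : H ≤ Cfsg.Geo.subgroupNormalizer R := by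
  intro g hg
  rw [mem_subgroupNormalizer]
  refine fun x => ⟨hn g hg x, fun h => ?_⟩
  have := hn g⁻¹ (H.inv_mem hg) _ h
  simpa [mul_assoc] using this

lemma mDecomposition_mul_eq {t m : ℕ} {D : Fin t → Submodule F (ι → F)}
    (hD : Cfsg.Geo.IsMDecomposition m D) : t * m = Fintype.card ι := by
  classical
  have hI := DirectSum.isInternal_submodule_of_iSupIndep_of_iSup_eq_top hD.indep hD.iSup_eq_top
  have b := hI.collectedBasis fun i => Module.finBasisOfFinrankEq F (D i) (hD.finrank_eq i)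
  have h := Module.finrank_eq_card_basis b
  simpa using h.symm

/-- If `A` is abelian mod scalars-free: elements of a group that all act as scalars. -/
lemma le_scalars_of_commutant {A : Subgroup (GL ι F)} [Nonempty ι]
    (h : ∀ a ∈ A, ∃ c : F, (a : Matrix ι ι F) = c • 1) : A ≤ Cfsg.Geo.scalars ι F := by
  intro a ha
  obtain ⟨c, hc⟩ := h a ha
  rw [Cfsg.Geo.mem_scalars_iff]
  refine ⟨Units.mk0 c fun h0 => ?_, hc⟩
  rw [h0, zero_smul] at hc
  exact a.ne_zero hc

lemma not_le_scalars_of_irr {A : Subgroup (GL ι F)} (hι : 1 < Fintype.card ι) (hA : Irr A) :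
    ¬ A ≤ Cfsg.Geo.scalars ι F := by
  intro hle
  obtain ⟨i⟩ : Nonempty ι := Fintype.card_pos_iff.1 (by omega)
  let W : Submodule F (ι → F) := Submodule.span F {Pi.single i 1}
  have hfin : finrank F W = 1 := finrank_span_singleton (by simp)
  rcases irr_iff.1 hA W (fun a ha w hw => by
    obtain ⟨c, hc⟩ := (Cfsg.Geo.mem_scalars_iff a).1 (hle ha)
    rw [hc, Matrix.smul_mulVec, Matrix.one_mulVec]
    exact W.smul_mem _ hw) with h | h
  · rw [h, finrank_bot] at hfin; omega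
  · rw [h, finrank_top, Module.finrank_fintype_fun_eq_card] at hfin; omega

lemma absIrr_of_commutant {A : Subgroup (GL ι F)} (hA : Irr A)
    (h : ∀ M ∈ commutant A, ∃ c : F, M = c • (1 : Matrix ι ι F)) : AbsIrr A :=
  ⟨hA, fun M hM => h M (mem_commutant.2 fun a ha => (hM _ ⟨a, ha, rfl⟩).symm)⟩

lemma AbsIrr.mem_scalars {A : Subgroup (GL ι F)} [Nonempty ι] (hA : AbsIrr A) {g : GL ι F}
    (h : ∀ a ∈ A, g * a = a * g) : g ∈ Cfsg.Geo.scalars ι F := by
  obtain ⟨c, hc⟩ := hA.2 (g : Matrix ι ι F) (by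
    rintro _ ⟨a, ha, rfl⟩; exact congrArg Units.val (h a ha))
  rw [Cfsg.Geo.mem_scalars_iff]
  refine ⟨Units.mk0 c fun h0 => ?_, hc⟩
  rw [h0, zero_smul] at hc
  exact g.ne_zero hc

open scoped commutatorElement

lemma commutator_mem_scalars_comm {P : Subgroup (GL ι F)} (hperf : ⁅P, P⁆ = P) {h : GL ι F}
    (hc : ∀ x ∈ P, h * x * h⁻¹ * x⁻¹ ∈ Cfsg.Geo.scalars ι F) : ∀ x ∈ P, h * x = x * h := by
  intro x hx
  let S : Subgroup (GL ι F) := Subgroup.centralizer ({h} : Set (GL ι F))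
  suffices ⁅P, P⁆ ≤ S by
    rw [hperf] at this
    exact (Subgroup.mem_centralizer_singleton_iff.1 (this hx)).symm
  rw [Subgroup.commutator_le]
  intro a ha b hb
  obtain ⟨s, hs, hsa⟩ : ∃ s ∈ Cfsg.Geo.scalars ι F, h * a * h⁻¹ = s * a :=
    ⟨_, hc a ha, by group⟩
  obtain ⟨t, ht, htb⟩ : ∃ t ∈ Cfsg.Geo.scalars ι F, h * b * h⁻¹ = t * b :=
    ⟨_, hc b hb, by group⟩
  refine Subgroup.mem_centralizer_singleton_iff.2 ?_
  have e : h * ⁅a, b⁆ * h⁻¹ = ⁅a, b⁆ := by
    have h1 : h * ⁅a, b⁆ * h⁻¹ = ⁅h * a * h⁻¹, h * b * h⁻¹⁆ := by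
      simp only [commutatorElement_def]; group
    rw [h1, hsa, htb]
    have hs' : ∀ g, s * g = g * s := scalars_comm hs
    have ht' : ∀ g, t * g = g * t := scalars_comm ht
    have hs'' : ∀ g, s⁻¹ * g = g * s⁻¹ := scalars_comm (Subgroup.inv_mem _ hs)
    simp only [commutatorElement_def, _root_.mul_inv_rev]
    calc s * a * (t * b) * (a⁻¹ * s⁻¹) * (b⁻¹ * t⁻¹)
        = (s * (a * (t * b) * a⁻¹)) * s⁻¹ * (b⁻¹ * t⁻¹) := by group
      _ = (a * (t * b) * a⁻¹) * (b⁻¹ * t⁻¹) := by rw [hs']; group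
      _ = (t * (a * b * a⁻¹ * b⁻¹)) * t⁻¹ := by
          rw [show a * (t * b) * a⁻¹ = t * (a * b * a⁻¹) by rw [← mul_assoc, ← ht' a]; group]
          group
      _ = a * b * a⁻¹ * b⁻¹ := by rw [ht']; group
  calc ⁅a, b⁆ * h = h * ⁅a, b⁆ * h⁻¹ * h := by rw [e]
    _ = h * ⁅a, b⁆ := by group

set_option maxHeartbeats 1000000 in
/-- `N` perfect modulo scalars, minimal, absolutely irreducible: its derived group is a core. -/
lemma residualCore_of_minimal [Finite F] (hp : (Fintype.card ι).Prime) {H N : Subgroup (GL ι F)} (hN : AbsIrr N)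
    (hNH : N ≤ H) (hn : ∀ g ∈ H, ∀ a ∈ N, g * a * g⁻¹ ∈ N)
    (hZ : ∀ z ∈ H, z ∈ Cfsg.Geo.scalars ι F → z ∈ N)
    (hmin : ∀ M ≤ N, (∀ g ∈ H, ∀ a ∈ M, g * a * g⁻¹ ∈ M) →
      (∀ z ∈ N, z ∈ Cfsg.Geo.scalars ι F → z ∈ M) → M ≤ Cfsg.Geo.scalars ι F ∨ M = N)
    (h2 : ¬ ∀ a ∈ N, ∀ b ∈ N, a * b * a⁻¹ * b⁻¹ ∈ Cfsg.Geo.scalars ι F) :
    AbsIrr ⁅N, N⁆ ∧ ⁅⁅N, N⁆, ⁅N, N⁆⁆ = ⁅N, N⁆ ∧ (∀ g ∈ H, ∀ a ∈ ⁅N, N⁆, g * a * g⁻¹ ∈ ⁅N, N⁆) ∧
      IsSimpleGroup (↥⁅N, N⁆ ⧸ (Cfsg.Geo.scalars ι F).subgroupOf ⁅N, N⁆) ∧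
      ¬ IsMulCommutative (↥⁅N, N⁆ ⧸ (Cfsg.Geo.scalars ι F).subgroupOf ⁅N, N⁆) := by
  haveI : Nonempty ι := Fintype.card_pos_iff.1 hp.pos
  let Z : Subgroup (GL ι F) := N ⊓ Cfsg.Geo.scalars ι F
  have hconjZ : ∀ g, ∀ a ∈ Z, g * a * g⁻¹ ∈ Z := fun g a ha => by
    rw [← scalars_comm ha.2 g, mul_inv_cancel_right]; exact ha
  -- normalised subgroups
  have hnorm_comm : ∀ (K : Subgroup (GL ι F)) (g : GL ι F),
      (∀ a ∈ K, g * a * g⁻¹ ∈ K) → ∀ a ∈ ⁅K, K⁆, g * a * g⁻¹ ∈ ⁅K, K⁆ := by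
    intro K g hg a ha
    have hle : ⁅K, K⁆ ≤ (⁅K, K⁆).comap (MulAut.conj g).toMonoidHom := by
      rw [Subgroup.commutator_le]
      intro p hp q hq
      rw [Subgroup.mem_comap, map_commutatorElement]
      exact Subgroup.commutator_mem_commutator (hg p hp) (hg q hq)
    exact hle ha
  have hnorm_sup : ∀ (K : Subgroup (GL ι F)) (g : GL ι F),
      (∀ a ∈ K, g * a * g⁻¹ ∈ K) → ∀ a ∈ K ⊔ Z, g * a * g⁻¹ ∈ K ⊔ Z := by
    intro K g hg a ha
    have hle : K ⊔ Z ≤ (K ⊔ Z).comap (MulAut.conj g).toMonoidHom :=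
      sup_le (fun b hb => Subgroup.mem_sup_left (hg b hb))
        (fun b hb => Subgroup.mem_sup_right (hconjZ g b hb))
    exact hle ha
  have hsup_comm : ∀ K : Subgroup (GL ι F), ⁅K ⊔ Z, K ⊔ Z⁆ ≤ ⁅K, K⁆ := by
    intro K
    have hcomm : ∀ p ∈ K ⊔ Z, ∃ k ∈ K, ∀ g, p * g * p⁻¹ = k * g * k⁻¹ := by
      intro p hp
      have hle : K ⊔ Z ≤
          { carrier := {p | ∃ k ∈ K, ∀ g, p * g * p⁻¹ = k * g * k⁻¹}
            one_mem' := ⟨1, K.one_mem, fun g => rfl⟩
            mul_mem' := by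
              rintro a b ⟨k, hk, hka⟩ ⟨l, hl, hlb⟩
              refine ⟨k * l, K.mul_mem hk hl, fun g => ?_⟩
              calc a * b * g * (a * b)⁻¹ = a * (b * g * b⁻¹) * a⁻¹ := by group
                _ = _ := by rw [hlb, hka]; group
            inv_mem' := by
              rintro a ⟨k, hk, hka⟩
              refine ⟨k⁻¹, K.inv_mem hk, fun g => ?_⟩
              have := hka (a⁻¹ * g * a)
              calc a⁻¹ * g * a⁻¹⁻¹ = k⁻¹ * (k * (a⁻¹ * g * a) * k⁻¹) * k := by group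
                _ = _ := by rw [← this]; group } := by
        refine sup_le (fun k hk => ⟨k, hk, fun g => rfl⟩) fun z hz => ⟨1, K.one_mem, fun g => ?_⟩
        rw [scalars_comm hz.2, mul_inv_cancel_right]; group
      exact hle hp
    rw [Subgroup.commutator_le]
    intro p hp q hq
    obtain ⟨k, hk, hkp⟩ := hcomm p hp
    obtain ⟨l, hl, hlq⟩ := hcomm q hq
    have : ⁅p, q⁆ = ⁅k, l⁆ := by
      rw [commutatorElement_def, commutatorElement_def, hkp,
        show k * q * k⁻¹ * q⁻¹ = k * (q * k⁻¹ * q⁻¹) by group, hlq]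
      group
    rw [this]
    exact Subgroup.commutator_mem_commutator hk hl
  -- `N = ⁅N,N⁆ ⊔ Z`
  set P := ⁅N, N⁆ with hP
  have hPN : P ≤ N := Subgroup.commutator_le.2 fun a ha b hb =>
    N.mul_mem (N.mul_mem (N.mul_mem ha hb) (N.inv_mem ha)) (N.inv_mem hb)
  have hPn : ∀ g ∈ H, ∀ a ∈ P, g * a * g⁻¹ ∈ P := fun g hg => hnorm_comm N g (hn g hg)
  have hPnot : ¬ P ≤ Cfsg.Geo.scalars ι F := fun h => h2 fun a ha b hb =>
    h (Subgroup.commutator_mem_commutator ha hb)
  have hPZ : P ⊔ Z = N := (hmin _ (sup_le hPN inf_le_left) (fun g hg => hnorm_sup P g (hPn g hg))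
    (fun z hz hzs => Subgroup.mem_sup_right ⟨hz, hzs⟩)).resolve_left fun h =>
      hPnot (le_sup_left.trans h)
  have hperf : ⁅P, P⁆ = P := by
    refine le_antisymm (Subgroup.commutator_le.2 fun a ha b hb =>
      P.mul_mem (P.mul_mem (P.mul_mem ha hb) (P.inv_mem ha)) (P.inv_mem hb)) ?_
    calc P = ⁅P ⊔ Z, P ⊔ Z⁆ := by rw [hPZ]
      _ ≤ ⁅P, P⁆ := hsup_comm P
  have hcomZ : ∀ (K : Subgroup (GL ι F)) (M : Matrix ι ι F),
      M ∈ commutant K → M ∈ commutant (K ⊔ Z) := by
    intro K M hM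
    refine mem_commutant.2 fun a ha => ?_
    have hle : K ⊔ Z ≤
        { carrier := {a : GL ι F | (a : Matrix ι ι F) * M = M * a}
          one_mem' := by simp
          mul_mem' := fun {a b} ha hb => by
            show _ = _
            rw [Units.val_mul, mul_assoc, hb, ← mul_assoc, ha, mul_assoc]
          inv_mem' := fun {a} ha => by
            show _ = _
            calc ((a⁻¹ : GL ι F) : Matrix ι ι F) * M
                = ((a⁻¹ : GL ι F) : Matrix ι ι F) * (M * a) *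
                  ((a⁻¹ : GL ι F) : Matrix ι ι F) := by
                  rw [mul_assoc, mul_assoc, Units.mul_inv, mul_one]
              _ = M * ((a⁻¹ : GL ι F) : Matrix ι ι F) := by
                  rw [← ha, Units.inv_mul_cancel_left] } := by
      refine sup_le (fun k hk => mem_commutant.1 hM k hk) fun z hz => ?_
      obtain ⟨c, hc⟩ := (Cfsg.Geo.mem_scalars_iff z).1 hz.2
      show (z : Matrix ι ι F) * M = M * z
      rw [hc, Matrix.smul_mul, one_mul, Matrix.mul_smul, mul_one]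
    exact hle ha
  have hPirr : AbsIrr P := by
    refine ⟨irr_iff.2 fun W hW => irr_iff.1 hN.1 W ?_, fun M hM => hN.2 M ?_⟩
    · intro a ha
      have hle : N ≤ Cfsg.Geo.subspaceStabilizer W := by
        rw [← hPZ]
        refine sup_le (le_subspaceStabilizer hW) (le_subspaceStabilizer ?_)
        intro z hz w hw
        obtain ⟨c, hc⟩ := (Cfsg.Geo.mem_scalars_iff z).1 hz.2
        rw [hc, Matrix.smul_mulVec, Matrix.one_mulVec]
        exact W.smul_mem _ hw
      exact fun w hw => ((mem_subspaceStabilizer.1 (hle ha)) w).1 hw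
    · rintro _ ⟨a, ha, rfl⟩
      exact (mem_commutant.1 (hcomZ P M (mem_commutant.2 fun b hb => (hM _ ⟨b, hb, rfl⟩).symm)) a
        (hPZ.ge ha)).symm
  refine ⟨hPirr, hperf, hPn, ?_⟩
  -- normal subgroups of `N` containing the scalars
  have hsimp : ∀ M ≤ N, (∀ g ∈ N, ∀ a ∈ M, g * a * g⁻¹ ∈ M) → Z ≤ M →
      M ≤ Cfsg.Geo.scalars ι F ∨ M = N := by
    intro M₀ hM₀N hM₀n hM₀Z
    by_contra hcon
    push Not at hcon
    obtain ⟨hM₀s, hM₀ne⟩ := hcon
    obtain ⟨M, ⟨hMle, hMn, hMZ, hMs⟩, hMmin⟩ := (Set.toFinite {M : Subgroup (GL ι F) |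
      M ≤ M₀ ∧ (∀ g ∈ N, ∀ a ∈ M, g * a * g⁻¹ ∈ M) ∧ Z ≤ M ∧
        ¬ M ≤ Cfsg.Geo.scalars ι F}).exists_minimal ⟨M₀, le_rfl, hM₀n, hM₀Z, hM₀s⟩
    have hMN : M ≤ N := hMle.trans hM₀N
    have hMneN : M ≠ N := fun h => hM₀ne (le_antisymm hM₀N (h ▸ hMle))
    -- `M` is not normalised by all of `H`
    obtain ⟨h, hh, a₀, ha₀, hna₀⟩ : ∃ h ∈ H, ∃ a ∈ M, h * a * h⁻¹ ∉ M := by
      by_contra hcon
      push Not at hcon
      exact (hmin M hMN hcon (fun z hz hzs => hMZ ⟨hz, hzs⟩)).elim hMs hMneN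
    let M' : Subgroup (GL ι F) := M.map (MulAut.conj h).toMonoidHom
    have hM'N : M' ≤ N := by
      rintro _ ⟨b, hb, rfl⟩
      exact hn h hh b (hMN hb)
    have hM'n : ∀ g ∈ N, ∀ a ∈ M', g * a * g⁻¹ ∈ M' := by
      rintro g hg _ ⟨b, hb, rfl⟩
      refine ⟨(h⁻¹ * g * h) * b * (h⁻¹ * g * h)⁻¹,
        hMn _ (by simpa using hn h⁻¹ (H.inv_mem hh) g hg) b hb, ?_⟩
      show h * ((h⁻¹ * g * h) * b * (h⁻¹ * g * h)⁻¹) * h⁻¹ = g * (h * b * h⁻¹) * g⁻¹
      group
    -- the intersection is scalar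
    have hint : M ⊓ M' ≤ Cfsg.Geo.scalars ι F := by
      by_contra hint
      have h1 : M ≤ M ⊓ M' := hMmin ⟨inf_le_left.trans hMle,
        fun g hg a ha => ⟨hMn g hg a ha.1, hM'n g hg a ha.2⟩,
        le_inf hMZ (fun z hz => ⟨h⁻¹ * z * h, hMZ (by
          rw [mul_assoc, scalars_comm hz.2 h, inv_mul_cancel_left]; exact hz), by
          show h * (h⁻¹ * z * h) * h⁻¹ = z
          group⟩), hint⟩ inf_le_left
      have hcard : Nat.card M' = Nat.card M := by
        exact (Nat.card_congr (M.equivMapOfInjective _ (MulAut.conj h).injective).toEquiv).symm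
      have heq : M = M' := Subgroup.eq_of_le_of_card_ge (h1.trans inf_le_right) hcard.le
      exact hna₀ (heq.symm ▸ ⟨a₀, ha₀, rfl⟩)
    -- `M` is perfect modulo scalars
    have hMcomm : ∀ a ∈ M, ∀ b ∈ M', a * b * a⁻¹ * b⁻¹ ∈ Cfsg.Geo.scalars ι F := by
      intro a ha b hb
      refine hint ⟨?_, ?_⟩
      · rw [show a * b * a⁻¹ * b⁻¹ = a * (b * a⁻¹ * b⁻¹) by group]
        exact M.mul_mem ha (hMn b (hM'N hb) _ (M.inv_mem ha))
      · exact M'.mul_mem (hM'n a (hMN ha) b hb) (M'.inv_mem hb)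
    by_cases hMab : ⁅M, M⁆ ≤ Cfsg.Geo.scalars ι F
    · -- then `N` would be abelian modulo scalars
      let 𝒯 : Set (GL ι F) := {x | ∃ g ∈ H, ∃ a ∈ M, x = g * a * g⁻¹}
      have h𝒯N : Subgroup.closure 𝒯 ≤ N := by
        rw [Subgroup.closure_le]
        rintro _ ⟨g, hg, a, ha, rfl⟩; exact hn g hg a (hMN ha)
      have h𝒯n : ∀ g ∈ H, ∀ a ∈ Subgroup.closure 𝒯, g * a * g⁻¹ ∈ Subgroup.closure 𝒯 := by
        intro g hg a ha
        have hle : Subgroup.closure 𝒯 ≤
            (Subgroup.closure 𝒯).comap (MulAut.conj g).toMonoidHom := by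
          rw [Subgroup.closure_le]
          rintro _ ⟨g', hg', b, hb, rfl⟩
          refine Subgroup.subset_closure ⟨g * g', H.mul_mem hg hg', b, hb, ?_⟩
          show g * (g' * b * g'⁻¹) * g⁻¹ = g * g' * b * (g * g')⁻¹
          group
        exact hle ha
      have h𝒯top : Subgroup.closure 𝒯 = N :=
        (hmin _ h𝒯N h𝒯n (fun z hz hzs => Subgroup.subset_closure
          ⟨1, H.one_mem, z, hMZ ⟨hz, hzs⟩, by group⟩)).resolve_left fun hs =>
            hMs fun a ha => hs (Subgroup.subset_closure ⟨1, H.one_mem, a, ha, by group⟩)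
      -- conjugates of `M` commute modulo scalars
      let π := QuotientGroup.mk' (Cfsg.Geo.scalars ι F)
      have hπ : ∀ {u v}, u * v * u⁻¹ * v⁻¹ ∈ Cfsg.Geo.scalars ι F → π u * π v = π v * π u := by
        intro u v huv
        have h1 : π ⁅u, v⁆ = 1 := (QuotientGroup.eq_one_iff _).2 huv
        rwa [map_commutatorElement, commutatorElement_eq_one_iff_mul_comm] at h1
      have h𝒯comm : ∀ x ∈ 𝒯, ∀ y ∈ 𝒯, π x * π y = π y * π x := by
        rintro _ ⟨g, hg, a, ha, rfl⟩ _ ⟨g', hg', b, hb, rfl⟩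
        apply hπ
        set c := g⁻¹ * g' with hc
        have hcH : c ∈ H := H.mul_mem (H.inv_mem hg) hg'
        have key : a * (c * b * c⁻¹) * a⁻¹ * (c * b * c⁻¹)⁻¹ ∈ Cfsg.Geo.scalars ι F := by
          let M'' : Subgroup (GL ι F) := M.map (MulAut.conj c).toMonoidHom
          by_cases hsame : M'' = M
          · exact hMab (Subgroup.commutator_mem_commutator ha (hsame ▸ ⟨b, hb, rfl⟩))
          · have hM''n : ∀ g ∈ N, ∀ a ∈ M'', g * a * g⁻¹ ∈ M'' := by
              rintro g₁ hg₁ _ ⟨b₁, hb₁, rfl⟩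
              refine ⟨(c⁻¹ * g₁ * c) * b₁ * (c⁻¹ * g₁ * c)⁻¹,
                hMn _ (by simpa using hn c⁻¹ (H.inv_mem hcH) g₁ hg₁) b₁ hb₁, ?_⟩
              show c * ((c⁻¹ * g₁ * c) * b₁ * (c⁻¹ * g₁ * c)⁻¹) * c⁻¹ = g₁ * (c * b₁ * c⁻¹) * g₁⁻¹
              group
            have hint' : M ⊓ M'' ≤ Cfsg.Geo.scalars ι F := by
              by_contra hint'
              have h1 : M ≤ M ⊓ M'' := hMmin ⟨inf_le_left.trans hMle,
                fun g hg a ha => ⟨hMn g hg a ha.1, hM''n g hg a ha.2⟩,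
                le_inf hMZ (fun z hz => ⟨c⁻¹ * z * c, hMZ (by
                  rw [mul_assoc, scalars_comm hz.2 c, inv_mul_cancel_left]; exact hz), by
                  show c * (c⁻¹ * z * c) * c⁻¹ = z
                  group⟩), hint'⟩ inf_le_left
              have hcard : Nat.card M'' = Nat.card M :=
                (Nat.card_congr (M.equivMapOfInjective _ (MulAut.conj c).injective).toEquiv).symm
              exact hsame (Subgroup.eq_of_le_of_card_ge (h1.trans inf_le_right) hcard.le).symm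
            have hb'' : c * b * c⁻¹ ∈ M'' := ⟨b, hb, rfl⟩
            refine hint' ⟨?_, ?_⟩
            · rw [show a * (c * b * c⁻¹) * a⁻¹ * (c * b * c⁻¹)⁻¹ =
                a * ((c * b * c⁻¹) * a⁻¹ * (c * b * c⁻¹)⁻¹) by group]
              exact M.mul_mem ha (hMn _ (hn c hcH b (hMN hb)) _ (M.inv_mem ha))
            · exact M''.mul_mem (hM''n a (hMN ha) _ hb'') (M''.inv_mem hb'')
        have := (inferInstance : (Cfsg.Geo.scalars ι F).Normal).conj_mem _ key g
        convert this using 1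
        rw [hc]; group
      apply h2
      intro a ha b hb
      rw [← h𝒯top] at ha hb
      have hcom : π a * π b = π b * π a :=
        Subgroup.closure_induction₂ (p := fun a b _ _ => π a * π b = π b * π a)
          (fun a b ha hb => h𝒯comm a ha b hb) (fun a _ => by simp) (fun a _ => by simp)
          (fun a b c _ _ _ h1 h2 => by rw [map_mul, mul_assoc, h2, ← mul_assoc, h1, mul_assoc])
          (fun a b c _ _ _ h1 h2 => by rw [map_mul, ← mul_assoc, h1, mul_assoc, h2, mul_assoc])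
          (fun a b _ _ h => by rw [map_inv]; exact Commute.inv_left h)
          (fun a b _ _ h => by rw [map_inv]; exact Commute.inv_right h) ha hb
      rw [← QuotientGroup.eq_one_iff, ← commutatorElement_def]
      show π ⁅a, b⁆ = 1
      rw [map_commutatorElement, commutatorElement_eq_one_iff_mul_comm]
      exact hcom
    · -- `M` perfect modulo scalars; its conjugate centralises it
      have hMder : ⁅M, M⁆ ⊔ Z = M := by
        refine le_antisymm (sup_le (Subgroup.commutator_le.2 fun a ha b hb =>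
          M.mul_mem (M.mul_mem (M.mul_mem ha hb) (M.inv_mem ha)) (M.inv_mem hb)) hMZ) ?_
        exact hMmin ⟨(sup_le (Subgroup.commutator_le.2 fun a ha b hb =>
            M.mul_mem (M.mul_mem (M.mul_mem ha hb) (M.inv_mem ha)) (M.inv_mem hb)) hMZ).trans hMle,
          fun g hg => hnorm_sup _ g (hnorm_comm M g (hMn g hg)), le_sup_right,
          fun hs => hMab (le_sup_left.trans hs)⟩ (sup_le (Subgroup.commutator_le.2 fun a ha b hb =>
          M.mul_mem (M.mul_mem (M.mul_mem ha hb) (M.inv_mem ha)) (M.inv_mem hb)) hMZ)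
      set Q := ⁅M, M⁆ with hQ
      have hQperf : ⁅Q, Q⁆ = Q := by
        refine le_antisymm (Subgroup.commutator_le.2 fun a ha b hb =>
          Q.mul_mem (Q.mul_mem (Q.mul_mem ha hb) (Q.inv_mem ha)) (Q.inv_mem hb)) ?_
        calc Q = ⁅Q ⊔ Z, Q ⊔ Z⁆ := by rw [hMder]
          _ ≤ ⁅Q, Q⁆ := hsup_comm Q
      have hQn : ∀ g ∈ N, ∀ a ∈ Q, g * a * g⁻¹ ∈ Q := fun g hg => hnorm_comm M g (hMn g hg)
      have hQM : Q ≤ M := le_sup_left.trans hMder.le
      have hcent : ∀ x ∈ M', ∀ a ∈ Q, x * a = a * x := fun x hx => by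
        refine commutator_mem_scalars_comm hQperf fun a ha => ?_
        have := Subgroup.inv_mem _ (hMcomm a (hQM ha) x hx)
        convert this using 1
        group
      obtain ⟨S, -, hS⟩ := exists_minInv (inv_top Q) (top_ne_bot (α := Submodule F (ι → F)))
      have hdvd := finrank_dvd_card hN.1 hQn hS
      rcases hp.eq_one_or_self_of_dvd _ hdvd with h1 | h1
      · -- lines: `Q` acts trivially
        apply hMab
        have hlines : ∀ g ∈ N, ∀ a ∈ ⁅Q, Q⁆, ∀ w ∈ tr g S, (a : Matrix ι ι F) *ᵥ w = w := by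
          intro g hg
          have hS' := minInv_tr hQn hg hS
          have h1' : finrank F (tr g S) = 1 := by rw [finrank_tr, h1]
          obtain ⟨v, hv, hv0⟩ := Submodule.exists_mem_ne_zero_of_ne_bot hS'.ne_bot
          have hspan : ∀ w ∈ tr g S, ∃ c : F, c • v = w := by
            intro w hw
            obtain ⟨c, hc⟩ := (finrank_eq_one_iff_of_nonzero' (⟨v, hv⟩ : tr g S)
              (by simpa using hv0)).1 h1' ⟨w, hw⟩
            exact ⟨c, congrArg Subtype.val hc⟩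
          let T : Subgroup (GL ι F) :=
            { carrier := {a | ∀ w ∈ tr g S, (a : Matrix ι ι F) *ᵥ w = w}
              one_mem' := fun w _ => by simp
              mul_mem' := fun {a b} ha hb w hw => by rw [mul_mulVec, hb w hw, ha w hw]
              inv_mem' := fun {a} ha w hw => by
                conv_lhs => rw [← ha w hw]
                rw [inv_mulVec_cancel] }
          suffices ⁅Q, Q⁆ ≤ T from fun a ha => this ha
          rw [Subgroup.commutator_le]
          intro a ha b hb w hw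
          have hcomm : ∀ w ∈ tr g S, (a : Matrix ι ι F) *ᵥ ((b : Matrix ι ι F) *ᵥ w) =
              (b : Matrix ι ι F) *ᵥ ((a : Matrix ι ι F) *ᵥ w) := by
            intro w hw
            obtain ⟨c, rfl⟩ := hspan w hw
            obtain ⟨ca, hca⟩ := hspan _ (hS'.inv a ha v hv)
            obtain ⟨cb, hcb⟩ := hspan _ (hS'.inv b hb v hv)
            rw [Matrix.mulVec_smul, Matrix.mulVec_smul, Matrix.mulVec_smul, Matrix.mulVec_smul,
              ← hcb, Matrix.mulVec_smul, ← hca, Matrix.mulVec_smul, ← hcb, smul_comm cb]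
          show ((⁅a, b⁆ : GL ι F) : Matrix ι ι F) *ᵥ w = w
          have hw' : ((a⁻¹ : GL ι F) : Matrix ι ι F) *ᵥ
              (((b⁻¹ : GL ι F) : Matrix ι ι F) *ᵥ w) ∈ tr g S :=
            hS'.inv _ (Q.inv_mem ha) _ (hS'.inv _ (Q.inv_mem hb) _ hw)
          rw [commutatorElement_def, mul_mulVec, mul_mulVec, mul_mulVec, hcomm _ hw',
            mulVec_inv_cancel, mulVec_inv_cancel]
        intro a ha
        have ha' : a ∈ ⁅Q, Q⁆ := hQperf.ge ha
        have ht := sSup_translates hN.1 hS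
        have hone : a = 1 := by
          refine Units.ext (Matrix.toLin'.injective ?_)
          rw [Units.val_one, Matrix.toLin'_one]
          refine LinearMap.ext fun w => ?_
          have hle : (⊤ : Submodule F (ι → F)) ≤
              LinearMap.ker (Matrix.toLin' (a : Matrix ι ι F) - LinearMap.id) := by
            rw [← ht]
            refine sSup_le ?_
            rintro _ ⟨g, hg, rfl⟩ v hv
            simp [LinearMap.mem_ker, hlines g hg a ha' v hv]
          have := hle (Submodule.mem_top (x := w))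
          simpa [LinearMap.mem_ker, sub_eq_zero] using this
        rw [hone]; exact Subgroup.one_mem _
      · -- irreducible: the conjugate is abelian
        have hQirr : Irr Q := irr_iff.2 fun W hW => by
          have htop : S = ⊤ := Submodule.eq_top_of_finrank_eq (by simpa using h1)
          rcases hS.min W (htop ▸ le_top) hW with h | h
          · exact Or.inl h
          · exact Or.inr (h.trans htop)
        have hK := commutant_isField hQirr
        have hmem : ∀ x ∈ M', ((x : GL ι F) : Matrix ι ι F) ∈ commutant Q :=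
          fun x hx => mem_commutant.2 fun a ha => (congrArg Units.val (hcent x hx a ha)).symm
        apply hMab
        rw [Subgroup.commutator_le]
        intro a ha b hb
        have hab : a * b = b * a := by
          apply (MulAut.conj h).injective
          rw [map_mul, map_mul]
          exact Units.ext (by
            rw [Units.val_mul, Units.val_mul]
            exact hK.comm _ (hmem _ ⟨a, ha, rfl⟩) _ (hmem _ ⟨b, hb, rfl⟩))
        rw [commutatorElement_def, hab, mul_inv_cancel_right, mul_inv_cancel]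
        exact Subgroup.one_mem _
  constructor
  · -- simple
    set K := (Cfsg.Geo.scalars ι F).subgroupOf P with hK
    have : Nontrivial (P ⧸ K) := by
      rw [QuotientGroup.nontrivial_iff]
      intro htop
      exact hPnot (Subgroup.subgroupOf_eq_top.1 htop)
    refine ⟨fun M hM => ?_⟩
    let M₁ : Subgroup (GL ι F) := (M.comap (QuotientGroup.mk' K)).map P.subtype ⊔ Z
    have hKle : K ≤ M.comap (QuotientGroup.mk' K) := fun x hx => by
      rw [Subgroup.mem_comap, QuotientGroup.mk'_apply, (QuotientGroup.eq_one_iff x).2 hx]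
      exact M.one_mem
    have hM₁n : ∀ g ∈ N, ∀ a ∈ M₁, g * a * g⁻¹ ∈ M₁ := by
      intro g hg
      refine hnorm_sup _ g ?_
      rintro _ ⟨x, hx, rfl⟩
      -- write `g` as an element of `P` times a scalar
      have hle : N ≤ { carrier := {g | ∃ q ∈ P, ∀ y, g * y * g⁻¹ = q * y * q⁻¹}
                       one_mem' := ⟨1, P.one_mem, fun y => rfl⟩
                       mul_mem' := by
                         rintro a b ⟨k, hk, hka⟩ ⟨l, hl, hlb⟩
                         refine ⟨k * l, P.mul_mem hk hl, fun y => ?_⟩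
                         calc a * b * y * (a * b)⁻¹ = a * (b * y * b⁻¹) * a⁻¹ := by group
                           _ = _ := by rw [hlb, hka]; group
                       inv_mem' := by
                         rintro a ⟨k, hk, hka⟩
                         refine ⟨k⁻¹, P.inv_mem hk, fun y => ?_⟩
                         have := hka (a⁻¹ * y * a)
                         calc a⁻¹ * y * a⁻¹⁻¹ = k⁻¹ * (k * (a⁻¹ * y * a) * k⁻¹) * k := by group
                           _ = _ := by rw [← this]; group } := by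
        rw [← hPZ]
        refine sup_le (fun k hk => ⟨k, hk, fun y => rfl⟩) fun z hz => ⟨1, P.one_mem, fun y => ?_⟩
        rw [scalars_comm hz.2, mul_inv_cancel_right]; group
      obtain ⟨q, hq, hqy⟩ := hle hg
      have hxq : ((⟨q, hq⟩ : P) * x * (⟨q, hq⟩ : P)⁻¹) ∈ M.comap (QuotientGroup.mk' K) :=
        (Subgroup.Normal.comap hM (QuotientGroup.mk' K)).conj_mem x hx _
      refine Subgroup.mem_map.2 ⟨_, hxq, ?_⟩
      rw [hqy]
      simp only [Subgroup.coe_subtype, Subgroup.coe_mul, Subgroup.coe_inv]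
    have hMid : ∀ x : P, (x : GL ι F) ∈ M₁ → QuotientGroup.mk' K x ∈ M := by
      intro x hx
      have hle : M₁ ≤ { carrier := {g | ∃ y : P, QuotientGroup.mk' K y ∈ M ∧
                            g * (y : GL ι F)⁻¹ ∈ Cfsg.Geo.scalars ι F}
                        one_mem' := ⟨1, by simp, by simp⟩
                        mul_mem' := by
                          rintro a b ⟨y, hy, hay⟩ ⟨y', hy', hby⟩
                          refine ⟨y * y', by rw [map_mul]; exact M.mul_mem hy hy', ?_⟩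
                          have h2 := scalars_comm hby (y : GL ι F)⁻¹
                          have : a * b * ((y * y' : P) : GL ι F)⁻¹ =
                              (a * (y : GL ι F)⁻¹) * (b * (y' : GL ι F)⁻¹) := by
                            rw [Subgroup.coe_mul]
                            calc a * b * ((y : GL ι F) * y')⁻¹
                                = a * ((b * (y' : GL ι F)⁻¹) * (y : GL ι F)⁻¹) := by
                                  group
                              _ = _ := by rw [h2]; group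
                          rw [this]
                          exact Subgroup.mul_mem _ hay hby
                        inv_mem' := by
                          rintro a ⟨y, hy, hay⟩
                          refine ⟨y⁻¹, by rw [map_inv]; exact M.inv_mem hy, ?_⟩
                          have h2 := (inferInstance : (Cfsg.Geo.scalars ι F).Normal).conj_mem
                            _ (Subgroup.inv_mem _ hay) (y : GL ι F)⁻¹
                          rw [Subgroup.coe_inv, inv_inv]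
                          convert h2 using 1
                          group } := by
        refine sup_le ?_ fun z hz => ⟨1, by simp, by simpa using hz.2⟩
        rintro _ ⟨y, hy, rfl⟩
        exact ⟨y, hy, by simp⟩
      obtain ⟨y, hy, hxy⟩ := hle hx
      have heq : QuotientGroup.mk' K x = QuotientGroup.mk' K y := by
        rw [QuotientGroup.mk'_eq_mk']
        refine ⟨x⁻¹ * y, ?_, by group⟩
        rw [hK, Subgroup.mem_subgroupOf]
        have h2 := (inferInstance : (Cfsg.Geo.scalars ι F).Normal).conj_mem _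
          (Subgroup.inv_mem _ hxy) (x : GL ι F)⁻¹
        convert h2 using 1
        simp [mul_assoc]
      rw [heq]; exact hy
    rcases hsimp M₁ (sup_le ((Subgroup.map_subtype_le _).trans hPN) inf_le_left) hM₁n le_sup_right
      with h | h
    · left
      refine eq_bot_iff.2 fun q hq => ?_
      obtain ⟨x, rfl⟩ := QuotientGroup.mk'_surjective K q
      rw [Subgroup.mem_bot, QuotientGroup.mk'_apply, QuotientGroup.eq_one_iff, hK,
        Subgroup.mem_subgroupOf]
      exact h (Subgroup.mem_sup_left ⟨x, hq, rfl⟩)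
    · right
      refine eq_top_iff.2 fun q _ => ?_
      obtain ⟨x, rfl⟩ := QuotientGroup.mk'_surjective K q
      exact hMid x (h.ge (hPN x.2))
  · intro hcom
    apply hPnot
    rw [← hperf, Subgroup.commutator_le]
    intro a ha b hb
    let π := QuotientGroup.mk' ((Cfsg.Geo.scalars ι F).subgroupOf P)
    have h : π ⁅(⟨a, ha⟩ : P), (⟨b, hb⟩ : P)⁆ = 1 := by
      rw [map_commutatorElement, commutatorElement_eq_one_iff_mul_comm]
      exact mul_comm' _ _
    exact Subgroup.mem_subgroupOf.1 ((QuotientGroup.eq_one_iff _).1 h)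

end general

variable [Fintype F] {n : ℕ} [Fact n.Prime]

instance instNeZeroPrime : NeZero n := ⟨(Fact.out : n.Prime).ne_zero⟩

lemma decomposition_prime {t m : ℕ} {D : Fin t → Submodule F (Fin n → F)}
    (hD : Cfsg.Geo.IsMDecomposition m D) : t = n ∧ m = 1 := by
  have h := mDecomposition_mul_eq hD
  rw [Fintype.card_fin] at h
  have hp : n.Prime := Fact.out
  rcases hp.eq_one_or_self_of_dvd t ⟨m, h.symm⟩ with h1 | h1
  · have := hD.two_le; omega
  · subst h1
    exact ⟨rfl, Nat.eq_of_mul_eq_mul_left hp.pos (h.trans (mul_one _).symm)⟩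

/-- The trichotomy for normalised subgroups. -/
lemma prime_trichotomy {H A : Subgroup (GL (Fin n) F)} (hirr : Irr H)
    (hn : ∀ g ∈ H, ∀ a ∈ A, g * a * g⁻¹ ∈ A) :
    (∃ D : Fin n → Submodule F (Fin n → F),
        Cfsg.Geo.IsMDecomposition 1 D ∧ H ≤ Cfsg.Geo.decompositionStabilizer D) ∨
      (∃ K, Cfsg.Geo.IsFieldSubalgebra n K ∧ H ≤ Cfsg.Geo.subalgebraNormalizer K) ∨
      A ≤ Cfsg.Geo.scalars (Fin n) F ∨ AbsIrr A := by
  have hp : n.Prime := Fact.out
  rcases decomposition_or_faithful hirr hn with ⟨t, m, D, hD, hle⟩ | hf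
  · obtain ⟨rfl, rfl⟩ := decomposition_prime hD
    exact Or.inl ⟨D, hD, hle⟩
  right
  obtain ⟨S, -, hS⟩ := exists_minInv (inv_top A) (top_ne_bot (α := Submodule F (Fin n → F)))
  have hdvd := finrank_dvd_card hirr hn hS
  rw [Fintype.card_fin] at hdvd
  rcases hp.eq_one_or_self_of_dvd _ hdvd with h1 | h1
  · right; left
    obtain ⟨v, hv, hv0⟩ := Submodule.exists_mem_ne_zero_of_ne_bot hS.ne_bot
    have hspan : ∀ w ∈ S, ∃ c : F, w = c • v := by
      intro w hw
      obtain ⟨c, hc⟩ := (finrank_eq_one_iff_of_nonzero' (⟨v, hv⟩ : S) (by simpa using hv0)).1 h1 ⟨w, hw⟩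
      exact ⟨c, (congrArg Subtype.val hc).symm⟩
    refine le_scalars_of_commutant fun a ha => ?_
    obtain ⟨c, hc⟩ := hspan _ (hS.inv a ha v hv)
    refine ⟨c, sub_eq_zero.1 ((Submodule.mem_bot F).1 (hf S hS ▸ (⟨?_, ?_⟩ :
      (a : Matrix (Fin n) (Fin n) F) - c • 1 ∈ ann A S)))⟩
    · exact sub_mem (mem_envelope ha) (Submodule.smul_mem _ c (one_mem_envelope A))
    · intro w hw
      obtain ⟨d, rfl⟩ := hspan w hw
      rw [Matrix.sub_mulVec, Matrix.smul_mulVec, Matrix.one_mulVec, Matrix.mulVec_smul, hc,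
        smul_comm, sub_self]
  · have htop : S = ⊤ := Submodule.eq_top_of_finrank_eq (by simpa using h1)
    have hAirr : Irr A := irr_iff.2 fun W hW => by
      rcases hS.min W (htop ▸ le_top) hW with h | h
      · exact Or.inl h
      · exact Or.inr (h.trans htop)
    have hK := commutant_isField hAirr
    have hdvd' := fieldSubalgebra_dvd hK
    rw [Fintype.card_fin] at hdvd'
    rcases hp.eq_one_or_self_of_dvd _ hdvd' with h2 | h2
    · right; right
      refine absIrr_of_commutant hAirr fun M hM => ?_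
      obtain ⟨c, hc⟩ := (finrank_eq_one_iff_of_nonzero' (1 : ↥(commutant A))
        one_ne_zero).1 h2 ⟨M, hM⟩
      exact ⟨c, (congrArg Subtype.val hc).symm⟩
    · refine Or.inl ⟨_, ⟨hK.comm, hK.inv, h2⟩, le_normalizer_commutant hn⟩

/-- Aschbacher's theorem in odd prime dimension. -/
theorem prime_aschbacher (hodd : Odd n) {H : Subgroup (GL (Fin n) F)}
    (hH : H ≤ Cfsg.Geo.specialLinear (Fin n) F) :
    (∃ W : Submodule F (Fin n → F), W ≠ ⊥ ∧ W ≠ ⊤ ∧ H ≤ Cfsg.Geo.subspaceStabilizer W) ∨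
    (Irr H ∧ ∃ D : Fin n → Submodule F (Fin n → F),
        Cfsg.Geo.IsMDecomposition 1 D ∧ H ≤ Cfsg.Geo.decompositionStabilizer D) ∨
    (∃ K, Cfsg.Geo.IsFieldSubalgebra n K ∧ H ≤ Cfsg.Geo.subalgebraNormalizer K) ∨
    (∃ (F₀ : Subfield F) (r : ℕ) (B : GL (Fin n) F), r.Prime ∧
        Fintype.card F = Nat.card F₀ ^ r ∧ H ≤ Cfsg.Geo.subfieldSubgroup F₀ B) ∨
    (∃ (R : Subgroup (GL (Fin n) F)) (p e : ℕ), Cfsg.Geo.IsLinearSymplecticTypeData n R ∧
        p.Prime ∧ CharP F p ∧ Fintype.card F = p ^ e ∧ Odd e ∧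
        Cfsg.Geo.IsMinimalFieldFor n p e F ∧
        R ≤ Cfsg.Geo.specialLinear (Fin n) F ∧ Nat.card R = n ^ 3 ∧ AbsIrr R ∧
        (∀ a ∈ R, ∀ b ∈ R, a * b * a⁻¹ * b⁻¹ ∈ Cfsg.Geo.scalars (Fin n) F) ∧
        H ≤ Cfsg.Geo.subgroupNormalizer R) ∨
    (Odd (Fintype.card F) ∧ ∃ Q : (Fin n → F) → F, Cfsg.Geo.IsNondegenerateQuadraticForm Q ∧
        H ≤ Cfsg.Geo.quadSimilarityGroup Q) ∨
    (∃ (σ : F ≃+* F) (f : (Fin n → F) → (Fin n → F) → F),
        Cfsg.Geo.IsUnitaryForm σ f ∧ H ≤ Cfsg.Geo.similarityGroup f) ∨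
    Cfsg.Geo.InLinearResidualClass H := by
  have hp : n.Prime := Fact.out
  have hcard : 1 < Fintype.card (Fin n) := by rw [Fintype.card_fin]; exact hp.one_lt
  by_cases hirr : Irr H
  swap
  · left
    rw [irr_iff] at hirr
    push Not at hirr
    obtain ⟨W, hW, hWb, hWt⟩ := hirr
    exact ⟨W, hWb, hWt, le_subspaceStabilizer hW⟩
  right
  rcases prime_trichotomy hirr (A := H) (fun g hg a ha => H.mul_mem (H.mul_mem hg ha) (H.inv_mem hg))
    with ⟨D, hD, hle⟩ | hK | hs | habs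
  · exact Or.inl ⟨hirr, D, hD, hle⟩
  · exact Or.inr (Or.inl hK)
  · exact absurd hs (not_le_scalars_of_irr hcard hirr)
  obtain ⟨N, ⟨hNH, hNn, hNZ, hNs⟩, hNmin⟩ := (Set.toFinite {N : Subgroup (GL (Fin n) F) |
    N ≤ H ∧ (∀ g ∈ H, ∀ a ∈ N, g * a * g⁻¹ ∈ N) ∧ H ⊓ Cfsg.Geo.scalars (Fin n) F ≤ N ∧
      ¬ N ≤ Cfsg.Geo.scalars (Fin n) F}).exists_minimal
    ⟨H, le_rfl, fun g hg a ha => H.mul_mem (H.mul_mem hg ha) (H.inv_mem hg), inf_le_left,
      not_le_scalars_of_irr hcard hirr⟩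
  have hmin : ∀ M ≤ N, (∀ g ∈ H, ∀ a ∈ M, g * a * g⁻¹ ∈ M) →
      (∀ z ∈ N, z ∈ Cfsg.Geo.scalars (Fin n) F → z ∈ M) →
      M ≤ Cfsg.Geo.scalars (Fin n) F ∨ M = N := by
    intro M hMN hMn hMZ
    by_cases hMs : M ≤ Cfsg.Geo.scalars (Fin n) F
    · exact Or.inl hMs
    · exact Or.inr (le_antisymm hMN (hNmin ⟨hMN.trans hNH, hMn,
        fun z hz => hMZ z (hNZ hz) hz.2, hMs⟩ hMN))
  rcases prime_trichotomy hirr hNn with ⟨D, hD, hle⟩ | hK | hs | hNabs
  · exact Or.inl ⟨hirr, D, hD, hle⟩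
  · exact Or.inr (Or.inl hK)
  · exact absurd hs hNs
  right; right
  have hsub : ∀ (P : Subgroup (GL (Fin n) F)), AbsIrr P →
      (∀ g ∈ H, ∀ a ∈ P, g * a * g⁻¹ ∈ P) → ∀ F₀ : Subfield F, F₀ ≠ ⊤ →
      Cfsg.Geo.RealisableOver F₀ (Cfsg.Geo.matrixSet P) →
      ∃ (F₀ : Subfield F) (r : ℕ) (B : GL (Fin n) F), r.Prime ∧
        Fintype.card F = Nat.card F₀ ^ r ∧ H ≤ Cfsg.Geo.subfieldSubgroup F₀ B := by
    intro P hP hPn F₀ hF₀ hreal
    obtain ⟨F₁, r, hle, hr, hc⟩ := exists_subfield_prime hF₀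
    obtain ⟨B, hB⟩ := exists_le_subfieldSubgroup hPn (envelope_eq_top hP)
      (realisableOver_mono hle hreal)
    exact ⟨F₁, r, B, hr, hc, hB⟩
  by_cases h2 : ∀ a ∈ N, ∀ b ∈ N, a * b * a⁻¹ * b⁻¹ ∈ Cfsg.Geo.scalars (Fin n) F
  · have hNSL : N ≤ Cfsg.Geo.specialLinear (Fin n) F := hNH.trans hH
    rcases extraspecial_alternatives hodd hNSL hNabs hNn h2 hmin with
      ⟨F₀, hF₀, hreal⟩ | ⟨σ, f, hf, hfix⟩ | ⟨hR, p, e, hpe⟩
    · exact Or.inl (hsub N hNabs hNn F₀ hF₀ hreal)
    · exact Or.inr (Or.inr (Or.inr (Or.inl ⟨σ, f, hf,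
        le_similarityGroup hNabs hNn (isSesq_of_unitary hf) hf.nondegenerate hfix⟩)))
    · obtain ⟨D⟩ := exists_extraData hodd hNSL hNabs h2
      exact Or.inr (Or.inl ⟨N, p, e, hR, hpe.1, hpe.2.1, hpe.2.2.1, hpe.2.2.2.1, hpe.2.2.2.2,
        hNSL, D.card, hNabs, h2, le_subgroupNormalizer hNn⟩)
  · obtain ⟨hPabs, hPperf, hPn, hPsimp, hPna⟩ := residualCore_of_minimal (by rw [Fintype.card_fin]; exact hp) hNabs hNH hNn
      (fun z hz hzs => hNZ ⟨hz, hzs⟩) hmin h2
    by_cases hreal : ∃ F₀ : Subfield F, F₀ ≠ ⊤ ∧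
        Cfsg.Geo.RealisableOver F₀ (Cfsg.Geo.matrixSet ⁅N, N⁆)
    · obtain ⟨F₀, hF₀, hreal⟩ := hreal
      exact Or.inl (hsub _ hPabs hPn F₀ hF₀ hreal)
    by_cases hQ : ∃ Q : (Fin n → F) → F, Cfsg.Geo.IsNondegenerateQuadraticForm Q ∧
        Cfsg.Geo.FixesQuadForm (Cfsg.Geo.matrixSet ⁅N, N⁆) Q
    · obtain ⟨Q, hQ, hfix⟩ := hQ
      have h2' := two_ne_zero_of_quadratic (by simpa using hodd) hQ
      refine Or.inr (Or.inr (Or.inl ⟨?_, Q, hQ, le_quadSimilarityGroup hPabs hPn h2' hQ hfix⟩))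
      rw [Nat.odd_iff]
      exact FiniteField.odd_card_of_char_ne_two (fun hc => h2' (by
        have : CharP F 2 := ringChar.of_eq hc
        exact CharTwo.two_eq_zero))
    by_cases hU : ∃ (σ : F ≃+* F) (f : (Fin n → F) → (Fin n → F) → F),
        Cfsg.Geo.IsUnitaryForm σ f ∧ Cfsg.Geo.FixesForm (Cfsg.Geo.matrixSet ⁅N, N⁆) f
    · obtain ⟨σ, f, hf, hfix⟩ := hU
      exact Or.inr (Or.inr (Or.inr (Or.inl ⟨σ, f, hf,
        le_similarityGroup hPabs hPn (isSesq_of_unitary hf) hf.nondegenerate hfix⟩)))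
    refine Or.inr (Or.inr (Or.inr (Or.inr ⟨⁅N, N⁆, ⟨?_, hPn, hPperf, hPsimp, hPna, ?_, hPabs, ?_⟩,
      hQ, fun ⟨f, hf, _⟩ => not_isSymplecticForm_of_odd (by simpa using hodd) f hf, hU⟩)))
    · exact (Subgroup.commutator_le.2 fun a ha b hb =>
        N.mul_mem (N.mul_mem (N.mul_mem ha hb) (N.inv_mem ha)) (N.inv_mem hb)).trans hNH
    · intro h _ hc
      exact hPabs.mem_scalars (commutator_mem_scalars_comm hPperf hc)
    · exact fun F₀ hF₀ hr => hreal ⟨F₀, hF₀, hr⟩

end CfsgLib.Aschbacher
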