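import Cfsg.Agent.Lib.Aschbacher.SympGeneral
import Cfsg.Agent.Lib.Aschbacher.Proper
import Cfsg.Agent.Lib.Aschbacher.ProperGeneral

/-!
No member of the classes of the symplectic group contains all symplectic transvections.
-/

set_option autoImplicit false
set_option maxHeartbeats 400000

namespace CfsgLib.Aschbacher

open Matrix Module

open scoped Kronecker

variable {F : Type*} [Field F] {m : ℕ}

lemma sympTransvection_mulVec (v x : Fin m ⊕ Fin m → F) (c : F) :
    Cfsg.sympTransvection m v c *ᵥ x = x + (c * Cfsg.sympForm m F x v) • v := by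
  simp only [Cfsg.sympTransvection, Cfsg.sympForm, Matrix.add_mulVec, Matrix.one_mulVec,
    Matrix.smul_mulVec, Matrix.vecMulVec_mulVec, op_smul_eq_smul, smul_smul,
    dotProduct_comm (Matrix.J (Fin m) F *ᵥ v) x]

lemma sympTransvection_mul (v : Fin m ⊕ Fin m → F) (c d : F) :
    Cfsg.sympTransvection m v c * Cfsg.sympTransvection m v d =
      Cfsg.sympTransvection m v (c + d) := by
  refine Matrix.toLin'.injective (LinearMap.ext fun x => ?_)
  simp only [Matrix.toLin'_apply, ← Matrix.mulVec_mulVec, sympTransvection_mulVec,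
    (isRefl_sympForm m).sesq.add_left, (isRefl_sympForm m).sesq.smul_left, sympForm_alt]
  module

lemma sympTransvection_zero (v : Fin m ⊕ Fin m → F) : Cfsg.sympTransvection m v 0 = 1 := by
  simp [Cfsg.sympTransvection]

/-- A symplectic transvection as an element of the general linear group. -/
def sT (v : Fin m ⊕ Fin m → F) (c : F) : GL (Fin m ⊕ Fin m) F :=
  ⟨Cfsg.sympTransvection m v c, Cfsg.sympTransvection m v (-c),
    by rw [sympTransvection_mul, add_neg_cancel, sympTransvection_zero],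
    by rw [sympTransvection_mul, neg_add_cancel, sympTransvection_zero]⟩

lemma sT_mulVec (v x : Fin m ⊕ Fin m → F) (c : F) :
    (sT v c : Matrix (Fin m ⊕ Fin m) (Fin m ⊕ Fin m) F) *ᵥ x =
      x + (c * Cfsg.sympForm m F x v) • v := sympTransvection_mulVec v x c

lemma sT_mem (v : Fin m ⊕ Fin m → F) (c : F) : sT v c ∈ Cfsg.spGL m F := by
  intro x y
  show Cfsg.sympForm m F (Cfsg.sympTransvection m v c *ᵥ x) (Cfsg.sympTransvection m v c *ᵥ y) = _
  have hf := isRefl_sympForm (F := F) m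
  simp only [sympTransvection_mulVec, hf.sesq.add_left, hf.sesq.add_right, hf.sesq.smul_left,
    hf.bilinear.smul_right, sympForm_alt]
  have h := hf.swap y v
  simp only [RingEquiv.refl_apply] at h
  rw [h]
  ring

lemma exists_perp_two (hm : 2 ≤ m) (L : (Fin m ⊕ Fin m → F) →ₗ[F] F)
    (L' : (Fin m ⊕ Fin m → F) →ₗ[F] F) : ∃ x : Fin m ⊕ Fin m → F, x ≠ 0 ∧ L x = 0 ∧ L' x = 0 := by
  have hne : LinearMap.ker (L.prod L') ≠ ⊥ := by
    intro h
    have h1 := (L.prod L').finrank_range_add_finrank_ker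
    rw [h, finrank_bot, Module.finrank_fintype_fun_eq_card] at h1
    have h2 := Submodule.finrank_le (LinearMap.range (L.prod L'))
    simp only [finrank_prod, finrank_self, Fintype.card_sum, Fintype.card_fin] at h1 h2
    omega
  obtain ⟨x, hx, hx0⟩ := Submodule.exists_mem_ne_zero_of_ne_bot hne
  rw [LinearMap.mem_ker, LinearMap.prod_apply] at hx
  exact ⟨x, hx0, congrArg Prod.fst hx, congrArg Prod.snd hx⟩

/-- The functional `x ↦ f x v`. -/
def sympDual (v : Fin m ⊕ Fin m → F) : (Fin m ⊕ Fin m → F) →ₗ[F] F where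
  toFun x := Cfsg.sympForm m F x v
  map_add' x y := (isRefl_sympForm m).sesq.add_left x y v
  map_smul' c x := (isRefl_sympForm m).sesq.smul_left c x v

lemma exists_moving {W : Submodule F (Fin m ⊕ Fin m → F)} (h0 : W ≠ ⊥) (h1 : W ≠ ⊤) :
    ∃ v w, w ∈ W ∧ v ∉ W ∧ Cfsg.sympForm m F w v ≠ 0 := by
  have hf := isRefl_sympForm (F := F) m
  obtain ⟨w, hw, hw0⟩ := Submodule.exists_mem_ne_zero_of_ne_bot h0
  obtain ⟨z, hz⟩ : ∃ z, z ∉ W := by
    by_contra h
    push Not at h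
    exact h1 (eq_top_iff.2 fun x _ => h x)
  by_contra h
  push Not at h
  have hz' := h z w hw hz
  obtain ⟨-, x, hx⟩ := hf.nondeg w hw0
  apply hx
  by_cases hxW : x ∈ W
  · have h2 := h (x + z) w hw fun h' => hz (by simpa using W.sub_mem h' hxW)
    rwa [hf.sesq.add_right, hz', add_zero] at h2
  · exact h x w hw hxW

theorem spGL_not_le_subspaceStabilizer {W : Submodule F (Fin m ⊕ Fin m → F)}
    (h0 : W ≠ ⊥) (h1 : W ≠ ⊤) : ¬ Cfsg.spGL m F ≤ Cfsg.Geo.subspaceStabilizer W := by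
  intro hle
  obtain ⟨v, w, hw, hv, hwv⟩ := exists_moving h0 h1
  have h := (hle (sT_mem v 1) w).1 hw
  change (sT v 1 : Matrix (Fin m ⊕ Fin m) (Fin m ⊕ Fin m) F) *ᵥ w ∈ W at h
  rw [sT_mulVec, one_mul] at h
  have h2 : Cfsg.sympForm m F w v • v ∈ W := by simpa using W.sub_mem h hw
  exact hv ((W.smul_mem_iff hwv).1 h2)

theorem spGL_not_le_decompositionStabilizer {t k : ℕ} (hk : 2 ≤ k)
    {D : Fin t → Submodule F (Fin m ⊕ Fin m → F)} (hD : Cfsg.Geo.IsMDecomposition k D) :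
    ¬ Cfsg.spGL m F ≤ Cfsg.Geo.decompositionStabilizer D := by
  intro hle
  let i₀ : Fin t := ⟨0, by have := hD.two_le; omega⟩
  let i₁ : Fin t := ⟨1, by have := hD.two_le; omega⟩
  have h01 : i₀ ≠ i₁ := by simp [i₀, i₁, Fin.ext_iff]
  have hne : ∀ i, D i ≠ ⊥ := fun i h => by
    have := hD.finrank_eq i
    rw [h, finrank_bot] at this
    omega
  have hWt : D i₀ ≠ ⊤ := fun h => by
    have h2 := hD.indep.pairwiseDisjoint h01.symm
    simp only [Function.onFun, h, disjoint_top] at h2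
    exact hne i₁ h2
  obtain ⟨v, w, hw, hv, hwv⟩ := exists_moving (hne i₀) hWt
  obtain ⟨σ, hσ⟩ := hle (sT_mem v 1)
  obtain ⟨x, hx, hx0, hxv⟩ : ∃ x ∈ D i₀, x ≠ 0 ∧ Cfsg.sympForm m F x v = 0 := by
    let L : D i₀ →ₗ[F] F := (sympDual v).comp (D i₀).subtype
    have hne' : LinearMap.ker L ≠ ⊥ := by
      intro h
      have h1 := L.finrank_range_add_finrank_ker
      have h2 := Submodule.finrank_le (LinearMap.range L)
      rw [h, finrank_bot, hD.finrank_eq] at h1
      rw [finrank_self] at h2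
      omega
    obtain ⟨x, hx, hx0⟩ := Submodule.exists_mem_ne_zero_of_ne_bot hne'
    exact ⟨x, x.2, by simpa using hx0, hx⟩
  have hfix : x ∈ D (σ i₀) := by
    rw [← hσ i₀]
    exact ⟨x, hx, by rw [Matrix.toLin'_apply, sT_mulVec, hxv, mul_zero, zero_smul, add_zero]⟩
  have hi : σ i₀ = i₀ := by
    by_contra h
    exact hx0 (Submodule.disjoint_def.1 (hD.indep.pairwiseDisjoint h) x hfix hx)
  have h : (sT v 1 : Matrix (Fin m ⊕ Fin m) (Fin m ⊕ Fin m) F) *ᵥ w ∈ D i₀ := by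
    have h' := hσ i₀
    rw [hi] at h'
    exact h'.le ⟨w, hw, Matrix.toLin'_apply _ _⟩
  rw [sT_mulVec, one_mul] at h
  have h2 : Cfsg.sympForm m F w v • v ∈ D i₀ := by simpa using (D i₀).sub_mem h hw
  exact hv (((D i₀).smul_mem_iff hwv).1 h2)

theorem spGL_not_le_subalgebraNormalizer (hm : 2 ≤ m) {r : ℕ}
    {K : Subalgebra F (Matrix (Fin m ⊕ Fin m) (Fin m ⊕ Fin m) F)}
    (hK : Cfsg.Geo.IsFieldSubalgebra r K) (hr : 1 < r) :
    ¬ Cfsg.spGL m F ≤ Cfsg.Geo.subalgebraNormalizer K := by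
  intro hle
  have hf := isRefl_sympForm (F := F) m
  -- every element moves every vector within its line
  have hline : ∀ k ∈ K, ∀ v : Fin m ⊕ Fin m → F, k *ᵥ v ∈ F ∙ v := by
    intro k hk v
    by_cases hv : v = 0
    · rw [hv, Matrix.mulVec_zero]; exact zero_mem _
    set T := sT v (1 : F) with hT
    set k' := (T : Matrix (Fin m ⊕ Fin m) (Fin m ⊕ Fin m) F) * k *
      ((T⁻¹ : GL (Fin m ⊕ Fin m) F) : Matrix (Fin m ⊕ Fin m) (Fin m ⊕ Fin m) F) with hk'
    have hkK : k' ∈ K := (hle (sT_mem v 1) k).1 hk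
    have hk'T : ∀ z, k' *ᵥ ((T : Matrix (Fin m ⊕ Fin m) (Fin m ⊕ Fin m) F) *ᵥ z) =
        (T : Matrix (Fin m ⊕ Fin m) (Fin m ⊕ Fin m) F) *ᵥ (k *ᵥ z) := by
      intro z
      rw [hk', ← Matrix.mulVec_mulVec, inv_mulVec_cancel, Matrix.mulVec_mulVec]
    obtain ⟨x, hx0, hx, hkx⟩ :=
      exists_perp_two hm (sympDual v) ((sympDual v).comp (Matrix.toLin' k))
    change Cfsg.sympForm m F x v = 0 at hx
    change Cfsg.sympForm m F (k *ᵥ x) v = 0 at hkx
    have heq : k' - k = 0 := by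
      by_contra hne
      refine hx0 (fieldSubalgebra_mulVec_eq_zero hK (sub_mem hkK hk) hne ?_)
      have h := hk'T x
      rw [hT, sT_mulVec, sT_mulVec, hx, hkx, mul_zero, zero_smul, add_zero, add_zero] at h
      rw [Matrix.sub_mulVec, h, sub_self]
    obtain ⟨y, hy⟩ : ∃ y, Cfsg.sympForm m F y v ≠ 0 := (hf.nondeg v hv).1
    have h := hk'T y
    rw [sub_eq_zero.1 heq, hT, sT_mulVec, sT_mulVec, Matrix.mulVec_add, Matrix.mulVec_smul,
      add_right_inj, one_mul, one_mul] at h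
    refine Submodule.mem_span_singleton.2
      ⟨(Cfsg.sympForm m F y v)⁻¹ * Cfsg.sympForm m F (k *ᵥ y) v, ?_⟩
    rw [← smul_smul, ← h, smul_smul, inv_mul_cancel₀ hy, one_smul]
  let v : Fin m ⊕ Fin m → F := Pi.single (Sum.inl ⟨0, by omega⟩) 1
  let φ : K →ₗ[F] (Fin m ⊕ Fin m → F) :=
    ((Matrix.mulVecBilin F F).flip v).comp K.val.toLinearMap
  have hinj : Function.Injective φ := by
    rw [injective_iff_map_eq_zero]
    intro a ha
    by_contra ha0
    have := fieldSubalgebra_mulVec_eq_zero hK a.2 (fun h => ha0 (Subtype.ext h)) (v := v) ha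
    simp [v] at this
  have h1 := Submodule.finrank_mono (show LinearMap.range φ ≤ F ∙ v by
    rintro _ ⟨a, rfl⟩; exact hline _ a.2 v)
  rw [LinearMap.finrank_range_of_inj hinj, hK.finrank_eq,
    finrank_span_singleton (by simp [v])] at h1
  omega

/-- A transvection in a frame. -/
lemma frame_transvection {κ : Type} [Fintype κ] [DecidableEq κ] (e : (Fin m ⊕ Fin m) ≃ κ)
    (P : GL (Fin m ⊕ Fin m) F) (k₀ : κ) :
    ∃ φ : κ → F, φ k₀ = 0 ∧ (∃ q, φ q ≠ 0) ∧ ∀ c : F, ∃ X : GL κ F,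
      frU e P X ∈ Cfsg.spGL m F ∧
      ∀ p q, (X : Matrix κ κ F) p q = (if p = q then 1 else 0) + if p = k₀ then c * φ q else 0 := by
  have hf := isRefl_sympForm (F := F) m
  set φ : κ → F := fun q => pullForm e P (Cfsg.sympForm m F) (Pi.single q 1) (Pi.single k₀ 1) with hφ
  refine ⟨φ, sympForm_alt m _, ?_, fun c => ?_⟩
  swap
  · set g := sT ((P : Matrix (Fin m ⊕ Fin m) (Fin m ⊕ Fin m) F) *ᵥ
      ((Pi.single k₀ 1 : κ → F) ∘ e)) c with hg
    refine ⟨(frU e P).symm g, by rw [(frU e P).apply_symm_apply]; exact sT_mem _ _, fun p q => ?_⟩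
    set X : Matrix κ κ F :=      (((frU e P).symm g : GL κ F) : Matrix κ κ F) with hX
    have hgX : (g : Matrix (Fin m ⊕ Fin m) (Fin m ⊕ Fin m) F) = frAlg e P X := by
      rw [hX, ← frU_val, (frU e P).apply_symm_apply]
    have h : X *ᵥ (Pi.single q 1 : κ → F) =
        (Pi.single q 1 : κ → F) + (c * φ q) • (Pi.single k₀ 1 : κ → F) := by
      have h1 := frAlg_mulVec e P X (Pi.single q 1)
      rw [← hgX, hg, sT_mulVec] at h1
      have h2 : (P : Matrix (Fin m ⊕ Fin m) (Fin m ⊕ Fin m) F) *ᵥ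
          (((Pi.single q 1 : κ → F) + (c * φ q) • (Pi.single k₀ 1 : κ → F)) ∘ e) =
          (P : Matrix (Fin m ⊕ Fin m) (Fin m ⊕ Fin m) F) *ᵥ
            ((X *ᵥ (Pi.single q 1 : κ → F)) ∘ e) := by
        rw [← h1, show ((Pi.single q 1 : κ → F) + (c * φ q) • (Pi.single k₀ 1 : κ → F)) ∘ ⇑e =
          (Pi.single q 1 : κ → F) ∘ ⇑e + (c * φ q) • ((Pi.single k₀ 1 : κ → F) ∘ ⇑e) from rfl,
          Matrix.mulVec_add, Matrix.mulVec_smul]
        rfl
      exact (funext fun k => by simpa using congrFun (mulVec_injective P h2.symm) (e.symm k))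
    have := congrFun h p
    rw [Matrix.mulVec_single_one] at this
    simp only [Matrix.col_apply, Pi.add_apply, Pi.smul_apply, smul_eq_mul, Pi.single_apply,
      mul_ite, mul_one, mul_zero] at this
    exact this
  · by_contra h
    push Not at h
    have h1 := (hf.pull e P).sesq.gram_isUnit (hf.pull e P).nondeg
    have h2 := (Matrix.mulVec_injective_iff_isUnit.2 h1) (a₁ := Pi.single k₀ 1) (a₂ := 0) (by
      funext q
      rw [Matrix.mulVec_single_one, Matrix.mulVec_zero]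
      exact h q)
    simpa using congrFun h2 k₀

theorem spGL_not_le_tensorProductSubgroup {a b : ℕ} (ha : 2 ≤ a) (hb : 2 ≤ b)
    (e : (Fin m ⊕ Fin m) ≃ Fin a × Fin b) (P : GL (Fin m ⊕ Fin m) F) :
    ¬ Cfsg.spGL m F ≤ Cfsg.Geo.tensorProductSubgroup a b e P := by
  intro hle
  let a0 : Fin a := ⟨0, by omega⟩
  let a1 : Fin a := ⟨1, by omega⟩
  let b0 : Fin b := ⟨0, by omega⟩
  let b1 : Fin b := ⟨1, by omega⟩
  have ha01 : a0 ≠ a1 := by simp [a0, a1, Fin.ext_iff]
  have hb01 : b0 ≠ b1 := by simp [b0, b1, Fin.ext_iff]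
  obtain ⟨φ, hφ0, ⟨q₁, hq₁⟩, hφ⟩ := frame_transvection e P (a0, b0)
  obtain ⟨X, hX, hent⟩ := hφ 1
  have h := hle hX
  rw [Cfsg.Geo.tensorProductSubgroup, map_glReindex_conj] at h
  obtain ⟨Y, ⟨c, d, hY⟩, hYX⟩ := h
  obtain rfl : Y = X := (frU e P).injective hYX
  have E : ∀ i j k l, (c : Matrix (Fin a) (Fin a) F) i k * (d : Matrix (Fin b) (Fin b) F) j l =
      (if (i, j) = (k, l) then 1 else 0) + if (i, j) = (a0, b0) then φ (k, l) else 0 := by
    intro i j k l
    have := hent (i, j) (k, l)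
    rw [hY, Matrix.kroneckerMap_apply, one_mul] at this
    exact this
  have h11 : ∀ i j, (i, j) ≠ (a0, b0) → ∀ k l,
      (c : Matrix (Fin a) (Fin a) F) i k * (d : Matrix (Fin b) (Fin b) F) j l =
        if (i, j) = (k, l) then 1 else 0 := fun i j h k l => by rw [E, if_neg h, add_zero]
  have e10 : (a1, b0) ≠ (a0, b0) := by simp [ha01.symm]
  have e01 : (a0, b1) ≠ (a0, b0) := by simp [hb01.symm]
  have hc11 : (c : Matrix (Fin a) (Fin a) F) a1 a1 ≠ 0 := fun h0 => by
    have := h11 a1 b0 e10 a1 b0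
    rw [h0, zero_mul, if_pos rfl] at this
    exact zero_ne_one this
  have hd11 : (d : Matrix (Fin b) (Fin b) F) b1 b1 ≠ 0 := fun h0 => by
    have := h11 a0 b1 e01 a0 b1
    rw [h0, mul_zero, if_pos rfl] at this
    exact zero_ne_one this
  apply hq₁
  obtain ⟨k, l⟩ := q₁
  by_cases hkl : (a0, b0) = (k, l)
  · rw [← hkl, hφ0]
  have h0 := E a0 b0 k l
  rw [if_neg hkl, if_pos rfl, zero_add] at h0
  rw [← h0]
  rcases not_and_or.1 (fun hh : a0 = k ∧ b0 = l => hkl (Prod.ext hh.1 hh.2)) with hk | hl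
  · have := h11 a0 b1 e01 k b1
    rw [if_neg (by simpa using hk)] at this
    rw [(mul_eq_zero.1 this).resolve_right hd11, zero_mul]
  · have := h11 a1 b0 e10 a1 l
    rw [if_neg (by simpa using hl)] at this
    rw [(mul_eq_zero.1 this).resolve_left hc11, mul_zero]

theorem spGL_not_le_subfieldSubgroup [Fintype F] (hm : 2 ≤ m) {F₀ : Subfield F} {r : ℕ}
    (hr : r.Prime) (hc : Fintype.card F = Nat.card F₀ ^ r) (P : GL (Fin m ⊕ Fin m) F) :
    ¬ Cfsg.spGL m F ≤ Cfsg.Geo.subfieldSubgroup F₀ P := by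
  intro hle
  let k₀ : Fin m ⊕ Fin m := Sum.inl ⟨0, by omega⟩
  let k₁ : Fin m ⊕ Fin m := Sum.inl ⟨1, by omega⟩
  have h01 : k₁ ≠ k₀ := by simp [k₀, k₁]
  obtain ⟨γ, hγ⟩ : ∃ γ, γ ∉ F₀ := by
    by_contra hall
    push Not at hall
    have hcard : Nat.card F₀ = Fintype.card F := by
      rw [← Nat.card_eq_fintype_card]
      exact Nat.card_congr (Equiv.subtypeUnivEquiv hall)
    rw [← hcard] at hc
    have h1 : 1 < Nat.card F₀ := hcard ▸ Fintype.one_lt_card
    exact hr.one_lt.ne (Nat.pow_right_injective h1 ((pow_one (Nat.card F₀)).trans hc))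
  obtain ⟨φ, hφ0, ⟨q, hq⟩, hφ⟩ := frame_transvection (Equiv.refl _) P k₀
  have hqk : q ≠ k₀ := fun h => hq (h ▸ hφ0)
  obtain ⟨X, hX, hent⟩ := hφ (γ / φ q)
  obtain ⟨Y, hY, hYe⟩ := hle hX
  have hrefl : frU (Equiv.refl _) P X = MulAut.conj P X := by
    refine Units.ext ?_
    rw [frU_val, frAlg_apply]
    simp [mul_assoc]
  obtain rfl : Y = X := (MulAut.conj P).injective (hYe.trans hrefl)
  obtain ⟨_, ⟨M, rfl⟩, s, hs, hms⟩ := Subgroup.mem_sup_of_normal_right.1 hY
  obtain ⟨d, hd⟩ := (Cfsg.Geo.mem_scalars_iff s).1 hs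
  have hval : ∀ p q, (d : F) * (((M : Matrix (Fin m ⊕ Fin m) (Fin m ⊕ Fin m) F₀) p q : F₀) : F) =
      (Y : Matrix (Fin m ⊕ Fin m) (Fin m ⊕ Fin m) F) p q := by
    intro p q
    rw [← hms]
    simp only [Units.val_mul, hd, Matrix.mul_smul, mul_one, Matrix.smul_apply, smul_eq_mul]
    rfl
  have h1 := hval k₁ k₁
  rw [hent, if_pos rfl, if_neg h01, add_zero] at h1
  have hd0 : (d : F) ∈ F₀ := by
    rw [eq_inv_of_mul_eq_one_left h1]
    exact F₀.inv_mem (SetLike.coe_mem _)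
  have h2 := hval k₀ q
  rw [hent, if_neg hqk.symm, if_pos rfl, zero_add, div_mul_cancel₀ _ hq] at h2
  exact hγ (h2 ▸ F₀.mul_mem hd0 (SetLike.coe_mem _))

theorem spGL_not_le_quadSimilarityGroup (hm : 2 ≤ m) {Q : (Fin m ⊕ Fin m → F) → F}
    (hs : ∀ (c : F) v, Q (c • v) = c ^ 2 * Q v)
    (hpol : ∀ u v, QuadraticMap.polar Q u v = Cfsg.sympForm m F u v) :
    ¬ Cfsg.spGL m F ≤ Cfsg.Geo.quadSimilarityGroup Q := by
  intro hle
  have hf := isRefl_sympForm (F := F) m
  have hQadd : ∀ x y, Q (x + y) = Q x + Q y + Cfsg.sympForm m F x y := fun x y => by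
    rw [← hpol, QuadraticMap.polar]; ring
  obtain ⟨v, hv0, hQv⟩ : ∃ v, v ≠ 0 ∧ Q v + 1 ≠ 0 := by
    by_contra h
    push Not at h
    let u : Fin m ⊕ Fin m → F := Pi.single (Sum.inl ⟨0, by omega⟩) 1
    let w : Fin m ⊕ Fin m → F := Pi.single (Sum.inl ⟨1, by omega⟩) 1
    have h1 : Cfsg.sympForm m F u w = 0 := by
      simp [Cfsg.sympForm, u, w, Matrix.J]
    have hne : u + w ≠ 0 := fun h0 => by
      simpa [u, w, Pi.single_apply, Fin.ext_iff] using congrFun h0 (Sum.inl (⟨0, by omega⟩ : Fin m))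
    have e1 := h u (by simp [u])
    have e2 := h w (by simp [w])
    have e3 := h (u + w) hne
    rw [hQadd, h1] at e3
    exact one_ne_zero (show (1 : F) = 0 by linear_combination e1 + e2 - e3)
  obtain ⟨μ, hμ⟩ := hle (sT_mem v 1)
  have hT : ∀ x, Q ((sT v 1 : Matrix (Fin m ⊕ Fin m) (Fin m ⊕ Fin m) F) *ᵥ x) =
      Q x + Cfsg.sympForm m F x v ^ 2 * (Q v + 1) := fun x => by
    rw [sT_mulVec, one_mul, hQadd, hs, hf.bilinear.smul_right]; ring
  obtain ⟨x, hxv, hQx⟩ : ∃ x, Cfsg.sympForm m F x v = 0 ∧ Q x ≠ 0 := by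
    by_contra h
    push Not at h
    have hW : LinearMap.ker (sympDual v) ≤ perp hf.sesq (LinearMap.ker (sympDual v)) := by
      intro x hx y hy
      change Cfsg.sympForm m F x v = 0 at hx
      change Cfsg.sympForm m F y v = 0 at hy
      rw [← hpol, QuadraticMap.polar, h y hy, h x hx,
        h (x + y) (by rw [hf.sesq.add_left, hy, hx, add_zero])]
      ring
    have h1 := (sympDual v).finrank_range_add_finrank_ker
    have h2 := Submodule.finrank_le (LinearMap.range (sympDual v))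
    have h3 := hf.finrank_perp (LinearMap.ker (sympDual v))
    have h4 := Submodule.finrank_mono hW
    simp only [finrank_self, Module.finrank_fintype_fun_eq_card, Fintype.card_sum,
      Fintype.card_fin] at h1 h2 h3
    omega
  have h1 := hμ x
  rw [hT, hxv, zero_pow two_ne_zero, zero_mul, add_zero] at h1
  have hμ1 : (μ : F) = 1 := mul_right_cancel₀ hQx (by rw [one_mul]; exact h1.symm)
  obtain ⟨y, hy⟩ := (hf.nondeg v hv0).1
  have h2 := hμ y
  rw [hT, hμ1, one_mul, add_eq_left] at h2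
  exact mul_ne_zero (pow_ne_zero 2 hy) hQv h2

end CfsgLib.Aschbacher
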