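import Cfsg.Agent.Lib.Aschbacher.OrthPrime
import Cfsg.Agent.Lib.Aschbacher.SympFamily
import Cfsg.Agent.Lib.Aschbacher.UnitaryPair
import Cfsg.Agent.Lib.Aschbacher.ProperGeneral
import Cfsg.Agent.Lib.FiniteForms.Congr
import Cfsg.Agent.Lib.MaxSub.NotMaximalOrthBlocks
import Cfsg.Agent.Lib.MaxSub.DecompTools

/-!
Orthogonal frames: stabilisers of small orthogonal decompositions and tensor powers over three
elements preserve frames.
-/

set_option autoImplicit false

namespace CfsgLib.Aschbacher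

open Matrix Module

variable {F : Type*} [Field F] {ι : Type} [Fintype ι] [DecidableEq ι]

omit [Fintype ι] [DecidableEq ι] in
lemma bilinear_sum_left {f : (ι → F) → (ι → F) → F} (hf : Cfsg.Geo.IsBilinearForm f) {κ : Type}
    (s : Finset κ) (c : κ → F) (w : κ → ι → F) (v : ι → F) :
    f (∑ j ∈ s, c j • w j) v = ∑ j ∈ s, c j * f (w j) v := by
  let L : (ι → F) →+ F := AddMonoidHom.mk' (fun x => f x v) fun x y => hf.add_left x y v
  show L _ = _
  rw [map_sum]
  exact Finset.sum_congr rfl fun j _ => hf.smul_left _ _ _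

/-- Pairwise orthogonal vectors of one non-zero value give a frame. -/
theorem frame_of_vectors {Q : (ι → F) → F} (hQ : Cfsg.Geo.IsNondegenerateQuadraticForm Q)
    (h2 : (2 : F) ≠ 0) {N : ℕ} (hN : 2 ≤ N) (hcard : N = Fintype.card ι) {d : F} (hd : d ≠ 0)
    {w : Fin N → ι → F} (hw : ∀ j, Q (w j) = d)
    (horth : ∀ i j, i ≠ j → QuadraticMap.polar Q (w i) (w j) = 0) :
    Cfsg.Geo.IsOrthogonalMDecomposition Q 1 (fun j => Submodule.span F {w j}) ∧
      ∀ g : GL ι F, (∀ j, ∃ (l : Fin N) (c : F), (g : Matrix ι ι F) *ᵥ w j = c • w l) →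
        g ∈ Cfsg.Geo.decompositionStabilizer fun j => Submodule.span F {w j} := by
  have hB := hQ.polar_bilinear
  have hself : ∀ j, QuadraticMap.polar Q (w j) (w j) ≠ 0 := fun j => by
    rw [polar_self hQ, hw]; exact mul_ne_zero h2 hd
  have hw0 : ∀ j, w j ≠ 0 := fun j h => hd (by
    rw [← hw j, h]
    simpa using hQ.smul 0 0)
  have hli : LinearIndependent F w := Fintype.linearIndependent_iff.2 fun c hc j => by
    have h1 := bilinear_sum_left hB Finset.univ c w (w j)
    rw [hc, Finset.sum_eq_single j (fun i _ hij => by rw [horth i j hij, mul_zero])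
      (fun h => absurd (Finset.mem_univ j) h)] at h1
    have h0 : QuadraticMap.polar Q (0 : ι → F) (w j) = 0 := by
      simpa using hB.smul_left 0 (w j) (w j)
    exact (mul_eq_zero.1 (h1.symm.trans h0)).resolve_right (hself j)
  have hD : Cfsg.Geo.IsMDecomposition 1 fun j => Submodule.span F {w j} := by
    refine ⟨hN, one_pos, fun j => finrank_span_singleton (hw0 j), hli.iSupIndep_span_singleton, ?_⟩
    rw [← Submodule.span_range_eq_iSup]
    refine hli.span_eq_top_of_card_eq_finrank' ?_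
    rw [Fintype.card_fin, Module.finrank_fintype_fun_eq_card, hcard]
  have hortho : ∀ i j, i ≠ j → Cfsg.Geo.AreOrthogonalFor (QuadraticMap.polar Q)
      (Submodule.span F {w i}) (Submodule.span F {w j}) := by
    intro i j hij u hu v hv
    obtain ⟨a, rfl⟩ := Submodule.mem_span_singleton.1 hu
    obtain ⟨b, rfl⟩ := Submodule.mem_span_singleton.1 hv
    rw [hB.smul_left, hB.smul_right, horth i j hij, mul_zero, mul_zero]
  refine ⟨⟨⟨hD, fun i u hu hu0 => ?_, hortho⟩, fun i j => ?_⟩, fun g hg => ?_⟩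
  · obtain ⟨a, rfl⟩ := Submodule.mem_span_singleton.1 hu
    have ha : a ≠ 0 := fun h => hu0 (by rw [h, zero_smul])
    refine ⟨⟨w i, Submodule.mem_span_singleton_self _, ?_⟩,
      w i, Submodule.mem_span_singleton_self _, ?_⟩
    · rw [hB.smul_right]; exact mul_ne_zero ha (hself i)
    · rw [hB.smul_left]; exact mul_ne_zero ha (hself i)
  · let e₁ := LinearEquiv.toSpanNonzeroSingleton F (ι → F) (w i) (hw0 i)
    let e₂ := LinearEquiv.toSpanNonzeroSingleton F (ι → F) (w j) (hw0 j)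
    refine ⟨e₁.symm.trans e₂, fun x => ?_⟩
    obtain ⟨a, rfl⟩ := e₁.surjective x
    have h1 : ((e₁.symm.trans e₂ (e₁ a) : Submodule.span F {w j}) : ι → F) = a • w j := by
      rw [LinearEquiv.trans_apply, LinearEquiv.symm_apply_apply]; rfl
    have h3 : ((e₁ a : Submodule.span F {w i}) : ι → F) = a • w i := rfl
    rw [h1, h3, hQ.smul, hQ.smul, hw, hw]
  · refine CfsgLib.MaxSub.Decomp.mem_stab_of hD fun j => ?_
    obtain ⟨l, c, hl⟩ := hg j
    refine ⟨l, fun x hx => ?_⟩
    obtain ⟨a, rfl⟩ := Submodule.mem_span_singleton.1 hx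
    rw [Matrix.mulVec_smul, hl, smul_smul]
    exact Submodule.smul_mem _ _ (Submodule.mem_span_singleton_self _)

/-- An irreducible group preserving a decomposition permutes its members transitively. -/
theorem exists_trans_of_irr {t k : ℕ} {D : Fin t → Submodule F (ι → F)}
    (hD : Cfsg.Geo.IsMDecomposition k D) {H : Subgroup (GL ι F)} (hirr : Irr H)
    (hle : H ≤ Cfsg.Geo.decompositionStabilizer D) (i j : Fin t) :
    ∃ g ∈ H, (D i).map (Matrix.toLin' (g : Matrix ι ι F)) = D j := by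
  let O : Set (Fin t) := {l | ∃ g ∈ H, (D i).map (Matrix.toLin' (g : Matrix ι ι F)) = D l}
  have hiO : i ∈ O := ⟨1, H.one_mem, by rw [Units.val_one, Matrix.toLin'_one, Submodule.map_id]⟩
  have hinv : Inv H (⨆ l ∈ O, D l) := by
    intro g hg x hx
    obtain ⟨π, hπ⟩ := hle hg
    have hle' : (⨆ l ∈ O, D l).map (Matrix.toLin' (g : Matrix ι ι F)) ≤ ⨆ l ∈ O, D l := by
      rw [Submodule.map_iSup]
      refine iSup_le fun l => ?_
      rw [Submodule.map_iSup]
      refine iSup_le fun hl => ?_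
      obtain ⟨a, ha, hal⟩ := hl
      rw [hπ l]
      refine le_biSup D (show π l ∈ O from ⟨g * a, H.mul_mem hg ha, ?_⟩)
      rw [Units.val_mul, Matrix.toLin'_mul, Submodule.map_comp, hal, hπ l]
    have h := hle' (Submodule.mem_map_of_mem hx)
    rwa [Matrix.toLin'_apply] at h
  rcases irr_iff.1 hirr _ hinv with h | h
  · exfalso
    have h1 : D i ≤ ⊥ := h ▸ le_biSup D hiO
    have h2 := hD.finrank_eq i
    have h3 := hD.pos
    rw [le_bot_iff.1 h1, finrank_bot] at h2
    omega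
  · by_contra hj
    have hdis : Disjoint (D j) (⨆ l ∈ O, D l) := hD.indep.disjoint_biSup (by exact hj)
    rw [h, disjoint_top] at hdis
    have h2 := hD.finrank_eq j
    have h3 := hD.pos
    rw [hdis, finrank_bot] at h2
    omega

/-- Members of a decomposition preserved by an irreducible group of isometries are isometric. -/
theorem isometric_of_irr {Q : (ι → F) → F} {t k : ℕ} {D : Fin t → Submodule F (ι → F)}
    (hD : Cfsg.Geo.IsNondegenerateMDecomposition (QuadraticMap.polar Q) k D)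
    {H : Subgroup (GL ι F)} (hH : H ≤ Cfsg.isometryGroup F Q) (hirr : Irr H)
    (hle : H ≤ Cfsg.Geo.decompositionStabilizer D) :
    Cfsg.Geo.IsOrthogonalMDecomposition Q k D := by
  refine ⟨hD, fun i j => ?_⟩
  obtain ⟨g, hg, hmap⟩ := exists_trans_of_irr hD.decomp hirr hle i j
  refine ⟨(Submodule.equivMapOfInjective (Matrix.toLin' (g : Matrix ι ι F))
    (fun x y h => mulVec_injective g (by simpa using h)) (D i)).trans
      (LinearEquiv.ofEq _ _ hmap), fun w => ?_⟩
  show Q (Matrix.toLin' (g : Matrix ι ι F) w) = _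
  rw [Matrix.toLin'_apply]
  exact mem_isometryGroup.1 (hH hg) w

/-- Over three elements a decomposition into three-dimensional spaces refines to a frame. -/
theorem frame_of_blocks [Fintype F] {Q : (ι → F) → F}
    (hQ : Cfsg.Geo.IsNondegenerateQuadraticForm Q) (hq : Fintype.card F = 3) {t : ℕ}
    {D : Fin t → Submodule F (ι → F)} (hD : Cfsg.Geo.IsOrthogonalMDecomposition Q 3 D)
    {H : Subgroup (GL ι F)} (hH : H ≤ Cfsg.isometryGroup F Q)
    (hle : H ≤ Cfsg.Geo.decompositionStabilizer D) :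
    ∃ D' : Fin (t * 3) → Submodule F (ι → F), Cfsg.Geo.IsOrthogonalMDecomposition Q 1 D' ∧
      H ≤ Cfsg.Geo.decompositionStabilizer D' := by
  classical
  obtain ⟨R, hRQ, -⟩ := CfsgLib.MaxSub.Orth.exists_form hQ
  subst hRQ
  have h2 : (2 : F) ≠ 0 := (CfsgLib.MaxSub.Orth.field_three hq).1
  have htwo := hD.decomp.decomp.two_le
  set i₀ : Fin t := ⟨0, by omega⟩
  have hnd : ∀ x ∈ D i₀, (∀ y ∈ D i₀, QuadraticMap.polar R x y = 0) → x = 0 := fun x hx h => by
    by_contra hx0
    obtain ⟨-, y, hy, hne⟩ := hD.decomp.nondegenerate i₀ x hx hx0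
    exact hne (h y hy)
  obtain ⟨c, hc, w, hwD, hwQ, hworth, hkey⟩ := CfsgLib.MaxSub.Orth.three_frame hq hnd
    (hD.decomp.decomp.finrank_eq i₀)
  choose φ hφ using fun i => hD.isometric i₀ i
  let u : Fin t × Fin 3 → ι → F := fun p => (φ p.1 ⟨w p.2, hwD p.2⟩ : ι → F)
  have hu : ∀ p, u p ∈ D p.1 := fun p => (φ p.1 _).2
  have huQ : ∀ p, R (u p) = c := fun p => (hφ p.1 _).trans (hwQ _)
  have huorth : ∀ p r, p ≠ r → QuadraticMap.polar R (u p) (u r) = 0 := by
    rintro ⟨i, a⟩ ⟨j, b⟩ hne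
    by_cases hij : i = j
    · subst hij
      have hab : a ≠ b := fun h => hne (by rw [h])
      have h1 : ((φ i ⟨w a + w b, add_mem (hwD a) (hwD b)⟩ : D i) : ι → F) =
          u (i, a) + u (i, b) := by
        rw [show (⟨w a + w b, add_mem (hwD a) (hwD b)⟩ : D i₀) =
          ⟨w a, hwD a⟩ + ⟨w b, hwD b⟩ from rfl, map_add]
        rfl
      show R (u (i, a) + u (i, b)) - R (u (i, a)) - R (u (i, b)) = 0
      rw [← h1, hφ, huQ, huQ]
      have h3 := hworth a b hab
      simp only [QuadraticMap.polar, hwQ] at h3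
      exact h3
    · exact hD.decomp.orthogonal i j hij _ (hu (i, a)) _ (hu (j, b))
  let e : Fin (t * 3) ≃ Fin t × Fin 3 := finProdFinEquiv.symm
  obtain ⟨hfr, hstab⟩ := frame_of_vectors hQ h2 (N := t * 3) (by omega)
    (mDecomposition_mul_eq hD.decomp.decomp) hc (w := fun j => u (e j)) (fun j => huQ _)
    (fun i j hij => huorth _ _ fun h => hij (e.injective h))
  refine ⟨_, hfr, fun g hg => hstab g fun j => ?_⟩
  obtain ⟨π, hπ⟩ := hle hg
  have hmem : (g : Matrix ι ι F) *ᵥ u (e j) ∈ D (π (e j).1) :=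
    hπ (e j).1 ▸ Submodule.mem_map_of_mem (hu (e j))
  let v : D i₀ := (φ (π (e j).1)).symm ⟨_, hmem⟩
  have hv : R (v : ι → F) = c := by
    rw [← hφ (π (e j).1) v, LinearEquiv.apply_symm_apply]
    exact (mem_isometryGroup.1 (hH hg) _).trans (huQ _)
  obtain ⟨l, hl⟩ := hkey v v.2 hv
  obtain ⟨z, hz⟩ := Submodule.mem_span_singleton.1 hl
  refine ⟨e.symm (π (e j).1, l), z, ?_⟩
  rw [Equiv.apply_symm_apply]
  have h1 : (φ (π (e j).1)) v = ⟨_, hmem⟩ := LinearEquiv.apply_symm_apply _ _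
  have h4 : v = z • (⟨w l, hwD l⟩ : D i₀) := Subtype.ext hz.symm
  rw [h4, map_smul] at h1
  exact (congrArg Subtype.val h1).symm

/-- In odd degree any two non-singular symmetric matrices are similar. -/
theorem exists_similar [Finite F] (h2 : (2 : F) ≠ 0) {k : ℕ} (hk : Odd k)
    {G H : Matrix (Fin k) (Fin k) F} (hG : Gᵀ = G) (hH : Hᵀ = H) (hGu : IsUnit G) (hHu : IsUnit H) :
    ∃ (C : GL (Fin k) F) (l : F), l ≠ 0 ∧
      (C : Matrix (Fin k) (Fin k) F)ᵀ * G * (C : Matrix (Fin k) (Fin k) F) = l • H := by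
  classical
  let _ : Fintype F := Fintype.ofFinite F
  have hG0 := ((Matrix.isUnit_iff_isUnit_det G).1 hGu).ne_zero
  have hH0 := ((Matrix.isUnit_iff_isUnit_det H).1 hHu).ne_zero
  set l := G.det * H.det with hl
  have hl0 : l ≠ 0 := mul_ne_zero hG0 hH0
  have hdet : (l • H).det = l ^ k * H.det := by rw [Matrix.det_smul, Fintype.card_fin]
  have hsq : IsSquare (G.det * (l • H).det) := by
    obtain ⟨j, rfl⟩ := hk
    exact ⟨l ^ (j + 1), by rw [hdet, hl]; ring⟩
  obtain ⟨C, hC0, hC⟩ := (CfsgLib.FiniteForms.congr_iff h2 hG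
    (show (l • H).IsSymm by unfold Matrix.IsSymm; rw [Matrix.transpose_smul, hH]) hG0
    (by rw [hdet]; exact mul_ne_zero (pow_ne_zero _ hl0) hH0)).2 hsq
  exact ⟨Matrix.GeneralLinearGroup.mkOfDetNeZero C hC0, l, hl0, hC⟩

/-- Similarities of the sum of three squares over three elements are monomial. -/
theorem monomial_of_similar [Fintype F] (hq : Fintype.card F = 3) {B : Matrix (Fin 3) (Fin 3) F}
    {u : F} (hu : u ≠ 0) (hB : Bᵀ * B = u • (1 : Matrix (Fin 3) (Fin 3) F)) (a : Fin 3) :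
    ∃ (b : Fin 3) (z : F), B *ᵥ (Pi.single a 1 : Fin 3 → F) = z • (Pi.single b 1 : Fin 3 → F) := by
  obtain ⟨h2, hval⟩ := CfsgLib.MaxSub.Orth.field_three hq
  have h3 := CfsgLib.MaxSub.Orth.three_eq_zero hq
  have hdet := congrArg Matrix.det hB
  rw [Matrix.det_mul, Matrix.det_transpose, Matrix.det_smul, Matrix.det_one, mul_one,
    Fintype.card_fin] at hdet
  have hu1 : u = 1 := by
    rcases hval u hu with h | h
    · exact h
    · exfalso
      rw [h] at hdet
      rcases CfsgLib.MaxSub.Orth.field_three_sq hq B.det with h' | h' <;> rw [h'] at hdet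
      · exact one_ne_zero (show (1 : F) = 0 by linear_combination hdet)
      · exact h2 (by linear_combination hdet)
  set x : Fin 3 → F := fun i => B i a
  have hcol : B *ᵥ (Pi.single a 1 : Fin 3 → F) = x := by rw [Matrix.mulVec_single_one]; rfl
  have hx : x 0 * x 0 + x 1 * x 1 + x 2 * x 2 = 1 := by
    have h := congrFun (congrFun hB a) a
    rw [Matrix.mul_apply, Fin.sum_univ_three, Matrix.smul_apply, Matrix.one_apply_eq, hu1,
      smul_eq_mul, mul_one] at h
    exact h
  rw [hcol]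
  have hz : ∀ i : Fin 3, x i * x i = 0 → x i = 0 := fun i h => mul_self_eq_zero.1 h
  rcases CfsgLib.MaxSub.Orth.field_three_sq hq (x 0) with s0 | s0 <;>
    rcases CfsgLib.MaxSub.Orth.field_three_sq hq (x 1) with s1 | s1 <;>
    rcases CfsgLib.MaxSub.Orth.field_three_sq hq (x 2) with s2 | s2 <;> rw [s0, s1, s2] at hx
  · exact absurd hx (by simp)
  · exact ⟨2, x 2, by funext i; fin_cases i <;> simp [hz 0 s0, hz 1 s1]⟩
  · exact ⟨1, x 1, by funext i; fin_cases i <;> simp [hz 0 s0, hz 2 s2]⟩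
  · exact absurd (show (1 : F) = 0 by linear_combination hx) one_ne_zero
  · exact ⟨0, x 0, by funext i; fin_cases i <;> simp [hz 1 s1, hz 2 s2]⟩
  · exact absurd (show (1 : F) = 0 by linear_combination hx) one_ne_zero
  · exact absurd (show (1 : F) = 0 by linear_combination hx) one_ne_zero
  · exact absurd (show (1 : F) = 0 by linear_combination h3 - hx) one_ne_zero

lemma pureVec_dot {t m : ℕ} (u v : Fin t → Fin m → F) :
    pureVec u ⬝ᵥ pureVec v = ∏ i, u i ⬝ᵥ v i := by
  classical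
  simp only [pureVec, dotProduct, ← Finset.prod_mul_distrib]
  rw [Finset.prod_univ_sum, Fintype.piFinset_univ]

lemma pureVec_smul {t m : ℕ} (z : Fin t → F) (v : Fin t → Fin m → F) :
    pureVec (fun i => z i • v i) = (∏ i, z i) • pureVec v := by
  funext x
  simp [pureVec, Finset.prod_mul_distrib]

/-- Over three elements isometries preserving a tensor power of three-spaces preserve a frame. -/
theorem frame_of_wreath [Fintype F] {Q : (ι → F) → F}
    (hQ : Cfsg.Geo.IsNondegenerateQuadraticForm Q) (hq : Fintype.card F = 3) {t : ℕ} (ht : 1 ≤ t)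
    (e : ι ≃ (Fin t → Fin 3)) (P : GL ι F) {G : Matrix (Fin 3) (Fin 3) F} {c : F} (hc : c ≠ 0)
    (hGu : IsUnit G) (hG : Gᵀ = G)
    (hpull : ∀ x y, pullForm e P (QuadraticMap.polar Q) x y =
      c * Cfsg.Geo.formOfGram id (pureMat fun _ : Fin t => G) x y)
    {H : Subgroup (GL ι F)} (hH : H ≤ Cfsg.isometryGroup F Q)
    (hle : H ≤ Cfsg.Geo.tensorWreathSubgroup 3 t e P) :
    ∃ (N : ℕ) (D : Fin N → Submodule F (ι → F)), Cfsg.Geo.IsOrthogonalMDecomposition Q 1 D ∧
      H ≤ Cfsg.Geo.decompositionStabilizer D := by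
  classical
  have h2 : (2 : F) ≠ 0 := (CfsgLib.MaxSub.Orth.field_three hq).1
  obtain ⟨C, l, hl, hC⟩ := exists_similar h2 (k := 3) (by decide) hG (Matrix.transpose_one)
    hGu isUnit_one
  set Cm := (C : Matrix (Fin 3) (Fin 3) F)
  let w : Fin 3 → Fin 3 → F := fun a => Cm *ᵥ Pi.single a 1
  have hgen : ∀ (a b : Fin 3) (M : Matrix (Fin 3) (Fin 3) F),
      (M *ᵥ w a) ⬝ᵥ (G *ᵥ (M *ᵥ w b)) = ((M * Cm)ᵀ * G * (M * Cm)) a b := by
    intro a b M
    simp only [w, Matrix.mulVec_mulVec]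
    rw [← Matrix.vecMul_transpose (M * Cm), ← Matrix.dotProduct_mulVec, Matrix.mulVec_mulVec,
      single_dotProduct, one_mul, Matrix.mulVec_single_one, Matrix.col_apply, ← mul_assoc G M Cm,
      mul_assoc ((M * Cm)ᵀ), mul_assoc G M Cm]
  have hw : ∀ a b, w a ⬝ᵥ (G *ᵥ w b) = if a = b then l else 0 := fun a b => by
    have h := hgen a b 1
    rw [Matrix.one_mulVec, Matrix.one_mulVec, one_mul, hC, Matrix.smul_apply, Matrix.one_apply,
      smul_eq_mul, mul_ite, mul_one, mul_zero] at h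
    exact h
  let V : (Fin t → Fin 3) → ι → F := fun x =>
    (P : Matrix ι ι F) *ᵥ ((pureVec fun i => w (x i)) ∘ e)
  have hpp : ∀ u v : Fin t → Fin 3 → F, pullForm e P (QuadraticMap.polar Q) (pureVec u) (pureVec v) =
      c * ∏ i, u i ⬝ᵥ (G *ᵥ v i) := by
    intro u v
    rw [hpull, formOfGram_eq, Function.id_comp, pureMat_mulVec, pureVec_dot]
  have hV : ∀ x y, QuadraticMap.polar Q (V x) (V y) = if x = y then c * l ^ t else 0 := by
    intro x y
    show pullForm e P (QuadraticMap.polar Q) _ _ = _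
    rw [hpp]
    simp only [hw]
    by_cases hxy : x = y
    · subst hxy
      simp
    · obtain ⟨i, hi⟩ := Function.ne_iff.1 hxy
      rw [if_neg hxy, Finset.prod_eq_zero (Finset.mem_univ i) (if_neg hi), mul_zero]
  have hd : (2 : F)⁻¹ * (c * l ^ t) ≠ 0 :=
    mul_ne_zero (inv_ne_zero h2) (mul_ne_zero hc (pow_ne_zero _ hl))
  let ee : Fin (3 ^ t) ≃ (Fin t → Fin 3) := (Fintype.equivFinOfCardEq (by simp)).symm
  obtain ⟨hfr, hstab⟩ := frame_of_vectors hQ h2 (N := 3 ^ t)
    (le_trans (by norm_num) (Nat.pow_le_pow_right (by norm_num : 0 < 3) ht))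
    (by rw [Fintype.card_congr e]; simp) hd (w := fun j => V (ee j))
    (fun j => by
      have h := hV (ee j) (ee j)
      rw [if_pos rfl, polar_self hQ] at h
      rw [← h, ← mul_assoc, inv_mul_cancel₀ h2, one_mul])
    (fun i j hij => by rw [hV, if_neg fun h => hij (ee.injective h)])
  refine ⟨_, _, hfr, fun g hg => hstab g fun j => ?_⟩
  have hg' := hle hg
  rw [Cfsg.Geo.tensorWreathSubgroup, map_glReindex_conj] at hg'
  obtain ⟨g₀, hg₀, hgX⟩ := hg'
  obtain ⟨A, σ, rfl⟩ := exists_pure_perm hg₀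
  have hgX' : (g : Matrix ι ι F) = frAlg e P
      (pureMat (fun i => (A i : Matrix (Fin 3) (Fin 3) F)) * permMat 3 F σ) := by
    rw [← hgX, MulEquiv.coe_toMonoidHom, frU_val]; rfl
  set X := pureMat (fun i => (A i : Matrix (Fin 3) (Fin 3) F)) * permMat 3 F σ with hX
  have hXv : ∀ v : Fin t → Fin 3 → F, X *ᵥ pureVec v =
      pureVec fun i => (A i : Matrix (Fin 3) (Fin 3) F) *ᵥ v (σ.symm i) := fun v => by
    rw [hX, ← Matrix.mulVec_mulVec, permMat_mulVec, pureMat_mulVec]
  have hiso := fun x y => pullForm_isometry e P hgX'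
    (isometry_apply (fixesPolar_of_le hH) hg) x y
  -- each factor is monomial in the frame
  have hmono : ∀ i a, ∃ (b : Fin 3) (z : F),
      (A i : Matrix (Fin 3) (Fin 3) F) *ᵥ w a = z • w b := by
    intro i
    set Ai := (A i : Matrix (Fin 3) (Fin 3) F)
    let K : F := ∏ j ∈ Finset.univ.erase i,
      ((A j : Matrix (Fin 3) (Fin 3) F) *ᵥ w 0) ⬝ᵥ (G *ᵥ ((A j : Matrix (Fin 3) (Fin 3) F) *ᵥ w 0))
    have key : ∀ a b, K * ((Ai *ᵥ w a) ⬝ᵥ (G *ᵥ (Ai *ᵥ w b))) =
        if a = b then l ^ t else 0 := by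
      intro a b
      let x : Fin 3 → Fin t → Fin 3 := fun a j => if σ j = i then a else 0
      have h := hiso (pureVec fun j => w (x a j)) (pureVec fun j => w (x b j))
      rw [hXv, hXv, hpp, hpp] at h
      have h' := mul_left_cancel₀ hc h
      rw [← Finset.mul_prod_erase _ _ (Finset.mem_univ i),
        Finset.prod_congr rfl fun j (hj : j ∈ Finset.univ.erase i) => show
          ((A j : Matrix (Fin 3) (Fin 3) F) *ᵥ w (x a (σ.symm j))) ⬝ᵥ
            (G *ᵥ ((A j : Matrix (Fin 3) (Fin 3) F) *ᵥ w (x b (σ.symm j)))) =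
          ((A j : Matrix (Fin 3) (Fin 3) F) *ᵥ w 0) ⬝ᵥ
            (G *ᵥ ((A j : Matrix (Fin 3) (Fin 3) F) *ᵥ w 0)) by
          simp [x, Finset.ne_of_mem_erase hj]] at h'
      simp only [x, Equiv.apply_symm_apply, if_true, hw] at h'
      rw [mul_comm, h']
      by_cases hab : a = b
      · subst hab; simp
      · rw [if_neg hab]
        exact Finset.prod_eq_zero (Finset.mem_univ (σ.symm i)) (by simp [hab])
    have hK : K ≠ 0 := fun h => pow_ne_zero t hl (by
      have := key 0 0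
      rw [h, zero_mul, if_pos rfl] at this
      exact this.symm)
    obtain ⟨B, hB⟩ : ∃ B, B = ((C⁻¹ : GL (Fin 3) F) : Matrix (Fin 3) (Fin 3) F) * Ai * Cm :=
      ⟨_, rfl⟩
    have hCB : Cm * B = Ai * Cm := by
      rw [hB, ← mul_assoc, ← mul_assoc, Units.mul_inv, one_mul]
    have hBB : Bᵀ * B = (l ^ t / (K * l)) • (1 : Matrix (Fin 3) (Fin 3) F) := by
      have h1 : l • (Bᵀ * B) = (Ai * Cm)ᵀ * G * (Ai * Cm) := by
        rw [← hCB, Matrix.transpose_mul,
          show Bᵀ * Cmᵀ * G * (Cm * B) = Bᵀ * (Cmᵀ * G * Cm) * B by simp only [mul_assoc], hC,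
          Matrix.mul_smul, Matrix.smul_mul, mul_one]
      ext a b
      have h2' := key a b
      rw [hgen, ← h1, Matrix.smul_apply, smul_eq_mul] at h2'
      rw [Matrix.smul_apply, Matrix.one_apply, smul_eq_mul]
      split_ifs at h2' ⊢
      · rw [mul_one, eq_div_iff (mul_ne_zero hK hl)]; linear_combination h2'
      · rw [mul_zero]
        exact (mul_eq_zero.1 ((mul_eq_zero.1 h2').resolve_left hK)).resolve_left hl
    intro a
    obtain ⟨b, z, hbz⟩ := monomial_of_similar hq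
      (div_ne_zero (pow_ne_zero _ hl) (mul_ne_zero hK hl)) hBB a
    refine ⟨b, z, ?_⟩
    show Ai *ᵥ (Cm *ᵥ _) = z • (Cm *ᵥ _)
    rw [Matrix.mulVec_mulVec, ← hCB, ← Matrix.mulVec_mulVec, hbz, Matrix.mulVec_smul]
  choose b z hbz using hmono
  refine ⟨ee.symm fun i => b i (ee j (σ.symm i)), ∏ i, z i (ee j (σ.symm i)), ?_⟩
  show (g : Matrix ι ι F) *ᵥ V (ee j) = _ • V (ee (ee.symm _))
  rw [Equiv.apply_symm_apply]
  show (g : Matrix ι ι F) *ᵥ ((P : Matrix ι ι F) *ᵥ (_ ∘ e)) = _ • ((P : Matrix ι ι F) *ᵥ (_ ∘ e))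
  rw [hgX', frAlg_mulVec, hXv, ← Matrix.mulVec_smul]
  congr 1
  funext s
  simp only [hbz]
  rw [Function.comp_apply, congrFun (pureVec_smul _ _) (e s)]
  rfl

end CfsgLib.Aschbacher
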