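import Cfsg.Agent.Lib.Aschbacher.Herm
import Cfsg.Agent.Lib.Aschbacher.HermField
import Cfsg.Agent.Lib.Aschbacher.ClassTwo
import Cfsg.Agent.Lib.Aschbacher.Subfield

/-!
Absolutely irreducible groups of symplectic isometries that are abelian modulo scalars: extraspecial
two-groups of minus type over prime fields, or groups realised over a proper subfield.
-/

set_option autoImplicit false

namespace CfsgLib.Aschbacher

open Matrix Module

open scoped Kronecker

variable {F : Type*} [Field F] {ι : Type} [Fintype ι] [DecidableEq ι]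

/-- The number of cosets of the scalars in a group with scalar commutators. -/
theorem card_quotient_scalars [Finite F] [Nonempty ι] {A : Subgroup (GL ι F)} (hA : AbsIrr A)
    (h : ScalarCommutators A) :
    Nat.card (A ⧸ (Cfsg.Geo.scalars ι F).subgroupOf A) = Fintype.card ι ^ 2 := by
  classical
  let S := (Cfsg.Geo.scalars ι F).subgroupOf A
  let Q := A ⧸ S
  let v : Q → GL ι F := fun q => (q.out : A)
  have hli : LinearIndependent F fun q => (v q : Matrix ι ι F) := by
    refine linearIndependent_cosets hA h v (fun q => (q.out : A).2) fun q q' hq => ?_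
    calc q = QuotientGroup.mk q.out := q.out_eq.symm
      _ = QuotientGroup.mk q'.out := QuotientGroup.eq.2 (Subgroup.mem_subgroupOf.2 hq)
      _ = q' := q'.out_eq
  have hspan : ⊤ ≤ Submodule.span F (Set.range fun q => (v q : Matrix ι ι F)) := by
    rw [← envelope_eq_top hA]
    refine Submodule.span_le.2 ?_
    rintro _ ⟨x, hx, rfl⟩
    let q : Q := QuotientGroup.mk ⟨x, hx⟩
    have hmem : (v q)⁻¹ * x ∈ Cfsg.Geo.scalars ι F :=
      Subgroup.mem_subgroupOf.1 (QuotientGroup.eq.1 (q.out_eq : (QuotientGroup.mk q.out : Q) = q))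
    obtain ⟨z, hz⟩ := mem_scalars.1 hmem
    have hx' : x = scalarGL ι z * v q := by rw [scalarGL_comm, ← hz]; group
    show (x : Matrix ι ι F) ∈ _
    rw [hx', Units.val_mul, scalarGL_val, Matrix.smul_mul, one_mul]
    exact Submodule.smul_mem _ _ (Submodule.subset_span ⟨q, rfl⟩)
  let _ : Fintype Q := Fintype.ofFinite _
  have hc := Module.finrank_eq_card_basis (Module.Basis.mk hli hspan)
  rw [Module.finrank_matrix, Module.finrank_self, mul_one] at hc
  rw [Nat.card_eq_fintype_card, ← hc, sq]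

set_option maxHeartbeats 800000 in
/-- A group with scalar commutators whose scalars lie in a subfield and whose commutation scalars
lie in it as well is realised over that subfield. -/
theorem realisable_of_scalars [Finite F] [Nonempty ι] {N : Subgroup (GL ι F)} (hN : AbsIrr N)
    (h : ScalarCommutators N) {F₁ : Subfield F}
    (hs : ∀ c : Fˣ, scalarGL ι c ∈ N → (c : F) ∈ F₁) :
    Cfsg.Geo.RealisableOver F₁ (Cfsg.Geo.matrixSet N) := by
  classical
  let S := (Cfsg.Geo.scalars ι F).subgroupOf N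
  let Q := N ⧸ S
  let _ : Fintype Q := Fintype.ofFinite _
  let v : Q → GL ι F := fun q => (q.out : N)
  have hli : LinearIndependent F fun q => (v q : Matrix ι ι F) := by
    refine linearIndependent_cosets hN h v (fun q => (q.out : N).2) fun q q' hq => ?_
    calc q = QuotientGroup.mk q.out := q.out_eq.symm
      _ = QuotientGroup.mk q'.out := QuotientGroup.eq.2 (Subgroup.mem_subgroupOf.2 hq)
      _ = q' := q'.out_eq
  have hQcard : Fintype.card Q = Fintype.card ι ^ 2 := by
    rw [← card_quotient_scalars hN h, Nat.card_eq_fintype_card]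
  let A₀ : Submodule F₁ (Matrix ι ι F) := Submodule.span F₁ (Cfsg.Geo.matrixSet N)
  have hA1 : (1 : Matrix ι ι F) ∈ A₀ := Submodule.subset_span ⟨1, N.one_mem, rfl⟩
  have hAmul : ∀ x y, x ∈ A₀ → y ∈ A₀ → x * y ∈ A₀ := by
    intro x y hx hy
    refine Submodule.span_induction (p := fun x _ => x * y ∈ A₀) ?_ ?_ ?_ ?_ hx
    · rintro _ ⟨a, ha, rfl⟩
      refine Submodule.span_induction (p := fun y _ => (a : Matrix ι ι F) * y ∈ A₀) ?_ ?_ ?_ ?_ hy
      · rintro _ ⟨b, hb, rfl⟩
        exact Submodule.subset_span ⟨a * b, N.mul_mem ha hb, rfl⟩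
      · simp
      · intro u w _ _ hu hw; rw [mul_add]; exact add_mem hu hw
      · intro c u _ hu; rw [mul_smul_comm]; exact A₀.smul_mem c hu
    · simp
    · intro u w _ _ hu hw; rw [add_mul]; exact add_mem hu hw
    · intro c u _ hu; rw [smul_mul_assoc]; exact A₀.smul_mem c hu
  let A : Subalgebra F₁ (Matrix ι ι F) := A₀.toSubalgebra hA1 hAmul
  -- a basis
  have hspanv : A₀ = Submodule.span F₁ (Set.range fun q => (v q : Matrix ι ι F)) := by
    refine le_antisymm (Submodule.span_le.2 ?_) (Submodule.span_le.2 ?_)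
    · rintro _ ⟨x, hx, rfl⟩
      let q : Q := QuotientGroup.mk ⟨x, hx⟩
      have hmem : (v q)⁻¹ * x ∈ Cfsg.Geo.scalars ι F :=
        Subgroup.mem_subgroupOf.1 (QuotientGroup.eq.1 (q.out_eq : (QuotientGroup.mk q.out : Q) = q))
      obtain ⟨z, hz⟩ := mem_scalars.1 hmem
      have hzN : scalarGL ι z ∈ N := hz ▸ N.mul_mem (N.inv_mem (q.out : N).2) hx
      have hx' : x = scalarGL ι z * v q := by rw [scalarGL_comm, ← hz]; group
      show (x : Matrix ι ι F) ∈ _
      rw [hx', Units.val_mul, scalarGL_val, Matrix.smul_mul, one_mul]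
      exact Submodule.smul_mem _ (⟨(z : F), hs z hzN⟩ : F₁) (Submodule.subset_span ⟨q, rfl⟩)
    · rintro _ ⟨q, rfl⟩
      exact Submodule.subset_span ⟨v q, (q.out : N).2, rfl⟩
  have hli' : LinearIndependent F₁ fun q => (v q : Matrix ι ι F) :=
    hli.restrict_scalars' F₁
  have hdim : finrank F₁ A₀ = Fintype.card ι ^ 2 := by
    rw [hspanv, finrank_span_eq_card hli', hQcard]
  have hspanF : Submodule.span F (A₀ : Set (Matrix ι ι F)) = ⊤ := by
    refine eq_top_iff.2 ((envelope_eq_top hN).ge.trans ?_)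
    exact Submodule.span_mono Submodule.subset_span
  -- the centre
  have hcentre : ∀ z ∈ A₀, (∀ a ∈ N, z * (a : Matrix ι ι F) = (a : Matrix ι ι F) * z) →
      ∃ c : F₁, z = (c : F) • (1 : Matrix ι ι F) := by
    intro z hz hzc
    obtain ⟨c, hc⟩ := hN.2 z (by rintro _ ⟨a, ha, rfl⟩; exact hzc a ha)
    rw [hspanv] at hz hA1
    obtain ⟨α, hα⟩ := (Submodule.mem_span_range_iff_exists_fun F₁).1 hz
    obtain ⟨β, hβ⟩ := (Submodule.mem_span_range_iff_exists_fun F₁).1 hA1
    have hsum : ∑ q, ((α q : F) - c * (β q : F)) • (v q : Matrix ι ι F) = 0 := by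
      simp only [sub_smul, Finset.sum_sub_distrib, mul_smul, ← Finset.smul_sum]
      rw [show ∑ q, (α q : F) • (v q : Matrix ι ι F) = z from hα,
        show ∑ q, (β q : F) • (v q : Matrix ι ι F) = 1 from hβ, hc, sub_self]
    have hcoef := Fintype.linearIndependent_iff.1 hli _ hsum
    obtain ⟨q₀, hq₀⟩ : ∃ q, β q ≠ 0 := by
      by_contra hcon
      push Not at hcon
      exact one_ne_zero (show (1 : Matrix ι ι F) = 0 by rw [← hβ]; simp [hcon])
    refine ⟨α q₀ / β q₀, ?_⟩
    have h0 : (β q₀ : F) ≠ 0 := fun h => hq₀ (Subtype.ext h)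
    rw [hc]
    congr 1
    have := hcoef q₀
    push_cast
    field_simp
    linear_combination -this
  -- simplicity
  have : Nontrivial ↥A :=
    ⟨⟨0, 1, fun h => zero_ne_one (congrArg (fun x : ↥A => (x : Matrix ι ι F)) h)⟩⟩
  have hsimple : IsSimpleRing ↥A := by
    refine IsSimpleRing.of_eq_bot_or_eq_top fun I => ?_
    by_cases hI : I = ⊥
    · exact Or.inl hI
    right
    have hsmulI : ∀ (c : F₁) (a : ↥A), a ∈ I → c • a ∈ I := by
      intro c a ha
      rw [Algebra.smul_def]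
      exact I.mul_mem_left _ _ ha
    let T₀ : Submodule F₁ ↥A :=
      { carrier := {y | y ∈ I}
        add_mem' := I.add_mem
        zero_mem' := I.zero_mem
        smul_mem' := hsmulI }
    let T : Submodule F₁ (Matrix ι ι F) := T₀.map A.val.toLinearMap
    have hTA : T ≤ A₀ := by rintro _ ⟨y, -, rfl⟩; exact y.2
    have hTne : ∃ x ∈ T, x ≠ 0 := by
      by_contra hcon
      push Not at hcon
      refine hI ((TwoSidedIdeal.ext fun x => ⟨fun hx => ?_, fun hx => ?_⟩))
      · exact (TwoSidedIdeal.mem_bot _).2 (Subtype.ext (hcon _ ⟨x, hx, rfl⟩))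
      · rw [(TwoSidedIdeal.mem_bot _).1 hx]; exact I.zero_mem
    -- its span is a two-sided ideal of all matrices
    let J : Submodule F (Matrix ι ι F) := Submodule.span F (T : Set (Matrix ι ι F))
    have hJl : ∀ x y, y ∈ J → x * y ∈ J := by
      intro x y hy
      have hx : x ∈ Submodule.span F (A₀ : Set (Matrix ι ι F)) := hspanF ▸ Submodule.mem_top
      refine Submodule.span_induction (p := fun x _ => x * y ∈ J) ?_ ?_ ?_ ?_ hx
      · intro a ha
        refine Submodule.span_induction (p := fun y _ => a * y ∈ J) ?_ ?_ ?_ ?_ hy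
        · rintro _ ⟨b, hb', rfl⟩
          exact Submodule.subset_span ⟨_, I.mul_mem_left ⟨a, ha⟩ b hb', rfl⟩
        · simp
        · intro u w _ _ hu hw; rw [mul_add]; exact add_mem hu hw
        · intro c u _ hu; rw [mul_smul_comm]; exact J.smul_mem c hu
      · simp
      · intro u w _ _ hu hw; rw [add_mul]; exact add_mem hu hw
      · intro c u _ hu; rw [smul_mul_assoc]; exact J.smul_mem c hu
    have hJr : ∀ x y, y ∈ J → y * x ∈ J := by
      intro x y hy
      have hx : x ∈ Submodule.span F (A₀ : Set (Matrix ι ι F)) := hspanF ▸ Submodule.mem_top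
      refine Submodule.span_induction (p := fun x _ => y * x ∈ J) ?_ ?_ ?_ ?_ hx
      · intro a ha
        refine Submodule.span_induction (p := fun y _ => y * a ∈ J) ?_ ?_ ?_ ?_ hy
        · rintro _ ⟨b, hb', rfl⟩
          exact Submodule.subset_span ⟨_, I.mul_mem_right b ⟨a, ha⟩ hb', rfl⟩
        · simp
        · intro u w _ _ hu hw; rw [add_mul]; exact add_mem hu hw
        · intro c u _ hu; rw [smul_mul_assoc]; exact J.smul_mem c hu
      · simp
      · intro u w _ _ hu hw; rw [mul_add]; exact add_mem hu hw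
      · intro c u _ hu; rw [mul_smul_comm]; exact J.smul_mem c hu
    have hJtop : J = ⊤ := by
      let J' : TwoSidedIdeal (Matrix ι ι F) := TwoSidedIdeal.mk' J J.zero_mem
        (fun hx hy => J.add_mem hx hy) (fun hx => J.neg_mem hx) (fun hy => hJl _ _ hy)
        (fun hx => hJr _ _ hx)
      rcases IsSimpleOrder.eq_bot_or_eq_top J' with h | h
      · exfalso
        obtain ⟨x, hx, hx0⟩ := hTne
        have hxJ : x ∈ J' := (TwoSidedIdeal.mem_mk' ..).2 (Submodule.subset_span hx)
        rw [h, TwoSidedIdeal.mem_bot] at hxJ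
        exact hx0 hxJ
      · refine eq_top_iff.2 fun x _ => ?_
        have hxJ : x ∈ J' := h ▸ TwoSidedIdeal.mem_top _
        exact (TwoSidedIdeal.mem_mk' ..).1 hxJ
    have hdT : Fintype.card ι ^ 2 ≤ finrank F₁ T := by
      let b := Module.finBasis F₁ T
      have hle : J ≤ Submodule.span F (Set.range fun i => (b i : Matrix ι ι F)) := by
        refine Submodule.span_le.2 fun x hx => ?_
        have h1 := congrArg (fun z : T => (z : Matrix ι ι F)) (b.sum_repr ⟨x, hx⟩)
        simp only [AddSubmonoidClass.coe_finsetSum] at h1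
        rw [SetLike.mem_coe, ← h1]
        exact sum_mem fun i _ => Submodule.smul_mem _ ((b.repr ⟨x, hx⟩ i : F₁) : F)
          (Submodule.subset_span ⟨i, rfl⟩)
      rw [hJtop] at hle
      have h1 := Submodule.finrank_mono hle
      rw [finrank_top, Module.finrank_matrix, Module.finrank_self, mul_one] at h1
      have h2 := finrank_range_le_card (R := F) (fun i => (b i : Matrix ι ι F))
      rw [Fintype.card_fin] at h2
      rw [Set.finrank] at h2
      rw [sq]
      exact h1.trans h2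
    have hTeq : T = A₀ := Submodule.eq_of_le_of_finrank_le hTA (by rw [hdim]; exact hdT)
    refine TwoSidedIdeal.ext fun x => ⟨fun _ => TwoSidedIdeal.mem_top _, fun _ => ?_⟩
    have hxT : (x : Matrix ι ι F) ∈ T := hTeq ▸ x.2
    obtain ⟨y, hy, hyx⟩ := hxT
    exact (Subtype.ext hyx : y = x) ▸ hy
  have : Finite ↥A := inferInstance
  have : IsArtinianRing ↥A := inferInstance
  obtain ⟨w, hw, D, iD, iA, ⟨ψ⟩⟩ := IsSimpleRing.exists_algEquiv_matrix_divisionRing F₁ ↥A
  have : Finite D := by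
    have : Finite (Matrix (Fin w) (Fin w) D) := Finite.of_equiv _ ψ.toEquiv
    exact Finite.of_injective (fun d => Matrix.scalar (Fin w) d) fun a b h => by
      simpa using congrFun (congrFun h 0) 0
  have hDcomm : ∀ a b : D, a * b = b * a := fun a b => by
    letI := littleWedderburn D
    exact mul_comm a b
  have hDscal : ∀ d : D, ∃ c : F₁, algebraMap F₁ D c = d := by
    intro d
    let z : ↥A := ψ.symm (Matrix.scalar (Fin w) d)
    obtain ⟨c, hc⟩ := hcentre _ (show (z : Matrix ι ι F) ∈ A₀ from z.2) fun a ha => by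
      have haA : (a : Matrix ι ι F) ∈ A := Submodule.subset_span ⟨a, ha, rfl⟩
      have : z * ⟨_, haA⟩ = ⟨_, haA⟩ * z := ψ.injective (by
        simp only [map_mul, z, AlgEquiv.apply_symm_apply]
        exact Matrix.scalar_commute d (fun b => hDcomm d b) _)
      exact congrArg Subtype.val this
    refine ⟨c, ?_⟩
    have hz : z = algebraMap F₁ ↥A c := Subtype.ext (by
      rw [hc, Subalgebra.coe_algebraMap, Algebra.algebraMap_eq_smul_one]; rfl)
    have h1 : Matrix.scalar (Fin w) d = algebraMap F₁ _ c := by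
      rw [← ψ.commutes c, ← hz, AlgEquiv.apply_symm_apply]
    have h2 := congrFun (congrFun h1 0) 0
    simpa [Matrix.algebraMap_matrix_apply] using h2.symm
  let φ : F₁ ≃ₐ[F₁] D :=
    AlgEquiv.ofBijective (Algebra.ofId F₁ D) ⟨(algebraMap F₁ D).injective, hDscal⟩
  let Ψ : ↥A ≃ₐ[F₁] Matrix (Fin w) (Fin w) F₁ := ψ.trans φ.symm.mapMatrix
  have hwn : w = Fintype.card ι := by
    have h1 := Ψ.toLinearEquiv.finrank_eq
    rw [Module.finrank_matrix, Fintype.card_fin, Module.finrank_self, mul_one] at h1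
    have h2 : finrank F₁ ↥A = finrank F₁ A₀ := rfl
    rw [h2, hdim, sq] at h1
    exact (Nat.mul_self_inj.1 h1).symm
  let E : Fin w → Fin w → Matrix ι ι F := fun i j => (Ψ.symm (Matrix.single i j 1) : ↥A)
  have hE : IsUnits E := by
    refine ⟨fun i j k l => ?_, ?_⟩
    · show ((Ψ.symm _ * Ψ.symm _ : ↥A) : Matrix ι ι F) = _
      rw [← map_mul]
      split <;> rename_i hjk
      · subst hjk
        rw [Matrix.single_mul_single_same, mul_one]
      · rw [Matrix.single_mul_single_of_ne _ _ _ _ hjk, map_zero]; rfl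
    · show ∑ i, ((Ψ.symm (Matrix.single i i 1) : ↥A) : Matrix ι ι F) = 1
      rw [← AddSubmonoidClass.coe_finsetSum, ← map_sum,
        (isUnits_single (F := F₁) (κ := Fin w)).sum, map_one]
      rfl
  obtain ⟨b, hb, hcard, hfr⟩ := hE.exists_frame
  rw [Fintype.card_fin, hwn] at hcard
  obtain rfl : b = 1 := by
    have := Fintype.card_pos (α := ι)
    exact (Nat.eq_of_mul_eq_mul_left this (by rw [mul_one]; exact hcard)).symm
  let e : ι ≃ Fin w × Fin 1 := Fintype.equivOfCardEq (by simp [hwn])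
  obtain ⟨P, hP⟩ := hfr e
  refine ⟨P⁻¹, ?_⟩
  rintro _ ⟨g, hg, rfl⟩ p q
  have hgA : (g : Matrix ι ι F) ∈ A := Submodule.subset_span ⟨g, hg, rfl⟩
  have hexp : (g : Matrix ι ι F) = frAlg e P (∑ i, ∑ j, ((Ψ ⟨_, hgA⟩ i j : F₁) : F) •
      (Matrix.single i j (1 : F) ⊗ₖ (1 : Matrix (Fin 1) (Fin 1) F))) := by
    simp only [map_sum, map_smul, ← hP]
    have h1 : (⟨_, hgA⟩ : ↥A) = ∑ i, ∑ j, (Ψ ⟨_, hgA⟩ i j) • Ψ.symm (Matrix.single i j 1) := by
      apply Ψ.injective
      simp only [map_sum, map_smul, AlgEquiv.apply_symm_apply]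
      conv_lhs => rw [Matrix.matrix_eq_sum_single (Ψ ⟨_, hgA⟩)]
      exact Finset.sum_congr rfl fun i _ => Finset.sum_congr rfl fun j _ => by simp
    have h2 := congrArg (fun z : ↥A => (z : Matrix ι ι F)) h1
    simp only [AddSubmonoidClass.coe_finsetSum, Subalgebra.coe_smul] at h2
    exact h2
  show (((P⁻¹ : GL ι F) : Matrix ι ι F) * (g : Matrix ι ι F) *
    ((P⁻¹⁻¹ : GL ι F) : Matrix ι ι F)) p q ∈ F₁
  rw [inv_inv, hexp, frAlg_apply]
  rw [← mul_assoc, ← mul_assoc, Units.inv_mul, one_mul, mul_assoc, Units.inv_mul, mul_one]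
  simp only [Matrix.submatrix_apply, Matrix.sum_apply, Matrix.smul_apply, smul_eq_mul,
    Matrix.kroneckerMap_apply]
  refine F₁.sum_mem fun i _ => F₁.sum_mem fun j _ => F₁.mul_mem (SetLike.coe_mem _) ?_
  refine F₁.mul_mem ?_ ?_
  · simp only [Matrix.single_apply]; split
    · exact F₁.one_mem
    · exact F₁.zero_mem
  · simp only [Matrix.one_apply]; split
    · exact F₁.one_mem
    · exact F₁.zero_mem

set_option maxHeartbeats 800000 in
/-- The symplectic class six. -/
theorem symp_abelian [Fintype F] [Nonempty ι] {ε : F} {f : (ι → F) → (ι → F) → F}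
    (hι : 1 < Fintype.card ι)
    (hf : IsRefl (RingEquiv.refl F) ε f) (halt : ∀ v, f v v = 0)
    {H N : Subgroup (GL ι F)} (hN : AbsIrr N)
    (hNf : Cfsg.Geo.FixesForm (Cfsg.Geo.matrixSet N) f)
    (hnorm : ∀ g ∈ H, ∀ a ∈ N, g * a * g⁻¹ ∈ N)
    (hmin : ∀ M ≤ N, (∀ g ∈ H, ∀ a ∈ M, g * a * g⁻¹ ∈ M) →
      (∀ z ∈ N, z ∈ Cfsg.Geo.scalars ι F → z ∈ M) → M ≤ Cfsg.Geo.scalars ι F ∨ M = N)
    (h2 : ScalarCommutators N) :
    (∃ F₁ : Subfield F, F₁ ≠ ⊤ ∧ Cfsg.Geo.RealisableOver F₁ (Cfsg.Geo.matrixSet N)) ∨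
    (∃ p k : ℕ, p.Prime ∧ Odd p ∧ Fintype.card F = p ∧ Cfsg.Geo.IsSymplecticTypeGroup 2 N ∧
      Fintype.card ι = 2 ^ k ∧ Nat.card N = 2 ^ (1 + 2 * k) ∧ Nat.card (Subgroup.center N) = 2 ∧
      Cfsg.Geo.IsOfMinusType k N) := by
  classical
  have hNs : ¬ N ≤ Cfsg.Geo.scalars ι F := not_le_scalars_of_irr hι hN.1
  have hsq1 : ∀ c : Fˣ, scalarGL ι c ∈ N → (c : F) * c = 1 := by
    intro c hc
    obtain ⟨i⟩ := ‹Nonempty ι›
    obtain ⟨-, x, hx⟩ := hf.nondeg (Pi.single i 1) (by simp)
    have h := isometry_apply hNf hc (Pi.single i 1) x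
    rw [scalarGL_mulVec, scalarGL_mulVec, hf.sesq.smul_left, hf.bilinear.smul_right, ← mul_assoc]
      at h
    exact mul_right_cancel₀ hx (h.trans (one_mul _).symm)
  obtain ⟨x₁, hx₁, y₁, hy₁, hne⟩ : ∃ x ∈ N, ∃ y ∈ N, x * y ≠ y * x := by
    by_contra h
    push Not at h
    exact hNs fun a ha => hN.mem_scalars fun b hb => h a ha b hb
  have hcval : ∀ x ∈ N, ∀ y ∈ N, ∀ c : Fˣ, x * y = scalarGL ι c * (y * x) → (c : F) * c = 1 := by
    intro x hx y hy c hc
    refine hsq1 c ?_
    have : scalarGL ι c = x * y * x⁻¹ * y⁻¹ := by rw [hc]; group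
    rw [this]
    exact N.mul_mem (N.mul_mem (N.mul_mem hx hy) (N.inv_mem hx)) (N.inv_mem hy)
  obtain ⟨c₁, hc₁⟩ := h2.exists_comm hx₁ hy₁
  have hc₁ne : c₁ ≠ 1 := fun h => hne (by rw [hc₁, h, scalarGL_one, one_mul])
  have hc₁v : (c₁ : F) = -1 := (mul_self_eq_one_iff.1 (hcval _ hx₁ _ hy₁ _ hc₁)).resolve_left
    fun h => hc₁ne (Units.ext h)
  have hodd : (2 : F) ≠ 0 := fun h => hc₁ne (Units.ext (by
    rw [hc₁v, Units.val_one]; linear_combination -h))
  have hc₁eq : c₁ = -1 := Units.ext (by rw [hc₁v]; simp)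
  have hneg : scalarGL ι (-1 : Fˣ) ∈ N := by
    have : scalarGL ι c₁ = x₁ * y₁ * x₁⁻¹ * y₁⁻¹ := by rw [hc₁]; group
    rw [← hc₁eq, this]
    exact N.mul_mem (N.mul_mem (N.mul_mem hx₁ hy₁) (N.inv_mem hx₁)) (N.inv_mem hy₁)
  have hsc : ∀ c : Fˣ, scalarGL ι c ∈ N → c = 1 ∨ c = -1 := fun c hc =>
    (mul_self_eq_one_iff.1 (hsq1 c hc)).imp (fun h => Units.ext h) fun h => Units.ext (by simpa using h)
  have hsqN : ∀ x ∈ N, ∃ c : Fˣ, x * x = scalarGL ι c ∧ scalarGL ι c ∈ N := by
    intro x hx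
    have hs : x * x ∈ Cfsg.Geo.scalars ι F := hN.mem_scalars fun y hy => by
      obtain ⟨c, hc⟩ := h2.exists_comm hx hy
      have h := pow_comm_scalar hc 2
      rw [show c ^ 2 = 1 from Units.ext (by
        rw [Units.val_pow_eq_pow_val, sq, hcval x hx y hy c hc, Units.val_one]), scalarGL_one,
        one_mul, pow_two] at h
      exact h
    obtain ⟨c, hc⟩ := mem_scalars.1 hs
    exact ⟨c, hc, hc ▸ N.mul_mem hx hx⟩
  have hpow4 : ∀ x : N, x ^ 4 = 1 := by
    intro x
    obtain ⟨c, hc, hcN⟩ := hsqN _ x.2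
    refine Subtype.ext ?_
    rw [SubmonoidClass.coe_pow, show 4 = 2 * 2 from rfl, pow_mul, pow_two (x : GL ι F), hc,
      ← scalarGL_pow, pow_two, show c * c = 1 from Units.ext (hsq1 c hcN), scalarGL_one]
    rfl
  have hcenter : ∀ x : N, x ∈ Subgroup.center N ↔ (x : GL ι F) ∈ Cfsg.Geo.scalars ι F := by
    intro w
    rw [Subgroup.mem_center_iff]
    constructor
    · exact fun h => hN.mem_scalars fun a ha => (congrArg Subtype.val (h ⟨a, ha⟩)).symm
    · exact fun h g => Subtype.ext (scalars_comm h (g : GL ι F)).symm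
  have hcz : Nat.card (Subgroup.center N) = 2 := by
    let u : N := ⟨_, hneg⟩
    have hu : u ∈ Subgroup.center N := (hcenter u).2 (mem_scalars.2 ⟨_, rfl⟩)
    have hu1 : u ≠ 1 := fun h => by
      have h1 := congrArg (fun z : N => (z : GL ι F)) h
      have h3 : (-1 : Fˣ) = 1 := scalarGL_injective (ι := ι) (h1.trans scalarGL_one.symm)
      have h4 := congrArg (fun z : Fˣ => (z : F)) h3
      simp only [Units.val_neg, Units.val_one] at h4
      exact hodd (by linear_combination -h4)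
    rw [Nat.card_eq_two_iff]
    refine ⟨⟨1, one_mem _⟩, ⟨u, hu⟩, fun h => hu1 (congrArg Subtype.val h).symm, ?_⟩
    refine Set.eq_univ_of_forall fun w => ?_
    obtain ⟨c, hc⟩ := mem_scalars.1 ((hcenter w.1).1 w.2)
    rcases hsc c (hc ▸ (w.1).2) with h | h
    · exact Or.inl (Subtype.ext (Subtype.ext (hc.trans (by rw [h, scalarGL_one]; rfl))))
    · exact Or.inr (Subtype.ext (Subtype.ext (hc.trans (by rw [h]))))
  have hcenteq : Subgroup.center N = (Cfsg.Geo.scalars ι F).subgroupOf N := by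
    ext w; rw [hcenter, Subgroup.mem_subgroupOf]
  have hcardN : Nat.card N = Fintype.card ι ^ 2 * 2 := by
    rw [Subgroup.card_eq_card_quotient_mul_card_subgroup ((Cfsg.Geo.scalars ι F).subgroupOf N),
      card_quotient_scalars hN h2, ← hcenteq, hcz]
  have : Fact (Nat.Prime 2) := ⟨Nat.prime_two⟩
  have hp2 : IsPGroup 2 N := fun x => ⟨2, hpow4 x⟩
  obtain ⟨j, hj⟩ := IsPGroup.iff_card.1 hp2
  obtain ⟨k, -, hk⟩ : ∃ k, k ≤ j ∧ Fintype.card ι = 2 ^ k := (Nat.dvd_prime_pow Nat.prime_two).1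
    ⟨Fintype.card ι * 2, by rw [← hj, hcardN, sq, mul_assoc]⟩
  have hcardk : Nat.card N = 2 ^ (1 + 2 * k) := by rw [hcardN, hk]; ring
  obtain ⟨p, hp⟩ := CharP.exists F
  obtain ⟨e, hpp, hF⟩ := FiniteField.card F p
  have hpodd : Odd p := hpp.odd_of_ne_two fun h => hodd (by
    subst h; exact_mod_cast CharP.cast_eq_zero F 2)
  by_cases he : (e : ℕ) = 1
  swap
  · left
    have : Fact p.Prime := ⟨hpp⟩
    obtain ⟨F₁, hF₁, -⟩ := exists_subfield_of_dvd (F := F) hF (one_dvd (e : ℕ))
    refine ⟨F₁, fun htop => he ?_, realisable_of_scalars hN h2 fun c hc => ?_⟩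
    · have h1 : Nat.card F₁ = Fintype.card F := by
        rw [htop, ← Nat.card_eq_fintype_card]
        exact Nat.card_congr Subfield.topEquiv.toEquiv
      rw [hF₁, hF] at h1
      exact (Nat.pow_right_injective hpp.two_le h1).symm
    · rcases hsc c hc with rfl | rfl
      · exact F₁.one_mem
      · rw [Units.val_neg, Units.val_one]; exact F₁.neg_mem F₁.one_mem
  right
  rw [he, pow_one] at hF
  have htype : Cfsg.Geo.IsSymplecticTypeGroup 2 N := by
    refine ⟨Nat.prime_two, hp2, ?_, ?_⟩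
    · intro A hA hcomm
      let A' : Subgroup N := A ⊔ Subgroup.center N
      have hA'c : ∀ a ∈ A', ∀ b ∈ A', a * b = b * a := by
        intro a ha b hb
        obtain ⟨a₁, ha₁, a₂, ha₂, rfl⟩ := Subgroup.mem_sup_of_normal_right.1 ha
        obtain ⟨b₁, hb₁, b₂, hb₂, rfl⟩ := Subgroup.mem_sup_of_normal_right.1 hb
        have hA2 := Subgroup.mem_center_iff.1 ha₂
        have hB2 := Subgroup.mem_center_iff.1 hb₂
        have hab : a₁ * b₁ = b₁ * a₁ :=
          congrArg Subtype.val (mul_comm' (⟨a₁, ha₁⟩ : A) ⟨b₁, hb₁⟩)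
        calc a₁ * a₂ * (b₁ * b₂) = a₁ * (a₂ * b₁) * b₂ := by group
          _ = a₁ * b₁ * (a₂ * b₂) := by rw [← hA2 b₁]; group
          _ = b₁ * a₁ * (b₂ * a₂) := by rw [hab, hB2 a₂]
          _ = b₁ * (a₁ * b₂) * a₂ := by group
          _ = _ := by rw [hB2 a₁]; group
      have hA'n : ∀ g ∈ H, ∀ a ∈ A'.map N.subtype, g * a * g⁻¹ ∈ A'.map N.subtype := by
        rintro g hg _ ⟨b, hb, rfl⟩
        let φ : N ≃* N :=
          { toFun := fun a => ⟨g * a * g⁻¹, hnorm g hg a a.2⟩
            invFun := fun a => ⟨g⁻¹ * a * g, by simpa using hnorm g⁻¹ (H.inv_mem hg) a a.2⟩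
            left_inv := fun a => Subtype.ext (by simp [mul_assoc])
            right_inv := fun a => Subtype.ext (by simp [mul_assoc])
            map_mul' := fun a b => Subtype.ext (by simp [mul_assoc]) }
        have hfix : A'.map φ.toMonoidHom = A' := by
          show (A ⊔ Subgroup.center N).map φ.toMonoidHom = A ⊔ Subgroup.center N
          rw [Subgroup.map_sup, Subgroup.characteristic_iff_map_eq.1 hA φ,
            Subgroup.characteristic_iff_map_eq.1 inferInstance φ]
        exact ⟨φ b, hfix ▸ Subgroup.mem_map_of_mem _ hb, rfl⟩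
      rcases hmin _ (Subgroup.map_subtype_le A') hA'n (fun z hz hzs =>
        ⟨⟨z, hz⟩, Subgroup.mem_sup_right ((hcenter _).2 hzs), rfl⟩) with h | h
      · have hle : A ≤ Subgroup.center N := fun a ha =>
          (hcenter a).2 (h ⟨a, Subgroup.mem_sup_left ha, rfl⟩)
        have : IsCyclic (Subgroup.center N) := isCyclic_of_prime_card hcz
        exact isCyclic_of_injective (Subgroup.inclusion hle) (Subgroup.inclusion_injective hle)
      · exfalso
        obtain ⟨a, ha, hax⟩ := h.ge hx₁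
        obtain ⟨b, hb, hby⟩ := h.ge hy₁
        apply hne
        rw [← hax, ← hby, ← map_mul, ← map_mul, hA'c a ha b hb]
    · refine Nat.dvd_antisymm (Monoid.exponent_dvd_of_forall_pow_eq_one hpow4) ?_
      obtain ⟨x, hx⟩ : ∃ x : N, x * x ≠ 1 := by
        by_contra hcon
        push Not at hcon
        refine hne ?_
        have h := hcon ⟨x₁ * y₁, N.mul_mem hx₁ hy₁⟩
        have hx' : x₁ * x₁ = 1 := congrArg Subtype.val (hcon ⟨x₁, hx₁⟩)
        have hy' : y₁ * y₁ = 1 := congrArg Subtype.val (hcon ⟨y₁, hy₁⟩)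
        have h' : x₁ * y₁ * (x₁ * y₁) = 1 := congrArg Subtype.val h
        calc x₁ * y₁ = x₁ * y₁ * (x₁ * y₁) * (x₁ * y₁)⁻¹ := by group
          _ = y₁⁻¹ * x₁⁻¹ := by rw [h']; group
          _ = y₁ * x₁ := by
            rw [inv_eq_of_mul_eq_one_right hx', inv_eq_of_mul_eq_one_right hy']
      have h4 : orderOf x = 4 := by
        have h := orderOf_eq_prime_pow (x := x) (p := 2) (n := 1) (by rwa [pow_one, pow_two])
          (by simpa using hpow4 x)
        simpa using h
      show 4 ∣ _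
      rw [← h4]
      exact Monoid.order_dvd_exponent x
  refine ⟨p, k, hpp, hpodd, hF, htype, hk, hcardk, hcz, ?_⟩
  -- minus type
  intro A hAc hA1
  by_contra hlt
  push Not at hlt
  let B : Subgroup N := A ⊔ Subgroup.center N
  have hB : ∀ a ∈ B, (∀ b ∈ B, a * b = b * a) ∧ a * a = 1 := by
    intro a ha
    obtain ⟨a₁, ha₁, a₂, ha₂, rfl⟩ := Subgroup.mem_sup_of_normal_right.1 ha
    have hA2 := Subgroup.mem_center_iff.1 ha₂
    refine ⟨fun b hb => ?_, ?_⟩
    · obtain ⟨b₁, hb₁, b₂, hb₂, rfl⟩ := Subgroup.mem_sup_of_normal_right.1 hb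
      have hB2 := Subgroup.mem_center_iff.1 hb₂
      have hab : a₁ * b₁ = b₁ * a₁ :=
        congrArg Subtype.val (mul_comm' (⟨a₁, ha₁⟩ : A) ⟨b₁, hb₁⟩)
      calc a₁ * a₂ * (b₁ * b₂) = a₁ * (a₂ * b₁) * b₂ := by group
        _ = a₁ * b₁ * (a₂ * b₂) := by rw [← hA2 b₁]; group
        _ = b₁ * a₁ * (b₂ * a₂) := by rw [hab, hB2 a₂]
        _ = b₁ * (a₁ * b₂) * a₂ := by group
        _ = _ := by rw [hB2 a₁]; group
    · obtain ⟨c, hc⟩ := mem_scalars.1 ((hcenter a₂).1 ha₂)
      have h22 : a₂ * a₂ = 1 := Subtype.ext (by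
        show (a₂ : GL ι F) * (a₂ : GL ι F) = 1
        rw [hc, ← scalarGL_mul, show c * c = 1 from Units.ext (hsq1 c (hc ▸ a₂.2)), scalarGL_one])
      calc a₁ * a₂ * (a₁ * a₂) = a₁ * (a₂ * a₁) * a₂ := by group
        _ = (a₁ * a₁) * (a₂ * a₂) := by rw [← hA2 a₁]; group
        _ = 1 := by rw [hA1 a₁ ha₁, h22, one_mul]
  -- a common eigenvector
  have heig : ∀ S : Finset B, ∃ v : ι → F, v ≠ 0 ∧ ∀ b ∈ S,
      ∃ s : F, s * s = 1 ∧ (((b : N) : GL ι F) : Matrix ι ι F) *ᵥ v = s • v := by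
    intro S
    induction S using Finset.induction_on with
    | empty =>
      obtain ⟨i⟩ := ‹Nonempty ι›
      exact ⟨Pi.single i 1, by simp, by simp⟩
    | @insert b S _ ih =>
      obtain ⟨v, hv, hS⟩ := ih
      have hbb : ∀ w, (((b : N) : GL ι F) : Matrix ι ι F) *ᵥ ((((b : N) : GL ι F) : Matrix ι ι F) *ᵥ w) = w := fun w => by
        rw [← mul_mulVec, show ((b : N) : GL ι F) * ((b : N) : GL ι F) = 1 from
          congrArg Subtype.val (hB _ b.2).2, Units.val_one, Matrix.one_mulVec]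
      by_cases hz : v + (((b : N) : GL ι F) : Matrix ι ι F) *ᵥ v = 0
      · refine ⟨v, hv, fun a ha => ?_⟩
        rcases Finset.mem_insert.1 ha with rfl | ha
        · exact ⟨-1, by ring, by rw [neg_one_smul]; exact eq_neg_of_add_eq_zero_right hz⟩
        · exact hS a ha
      · refine ⟨_, hz, fun a ha => ?_⟩
        rcases Finset.mem_insert.1 ha with rfl | ha
        · exact ⟨1, one_mul 1, by rw [one_smul, Matrix.mulVec_add, hbb, add_comm]⟩
        · obtain ⟨s, hs, hsv⟩ := hS a ha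
          refine ⟨s, hs, ?_⟩
          rw [Matrix.mulVec_add, hsv, ← mul_mulVec,
            show ((a : N) : GL ι F) * ((b : N) : GL ι F) = ((b : N) : GL ι F) * ((a : N) : GL ι F) from
              congrArg Subtype.val ((hB _ a.2).1 _ b.2),
            mul_mulVec, hsv, Matrix.mulVec_smul, smul_add]
  obtain ⟨v, hv, hveig⟩ := heig Finset.univ
  -- the centraliser of `B`
  choose χ hχ using fun (b : N) (x : N) => h2.exists_comm x.2 b.2
  have huniq : ∀ (b x : N) (c : Fˣ), (x : GL ι F) * b = scalarGL ι c * (b * x) → χ b x = c :=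
    fun b x c hc => scalarGL_injective (ι := ι) (mul_right_cancel ((hχ b x).symm.trans hc))
  let ψ : N → (N →* F) := fun b =>
    { toFun := fun x => (χ b x : F)
      map_one' := by
        rw [huniq b 1 1 (by simp [scalarGL_one])]; simp
      map_mul' := fun x y => by
        rw [← Units.val_mul]
        congr 1
        refine huniq b (x * y) _ ?_
        calc ((x * y : N) : GL ι F) * b = x * ((y : GL ι F) * b) := by rw [Subgroup.coe_mul, mul_assoc]
          _ = scalarGL ι (χ b y) * ((x : GL ι F) * b) * y := by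
            rw [hχ b y, ← mul_assoc, ← scalarGL_comm]; group
          _ = scalarGL ι (χ b x * χ b y) * ((b : GL ι F) * ((x * y : N) : GL ι F)) := by
            rw [hχ b x, mul_comm (χ b x), scalarGL_mul, Subgroup.coe_mul]; group }
  let C : Subgroup N := Subgroup.centralizer (B : Set N)
  let Z' : Subgroup B := (Subgroup.center N).subgroupOf B
  have hBC : B ≤ C := fun a ha => Subgroup.mem_centralizer_iff.2 fun b hb => (hB b hb).1 a ha
  let _ : Fintype (B ⧸ Z') := Fintype.ofFinite _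
  let _ : Fintype (N ⧸ C) := Fintype.ofFinite _
  have hψinj : Function.Injective fun q : B ⧸ Z' => ψ (q.out : B) := by
    intro q q' hqq
    rw [← q.out_eq, ← q'.out_eq]
    refine QuotientGroup.eq.2 (Subgroup.mem_subgroupOf.2 ((hcenter _).2 (hN.mem_scalars fun y hy => ?_)))
    have hch : χ (q.out : B) ⟨y, hy⟩ = χ (q'.out : B) ⟨y, hy⟩ :=
      Units.ext (DFunLike.congr_fun hqq ⟨y, hy⟩)
    have h1 := hχ (q.out : B) ⟨y, hy⟩
    have h1' := hχ (q'.out : B) ⟨y, hy⟩
    rw [← hch] at h1'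
    set u : GL ι F := (((q.out : B) : N) : GL ι F)
    set w : GL ι F := (((q'.out : B) : N) : GL ι F)
    set s := scalarGL ι (χ (q.out : B) ⟨y, hy⟩) with hs
    show u⁻¹ * w * y = y * (u⁻¹ * w)
    have e1 : u⁻¹ * y = s * (y * u⁻¹) := by
      calc u⁻¹ * y = u⁻¹ * (y * u) * u⁻¹ := by group
        _ = (u⁻¹ * s) * u * y * u⁻¹ := by rw [h1]; group
        _ = _ := by rw [hs, ← scalarGL_comm]; group
    calc u⁻¹ * w * y = u⁻¹ * (s⁻¹ * (y * w)) := by rw [h1']; group
      _ = s⁻¹ * (u⁻¹ * y) * w := by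
        rw [hs, ← scalarGL_inv, ← mul_assoc, ← scalarGL_comm]; group
      _ = y * (u⁻¹ * w) := by rw [e1]; group
  have hψC : ∀ b : B, ∀ x y : N, x⁻¹ * y ∈ C → ψ b x = ψ b y := by
    intro b x y hxy
    have h1 : ψ b (x⁻¹ * y) = 1 := by
      show (χ (b : N) (x⁻¹ * y) : F) = 1
      rw [huniq (b : N) (x⁻¹ * y) 1 (by
        rw [scalarGL_one, one_mul]
        exact congrArg Subtype.val (Subgroup.mem_centralizer_iff.1 hxy b b.2).symm), Units.val_one]
    calc ψ b x = ψ b x * ψ b (x⁻¹ * y) := by rw [h1, mul_one]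
      _ = ψ b y := by rw [← map_mul, mul_inv_cancel_left]
  have hbound : Fintype.card (B ⧸ Z') ≤ Fintype.card (N ⧸ C) := by
    let L : ((N ⧸ C) → F) →ₗ[F] (N → F) :=
      LinearMap.funLeft F F (QuotientGroup.mk : N → N ⧸ C)
    have hli : LinearIndependent F fun q : B ⧸ Z' => (fun c : N ⧸ C => ψ (q.out : B) c.out) := by
      refine LinearIndependent.of_comp L ?_
      have h1 := (linearIndependent_monoidHom N F).comp _ hψinj
      have h3 : (L ∘ fun q : B ⧸ Z' => fun c : N ⧸ C => ψ (q.out : B) c.out) =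
          (fun φ : N →* F => (φ : N → F)) ∘ fun q : B ⧸ Z' => ψ (q.out : B) := by
        funext q x
        show ψ (q.out : B) (QuotientGroup.mk x : N ⧸ C).out = ψ (q.out : B) x
        exact hψC _ _ _ (QuotientGroup.eq.1 (QuotientGroup.out_eq' _))
      rw [h3]
      exact h1
    have := hli.fintype_card_le_finrank
    rwa [Module.finrank_fintype_fun_eq_card] at this
  have hCB : C = B := by
    refine (Subgroup.eq_of_le_of_card_ge hBC ?_).symm
    have e1 := Subgroup.card_eq_card_quotient_mul_card_subgroup Z'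
    have e2 := Subgroup.card_eq_card_quotient_mul_card_subgroup C
    have e3 : Nat.card Z' = 2 := by
      rw [← hcz]
      exact Nat.card_congr (Subgroup.subgroupOfEquivOfLe le_sup_right).toEquiv
    rw [Nat.card_eq_fintype_card (α := B ⧸ Z'), e3] at e1
    rw [Nat.card_eq_fintype_card (α := N ⧸ C), hcardk] at e2
    have e4 : 2 ^ (k + 1) ≤ Nat.card B := hlt.trans (Subgroup.card_le_of_le le_sup_left)
    have hpow : 2 ^ (1 + 2 * k) * 2 = 2 ^ (k + 1) * 2 ^ (k + 1) := by ring
    have h5 : 2 ^ (k + 1) * Nat.card C ≤ 2 ^ (k + 1) * 2 ^ (k + 1) := by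
      calc 2 ^ (k + 1) * Nat.card C ≤ Nat.card B * Nat.card C := Nat.mul_le_mul_right _ e4
        _ = Fintype.card (B ⧸ Z') * Nat.card C * 2 := by rw [e1]; ring
        _ ≤ Fintype.card (N ⧸ C) * Nat.card C * 2 :=
          Nat.mul_le_mul_right _ (Nat.mul_le_mul_right _ hbound)
        _ = _ := by rw [← e2, hpow]
    exact (Nat.le_of_mul_le_mul_left h5 (by positivity)).trans e4
  have hfv : ∀ x : N, f v (((x : GL ι F) : Matrix ι ι F) *ᵥ v) = 0 := by
    intro x
    by_cases hxB : x ∈ B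
    · obtain ⟨s, -, hs⟩ := hveig ⟨x, hxB⟩ (Finset.mem_univ _)
      rw [hs, hf.bilinear.smul_right, halt, mul_zero]
    · obtain ⟨b, hb, hbx⟩ : ∃ b ∈ B, b * x ≠ x * b := by
        by_contra hcon
        push Not at hcon
        exact hxB (hCB ▸ Subgroup.mem_centralizer_iff.2 fun b hb => hcon b hb)
      obtain ⟨c, hc⟩ := h2.exists_comm b.2 x.2
      have hcv : (c : F) = -1 := (mul_self_eq_one_iff.1 (hcval _ b.2 _ x.2 c hc)).resolve_left
        fun h => hbx (Subtype.ext (by
          rw [show c = 1 from Units.ext h, scalarGL_one, one_mul] at hc; exact hc))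
      obtain ⟨s, hs, hsv⟩ := hveig ⟨b, hb⟩ (Finset.mem_univ _)
      have h := isometry_apply hNf b.2 v (((x : GL ι F) : Matrix ι ι F) *ᵥ v)
      rw [← mul_mulVec, hc, mul_mulVec, mul_mulVec, scalarGL_mulVec, hsv, Matrix.mulVec_smul,
        smul_smul, hf.sesq.smul_left, hf.bilinear.smul_right, hcv] at h
      have h' : 2 * f v (((x : GL ι F) : Matrix ι ι F) *ᵥ v) = 0 := by
        linear_combination -h - f v (((x : GL ι F) : Matrix ι ι F) *ᵥ v) * hs
      exact (mul_eq_zero.1 h').resolve_left hodd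
  let W := Submodule.span F (Set.range fun x : N => ((x : GL ι F) : Matrix ι ι F) *ᵥ v)
  have hW : Inv N W := by
    intro a ha w hw
    refine Submodule.span_induction (p := fun w _ => (a : Matrix ι ι F) *ᵥ w ∈ W) ?_ ?_ ?_ ?_ hw
    · rintro _ ⟨x, rfl⟩
      exact Submodule.subset_span ⟨⟨a * x, N.mul_mem ha x.2⟩, mul_mulVec a x v⟩
    · simp
    · intro u w _ _ hu hw; rw [Matrix.mulVec_add]; exact add_mem hu hw
    · intro c u _ hu; rw [Matrix.mulVec_smul]; exact W.smul_mem c hu
  rcases irr_iff.1 hN.1 W hW with h | h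
  · refine hv ((Submodule.mem_bot F).1 (h ▸ Submodule.subset_span ⟨1, ?_⟩))
    simp
  · obtain ⟨-, y, hy⟩ := hf.nondeg v hv
    apply hy
    have hy' : y ∈ W := h ▸ Submodule.mem_top
    refine Submodule.span_induction (p := fun y _ => f v y = 0) ?_ ?_ ?_ ?_ hy'
    · rintro _ ⟨x, rfl⟩; exact hfv x
    · exact hf.sesq.zero_right v
    · intro u w _ _ hu hw; rw [hf.sesq.add_right, hu, hw, add_zero]
    · intro c u _ hu; rw [hf.bilinear.smul_right, hu, mul_zero]

end CfsgLib.Aschbacher
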