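import Cfsg.Agent.Lib.Aschbacher.SympFamily
import Cfsg.Agent.Lib.Aschbacher.SympTwoGroup
import Cfsg.Agent.Lib.Aschbacher.Involutive
import Cfsg.Agent.Lib.Aschbacher.ClassTwoTheorem

/-!
Aschbacher's theorem for the symplectic groups over finite fields.
-/

set_option autoImplicit false

namespace CfsgLib.Aschbacher

open Matrix Module

open scoped commutatorElement

variable {F : Type*} [Field F]

lemma sympForm_alt (m : ℕ) (v : Fin m ⊕ Fin m → F) : Cfsg.sympForm m F v v = 0 := by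
  simp only [Cfsg.sympForm, Matrix.J, dotProduct, Matrix.mulVec, Fintype.sum_sum_type,
    Matrix.fromBlocks_apply₁₁, Matrix.fromBlocks_apply₁₂, Matrix.fromBlocks_apply₂₁,
    Matrix.fromBlocks_apply₂₂]
  simp [Matrix.one_apply, mul_comm]

/-- The standard symplectic form is reflexive. -/
theorem isRefl_sympForm (m : ℕ) :
    IsRefl (RingEquiv.refl F) (-1 : F) (Cfsg.sympForm m F) := by
  refine ⟨⟨fun x y v => ?_, fun c x v => ?_, fun v x y => ?_, fun c v x => ?_⟩, fun u v => ?_,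
    fun a => rfl, fun v hv => ?_⟩
  · simp [Cfsg.sympForm, add_dotProduct]
  · simp [Cfsg.sympForm, smul_dotProduct]
  · simp [Cfsg.sympForm, Matrix.mulVec_add, dotProduct_add]
  · simp [Cfsg.sympForm, Matrix.mulVec_smul]
  · simp only [Cfsg.sympForm, RingEquiv.refl_apply]
    rw [dotProduct_comm, ← Matrix.vecMul_transpose, ← Matrix.dotProduct_mulVec, Matrix.J_transpose,
      Matrix.neg_mulVec, dotProduct_neg, neg_one_mul]
  · obtain ⟨i, hi⟩ : ∃ i, (Matrix.J (Fin m) F *ᵥ v) i ≠ 0 := by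
      by_contra h
      push Not at h
      refine hv ?_
      have h1 : Matrix.J (Fin m) F *ᵥ v = 0 := funext h
      have h2 := congrArg (fun w => Matrix.J (Fin m) F *ᵥ w) h1
      simp only [Matrix.mulVec_mulVec, Matrix.J_squared, Matrix.mulVec_zero, Matrix.neg_mulVec,
        Matrix.one_mulVec, neg_eq_zero] at h2
      exact h2
    have h1 : Cfsg.sympForm m F (Pi.single i 1) v ≠ 0 := by
      simpa [Cfsg.sympForm] using hi
    refine ⟨⟨_, h1⟩, ⟨Pi.single i 1, fun h => h1 ?_⟩⟩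
    rw [Cfsg.sympForm, dotProduct_comm, ← Matrix.vecMul_transpose, ← Matrix.dotProduct_mulVec,
      Matrix.J_transpose, Matrix.neg_mulVec, dotProduct_neg]
    rw [Cfsg.sympForm] at h
    rw [h, neg_zero]

lemma fixesForm_spGL {m : ℕ} {H : Subgroup (GL (Fin m ⊕ Fin m) F)} (hH : H ≤ Cfsg.spGL m F) :
    Cfsg.Geo.FixesForm (Cfsg.Geo.matrixSet H) (Cfsg.sympForm m F) := by
  rintro _ ⟨g, hg, rfl⟩ u v
  exact hH hg u v

/-- In a field of matrices in characteristic two every element is a square. -/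
lemma exists_sq_of_field [Finite F] {ι : Type} [Fintype ι] [DecidableEq ι] (h2 : (2 : F) = 0)
    {r : ℕ} {K : Subalgebra F (Matrix ι ι F)} (hK : Cfsg.Geo.IsFieldSubalgebra r K)
    {k : Matrix ι ι F} (hk : k ∈ K) : ∃ l ∈ K, k = l * l := by
  have h2' : ∀ x : Matrix ι ι F, x + x = 0 := fun x => by rw [← two_smul F x, h2, zero_smul]
  have hinj : Function.Injective fun x : ↥K => (⟨x.1 * x.1, mul_mem x.2 x.2⟩ : ↥K) := by
    intro x y h
    have h1 : x.1 * x.1 = y.1 * y.1 := congrArg Subtype.val h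
    have h3 : (x.1 - y.1) * (x.1 - y.1) = 0 := by
      rw [sub_mul, mul_sub, mul_sub, h1, hK.comm y y.2 x x.2]
      calc _ = (y.1 * y.1 + y.1 * y.1) - (x.1 * y.1 + x.1 * y.1) := by abel
        _ = 0 := by rw [h2', h2', sub_zero]
    by_contra hne
    have h0 : x.1 - y.1 ≠ 0 := sub_ne_zero.2 fun h' => hne (Subtype.ext h')
    exact h0 (fieldSubalgebra_mul_eq_zero hK (sub_mem x.2 y.2) h3 h0)
  obtain ⟨l, hl⟩ := (Finite.injective_iff_surjective.1 hinj) ⟨k, hk⟩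
  exact ⟨l, l.2, (congrArg Subtype.val hl).symm⟩

variable [Fintype F] {m : ℕ} {H : Subgroup (GL (Fin m ⊕ Fin m) F)}

open Cfsg.Geo in
/-- The symplectic classes, recording that the sixth one needs dimension a power of two. -/
def InSymplecticClass' (m : ℕ) (F : Type*) [Field F] [Fintype F]
    (M : Subgroup (GL (Fin m ⊕ Fin m) F)) : Prop :=
  let f := Cfsg.sympForm m F
  let I := Cfsg.spGL m F
  (∃ W : Submodule F (Fin m ⊕ Fin m → F), W ≠ ⊥ ∧ IsTotallySingularFor f W ∧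
      M = subspaceStabilizer W ⊓ I) ∨
  (∃ W : Submodule F (Fin m ⊕ Fin m → F), W ≠ ⊥ ∧ IsNondegenerateOn f W ∧ finrank F W < m ∧
      M = subspaceStabilizer W ⊓ I) ∨
  (∃ (t k : ℕ) (D : Fin t → Submodule F (Fin m ⊕ Fin m → F)),
      IsNondegenerateMDecomposition f k D ∧ M = decompositionStabilizer D ⊓ I) ∨
  (∃ D : Fin 2 → Submodule F (Fin m ⊕ Fin m → F), Odd (Fintype.card F) ∧ IsMDecomposition m D ∧
      (∀ i, IsTotallySingularFor f (D i)) ∧ M = decompositionStabilizer D ⊓ I) ∨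
  (∃ (r : ℕ) (K : Subalgebra F (Matrix (Fin m ⊕ Fin m) (Fin m ⊕ Fin m) F)), r.Prime ∧
      IsFieldSubalgebra r K ∧ IsSelfAdjointFor f K ∧ (∀ k ∈ K, ∀ v, f (k *ᵥ v) v = 0) ∧
      M = subalgebraNormalizer K ⊓ I) ∨
  (∃ K : Subalgebra F (Matrix (Fin m ⊕ Fin m) (Fin m ⊕ Fin m) F), Odd (Fintype.card F) ∧
      IsFieldSubalgebra 2 K ∧ IsAdjointClosedFor f K ∧ ¬ IsSelfAdjointFor f K ∧
      M = subalgebraNormalizer K ⊓ I) ∨
  (∃ (n₁ n₂ : ℕ) (e : (Fin m ⊕ Fin m) ≃ Fin n₁ × Fin n₂) (P : GL (Fin m ⊕ Fin m) F)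
      (f₁ : (Fin n₁ → F) → (Fin n₁ → F) → F) (f₂ : (Fin n₂ → F) → (Fin n₂ → F) → F),
      Odd (Fintype.card F) ∧ 3 ≤ n₂ ∧ IsSymplecticForm f₁ ∧ IsSymmetricForm f₂ ∧
      IsTensorFormStructure id f f₁ f₂ e P ∧ M = tensorProductSubgroup n₁ n₂ e P ⊓ I) ∨
  (∃ (F₀ : Subfield F) (r : ℕ) (P : GL (Fin m ⊕ Fin m) F) (ζ : F), r.Prime ∧
      Fintype.card F = Nat.card F₀ ^ r ∧ ζ ≠ 0 ∧ IsFormRationalStructure f F₀ ζ P ∧
      M = subfieldSubgroup F₀ P ⊓ I) ∨
  (∃ (R : Subgroup (GL (Fin m ⊕ Fin m) F)) (p k : ℕ), 2 * m = 2 ^ k ∧ IsSymplecticTypeGroup 2 R ∧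
      ActsAbsolutelyIrreducibly (matrixSet R) ∧ R ≤ similarityGroup f ∧ p.Prime ∧ Odd p ∧
      Fintype.card F = p ∧ Nat.card R = 2 ^ (1 + 2 * k) ∧ Nat.card (Subgroup.center R) = 2 ∧
      IsOfMinusType k R ∧ M = subgroupNormalizer R ⊓ I) ∨
  (∃ (k t : ℕ) (e : (Fin m ⊕ Fin m) ≃ (Fin t → Fin k)) (P : GL (Fin m ⊕ Fin m) F)
      (f₁ : (Fin k → F) → (Fin k → F) → F),
      Odd (Fintype.card F) ∧ Odd t ∧ 3 ≤ t ∧ ¬ (Fintype.card F = 3 ∧ k = 2) ∧ IsSymplecticForm f₁ ∧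
      IsTensorPowerFormStructure id f f₁ e P ∧ M = tensorWreathSubgroup k t e P ⊓ I) ∨
  (∃ Q : (Fin m ⊕ Fin m → F) → F, ¬ Odd (Fintype.card F) ∧ IsNondegenerateQuadraticForm Q ∧
      (∀ u v, QuadraticMap.polar Q u v = f u v) ∧ M = quadSimilarityGroup Q ⊓ I)

lemma InSymplecticClass'.toClass {M : Subgroup (GL (Fin m ⊕ Fin m) F)}
    (h : InSymplecticClass' m F M) : Cfsg.Geo.InSymplecticClass m F M := by
  rcases h with h | h | h | h | h | h | h | h | ⟨R, p, k, -, h⟩ | h | h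
  · exact Or.inl (Or.inl h)
  · exact Or.inl (Or.inr (Or.inl h))
  · exact Or.inl (Or.inr (Or.inr (Or.inl h)))
  · exact Or.inl (Or.inr (Or.inr (Or.inr (Or.inl h))))
  · exact Or.inr (Or.inl h)
  · exact Or.inr (Or.inr (Or.inl h))
  · exact Or.inr (Or.inr (Or.inr (Or.inl h)))
  · exact Or.inl (Or.inr (Or.inr (Or.inr (Or.inr (Or.inl h)))))
  · exact Or.inl (Or.inr (Or.inr (Or.inr (Or.inr (Or.inr (Or.inl ⟨R, p, k, h⟩))))))
  · exact Or.inr (Or.inr (Or.inr (Or.inr h)))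
  · exact Or.inl (Or.inr (Or.inr (Or.inr (Or.inr (Or.inr (Or.inr h))))))

/-- A geometric member of the symplectic classes containing `H`. -/
def InSympClassOver (H : Subgroup (GL (Fin m ⊕ Fin m) F)) : Prop :=
  ∃ M : Subgroup (GL (Fin m ⊕ Fin m) F), InSymplecticClass' m F M ∧ H ≤ M

lemma inSympClassOver_quad (hH : H ≤ Cfsg.spGL m F) (heven : ¬ Odd (Fintype.card F))
    (h : ∃ Q : (Fin m ⊕ Fin m → F) → F, Cfsg.Geo.IsNondegenerateQuadraticForm Q ∧
      (∀ u v, QuadraticMap.polar Q u v = Cfsg.sympForm m F u v) ∧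
      H ≤ Cfsg.Geo.quadSimilarityGroup Q) : InSympClassOver H := by
  obtain ⟨Q, hQ, hpol, hle⟩ := h
  refine ⟨_, ?_, le_inf hle hH⟩
  iterate 10 right
  exact ⟨Q, heven, hQ, hpol, rfl⟩

lemma inSympClassOver_pair (hH : H ≤ Cfsg.spGL m F) {k : ℕ}
    {D : Fin 2 → Submodule F (Fin m ⊕ Fin m → F)} (hk : 2 * k = Fintype.card (Fin m ⊕ Fin m))
    (hD : Cfsg.Geo.IsMDecomposition k D)
    (hts : ∀ i, Cfsg.Geo.IsTotallySingularFor (Cfsg.sympForm m F) (D i))
    (hle : H ≤ Cfsg.Geo.decompositionStabilizer D) : InSympClassOver H := by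
  by_cases hodd : Odd (Fintype.card F)
  · simp only [Fintype.card_sum, Fintype.card_fin] at hk
    obtain rfl : k = m := by omega
    refine ⟨_, ?_, le_inf hle hH⟩
    iterate 3 right
    left
    exact ⟨D, hodd, hD, hts, rfl⟩
  · exact inSympClassOver_quad hH hodd (quad_of_pair (isRefl_sympForm m) (sympForm_alt m)
      (two_eq_zero_iff.2 hodd) hD hts (fixesForm_spGL hH) hle)

lemma inSympClassOver_skew (hH : H ≤ Cfsg.spGL m F) (hodd : Odd (Fintype.card F))
    (h : (∃ (k : ℕ) (D : Fin 2 → Submodule F (Fin m ⊕ Fin m → F)),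
        2 * k = Fintype.card (Fin m ⊕ Fin m) ∧ Cfsg.Geo.IsMDecomposition k D ∧
        (∀ i, Cfsg.Geo.IsTotallySingularFor (Cfsg.sympForm m F) (D i)) ∧
        H ≤ Cfsg.Geo.decompositionStabilizer D) ∨
      (∃ K : Subalgebra F (Matrix (Fin m ⊕ Fin m) (Fin m ⊕ Fin m) F),
        Cfsg.Geo.IsFieldSubalgebra 2 K ∧ Cfsg.Geo.IsAdjointClosedFor (Cfsg.sympForm m F) K ∧
        ¬ Cfsg.Geo.IsSelfAdjointFor (Cfsg.sympForm m F) K ∧
        H ≤ Cfsg.Geo.subalgebraNormalizer K)) : InSympClassOver H := by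
  rcases h with ⟨k, D, hk, hD, hts, hle⟩ | ⟨K, hK, hadj, hns, hle⟩
  · exact inSympClassOver_pair hH hk hD hts hle
  · refine ⟨_, ?_, le_inf hle hH⟩
    iterate 5 right
    left
    exact ⟨K, hodd, hK, hadj, hns, rfl⟩

/-- An adjoint-closed normalised field gives a class. -/
theorem symp_field [NeZero m] (hH : H ≤ Cfsg.spGL m F) {e : ℕ}
    {K : Subalgebra F (Matrix (Fin m ⊕ Fin m) (Fin m ⊕ Fin m) F)}
    (hK : Cfsg.Geo.IsFieldSubalgebra e K) (he : 1 < e)
    (hadj : ∀ k ∈ K, (isRefl_sympForm m).adj k ∈ K)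
    (hle : H ≤ Cfsg.Geo.subalgebraNormalizer K) : InSympClassOver H := by
  have hf := isRefl_sympForm (F := F) m
  rcases field_involution hf hK he hadj (fixesForm_spGL hH) hle with
    ⟨r, K₀, hr, hK₀, hself, hle₀⟩ | ⟨rfl, hfix, htr⟩
  · have hsa : Cfsg.Geo.IsSelfAdjointFor (Cfsg.sympForm m F) K₀ := fun k hk u v => by
      rw [hf.adj_spec, hself k hk]
    refine ⟨_, Or.inr (Or.inr (Or.inr (Or.inr (Or.inl ⟨r, K₀, hr, hK₀, hsa, fun k hk v => ?_, rfl⟩)))),
      le_inf hle₀ hH⟩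
    by_cases h2 : (2 : F) = 0
    · obtain ⟨l, hl, rfl⟩ := exists_sq_of_field h2 hK₀ hk
      rw [← Matrix.mulVec_mulVec, hsa l hl]
      exact sympForm_alt m _
    · have h1 : Cfsg.sympForm m F (k *ᵥ v) v = -Cfsg.sympForm m F (k *ᵥ v) v := by
        conv_lhs => rw [hsa k hk v v, hf.swap]
        simp
      exact (mul_eq_zero.1 (show (2 : F) * Cfsg.sympForm m F (k *ᵥ v) v = 0 by
        linear_combination h1)).resolve_left h2
  · by_cases hodd : Odd (Fintype.card F)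
    · refine inSympClassOver_skew hH hodd (Or.inr ⟨K, hK, fun k hk =>
        ⟨_, hadj k hk, hf.adj_spec k⟩, fun hself => ?_, hle⟩)
      have hle1 : Subalgebra.toSubmodule K ≤ F ∙ (1 : Matrix (Fin m ⊕ Fin m) (Fin m ⊕ Fin m) F) :=
        fun k hk => by
          obtain ⟨c, hc⟩ := hfix k hk (hf.adj_eq (hself k hk))
          exact Submodule.mem_span_singleton.2 ⟨c, hc.symm⟩
      have h3 := Submodule.finrank_mono hle1
      rw [Subalgebra.finrank_toSubmodule, hK.finrank_eq, finrank_span_singleton one_ne_zero] at h3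
      omega
    · exact inSympClassOver_quad hH hodd (quad_of_trace_one hf (sympForm_alt m)
        (two_eq_zero_iff.2 hodd) hK hfix htr hadj (fixesForm_spGL hH) hle)

/-- A normalised full matrix algebra gives a class. -/
theorem symp_units [NeZero m] (hH : H ≤ Cfsg.spGL m F) (hirr : Irr H) {a : ℕ} (ha : 2 ≤ a)
    (han : a < 2 * m) {E : Fin a → Fin a → Matrix (Fin m ⊕ Fin m) (Fin m ⊕ Fin m) F}
    (hE : IsUnits E)
    (hEadj : ∀ k l, (isRefl_sympForm m).adj (E k l) ∈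
      Submodule.span F (Set.range fun p : Fin a × Fin a => E p.1 p.2))
    (hHn : ∀ g ∈ H, ∀ k l, (g : Matrix (Fin m ⊕ Fin m) (Fin m ⊕ Fin m) F) * E k l *
      ((g⁻¹ : GL (Fin m ⊕ Fin m) F) : Matrix (Fin m ⊕ Fin m) (Fin m ⊕ Fin m) F) ∈
      Submodule.span F (Set.range fun p : Fin a × Fin a => E p.1 p.2)) : InSympClassOver H := by
  have hf := isRefl_sympForm (F := F) m
  have hfix := fixesForm_spGL hH
  obtain ⟨b, e, P, G₁, G₂, α, β, hb0, hcard, hu₁, hu₂, hpull, hαβ, hG₁, hG₂, hle, helem⟩ :=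
    tensor_frame_form hf hE hEadj hfix hHn
  rw [show G₁.map (RingEquiv.refl F) = G₁ from Matrix.map_id _] at hG₁
  rw [show G₂.map (RingEquiv.refl F) = G₂ from Matrix.map_id _] at hG₂
  simp only [Fintype.card_sum, Fintype.card_fin] at hcard
  have hb : 2 ≤ b := by
    by_contra h
    obtain rfl : b = 1 := by omega
    omega
  have T : TensorForm (Cfsg.sympForm m F) H e P G₁ G₂ :=
    ⟨hu₁, hu₂, hpull, hle, fun g hg => by
      obtain ⟨c, d, u, v, huv, hgX, hc, hd⟩ := helem g hg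
      exact ⟨c, d, u, v, huv, hgX, by rwa [show (c : Matrix (Fin a) (Fin a) F).map (RingEquiv.refl F) =
        (c : Matrix (Fin a) (Fin a) F) from Matrix.map_id _] at hc,
        by rwa [show (d : Matrix (Fin b) (Fin b) F).map (RingEquiv.refl F) =
        (d : Matrix (Fin b) (Fin b) F) from Matrix.map_id _] at hd⟩⟩
  have : NeZero a := ⟨by omega⟩
  have hα2 : α * α = 1 := by
    have h := congrArg Matrix.transpose hG₁
    rw [Matrix.transpose_transpose, Matrix.transpose_smul, hG₁, smul_smul] at h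
    exact (smul_cancel_matrix hu₁.ne_zero (h.symm.trans (one_smul F G₁).symm))
  by_cases h2 : (2 : F) = 0
  · have hm1 : (-1 : F) = 1 := by linear_combination -h2
    have hα1 : α = 1 := (mul_self_eq_one_iff.1 hα2).elim id fun h => h.trans hm1
    have hβ1 : β = 1 := by rw [hα1, one_mul] at hαβ; exact hαβ.trans hm1
    rw [hα1, one_smul] at hG₁
    rw [hβ1, one_smul] at hG₂
    have hs₁ : ∀ p q, G₁ p q = G₁ q p := fun p q => (congrFun (congrFun hG₁ q) p).trans rfl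
    have hs₂ : ∀ p q, G₂ p q = G₂ q p := fun p q => (congrFun (congrFun hG₂ q) p).trans rfl
    refine inSympClassOver_quad hH (two_eq_zero_iff.1 h2) ?_
    have hdiag : ∀ i j, G₁ i i * G₂ j j = 0 := by
      intro i j
      have h0 : pullForm e P (Cfsg.sympForm m F) (Pi.single (i, j) 1) (Pi.single (i, j) 1) = 0 :=
        sympForm_alt m _
      rw [hpull] at h0
      have h1 := congrFun (congrFun (gramMatrix_formOfGram (σ := RingEquiv.refl F)
        (Matrix.kroneckerMap (· * ·) G₁ G₂)) (i, j)) (i, j)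
      exact h1.symm.trans h0
    by_cases hd : ∀ i, G₁ i i = 0
    · exact T.quad hf h2 hirr hfix ha hb hs₁ hs₂ hd
    · push Not at hd
      obtain ⟨i, hi⟩ := hd
      exact T.swap.quad hf h2 hirr hfix hb ha hs₂ hs₁ fun j =>
        (mul_eq_zero.1 (hdiag i j)).resolve_left hi
  have hodd : Odd (Fintype.card F) := not_not.1 fun h => h2 (two_eq_zero_iff.2 h)
  -- the general step with a skew first factor
  have key : ∀ {a b : ℕ} {e : (Fin m ⊕ Fin m) ≃ Fin a × Fin b} {P : GL (Fin m ⊕ Fin m) F}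
      {G₁ : Matrix (Fin a) (Fin a) F} {G₂ : Matrix (Fin b) (Fin b) F},
      2 ≤ b → TensorForm (Cfsg.sympForm m F) H e P G₁ G₂ → G₁ᵀ = (-1 : F) • G₁ → G₂ᵀ = G₂ →
      InSympClassOver H := by
    intro a b e P G₁ G₂ hb T h₁ h₂'
    rcases Nat.lt_or_ge b 3 with hb3 | hb3
    · obtain rfl : b = 2 := by omega
      exact inSympClassOver_skew hH hodd (T.plane hf h2 hfix h₂')
    · have hr₁ := isRefl_formOfGram T.unit₁ (by norm_num : (-1 : F) ≠ 0) h₁
      have hr₂ := isRefl_formOfGram T.unit₂ one_ne_zero (h₂'.trans (one_smul F G₂).symm)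
      refine ⟨_, Or.inr (Or.inr (Or.inr (Or.inr (Or.inr (Or.inr (Or.inl ⟨a, b, e, P, Cfsg.Geo.formOfGram id G₁,
        Cfsg.Geo.formOfGram id G₂, hodd, hb3,
        ⟨hr₁.bilinear, fun v w => ?_, fun v => ?_, hr₁.nondeg⟩,
        ⟨hr₂.bilinear, fun u v => ?_, hr₂.nondeg⟩, ⟨1, one_ne_zero, fun x y => ?_⟩, rfl⟩)))))),
        le_inf T.le hH⟩
      · rw [hr₁.swap w v]; simp
      · have h := hr₁.swap v v
        simp only [RingEquiv.refl_apply] at h
        exact (mul_eq_zero.1 (show (2 : F) * Cfsg.Geo.formOfGram id G₁ v v = 0 by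
          linear_combination h)).resolve_left h2
      · rw [hr₂.swap v u]; simp
      · have hg₁ : Cfsg.Geo.gramMatrix (Cfsg.Geo.formOfGram id G₁) = G₁ :=
          gramMatrix_formOfGram (σ := RingEquiv.refl F) G₁
        have hg₂ : Cfsg.Geo.gramMatrix (Cfsg.Geo.formOfGram id G₂) = G₂ :=
          gramMatrix_formOfGram (σ := RingEquiv.refl F) G₂
        rw [hg₁, hg₂, one_mul]
        exact T.pull x y
  rcases mul_self_eq_one_iff.1 hα2 with rfl | rfl
  · rw [one_mul] at hαβ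
    subst hαβ
    exact key ha T.swap hG₂ (hG₁.trans (one_smul F G₁))
  · obtain rfl : β = 1 := by linear_combination -hαβ
    exact key hb T hG₁ (hG₂.trans (one_smul F G₂))

/-- A normalised subgroup gives a class, consists of scalars or is absolutely irreducible. -/
theorem symp_trichotomy [NeZero m] (hH : H ≤ Cfsg.spGL m F) (hirr : Irr H)
    {A : Subgroup (GL (Fin m ⊕ Fin m) F)} (hAH : A ≤ H)
    (hnA : ∀ g ∈ H, ∀ a ∈ A, g * a * g⁻¹ ∈ A) :
    InSympClassOver H ∨ A ≤ Cfsg.Geo.scalars (Fin m ⊕ Fin m) F ∨ AbsIrr A := by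
  classical
  have hf := isRefl_sympForm (F := F) m
  have hfix := fixesForm_spGL hH
  have hA := fixesForm_mono hAH hfix
  rcases form_components hf hirr hfix hAH hnA with ⟨t, k, D, hD, hle⟩ | ⟨k, D, hk, hD, hts, hle⟩ |
    hfa
  · exact Or.inl ⟨_, Or.inr (Or.inr (Or.inl ⟨t, k, D, hD, rfl⟩)), le_inf hle hH⟩
  · exact Or.inl (inSympClassOver_pair hH hk hD hts hle)
  obtain ⟨S, -, hS⟩ := exists_minInv (inv_top A) (top_ne_bot (α := Submodule F (Fin m ⊕ Fin m → F)))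
  by_cases htop : S = ⊤
  · have hAirr : Irr A := irr_iff.2 fun W hW => by
      rcases hS.min W (htop ▸ le_top) hW with h | h
      · exact Or.inl h
      · exact Or.inr (h.trans htop)
    have hK := commutant_isField hAirr
    by_cases h1 : 1 < finrank F (commutant A)
    · exact Or.inl (symp_field hH hK h1 (fun k hk => hf.adj_mem_commutant hA hk)
        (le_normalizer_commutant hnA))
    · right; right
      refine absIrr_of_commutant hAirr fun M hM => ?_
      have : Nontrivial ↥(commutant A) :=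
        ⟨⟨0, 1, fun h => zero_ne_one (congrArg (fun x : ↥(commutant A) =>
          (x : Matrix (Fin m ⊕ Fin m) (Fin m ⊕ Fin m) F)) h)⟩⟩
      have h2 : finrank F (commutant A) = 1 := by
        have : 0 < finrank F (commutant A) := Module.finrank_pos
        omega
      obtain ⟨c, hc⟩ := (finrank_eq_one_iff_of_nonzero' (1 : ↥(commutant A))
        one_ne_zero).1 h2 ⟨M, hM⟩
      exact ⟨c, (congrArg Subtype.val hc).symm⟩
  · have hfS := hfa S hS
    have hK := centre_isField hS hfS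
    by_cases h1 : 1 < finrank F ↥(envAlg A ⊓ commutant A)
    · exact Or.inl (symp_field hH hK h1
        (fun k hk => ⟨mem_envAlg.2 (hf.adj_mem_envelope hA (mem_envAlg.1 hk.1)),
          hf.adj_mem_commutant hA hk.2⟩) (centre_normalised hnA))
    have hcen : ∀ M ∈ envelope A, M ∈ commutant A →
        ∃ c : F, M = c • (1 : Matrix (Fin m ⊕ Fin m) (Fin m ⊕ Fin m) F) := by
      intro M hM hMc
      have : Nontrivial ↥(envAlg A ⊓ commutant A) :=
        ⟨⟨0, 1, fun h => zero_ne_one (congrArg (fun x : ↥(envAlg A ⊓ commutant A) =>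
          (x : Matrix (Fin m ⊕ Fin m) (Fin m ⊕ Fin m) F)) h)⟩⟩
      have h2 : finrank F ↥(envAlg A ⊓ commutant A) = 1 := by
        have : 0 < finrank F ↥(envAlg A ⊓ commutant A) := Module.finrank_pos
        omega
      obtain ⟨c, hc⟩ := (finrank_eq_one_iff_of_nonzero' (1 : ↥(envAlg A ⊓ commutant A))
        one_ne_zero).1 h2 ⟨M, hM, hMc⟩
      exact ⟨c, (congrArg Subtype.val hc).symm⟩
    obtain ⟨E, hE, hEmem, hEspan⟩ := exists_units_of_faithful hS hfS hcen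
    rcases Nat.lt_or_ge (finrank F S) 2 with ha | ha
    · right; left
      have hpos : 0 < finrank F S := Nat.pos_of_ne_zero fun h =>
        hS.ne_bot (Submodule.finrank_eq_zero.1 h)
      refine le_scalars_of_commutant fun a haA => ?_
      obtain ⟨c, hc⟩ := (Submodule.mem_span_range_iff_exists_fun F).1 (hEspan (mem_envelope haA))
      have : Subsingleton (Fin (finrank F S)) := Fin.subsingleton_iff_le_one.2 (by omega)
      let i₀ : Fin (finrank F S) := ⟨0, hpos⟩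
      have h00 : E i₀ i₀ = 1 := by
        rw [← hE.sum]
        rw [Finset.sum_eq_single i₀ (fun b _ hb => absurd (Subsingleton.elim b i₀) hb) (by simp)]
      refine ⟨∑ p, c p, ?_⟩
      rw [← hc, Finset.sum_smul]
      refine Finset.sum_congr rfl fun p _ => ?_
      rw [Subsingleton.elim p.1 i₀, Subsingleton.elim p.2 i₀, h00]
    · left
      have han : finrank F S < 2 * m := by
        have := Submodule.finrank_lt htop
        simp [Module.finrank_fintype_fun_eq_card] at this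
        omega
      exact symp_units hH hirr ha han hE (fun k l => hEspan (hf.adj_mem_envelope hA (hEmem k l)))
        fun g hg k l => hEspan (conj_mem_envelope hnA hg (hEmem k l))

/-- A normalised absolutely irreducible group of isometries realised over a subfield. -/
theorem symp_subfield [NeZero m] (hH : H ≤ Cfsg.spGL m F)
    {P : Subgroup (GL (Fin m ⊕ Fin m) F)} (hP : AbsIrr P) (hPH : P ≤ H)
    (hPn : ∀ g ∈ H, ∀ a ∈ P, g * a * g⁻¹ ∈ P) {F₀ : Subfield F} (hF₀ : F₀ ≠ ⊤)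
    (hreal : Cfsg.Geo.RealisableOver F₀ (Cfsg.Geo.matrixSet P)) : InSympClassOver H := by
  classical
  have hf := isRefl_sympForm (F := F) m
  obtain ⟨F₁, r, hle', hr, hc⟩ := exists_subfield_prime hF₀
  obtain ⟨B, hB⟩ := realisableOver_mono hle' hreal
  set f' := pullForm (Equiv.refl _) (B⁻¹ : GL (Fin m ⊕ Fin m) F) (Cfsg.sympForm m F) with hf'
  have hr' : IsRefl (RingEquiv.refl F) (-1 : F) f' := hf.pull _ _
  set G := Cfsg.Geo.gramMatrix f' with hG
  obtain ⟨i, j, hij⟩ : ∃ i j, G i j ≠ 0 := by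
    by_contra h
    push Not at h
    exact (hr'.sesq.gram_isUnit hr'.nondeg).ne_zero (Matrix.ext h)
  -- an F₁-linear map to F₁ not vanishing at that entry
  obtain ⟨π, hπ⟩ : ∃ π : F →ₗ[F₁] F₁, π (G i j) ≠ 0 := by
    by_contra h
    push Not at h
    exact hij ((Module.forall_dual_apply_eq_zero_iff F₁ _).1 h)
  set G₀ : Matrix (Fin m ⊕ Fin m) (Fin m ⊕ Fin m) F := fun a b => (π (G a b) : F) with hG₀
  have hinv : ∀ s ∈ Cfsg.Geo.matrixSet P,
      ((B : Matrix (Fin m ⊕ Fin m) (Fin m ⊕ Fin m) F) * s *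
        ((B⁻¹ : GL (Fin m ⊕ Fin m) F) : Matrix (Fin m ⊕ Fin m) (Fin m ⊕ Fin m) F))ᵀ * G₀ *
      ((B : Matrix (Fin m ⊕ Fin m) (Fin m ⊕ Fin m) F) * s *
        ((B⁻¹ : GL (Fin m ⊕ Fin m) F) : Matrix (Fin m ⊕ Fin m) (Fin m ⊕ Fin m) F)) = G₀ := by
    intro s hs
    obtain ⟨g, hg, rfl⟩ := hs
    set X := (B : Matrix (Fin m ⊕ Fin m) (Fin m ⊕ Fin m) F) * (g : Matrix (Fin m ⊕ Fin m) (Fin m ⊕ Fin m) F) *
      ((B⁻¹ : GL (Fin m ⊕ Fin m) F) : Matrix (Fin m ⊕ Fin m) (Fin m ⊕ Fin m) F) with hX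
    have hXe : ∀ a b, X a b ∈ F₁ := hB _ ⟨g, hg, rfl⟩
    have h1 : Xᵀ * G * X = G := by
      have := hr'.sesq.gram_comp X
      rw [show X.map (RingEquiv.refl F : F ≃+* F) = X from Matrix.map_id X] at this
      rw [hG, ← this]
      ext p q
      refine pullForm_isometry _ _ (g := g) ?_ (isometry_apply (fixesForm_mono hPH (fixesForm_spGL hH)) hg) _ _
      rw [frAlg_apply, hX]
      simp [mul_assoc]
    ext a b
    have h2 := congrArg (fun M : Matrix (Fin m ⊕ Fin m) (Fin m ⊕ Fin m) F => (π (M a b) : F)) h1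
    simp only [Matrix.mul_apply, Matrix.transpose_apply, map_sum, Finset.sum_mul,
      AddSubmonoidClass.coe_finsetSum] at h2
    simp only [Matrix.mul_apply, Matrix.transpose_apply, Finset.sum_mul]
    refine Eq.trans ?_ h2
    refine Finset.sum_congr rfl fun c _ => Finset.sum_congr rfl fun d _ => ?_
    have h3 : X d a * G d c * X c b = (⟨X d a, hXe d a⟩ * ⟨X c b, hXe c b⟩ : F₁) • G d c := by
      show _ = ((X d a * X c b : F)) * G d c
      ring
    rw [h3, map_smul, hG₀]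
    simp only [smul_eq_mul, Subfield.coe_mul]
    ring
  let f₀ : (Fin m ⊕ Fin m → F) → (Fin m ⊕ Fin m → F) → F := fun u v =>
    Cfsg.Geo.formOfGram id G₀ ((B : Matrix (Fin m ⊕ Fin m) (Fin m ⊕ Fin m) F) *ᵥ u)
      ((B : Matrix (Fin m ⊕ Fin m) (Fin m ⊕ Fin m) F) *ᵥ v)
  have hs₀ : IsSesq (RingEquiv.refl F) f₀ :=
    ⟨fun x y v => by simp [f₀, formOfGram_eq, Matrix.mulVec_add, add_dotProduct],
      fun c x v => by simp [f₀, formOfGram_eq, Matrix.mulVec_smul, smul_dotProduct],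
      fun v x y => by simp [f₀, formOfGram_eq, Matrix.mulVec_add, dotProduct_add],
      fun c v x => by simp [f₀, formOfGram_eq, Matrix.mulVec_smul]⟩
  have hfix₀ : Cfsg.Geo.FixesForm (Cfsg.Geo.matrixSet P) f₀ := by
    intro s hs u v
    have h1 : ∀ w, (B : Matrix (Fin m ⊕ Fin m) (Fin m ⊕ Fin m) F) *ᵥ (s *ᵥ w) =
        ((B : Matrix (Fin m ⊕ Fin m) (Fin m ⊕ Fin m) F) * s *
          ((B⁻¹ : GL (Fin m ⊕ Fin m) F) : Matrix (Fin m ⊕ Fin m) (Fin m ⊕ Fin m) F)) *ᵥ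
          ((B : Matrix (Fin m ⊕ Fin m) (Fin m ⊕ Fin m) F) *ᵥ w) := fun w => by
      simp only [Matrix.mulVec_mulVec, mul_assoc, Units.inv_mul, mul_one]
    have key : ∀ (X : Matrix (Fin m ⊕ Fin m) (Fin m ⊕ Fin m) F) (x y : Fin m ⊕ Fin m → F),
        (X *ᵥ x) ⬝ᵥ (G₀ *ᵥ (X *ᵥ y)) = x ⬝ᵥ ((Xᵀ * G₀ * X) *ᵥ y) := by
      intro X x y
      rw [← Matrix.mulVec_mulVec, ← Matrix.mulVec_mulVec, Matrix.dotProduct_mulVec x Xᵀ,
        Matrix.vecMul_transpose]
    simp only [f₀, formOfGram_eq, Function.id_comp, h1]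
    rw [key, hinv s hs]
  obtain ⟨c, hcf⟩ := exists_eq_smul hP hf.sesq hs₀ hf.nondeg
    (fixesForm_mono hPH (fixesForm_spGL hH)) hfix₀
  have hcG : ∀ a b, G₀ a b = c * G a b := by
    intro a b
    have h := hcf (((B⁻¹ : GL (Fin m ⊕ Fin m) F) : Matrix (Fin m ⊕ Fin m) (Fin m ⊕ Fin m) F) *ᵥ Pi.single a 1)
      (((B⁻¹ : GL (Fin m ⊕ Fin m) F) : Matrix (Fin m ⊕ Fin m) (Fin m ⊕ Fin m) F) *ᵥ Pi.single b 1)
    simp only [f₀, mulVec_inv_cancel] at h
    exact ((congrFun (congrFun (gramMatrix_formOfGram (σ := RingEquiv.refl F) G₀) a) b).symm.trans h)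
  have hc0 : c ≠ 0 := by
    intro h0
    have := hcG i j
    rw [h0, zero_mul] at this
    exact hπ (Subtype.ext this)
  refine ⟨_, ?_, le_inf (le_subfieldSubgroup_of_entries hPn (envelope_eq_top hP) hB) hH⟩
  iterate 7 right
  left
  refine ⟨F₁, r, B⁻¹, c, hr, hc, hc0, fun u v hu hv => ?_, rfl⟩
  have h := hr'.sesq.eq_formOfGram u v
  show c * f' u v ∈ F₁
  rw [h]
  simp only [Cfsg.Geo.formOfGram, Finset.mul_sum]
  refine sum_mem fun a _ => sum_mem fun b _ => ?_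
  rw [show c * (u a * Cfsg.Geo.gramMatrix f' a b * (RingEquiv.refl F) (v b)) =
    u a * (c * G a b) * v b from by simp [hG]; ring, ← hcG]
  exact mul_mem (mul_mem (hu a) (π (G a b)).2) (hv b)

/-- A residual core in the symplectic group. -/
theorem symp_core [NeZero m] (hm : 2 ≤ m) (hH : H ≤ Cfsg.spGL m F)
    {P : Subgroup (GL (Fin m ⊕ Fin m) F)}
    (hle : P ≤ H) (hP : AbsIrr P) (hperf : ⁅P, P⁆ = P) (hPn : ∀ g ∈ H, ∀ a ∈ P, g * a * g⁻¹ ∈ P)
    (hsimp : IsSimpleGroup (P ⧸ (Cfsg.Geo.scalars (Fin m ⊕ Fin m) F).subgroupOf P))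
    (hna : ¬ IsMulCommutative (P ⧸ (Cfsg.Geo.scalars (Fin m ⊕ Fin m) F).subgroupOf P)) :
    InSympClassOver H ∨ Cfsg.Geo.InSymplecticResidualClass H := by
  classical
  have hf := isRefl_sympForm (F := F) m
  have hfix := fixesForm_spGL hH
  by_cases hreal : ∃ F₀ : Subfield F, F₀ ≠ ⊤ ∧
      Cfsg.Geo.RealisableOver F₀ (Cfsg.Geo.matrixSet P)
  · obtain ⟨F₀, hF₀, hreal⟩ := hreal
    exact Or.inl (symp_subfield hH hP hle hPn hF₀ hreal)
  by_cases hQ : ∃ Q : (Fin m ⊕ Fin m → F) → F, Cfsg.Geo.IsNondegenerateQuadraticForm Q ∧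
      Cfsg.Geo.FixesQuadForm (Cfsg.Geo.matrixSet P) Q
  · left
    obtain ⟨Q, hQ, hQfix⟩ := hQ
    obtain ⟨c, hc⟩ := exists_eq_smul hP hf.sesq (isSesq_of_bilinear hQ.polar_bilinear) hf.nondeg
      (fixesForm_mono hle hfix) (fixesForm_polar hQfix)
    have hc0 : c ≠ 0 := by
      intro h0
      obtain ⟨-, x, hx⟩ := hQ.nondegenerate (Pi.single (Sum.inl ⟨0, by omega⟩) 1) (by simp)
      exact hx (by rw [hc, h0, zero_mul])
    have h2 : (2 : F) = 0 := by
      by_contra h2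
      obtain ⟨-, x, hx⟩ := hf.nondeg (Pi.single (Sum.inl ⟨0, by omega⟩) 1) (by simp)
      have h1 := QuadraticMap.polar_comm Q (Pi.single (Sum.inl ⟨0, by omega⟩) 1) x
      rw [hc, hc, hf.swap x] at h1
      simp only [RingEquiv.refl_apply] at h1
      exact hx (by
        rw [hf.swap x]
        simp only [RingEquiv.refl_apply]
        have h3 : (2 * c) * Cfsg.sympForm m F x (Pi.single (Sum.inl ⟨0, by omega⟩) 1) = 0 := by
          linear_combination -h1
        rw [(mul_eq_zero.1 h3).resolve_left (mul_ne_zero h2 hc0), mul_zero])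
    let Q' : (Fin m ⊕ Fin m → F) → F := fun v => c⁻¹ * Q v
    have hpol : ∀ u v, QuadraticMap.polar Q' u v = Cfsg.sympForm m F u v := by
      intro u v
      show c⁻¹ * Q (u + v) - c⁻¹ * Q u - c⁻¹ * Q v = _
      rw [← mul_sub, ← mul_sub, show Q (u + v) - Q u - Q v = QuadraticMap.polar Q u v from rfl, hc,
        ← mul_assoc, inv_mul_cancel₀ hc0, one_mul]
    have hs' : ∀ (d : F) v, Q' (d • v) = d ^ 2 * Q' v := fun d v => by
      show c⁻¹ * Q (d • v) = _
      rw [hQ.smul]; show _ = d ^ 2 * (c⁻¹ * Q v); ring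
    have hQ'fix : ∀ a ∈ P, ∀ v, Q' ((a : Matrix (Fin m ⊕ Fin m) (Fin m ⊕ Fin m) F) *ᵥ v) = Q' v :=
      fun a ha v => by show c⁻¹ * Q _ = _; rw [hQfix _ ⟨a, ha, rfl⟩]
    refine inSympClassOver_quad hH (two_eq_zero_iff.1 h2)
      ⟨Q', quad_of_polar hs' hf.bilinear hf.nondeg hpol, hpol, fun g hg => ⟨1, fun v => ?_⟩⟩
    rw [Units.val_one, one_mul]
    let D : (Fin m ⊕ Fin m → F) →+ F := AddMonoidHom.mk'
      (fun x => Q' ((g : Matrix (Fin m ⊕ Fin m) (Fin m ⊕ Fin m) F) *ᵥ x) - Q' x) fun x y => by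
        have h1 := hpol x y
        have h2 := hpol ((g : Matrix (Fin m ⊕ Fin m) (Fin m ⊕ Fin m) F) *ᵥ x)
          ((g : Matrix (Fin m ⊕ Fin m) (Fin m ⊕ Fin m) F) *ᵥ y)
        rw [isometry_apply hfix hg] at h2
        simp only [QuadraticMap.polar, ← Matrix.mulVec_add] at h1 h2
        linear_combination h2 - h1
    let W : Submodule F (Fin m ⊕ Fin m → F) :=
      { carrier := {x | D x = 0}
        add_mem' := fun {x y} (hx : D x = 0) (hy : D y = 0) => by
          show D (x + y) = 0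
          rw [map_add, hx, hy, add_zero]
        zero_mem' := map_zero D
        smul_mem' := fun d x (hx : D x = 0) => by
          show Q' _ - Q' _ = 0
          change Q' _ - Q' _ = 0 at hx
          rw [Matrix.mulVec_smul, hs', hs']
          linear_combination d ^ 2 * hx }
    have hD : ∀ a ∈ P, ∀ x, D ((a : Matrix (Fin m ⊕ Fin m) (Fin m ⊕ Fin m) F) *ᵥ x) = D x := by
      intro a ha x
      show Q' _ - Q' _ = Q' _ - Q' _
      rw [hQ'fix a ha, show (g : Matrix (Fin m ⊕ Fin m) (Fin m ⊕ Fin m) F) *ᵥ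
        ((a : Matrix (Fin m ⊕ Fin m) (Fin m ⊕ Fin m) F) *ᵥ x) =
        ((g * a * g⁻¹ : GL (Fin m ⊕ Fin m) F) : Matrix (Fin m ⊕ Fin m) (Fin m ⊕ Fin m) F) *ᵥ
          ((g : Matrix (Fin m ⊕ Fin m) (Fin m ⊕ Fin m) F) *ᵥ x) by
          rw [← mul_mulVec, ← mul_mulVec, inv_mul_cancel_right], hQ'fix _ (hPn g hg a ha)]
    have hW : W = ⊤ := by
      refine (irr_iff.1 hP.1 W fun a ha x (hx : D x = 0) => ?_).resolve_left fun hWb => ?_
      · show D _ = 0
        rw [hD a ha, hx]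
      · refine not_le_scalars_of_irr (by simp; omega) hP.1 fun a ha => mem_scalars.2 ⟨1, ?_⟩
        rw [scalarGL_one]
        refine Units.ext (Matrix.toLin'.injective (LinearMap.ext fun x => ?_))
        have hmem : (a : Matrix (Fin m ⊕ Fin m) (Fin m ⊕ Fin m) F) *ᵥ x - x ∈ W := by
          show D _ = 0
          rw [map_sub, hD a ha, sub_self]
        rw [hWb, Submodule.mem_bot, sub_eq_zero] at hmem
        simpa using hmem
    have : v ∈ W := hW ▸ Submodule.mem_top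
    exact sub_eq_zero.1 this
  by_cases hU : ∃ (σ : F ≃+* F) (f : (Fin m ⊕ Fin m → F) → (Fin m ⊕ Fin m → F) → F),
      Cfsg.Geo.IsUnitaryForm σ f ∧ Cfsg.Geo.FixesForm (Cfsg.Geo.matrixSet P) f
  · obtain ⟨σ, f, hu, hufix⟩ := hU
    obtain ⟨q, hq, hσ⟩ := exists_sq_of_involutive' hu.ne_refl hu.involutive
    exact absurd (realisableOver_of_two_forms hq hσ hu hP hufix hf.bilinear hf.nondeg
      (fixesForm_mono hle hfix)) hreal
  exact Or.inr ⟨P, ⟨hle, hPn, hperf, hsimp, hna, fun h _ hc =>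
    hP.mem_scalars (commutator_mem_scalars_comm hperf hc), hP,
    fun F₀ hF₀ hr => hreal ⟨F₀, hF₀, hr⟩⟩, hQ, hU⟩

/-- **Aschbacher's theorem** for the symplectic groups. -/
theorem symp_aschbacher {m : ℕ} (hm : 2 ≤ m) {H : Subgroup (GL (Fin m ⊕ Fin m) F)}
    (hH : H ≤ Cfsg.spGL m F) :
    InSympClassOver H ∨ Cfsg.Geo.InSymplecticResidualClass H := by
  classical
  have : NeZero m := ⟨by omega⟩
  have hf := isRefl_sympForm (F := F) m
  have hfix := fixesForm_spGL hH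
  have hcard : 1 < Fintype.card (Fin m ⊕ Fin m) := by simp; omega
  by_cases hirr : Irr H
  swap
  · left
    rcases reducible_form hf hfix hirr with ⟨W, hWb, -, hts, hle⟩ | ⟨W, hWb, -, hnd, hlt, hle⟩ |
      ⟨k, D, -, hD, hle⟩
    · exact ⟨_, Or.inl ⟨W, hWb, hts, rfl⟩, le_inf hle hH⟩
    · simp only [Fintype.card_sum, Fintype.card_fin] at hlt
      exact ⟨_, Or.inr (Or.inl ⟨W, hWb, hnd, by omega, rfl⟩), le_inf hle hH⟩
    · exact ⟨_, Or.inr (Or.inr (Or.inl ⟨2, k, D, hD, rfl⟩)), le_inf hle hH⟩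
  rcases symp_trichotomy hH hirr (A := H) le_rfl
      (fun g hg a ha => H.mul_mem (H.mul_mem hg ha) (H.inv_mem hg)) with h | hs | habs
  · exact Or.inl h
  · exact absurd hs (not_le_scalars_of_irr hcard hirr)
  obtain ⟨N, ⟨hNH, hNn, hNZ, hNs⟩, hNmin⟩ := (Set.toFinite {N : Subgroup (GL (Fin m ⊕ Fin m) F) |
    N ≤ H ∧ (∀ g ∈ H, ∀ a ∈ N, g * a * g⁻¹ ∈ N) ∧ H ⊓ Cfsg.Geo.scalars (Fin m ⊕ Fin m) F ≤ N ∧
      ¬ N ≤ Cfsg.Geo.scalars (Fin m ⊕ Fin m) F}).exists_minimal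
    ⟨H, le_rfl, fun g hg a ha => H.mul_mem (H.mul_mem hg ha) (H.inv_mem hg), inf_le_left,
      not_le_scalars_of_irr hcard hirr⟩
  have hmin : ∀ M ≤ N, (∀ g ∈ H, ∀ a ∈ M, g * a * g⁻¹ ∈ M) →
      (∀ z ∈ N, z ∈ Cfsg.Geo.scalars (Fin m ⊕ Fin m) F → z ∈ M) →
      M ≤ Cfsg.Geo.scalars (Fin m ⊕ Fin m) F ∨ M = N := by
    intro M hMN hMn hMZ
    by_cases hMs : M ≤ Cfsg.Geo.scalars (Fin m ⊕ Fin m) F
    · exact Or.inl hMs
    · exact Or.inr (le_antisymm hMN (hNmin ⟨hMN.trans hNH, hMn,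
        fun z hz => hMZ z (hNZ hz) hz.2, hMs⟩ hMN))
  rcases symp_trichotomy hH hirr hNH hNn with h | hs | hNabs
  · exact Or.inl h
  · exact absurd hs hNs
  by_cases h2 : ∀ a ∈ N, ∀ b ∈ N, a * b * a⁻¹ * b⁻¹ ∈ Cfsg.Geo.scalars (Fin m ⊕ Fin m) F
  · left
    rcases symp_abelian hcard hf (sympForm_alt m) hNabs (fixesForm_mono hNH hfix) hNn hmin h2 with
      ⟨F₁, hF₁, hreal⟩ | ⟨p, k, hp, hpo, hF, htype, hk, hN2, hcz, hminus⟩
    · exact symp_subfield hH hNabs hNH hNn hF₁ hreal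
    · refine ⟨Cfsg.Geo.subgroupNormalizer N ⊓ Cfsg.spGL m F, ?_, le_inf ?_ hH⟩
      · iterate 8 right
        left
        exact ⟨N, p, k, by simp at hk; omega, htype, hNabs, fun g hg => ⟨1, fun u v => by
          rw [Units.val_one, one_mul]; exact hfix _ ⟨g, hNH hg, rfl⟩ u v⟩, hp, hpo, hF, hN2, hcz,
          hminus, rfl⟩
      · intro g hg
        exact Subgroup.mem_normalizer_iff.2 fun a => ⟨hNn g hg a, fun h => by
          simpa [mul_assoc] using hNn g⁻¹ (H.inv_mem hg) _ h⟩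
  rcases core_or_factors hNabs hNH hNn hmin h2 with
    ⟨hPabs, hperf, hPn, hsimp, hna⟩ | ⟨Q, hQs, hQperf, hQN, hne, hcomm, hgen⟩
  · exact symp_core hm hH ((Subgroup.commutator_le.2 fun a ha b hb =>
        N.mul_mem (N.mul_mem (N.mul_mem ha hb) (N.inv_mem ha)) (N.inv_mem hb)).trans hNH)
      hPabs hperf hPn hsimp hna
  · left
    rcases symp_factors hf (sympForm_alt m) rfl hfix hNabs hNH hNn hQs hQperf hQN hne hcomm hgen
      with ⟨k, t, e, P, f₁, hodd, ht, ht3, hne', hf₁, hstr, hle⟩ | ⟨heven, hQ⟩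
    · refine ⟨_, ?_, le_inf hle hH⟩
      iterate 9 right
      left
      exact ⟨k, t, e, P, f₁, hodd, ht, ht3, hne', hf₁, hstr, rfl⟩
    · exact inSympClassOver_quad hH heven hQ

end CfsgLib.Aschbacher
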