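import Cfsg.Agent.Lib.Aschbacher.UnitaryForm

/-!
A group fixing a unitary form and realised over a subfield leaves a rational structure for the form.
-/

set_option autoImplicit false

namespace CfsgLib.Aschbacher

open Matrix Module

variable {F : Type*} [Field F] {ι : Type} [Fintype ι] [DecidableEq ι]

lemma eq_smul_scalarGL (c : Fˣ) (g : GL ι F) :
    MulAut.conj (scalarGL ι c) g = g := by
  rw [MulAut.conj_apply, scalarGL_comm, mul_inv_cancel_right]

lemma subfieldSubgroup_scalar_mul (F₀ : Subfield F) (c : Fˣ) (P : GL ι F) :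
    Cfsg.Geo.subfieldSubgroup F₀ (scalarGL ι c * P) = Cfsg.Geo.subfieldSubgroup F₀ P := by
  rw [Cfsg.Geo.subfieldSubgroup, Cfsg.Geo.subfieldSubgroup]
  congr 1
  refine MonoidHom.ext fun g => ?_
  show MulAut.conj (scalarGL ι c * P) g = MulAut.conj P g
  rw [map_mul, MulAut.mul_apply, eq_smul_scalarGL]

/-- The elements fixed by the Frobenius of a subfield lie in it. -/
lemma mem_of_pow_card_eq [Fintype F] {F₀ : Subfield F} {x : F} (hx : x ^ Nat.card F₀ = x) :
    x ∈ F₀ := by
  classical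
  haveI : Fintype F₀ := Fintype.ofFinite _
  have hQ : 1 < Nat.card F₀ := by rw [Nat.card_eq_fintype_card]; exact Fintype.one_lt_card
  let p : Polynomial F := Polynomial.X ^ Nat.card F₀ - Polynomial.X
  have hp : p ≠ 0 := FiniteField.X_pow_card_sub_X_ne_zero F hQ
  have hdeg : p.natDegree = Nat.card F₀ := FiniteField.X_pow_card_sub_X_natDegree_eq F hQ
  by_contra hmem
  let T : Finset F := insert x (Finset.univ.filter (· ∈ F₀))
  have hT : T ⊆ p.roots.toFinset := by
    intro y hy
    rw [Multiset.mem_toFinset, Polynomial.mem_roots hp]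
    simp only [T, Finset.mem_insert, Finset.mem_filter, Finset.mem_univ, true_and] at hy
    have hy' : y ^ Nat.card F₀ = y := by
      rcases hy with rfl | hy
      · exact hx
      · rw [Nat.card_eq_fintype_card]
        exact congrArg Subtype.val (FiniteField.pow_card (⟨y, hy⟩ : F₀))
    rw [Polynomial.IsRoot, Polynomial.eval_sub, Polynomial.eval_pow, Polynomial.eval_X, hy', sub_self]
  have h1 := Finset.card_le_card hT
  have h2 := (Multiset.toFinset_card_le p.roots).trans p.card_roots'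
  rw [Finset.card_insert_of_notMem (by simpa using hmem)] at h1
  have h3 : (Finset.univ.filter (· ∈ F₀)).card = Nat.card F₀ := by
    rw [Nat.card_eq_fintype_card, Fintype.card_subtype]
  omega

/-- The Frobenius automorphism of a subfield. -/
lemma exists_frobenius_subfield [Fintype F] (F₀ : Subfield F) :
    ∃ τ : F ≃+* F, (∀ x, τ x = x ^ Nat.card F₀) ∧ (∀ x, τ x = x ↔ x ∈ F₀) := by
  haveI : Fintype F₀ := Fintype.ofFinite _
  obtain ⟨p, hp⟩ := CharP.exists F
  obtain ⟨f, hpp, hF⟩ := FiniteField.card F p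
  haveI : Fact p.Prime := ⟨hpp⟩
  have hchar : CharP F₀ p := (RingHom.charP_iff _ F₀.subtype.injective p).2 hp
  obtain ⟨a, -, hF0⟩ := FiniteField.card F₀ p
  let τ : F ≃+* F := RingEquiv.ofBijective (iterateFrobenius F p a)
    (Finite.injective_iff_bijective.1 (iterateFrobenius F p a).injective)
  have hτ : ∀ x, τ x = x ^ Nat.card F₀ := fun x => by
    rw [Nat.card_eq_fintype_card, hF0]; rfl
  refine ⟨τ, hτ, fun x => ⟨fun h => mem_of_pow_card_eq ((hτ x).symm.trans h), fun h => ?_⟩⟩
  rw [hτ, Nat.card_eq_fintype_card]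
  exact congrArg Subtype.val (FiniteField.pow_card (⟨x, h⟩ : F₀))

/-- The form takes values in `F₀` on a suitable scaling of an `F₀`-structure preserved by an
absolutely irreducible group of isometries. -/
theorem exists_rational_structure [Fintype F] [Nonempty ι] (hι : Odd (Fintype.card ι))
    (hι1 : 1 < Fintype.card ι) {q : ℕ} (hF : Fintype.card F = q ^ 2) {σ : F ≃+* F}
    (hσ : ∀ a, σ a = a ^ q) {f : (ι → F) → (ι → F) → F} (hf : Cfsg.Geo.IsUnitaryForm σ f)
    {P : Subgroup (GL ι F)} (hP : AbsIrr P) (hPf : Cfsg.Geo.FixesForm (Cfsg.Geo.matrixSet P) f)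
    {F₀ : Subfield F} {r : ℕ} (hc : Fintype.card F = Nat.card F₀ ^ r) {B : GL ι F}
    (hB : ∀ s ∈ Cfsg.Geo.matrixSet P, ∀ i j,
      ((B : Matrix ι ι F) * s * ((B⁻¹ : GL ι F) : Matrix ι ι F)) i j ∈ F₀) :
    ∃ d : Fˣ, Cfsg.Geo.IsFormRationalStructure f F₀ 1 (scalarGL ι d * B⁻¹) ∧
      (r = 2 → Odd q) := by
  classical
  have hs := isSesq_of_unitary hf
  obtain ⟨τ, hτ, hτfix⟩ := exists_frobenius_subfield F₀
  have hτσ : ∀ x, τ (σ x) = σ (τ x) := fun x => by rw [hσ, hσ, map_pow]
  let C : Matrix ι ι F := ((B⁻¹ : GL ι F) : Matrix ι ι F)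
  let f₁ : (ι → F) → (ι → F) → F := fun u v => f (C *ᵥ u) (C *ᵥ v)
  have hs₁ : IsSesq σ f₁ := isSesq_comp hs C
  let φ : (ι → F) → (ι → F) := fun u => τ.symm ∘ ((B : Matrix ι ι F) *ᵥ u)
  let f₂ : (ι → F) → (ι → F) → F := fun u v => τ (f₁ (φ u) (φ v))
  have hφadd : ∀ u v, φ (u + v) = φ u + φ v := fun u v => by
    funext i; simp [φ, Matrix.mulVec_add]
  have hφsmul : ∀ (c : F) u, φ (c • u) = τ.symm c • φ u := fun c u => by
    funext i; simp [φ, Matrix.mulVec_smul]
  have hs₂ : IsSesq σ f₂ :=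
    ⟨fun u v w => by simp only [f₂, hφadd, hs₁.add_left, map_add],
      fun c u v => by simp only [f₂, hφsmul, hs₁.smul_left, map_mul, τ.apply_symm_apply],
      fun u v w => by simp only [f₂, hφadd, hs₁.add_right, map_add],
      fun c u v => by
        simp only [f₂, hφsmul, hs₁.smul_right, map_mul, hτσ, τ.apply_symm_apply]⟩
  have hPf₂ : Cfsg.Geo.FixesForm (Cfsg.Geo.matrixSet P) f₂ := by
    intro s hs' u v
    set t := (B : Matrix ι ι F) * s * C with ht
    have hφs : ∀ w, φ (s *ᵥ w) = t *ᵥ φ w := by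
      intro w
      have h1 : (B : Matrix ι ι F) *ᵥ (s *ᵥ w) = t *ᵥ ((B : Matrix ι ι F) *ᵥ w) := by
        simp only [ht, C, Matrix.mulVec_mulVec, mul_assoc, Units.inv_mul, mul_one]
      show τ.symm ∘ _ = _
      rw [h1, comp_mulVec]
      congr 1
      ext i j
      exact τ.symm_apply_eq.2 ((hτfix _).2 (hB s hs' i j)).symm
    have hCt : ∀ w, C *ᵥ (t *ᵥ w) = s *ᵥ (C *ᵥ w) := fun w => by
      simp only [ht, C, Matrix.mulVec_mulVec, ← mul_assoc, Units.inv_mul, one_mul]
    simp only [f₂, f₁, hφs, hCt, hPf s hs']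
  obtain ⟨c, hcs⟩ := exists_eq_smul hP hs hs₂ hf.nondegenerate hPf hPf₂
  set G := Cfsg.Geo.gramMatrix f₁ with hG
  have hGtau : ∀ a b, τ (G a b) = c * G a b := by
    intro a b
    have h := hcs (C *ᵥ Pi.single a 1) (C *ᵥ Pi.single b 1)
    have hφe : ∀ a : ι, φ (C *ᵥ Pi.single a 1) = Pi.single a 1 := by
      intro a
      funext i
      simp only [φ, C, Function.comp_apply, mulVec_inv_cancel]
      by_cases hi : i = a <;> simp [hi]
    simp only [f₂, hφe] at h
    exact h
  obtain ⟨Gu, hGu⟩ : IsUnit G := by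
    refine hs₁.gram_isUnit fun v hv => ?_
    obtain ⟨⟨x, hx⟩, ⟨y, hy⟩⟩ := hf.nondegenerate (C *ᵥ v) (fun h => hv
      (mulVec_injective B⁻¹ (show C *ᵥ v = C *ᵥ 0 by rw [h, Matrix.mulVec_zero])))
    exact ⟨⟨(B : Matrix ι ι F) *ᵥ x, by simpa [f₁, C, inv_mulVec_cancel] using hx⟩,
      ⟨(B : Matrix ι ι F) *ᵥ y, by simpa [f₁, C, inv_mulVec_cancel] using hy⟩⟩
  obtain ⟨a₀, b₀, hg0⟩ : ∃ a b, G a b ≠ 0 := by
    by_contra h
    push Not at h
    exact Gu.ne_zero (hGu.trans (Matrix.ext h))
  set g₀ := G a₀ b₀ with hg₀def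
  have hc0 : c ≠ 0 := by
    intro h
    have := hGtau a₀ b₀
    rw [h, zero_mul] at this
    exact hg0 ((map_eq_zero_iff τ τ.injective).1 this)
  have hratio : ∀ a b, G a b / g₀ ∈ F₀ := fun a b => by
    rw [← hτfix, map_div₀, hGtau, hGtau, mul_div_mul_left _ _ hc0]
  have hσmem : ∀ x ∈ F₀, σ x ∈ F₀ := fun x hx => by rw [hσ]; exact pow_mem hx q
  have hval : ∀ u v : ι → F, (∀ i, u i ∈ F₀) → (∀ i, v i ∈ F₀) → f₁ u v / g₀ ∈ F₀ := by
    intro u v hu hv
    rw [hs₁.eq_dot, ← hG]
    simp only [dotProduct, Matrix.mulVec, Function.comp_apply, Finset.sum_div, Finset.mul_sum]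
    refine F₀.sum_mem fun a _ => F₀.sum_mem fun b _ => ?_
    rw [show u a * (G a b * σ (v b)) / g₀ = u a * (G a b / g₀ * σ (v b)) by ring]
    exact F₀.mul_mem (hu a) (F₀.mul_mem (hratio a b) (hσmem _ (hv b)))
  -- some vector of the structure is not isotropic
  obtain ⟨u, hu, hau⟩ : ∃ u : ι → F, (∀ i, u i ∈ F₀) ∧ f₁ u u ≠ 0 := by
    by_contra hcon
    push Not at hcon
    have hmem : ∀ a i : ι, (Pi.single a (1 : F) : ι → F) i ∈ F₀ := fun a i => by
      rw [Pi.single_apply]; split
      · exact F₀.one_mem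
      · exact F₀.zero_mem
    have hdiag : ∀ a, G a a = 0 := fun a => hcon _ (hmem a)
    have hskew : ∀ a b, G a b = -G b a := by
      intro a b
      have h := hcon (Pi.single a 1 + Pi.single b 1)
        (fun i => F₀.add_mem (hmem a i) (hmem b i))
      rw [hs₁.add_left, hs₁.add_right, hs₁.add_right] at h
      have h' : G a a + G a b + (G b a + G b b) = 0 := h
      rw [hdiag, hdiag] at h'
      linear_combination h'
    let g : (ι → F) → (ι → F) → F := fun u v => u ⬝ᵥ (G *ᵥ v)
    have halt : ∀ v, g v v = 0 := by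
      intro v
      simp only [g, dotProduct, Matrix.mulVec, Finset.mul_sum]
      rw [← Finset.sum_product']
      refine Finset.sum_involution (fun x _ => (x.2, x.1)) ?_ ?_ (fun _ _ => Finset.mem_univ _)
        (fun _ _ => rfl)
      · intro x _
        linear_combination v x.1 * v x.2 * hskew x.1 x.2
      · rintro ⟨a, b⟩ _ hne heq
        simp only [Prod.mk.injEq] at heq
        apply hne
        rw [heq.1, hdiag, zero_mul, mul_zero]
    have heven := even_finrank_of_alternating (f := g) (ι := ι)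
      ⟨fun x y v => add_dotProduct _ _ _, fun c x v => smul_dotProduct _ _ _,
        fun v x y => by simp only [g, Matrix.mulVec_add, dotProduct_add],
        fun c v x => by simp only [g, Matrix.mulVec_smul, dotProduct_smul, smul_eq_mul]⟩
      halt (Fintype.card ι) ⊤ (by simp) (fun w _ hw => by
        have h1 : w ᵥ* G ≠ 0 := by
          intro h0
          apply hw
          exact Matrix.vecMul_injective_iff_isUnit.2 ⟨Gu, hGu⟩ (by simpa using h0)
        obtain ⟨j, hj⟩ := Function.ne_iff.1 h1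
        refine ⟨Pi.single j 1, Submodule.mem_top, ?_⟩
        simpa [g, Matrix.dotProduct_mulVec] using hj)
    exact (Nat.not_odd_iff_even.2 heven) hι
  set a := f₁ u u with hadef
  have hafix : σ a = a := (hf.herm (C *ᵥ u) (C *ᵥ u)).symm
  obtain ⟨d, hd0, hd⟩ := exists_mul_conj_eq hF (inv_ne_zero hau)
    (by rw [← hσ, map_inv₀, hafix])
  have hk : a / g₀ ∈ F₀ := hval u u hu hu
  refine ⟨Units.mk0 d hd0, fun x y hx hy => ?_, fun hr => ?_⟩
  · rw [one_mul, mul_mulVec, mul_mulVec, scalarGL_mulVec, scalarGL_mulVec, hs.smul_left,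
      hs.smul_right, Units.val_mk0, hσ, ← mul_assoc, hd]
    have e : a⁻¹ * f (C *ᵥ x) (C *ᵥ y) = (f₁ x y / g₀) / (a / g₀) := by
      rw [div_div_div_cancel_right₀ hg0, div_eq_inv_mul]
    rw [e]
    exact F₀.div_mem (hval x y hx hy) hk
  · -- odd characteristic for index two
    by_contra hq
    have h2 : (2 : F) = 0 := by
      obtain ⟨p, h, hp, hchar, hh, rfl⟩ := exists_prime_pow hF
      rcases hp.eq_two_or_odd' with rfl | ho
      · exact CharP.cast_eq_zero F 2
      · exact absurd ho.pow hq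
    haveI : CharP F 2 := (CharP.charP_iff_prime_eq_zero Nat.prime_two).2 (by exact_mod_cast h2)
    have hq0 : Nat.card F₀ = q := by
      rw [hr, hF] at hc
      exact (Nat.pow_left_injective two_ne_zero hc).symm
    have hσ0 : ∀ x ∈ F₀, σ x = x := fun x hx => by
      rw [hσ, ← hq0, ← hτ, (hτfix x).2 hx]
    have haF : a ∈ F₀ := (hτfix a).1 (by rw [hτ, hq0, ← hσ, hafix])
    have hg0F : g₀ ∈ F₀ := by
      have := F₀.div_mem haF hk
      rwa [div_div_cancel₀ hau] at this
    have hGmem : ∀ a b, G a b ∈ F₀ := fun a b => by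
      have := F₀.mul_mem (hratio a b) hg0F
      rwa [div_mul_cancel₀ _ hg0] at this
    have hsym : ∀ a b, G a b = G b a := fun a b => by
      rw [← hσ0 _ (hGmem b a)]
      exact hf.herm _ _
    let g : (ι → F) → (ι → F) → F := fun x y =>
      ((B : Matrix ι ι F) *ᵥ x) ⬝ᵥ (G *ᵥ ((B : Matrix ι ι F) *ᵥ y))
    have hPg : ∀ s ∈ Cfsg.Geo.matrixSet P, ∀ x y, g (s *ᵥ x) (s *ᵥ y) = g x y := by
      intro s hs' x y
      set t := (B : Matrix ι ι F) * s * C with ht
      have htB : ∀ w, (B : Matrix ι ι F) *ᵥ (s *ᵥ w) = t *ᵥ ((B : Matrix ι ι F) *ᵥ w) := fun w => by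
        simp only [ht, C, Matrix.mulVec_mulVec, mul_assoc, Units.inv_mul, mul_one]
      have htG : tᵀ * G * t = G := by
        have h1 : tᵀ * G * t.map σ = G := by
          rw [hG, ← hs₁.gram_comp]
          ext a b
          show f (C *ᵥ (t *ᵥ _)) (C *ᵥ (t *ᵥ _)) = f _ _
          simp only [ht, C, Matrix.mulVec_mulVec, ← mul_assoc, Units.inv_mul, one_mul]
          simp only [← Matrix.mulVec_mulVec]
          exact hPf s hs' _ _
        have h3 : t.map σ = t := Matrix.ext fun i j => hσ0 _ (hB s hs' i j)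
        rwa [h3] at h1
      simp only [g, htB]
      rw [Matrix.mulVec_mulVec _ G t, dotProduct_comm, Matrix.dotProduct_mulVec,
        ← Matrix.mulVec_transpose, Matrix.mulVec_mulVec, ← mul_assoc, htG, dotProduct_comm]
    have hgadd : ∀ x y, g (x + y) (x + y) = g x x + g y y := by
      intro x y
      have hxy : g x y = g y x := by
        simp only [g]
        rw [Matrix.dotProduct_mulVec, ← Matrix.mulVec_transpose,
          show Gᵀ = G from Matrix.ext fun a b => hsym b a, dotProduct_comm]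
      simp only [g, Matrix.mulVec_add, dotProduct_add, add_dotProduct] at hxy ⊢
      rw [hxy]
      linear_combination (((B : Matrix ι ι F) *ᵥ y) ⬝ᵥ (G *ᵥ ((B : Matrix ι ι F) *ᵥ x))) * h2
    have hgsmul : ∀ (c : F) x, g (c • x) (c • x) = c ^ 2 * g x x := fun c x => by
      simp only [g, Matrix.mulVec_smul, dotProduct_smul, smul_dotProduct, smul_eq_mul]
      ring
    let Z : Submodule F (ι → F) :=
      { carrier := {x | g x x = 0}
        add_mem' := fun {x y} hx hy => by
          show g _ _ = 0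
          rw [hgadd, hx, hy, add_zero]
        zero_mem' := by show g _ _ = 0; simp [g]
        smul_mem' := fun c x hx => by
          show g _ _ = 0
          rw [hgsmul, hx, mul_zero] }
    rcases irr_iff.1 hP.1 Z (fun s hs' x hx => (hPg _ ⟨s, hs', rfl⟩ x x).trans hx) with h | h
    · obtain ⟨i, j, hij⟩ := Fintype.exists_pair_of_one_lt_card hι1
      let x : ι → F := Pi.single i 1
      let y : ι → F := Pi.single j 1
      have hx0 : g x x ≠ 0 := fun h0 => by
        have : x ∈ Z := h0
        rw [h, Submodule.mem_bot] at this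
        simpa [x] using congrFun this i
      obtain ⟨t, ht⟩ : IsSquare (g y y / g x x) := FiniteField.isSquare_of_char_two
        (ringChar.eq F 2) _
      have hz : t • x + y ∈ Z := by
        show g _ _ = 0
        rw [hgadd, hgsmul, pow_two, ← ht, div_mul_cancel₀ _ hx0]
        linear_combination (g y y) * h2
      rw [h, Submodule.mem_bot] at hz
      have := congrFun hz j
      simp [x, y, hij.symm] at this
    · apply hau
      have h1 : (B : Matrix ι ι F) *ᵥ (C *ᵥ u) = u := mulVec_inv_cancel B u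
      have h2' : C *ᵥ u ∈ Z := h ▸ Submodule.mem_top
      have hu' : σ ∘ u = u := funext fun i => hσ0 _ (hu i)
      have : g (C *ᵥ u) (C *ᵥ u) = 0 := h2'
      simp only [g, h1] at this
      rw [hadef, hs₁.eq_dot, ← hG, hu', this]

end CfsgLib.Aschbacher
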