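import Cfsg.Agent.Lib.Aschbacher.TensorClass
import Cfsg.Agent.Lib.Aschbacher.UnitaryPair

/-!
The orthogonal similitudes of a plus type four-space are tensor products of two plane maps, up
to exchanging the factors.
-/

set_option autoImplicit false

namespace CfsgLib.Aschbacher

open Matrix Module

open scoped Kronecker

variable {F : Type*} [Field F]

/-- The determinant of two vectors of a plane. -/
def dd2 (a c : Fin 2 → F) : F := a 0 * c 1 - a 1 * c 0

lemma dd2_self (a : Fin 2 → F) : dd2 a a = 0 := by simp [dd2, mul_comm]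

lemma dd2_smul_left (l : F) (a c : Fin 2 → F) : dd2 (l • a) c = l * dd2 a c := by
  simp [dd2]; ring

lemma dd2_smul_right (l : F) (a c : Fin 2 → F) : dd2 a (l • c) = l * dd2 a c := by
  simp [dd2]; ring

lemma eq_smul_of_dd2_eq_zero {a c : Fin 2 → F} (h : dd2 a c = 0) (hc : c ≠ 0) :
    ∃ l : F, a = l • c := by
  unfold dd2 at h
  by_cases h0 : c 0 = 0
  · have h1 : c 1 ≠ 0 := fun h1 => hc (by funext i; fin_cases i <;> assumption)
    refine ⟨a 1 / c 1, funext fun i => ?_⟩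
    fin_cases i
    · simp [h0] at h ⊢
      rcases h with h | h
      · exact h
      · exact absurd h h1
    · simp [h1]
  · refine ⟨a 0 / c 0, funext fun i => ?_⟩
    fin_cases i
    · simp [h0]
    · simp only [Fin.isValue, Fin.mk_one, Pi.smul_apply, smul_eq_mul]
      field_simp
      linear_combination -h

/-- The bilinear form of the determinant of a two by two matrix. -/
def detPolar (X Y : Matrix (Fin 2) (Fin 2) F) : F :=
  X 0 0 * Y 1 1 + X 1 1 * Y 0 0 - X 0 1 * Y 1 0 - X 1 0 * Y 0 1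

lemma detPolar_vecMulVec (a b c e : Fin 2 → F) :
    detPolar (vecMulVec a b) (vecMulVec c e) = dd2 a c * dd2 b e := by
  simp [detPolar, dd2, vecMulVec]; ring

lemma exists_vecMulVec_of_det {X : Matrix (Fin 2) (Fin 2) F} (h : X.det = 0) :
    ∃ a b, X = vecMulVec a b := by
  rw [Matrix.det_fin_two] at h
  by_cases h00 : X 0 0 = 0
  · rw [h00, zero_mul, zero_sub, neg_eq_zero, mul_eq_zero] at h
    rcases h with h | h
    · exact ⟨![0, 1], ![X 1 0, X 1 1], by ext i j; fin_cases i <;> fin_cases j <;> simp [h00, h, vecMulVec]⟩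
    · exact ⟨![X 0 1, X 1 1], ![0, 1], by ext i j; fin_cases i <;> fin_cases j <;> simp [h00, h, vecMulVec]⟩
  · refine ⟨![X 0 0, X 1 0], ![1, X 0 1 / X 0 0], ?_⟩
    ext i j
    fin_cases i <;> fin_cases j <;> simp [h00, vecMulVec]
    · field_simp
    · field_simp
      linear_combination h

/-- The plus type form on the tensor product of two planes. -/
def planePair (F : Type*) [Field F] : Matrix (Fin 2 × Fin 2) (Fin 2 × Fin 2) F :=
  omega2 F ⊗ₖ omega2 F

lemma planePair_sim (d : Matrix (Fin 2 × Fin 2) (Fin 2 × Fin 2) F) (i j : Fin 2 × Fin 2) :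
    (dᵀ * planePair F * d) i j =
      detPolar (Matrix.of fun p q => d (p, q) i) (Matrix.of fun p q => d (p, q) j) := by
  simp [Matrix.mul_apply, planePair, Matrix.kroneckerMap_apply, omega2, Fintype.sum_prod_type,
    Fin.sum_univ_two, detPolar]
  ring

/-- A similitude of the plus type four-space is a tensor product, possibly exchanging factors. -/
theorem similitude_decompose (h2 : (2 : F) ≠ 0) {d : Matrix (Fin 2 × Fin 2) (Fin 2 × Fin 2) F}
    {v : F} (hv : v ≠ 0) (hd : dᵀ * planePair F * d = v • planePair F) :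
    ∃ a b : GL (Fin 2) F,
      (∀ p q i j, d (p, q) (i, j) =
        (a : Matrix (Fin 2) (Fin 2) F) p i * (b : Matrix (Fin 2) (Fin 2) F) q j) ∨
      (∀ p q i j, d (p, q) (i, j) =
        (a : Matrix (Fin 2) (Fin 2) F) p j * (b : Matrix (Fin 2) (Fin 2) F) q i) := by
  obtain ⟨M, hM⟩ : ∃ M : Fin 2 × Fin 2 → Matrix (Fin 2) (Fin 2) F,
      ∀ i p q, M i p q = d (p, q) i := ⟨fun i => Matrix.of fun p q => d (p, q) i, fun _ _ _ => rfl⟩
  have hβ : ∀ i j, detPolar (M i) (M j) = v * planePair F i j := by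
    intro i j
    rw [show M i = Matrix.of fun p q => d (p, q) i from Matrix.ext (hM i),
      show M j = Matrix.of fun p q => d (p, q) j from Matrix.ext (hM j), ← planePair_sim, hd]
    rfl
  have hdet : ∀ i, ∃ a b, M i = vecMulVec a b := fun i => by
    refine exists_vecMulVec_of_det ?_
    have h := hβ i i
    have h0 : planePair F i i = 0 := by
      obtain ⟨p, q⟩ := i
      fin_cases p <;> simp [planePair, omega2]
    rw [h0, mul_zero] at h
    rw [Matrix.det_fin_two]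
    have : 2 * (M i 0 0 * M i 1 1 - M i 0 1 * M i 1 0) = 0 := by
      rw [← h]; simp only [detPolar]; ring
    exact (mul_eq_zero.1 this).resolve_left h2
  choose A B hAB using hdet
  have hβ' : ∀ i j, dd2 (A i) (A j) * dd2 (B i) (B j) = v * planePair F i j := fun i j => by
    rw [← detPolar_vecMulVec, ← hAB, ← hAB, hβ]
  have h03 : dd2 (A (0, 0)) (A (1, 1)) * dd2 (B (0, 0)) (B (1, 1)) = v := by
    rw [hβ']; simp [planePair, omega2]
  have h12 : dd2 (A (0, 1)) (A (1, 0)) * dd2 (B (0, 1)) (B (1, 0)) = -v := by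
    rw [hβ']; simp [planePair, omega2]
  obtain ⟨a0, ha0⟩ : ∃ a, A (0, 0) = a := ⟨_, rfl⟩
  obtain ⟨a1, ha1⟩ : ∃ a, A (1, 1) = a := ⟨_, rfl⟩
  obtain ⟨b0, hb0⟩ : ∃ a, B (0, 0) = a := ⟨_, rfl⟩
  obtain ⟨b1, hb1⟩ : ∃ a, B (1, 1) = a := ⟨_, rfl⟩
  rw [ha0, ha1, hb0, hb1] at h03
  have hA : dd2 a0 a1 ≠ 0 := fun h => hv (by rw [← h03, h, zero_mul])
  have hB : dd2 b0 b1 ≠ 0 := fun h => hv (by rw [← h03, h, mul_zero])
  have hz : ∀ i : Fin 2 × Fin 2, i = (0, 1) ∨ i = (1, 0) →
      dd2 (A i) a0 * dd2 (B i) b0 = 0 ∧ dd2 (A i) a1 * dd2 (B i) b1 = 0 ∧ A i ≠ 0 ∧ B i ≠ 0 := by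
    intro i hi
    refine ⟨?_, ?_, fun h => hv ?_, fun h => hv ?_⟩
    · rw [← ha0, ← hb0, hβ']; rcases hi with rfl | rfl <;> simp [planePair, omega2]
    · rw [← ha1, ← hb1, hβ']; rcases hi with rfl | rfl <;> simp [planePair, omega2]
    · rcases hi with rfl | rfl <;> simp [h, dd2] at h12 <;> exact h12
    · rcases hi with rfl | rfl <;> simp [h, dd2] at h12 <;> exact h12
  have hkind : ∀ i : Fin 2 × Fin 2, i = (0, 1) ∨ i = (1, 0) →
      ∃ l : F, M i = l • vecMulVec a0 b1 ∨ M i = l • vecMulVec a1 b0 := by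
    intro i hi
    obtain ⟨h0, h1, hAi, hBi⟩ := hz i hi
    rcases mul_eq_zero.1 h0 with h | h
    · obtain ⟨l, hl⟩ := eq_smul_of_dd2_eq_zero h (fun h0 => hA (by simp [h0, dd2]))
      have hl0 : l ≠ 0 := fun h0 => hAi (by rw [hl, h0, zero_smul])
      rw [hl, dd2_smul_left] at h1
      obtain ⟨k, hk⟩ := eq_smul_of_dd2_eq_zero
        ((mul_eq_zero.1 h1).resolve_left (mul_ne_zero hl0 hA)) (fun h0 => hB (by simp [h0, dd2]))
      exact ⟨l * k, Or.inl (by rw [hAB, hl, hk, smul_vecMulVec, vecMulVec_smul, smul_smul])⟩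
    · obtain ⟨l, hl⟩ := eq_smul_of_dd2_eq_zero h (fun h0 => hB (by simp [h0, dd2]))
      have hl0 : l ≠ 0 := fun h0 => hBi (by rw [hl, h0, zero_smul])
      rw [hl, dd2_smul_left] at h1
      obtain ⟨k, hk⟩ := eq_smul_of_dd2_eq_zero
        ((mul_eq_zero.1 h1).resolve_right (mul_ne_zero hl0 hB)) (fun h0 => hA (by simp [h0, dd2]))
      exact ⟨k * l, Or.inr (by rw [hAB, hl, hk, smul_vecMulVec, vecMulVec_smul, smul_smul])⟩
  obtain ⟨l, hl⟩ := hkind (0, 1) (Or.inl rfl)
  obtain ⟨k, hk⟩ := hkind (1, 0) (Or.inr rfl)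
  have hh : detPolar (M (0, 1)) (M (1, 0)) = -v := by rw [hβ]; simp [planePair, omega2]
  have h00 : M (0, 0) = vecMulVec a0 b0 := by rw [hAB, ha0, hb0]
  have h11 : M (1, 1) = vecMulVec a1 b1 := by rw [hAB, ha1, hb1]
  have hne : detPolar (M (0, 1)) (M (1, 0)) ≠ 0 := hh ▸ neg_ne_zero.2 hv
  rcases hl with hl | hl <;> rcases hk with hk | hk
  · refine absurd ?_ hne
    rw [hl, hk, ← smul_vecMulVec, ← smul_vecMulVec, detPolar_vecMulVec, dd2_smul_left, dd2_smul_right,
      dd2_self]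
    ring
  rotate_left 2
  · refine absurd ?_ hne
    rw [hl, hk, ← smul_vecMulVec, ← smul_vecMulVec, detPolar_vecMulVec, dd2_smul_left, dd2_smul_right,
      dd2_self]
    ring
  all_goals
    rw [hl, hk, ← smul_vecMulVec, ← smul_vecMulVec, detPolar_vecMulVec, dd2_smul_left,
      dd2_smul_right] at hh
    have hlk : l * k = 1 := by
      refine mul_right_cancel₀ hv ?_
      simp only [dd2] at hh h03
      linear_combination -hh + l * k * (-1 : F) * h03
  · have hk0 : k ≠ 0 := fun h => by rw [h, mul_zero] at hlk; exact zero_ne_one hlk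
    have hl0 : l ≠ 0 := fun h => by rw [h, zero_mul] at hlk; exact zero_ne_one hlk
    let A' : Matrix (Fin 2) (Fin 2) F := !![a0 0, k * a1 0; a0 1, k * a1 1]
    let B' : Matrix (Fin 2) (Fin 2) F := !![b0 0, l * b1 0; b0 1, l * b1 1]
    have hA' : A'.det ≠ 0 := by
      rw [show A'.det = k * dd2 a0 a1 by simp [A', Matrix.det_fin_two, dd2]; ring]
      exact mul_ne_zero hk0 hA
    have hB' : B'.det ≠ 0 := by
      rw [show B'.det = l * dd2 b0 b1 by simp [B', Matrix.det_fin_two, dd2]; ring]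
      exact mul_ne_zero hl0 hB
    refine ⟨Matrix.GeneralLinearGroup.mkOfDetNeZero A' hA',
      Matrix.GeneralLinearGroup.mkOfDetNeZero B' hB', Or.inl fun p q i j => ?_⟩
    rw [← hM]
    fin_cases i <;> fin_cases j <;> fin_cases p <;> fin_cases q <;>
      simp [h00, hl, hk, h11, A', B', vecMulVec] <;>
      first
        | ring1
        | linear_combination (-(a1 0 * b1 0)) * hlk
        | linear_combination (-(a1 0 * b1 1)) * hlk
        | linear_combination (-(a1 1 * b1 0)) * hlk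
        | linear_combination (-(a1 1 * b1 1)) * hlk
  · have hk0 : k ≠ 0 := fun h => by rw [h, mul_zero] at hlk; exact zero_ne_one hlk
    have hl0 : l ≠ 0 := fun h => by rw [h, zero_mul] at hlk; exact zero_ne_one hlk
    let A' : Matrix (Fin 2) (Fin 2) F := !![a0 0, l * a1 0; a0 1, l * a1 1]
    let B' : Matrix (Fin 2) (Fin 2) F := !![b0 0, k * b1 0; b0 1, k * b1 1]
    have hA' : A'.det ≠ 0 := by
      rw [show A'.det = l * dd2 a0 a1 by simp [A', Matrix.det_fin_two, dd2]; ring]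
      exact mul_ne_zero hl0 hA
    have hB' : B'.det ≠ 0 := by
      rw [show B'.det = k * dd2 b0 b1 by simp [B', Matrix.det_fin_two, dd2]; ring]
      exact mul_ne_zero hk0 hB
    refine ⟨Matrix.GeneralLinearGroup.mkOfDetNeZero A' hA',
      Matrix.GeneralLinearGroup.mkOfDetNeZero B' hB', Or.inr fun p q i j => ?_⟩
    rw [← hM]
    fin_cases i <;> fin_cases j <;> fin_cases p <;> fin_cases q <;>
      simp [h00, hl, hk, h11, A', B', vecMulVec] <;>
      first
        | ring1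
        | linear_combination (-(a1 0 * b1 0)) * hlk
        | linear_combination (-(a1 0 * b1 1)) * hlk
        | linear_combination (-(a1 1 * b1 0)) * hlk
        | linear_combination (-(a1 1 * b1 1)) * hlk

/-- A symmetric matrix with a totally singular plane is congruent to the pair of planes. -/
theorem exists_planePair_congr (h2 : (2 : F) ≠ 0) {G : Matrix (Fin 2 × Fin 2) (Fin 2 × Fin 2) F}
    (hG : IsUnit G) (hsym : Gᵀ = G) {U : Submodule F (Fin 2 × Fin 2 → F)} (hU : finrank F U = 2)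
    (hts : ∀ u ∈ U, u ⬝ᵥ (G *ᵥ u) = 0) :
    ∃ C : GL (Fin 2 × Fin 2) F, (C : Matrix (Fin 2 × Fin 2) (Fin 2 × Fin 2) F)ᵀ * G *
      (C : Matrix (Fin 2 × Fin 2) (Fin 2 × Fin 2) F) = planePair F := by
  let f : (Fin 2 × Fin 2 → F) →ₗ[F] (Fin 2 × Fin 2 → F) →ₗ[F] F :=
    LinearMap.mk₂ F (fun x y => x ⬝ᵥ (G *ᵥ y)) (fun x y z => add_dotProduct _ _ _)
      (fun c x y => smul_dotProduct _ _ _) (fun x y z => by rw [Matrix.mulVec_add, dotProduct_add])
      (fun c x y => by rw [Matrix.mulVec_smul, dotProduct_smul])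
  have hfa : ∀ x y, f x y = x ⬝ᵥ (G *ᵥ y) := fun x y => rfl
  have hfs : ∀ x y, f y x = f x y := fun x y => by
    rw [hfa, hfa, dotProduct_comm, ← Matrix.vecMul_transpose, ← Matrix.dotProduct_mulVec, hsym]
  have hfU : ∀ x ∈ U, ∀ y ∈ U, f x y = 0 := fun x hx y hy => by
    have h : f (x + y) (x + y) = 0 := hts _ (U.add_mem hx hy)
    simp only [map_add, LinearMap.add_apply] at h
    rw [hfs x y, show f x x = 0 from hts x hx,
      show f y y = 0 from hts y hy] at h
    exact (mul_eq_zero.1 (show (2 : F) * f x y = 0 by linear_combination h)).resolve_left h2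
  let b := Module.finBasisOfFinrankEq F U hU
  obtain ⟨u₁, hu₁⟩ : ∃ u, ((b 0 : U) : Fin 2 × Fin 2 → F) = u := ⟨_, rfl⟩
  obtain ⟨u₂, hu₂⟩ : ∃ u, ((b 1 : U) : Fin 2 × Fin 2 → F) = u := ⟨_, rfl⟩
  have hm₁ : u₁ ∈ U := hu₁ ▸ (b 0).2
  have hm₂ : u₂ ∈ U := hu₂ ▸ (b 1).2
  have hsurj : Function.Surjective ((f u₁).prod (f u₂)) := by
    rw [← LinearMap.dualMap_injective_iff, injective_iff_map_eq_zero]
    intro φ hφ
    have h1 : ∀ y, φ (1, 0) * f u₁ y + φ (0, 1) * f u₂ y = 0 := fun y => by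
      have := LinearMap.congr_fun hφ y
      simp only [LinearMap.dualMap_apply, LinearMap.prod_apply, Function.prod_apply,
        LinearMap.zero_apply] at this
      have e : (f u₁ y, f u₂ y) = f u₁ y • ((1 : F), (0 : F)) + f u₂ y • ((0 : F), (1 : F)) := by simp
      rw [e, map_add, map_smul, map_smul, smul_eq_mul, smul_eq_mul] at this
      linear_combination this
    obtain ⟨z, hz⟩ : ∃ z, φ (1, 0) • u₁ + φ (0, 1) • u₂ = z := ⟨_, rfl⟩
    have hz0 : z = 0 := by
      have hzv : z ᵥ* G = 0 := by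
        funext i
        have := h1 (Pi.single i 1)
        have e : f z (Pi.single i 1) = φ (1, 0) * f u₁ (Pi.single i 1) + φ (0, 1) * f u₂ (Pi.single i 1) := by
          simp [← hz]
        rw [← e, hfa, Matrix.dotProduct_mulVec] at this
        simpa using this
      exact Matrix.vecMul_injective_iff_isUnit.2 hG (hzv.trans (Matrix.zero_vecMul G).symm)
    have hli := b.linearIndependent
    rw [Fintype.linearIndependent_iff] at hli
    have hb := hli ![φ (1, 0), φ (0, 1)] (Subtype.ext (by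
      rw [Fin.sum_univ_two]
      simpa [hu₁, hu₂] using hz.trans hz0))
    refine LinearMap.ext fun p => ?_
    rw [show p = p.1 • ((1 : F), (0 : F)) + p.2 • ((0 : F), (1 : F)) by simp, map_add, map_smul, map_smul,
      show φ (1, 0) = 0 from hb 0, show φ (0, 1) = 0 from hb 1]
    simp
  obtain ⟨x₁, hx₁⟩ := hsurj (1, 0)
  obtain ⟨x₂, hx₂⟩ := hsurj (0, 1)
  simp only [LinearMap.prod_apply, Function.prod_apply, Prod.mk.injEq] at hx₁ hx₂
  obtain ⟨w₁, hw₁⟩ : ∃ w, x₁ - (f x₁ x₁ / 2) • u₁ = w := ⟨_, rfl⟩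
  obtain ⟨w₂, hw₂⟩ : ∃ w, x₂ - f x₂ w₁ • u₁ - (f x₂ x₂ / 2) • u₂ = w := ⟨_, rfl⟩
  have e11 := hfU _ hm₁ _ hm₁
  have e12 := hfU _ hm₁ _ hm₂
  have e22 := hfU _ hm₂ _ hm₂
  have e21 := hfU _ hm₂ _ hm₁
  have a1 : f u₁ w₁ = 1 := by simp [← hw₁, e11, hx₁.1]
  have a2 : f u₂ w₁ = 0 := by simp [← hw₁, e21, hx₁.2]
  have a3 : f w₁ w₁ = 0 := by
    simp [← hw₁, e11, hx₁.1, hfs u₁ x₁]
    field_simp
    ring
  have c1 : f u₁ w₂ = 0 := by simp [← hw₂, e11, e12, hx₂.1]
  have c2 : f u₂ w₂ = 1 := by simp [← hw₂, e21, e22, hx₂.2]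
  have c4 : f w₁ w₂ = 0 := by
    simp [← hw₂, hfs u₁ w₁, hfs u₂ w₁, a1, a2, hfs x₂ w₁]
  have c3 : f w₂ w₂ = 0 := by
    simp [← hw₂, e11, e12, e21, e22, hx₂.1, hx₂.2, hfs u₁ x₂, hfs u₂ x₂]
    field_simp
    ring
  let col : Fin 2 × Fin 2 → Fin 2 × Fin 2 → F := fun p => ![![u₁, u₂], ![-w₂, w₁]] p.1 p.2
  let C : Matrix (Fin 2 × Fin 2) (Fin 2 × Fin 2) F := Matrix.of fun i p => col p i
  have hC : Cᵀ * G * C = planePair F := by
    ext p r
    have hpr : (Cᵀ * G * C) p r = f (col p) (col r) := by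
      rw [mul_assoc, hfa]
      rfl
    rw [hpr]
    obtain ⟨p1, p2⟩ := p
    obtain ⟨r1, r2⟩ := r
    fin_cases p1 <;> fin_cases p2 <;> fin_cases r1 <;> fin_cases r2 <;>
      simp [col, planePair, omega2, e11, e12, e21, e22, a1, a2, a3, c1, c2, c3, c4,
        hfs u₁ w₁, hfs u₁ w₂, hfs u₂ w₁, hfs u₂ w₂, hfs w₁ w₂]
  have hdet : C.det ≠ 0 := by
    intro h
    have := congrArg Matrix.det hC
    rw [Matrix.det_mul, h, mul_zero, planePair, Matrix.det_kronecker, omega2] at this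
    simp [Matrix.det_fin_two] at this
  exact ⟨Matrix.GeneralLinearGroup.mkOfDetNeZero C hdet, hC⟩

end CfsgLib.Aschbacher
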