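import Cfsg.Agent.Lib.Aschbacher.Frame
import Cfsg.Agent.Lib.Aschbacher.UnitaryRational

/-!
Quadratic forms in odd characteristic: perpendicular subspaces of invariant subspaces, self-adjoint
fields, rational structures, unitary automorphisms.
-/

set_option autoImplicit false

namespace CfsgLib.Aschbacher

open Matrix Module

variable {F : Type*} [Field F] {ι : Type} [Fintype ι] [DecidableEq ι] {Q : (ι → F) → F}

lemma mem_isometryGroup {g : GL ι F} :
    g ∈ Cfsg.isometryGroup F Q ↔ ∀ v, Q ((g : Matrix ι ι F) *ᵥ v) = Q v :=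
  ⟨fun h v => h v v, fun h u _ => h u⟩

lemma fixesQuad_of_le {H : Subgroup (GL ι F)} (hH : H ≤ Cfsg.isometryGroup F Q) :
    Cfsg.Geo.FixesQuadForm (Cfsg.Geo.matrixSet H) Q := by
  rintro _ ⟨g, hg, rfl⟩
  exact mem_isometryGroup.1 (hH hg)

lemma fixesPolar_of_le {H : Subgroup (GL ι F)} (hH : H ≤ Cfsg.isometryGroup F Q) :
    Cfsg.Geo.FixesForm (Cfsg.Geo.matrixSet H) (QuadraticMap.polar Q) :=
  fixesForm_polar (fixesQuad_of_le hH)

lemma nondegenerateOn_polar (hQ : Cfsg.Geo.IsNondegenerateQuadraticForm Q)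
    {W : Submodule F (ι → F)}
    (h : W ⊓ perp (isSesq_of_bilinear hQ.polar_bilinear) W = ⊥) :
    Cfsg.Geo.IsNondegenerateOn (QuadraticMap.polar Q) W := by
  intro w hw hw0
  obtain ⟨x, hx, hwx⟩ : ∃ x ∈ W, QuadraticMap.polar Q w x ≠ 0 := by
    by_contra hcon
    push Not at hcon
    exact hw0 ((Submodule.mem_bot F).1 (h ▸ ⟨hw, hcon⟩))
  exact ⟨⟨x, hx, by rwa [QuadraticMap.polar_comm]⟩, x, hx, hwx⟩

/-- If `W` meets its perpendicular trivially, so does the perpendicular. -/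
lemma perp_inf_perp (hQ : Cfsg.Geo.IsNondegenerateQuadraticForm Q) {W : Submodule F (ι → F)}
    (h : W ⊓ perp (isSesq_of_bilinear hQ.polar_bilinear) W = ⊥) :
    finrank F W + finrank F (perp (isSesq_of_bilinear hQ.polar_bilinear) W) = Fintype.card ι ∧
      perp (isSesq_of_bilinear hQ.polar_bilinear) W ⊓
        perp (isSesq_of_bilinear hQ.polar_bilinear)
          (perp (isSesq_of_bilinear hQ.polar_bilinear) W) = ⊥ := by
  set hs := isSesq_of_bilinear hQ.polar_bilinear
  have h1 := card_le_finrank_add_perp hs W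
  have h3 := Submodule.finrank_sup_add_finrank_inf_eq W (perp hs W)
  rw [h, finrank_bot, add_zero] at h3
  have h4 := Submodule.finrank_le (W ⊔ perp hs W)
  rw [Module.finrank_fintype_fun_eq_card] at h4
  have hsup : W ⊔ perp hs W = ⊤ := by
    refine Submodule.eq_top_of_finrank_eq ?_
    rw [Module.finrank_fintype_fun_eq_card]; omega
  refine ⟨by omega, eq_bot_iff.2 fun v hv => (Submodule.mem_bot F).2 ?_⟩
  by_contra hv0
  obtain ⟨-, x, hx⟩ := hQ.nondegenerate v hv0
  obtain ⟨w, hw, y, hy, rfl⟩ := Submodule.mem_sup.1 (hsup ▸ Submodule.mem_top : x ∈ W ⊔ perp hs W)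
  rw [hs.add_right, hv.1 w hw, hv.2 y hy, add_zero] at hx
  exact hx rfl

lemma quad_sub_smul_self (hQ : Cfsg.Geo.IsNondegenerateQuadraticForm Q) (x e : ι → F) (c : F)
    (he : Q e = 0) : Q (x + c • e) = Q x + c * QuadraticMap.polar Q x e := by
  have h := hQ.polar_bilinear.smul_right c x e
  simp only [QuadraticMap.polar, hQ.smul, he, mul_zero, sub_zero] at h
  simp only [QuadraticMap.polar, he, sub_zero]
  linear_combination h

/-- In a plus plane over three elements the norm one vectors are a single pair. -/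
lemma exists_axis_plus_plane [Fintype F] (hQ : Cfsg.Geo.IsNondegenerateQuadraticForm Q)
    (h2 : (2 : F) ≠ 0) (h3 : Fintype.card F = 3) {W : Submodule F (ι → F)}
    (hdim : finrank F W = 2) (hnd : Cfsg.Geo.IsNondegenerateOn (QuadraticMap.polar Q) W)
    (hplus : Cfsg.Geo.IsPlusTypeOn Q W) :
    ∃ a ∈ W, Q a = 1 ∧ ∀ w ∈ W, Q w = 1 → w = a ∨ w = -a := by
  classical
  obtain ⟨U, hUW, hUs, hUdim⟩ := hplus
  have hU1 : finrank F U = 1 := by omega
  obtain ⟨e, he, he0⟩ := Submodule.exists_mem_ne_zero_of_ne_bot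
    (show U ≠ ⊥ from fun h => by rw [h, finrank_bot] at hU1; omega)
  have hQe : Q e = 0 := hUs e he
  have hs := isSesq_of_bilinear hQ.polar_bilinear
  obtain ⟨-, x₀, hx₀, hex₀⟩ := hnd e (hUW he) he0
  set t := QuadraticMap.polar Q e x₀
  let x := t⁻¹ • x₀
  have hex : QuadraticMap.polar Q e x = 1 := by
    show QuadraticMap.polar Q e (t⁻¹ • x₀) = 1
    rw [hQ.polar_bilinear.smul_right]
    exact inv_mul_cancel₀ hex₀
  let y := x + (-Q x) • e
  have hyW : y ∈ W := add_mem (W.smul_mem _ hx₀) (W.smul_mem _ (hUW he))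
  have hQy : Q y = 0 := by
    rw [quad_sub_smul_self hQ x e _ hQe, QuadraticMap.polar_comm, hex]; ring
  have hey : QuadraticMap.polar Q e y = 1 := by
    show QuadraticMap.polar Q e (x + (-Q x) • e) = 1
    rw [hQ.polar_bilinear.add_right, hex, hQ.polar_bilinear.smul_right, polar_self hQ, hQe]
    ring
  have hQab : ∀ α β : F, Q (α • e + β • y) = α * β := by
    intro α β
    have h := hQ.polar_bilinear.smul_left α e (β • y)
    rw [hQ.polar_bilinear.smul_right β e y, hey] at h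
    simp only [QuadraticMap.polar, hQ.smul, hQe, hQy] at h
    linear_combination h
  have hli : LinearIndependent F ![e, y] := by
    rw [LinearIndependent.pair_iff]
    intro α β hαβ
    have h1 := hQ.polar_bilinear.add_right e (α • e) (β • y)
    have h1' := hQ.polar_bilinear.add_right y (α • e) (β • y)
    rw [hαβ, hQ.polar_bilinear.smul_right, hQ.polar_bilinear.smul_right] at h1 h1'
    have hz : ∀ v, QuadraticMap.polar Q v (0 : ι → F) = 0 := fun v => by
      simpa using hQ.polar_bilinear.smul_right 0 v 0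
    rw [hz, polar_self hQ, hQe, hey] at h1
    rw [hz, polar_self hQ, hQy, QuadraticMap.polar_comm, hey] at h1'
    exact ⟨by linear_combination -h1', by linear_combination -h1⟩
  have hspan : Submodule.span F (Set.range ![e, y]) = W := by
    refine Submodule.eq_of_le_of_finrank_le (Submodule.span_le.2 ?_) ?_
    · rintro _ ⟨i, rfl⟩
      fin_cases i <;> simp [hUW he, hyW]
    · rw [finrank_span_eq_card hli, hdim]; simp
  have hfield : ∀ c : F, c ≠ 0 → c = 1 ∨ c = -1 := by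
    intro c hc
    have := FiniteField.pow_card_sub_one_eq_one c hc
    rw [h3] at this
    exact sq_eq_one_iff.1 this
  refine ⟨(1 : F) • e + (1 : F) • y, add_mem (W.smul_mem _ (hUW he)) (W.smul_mem _ hyW),
    by rw [hQab, one_mul], fun w hw hQw => ?_⟩
  rw [← hspan, Submodule.mem_span_range_iff_exists_fun] at hw
  obtain ⟨c, rfl⟩ := hw
  simp only [Fin.sum_univ_two, Matrix.cons_val_zero, Matrix.cons_val_one] at hQw ⊢
  rw [hQab] at hQw
  rcases hfield (c 0) (left_ne_zero_of_mul_eq_one hQw) with h | h <;> rw [h] at hQw ⊢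
  · left; rw [show c 1 = 1 by linear_combination hQw]
  · right; rw [show c 1 = -1 by linear_combination -hQw]; simp only [neg_smul, neg_add_rev]; abel

/-- A reducible group of isometries in odd dimension fixes a totally singular subspace or a
non-degenerate one of even dimension, which is not a plus plane over three elements. -/
theorem reducible_orth [Fintype F] (hQ : Cfsg.Geo.IsNondegenerateQuadraticForm Q) (h2 : (2 : F) ≠ 0)
    (hodd : Odd (Fintype.card ι)) (hcard : 5 ≤ Fintype.card ι)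
    {H : Subgroup (GL ι F)} (hH : H ≤ Cfsg.isometryGroup F Q) (hirr : ¬ Irr H) :
    (∃ W : Submodule F (ι → F), W ≠ ⊥ ∧ Cfsg.Geo.IsTotallySingularQuad Q W ∧ W ≠ ⊤ ∧
        H ≤ Cfsg.Geo.subspaceStabilizer W) ∨
    (∃ W : Submodule F (ι → F), W ≠ ⊥ ∧ Even (finrank F W) ∧
        Cfsg.Geo.IsNondegenerateOn (QuadraticMap.polar Q) W ∧
        ¬ (Fintype.card F = 3 ∧ finrank F W = 2 ∧ Cfsg.Geo.IsPlusTypeOn Q W) ∧ W ≠ ⊤ ∧
        H ≤ Cfsg.Geo.subspaceStabilizer W) := by
  have hs := isSesq_of_bilinear hQ.polar_bilinear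
  have hHf := fixesPolar_of_le hH
  rw [irr_iff] at hirr
  push Not at hirr
  obtain ⟨W, hW, hWb, hWt⟩ := hirr
  by_cases hrad : W ⊓ perp hs W = ⊥
  swap
  · refine Or.inl ⟨_, hrad, fun w hw => ?_, fun h => hWt (eq_top_iff.2 (h ▸ inf_le_left)),
      le_subspaceStabilizer (inv_inf H hW (inv_perp hs hHf hW))⟩
    have := hw.2 w hw.1
    rw [polar_self hQ] at this
    exact (mul_eq_zero.1 this).resolve_left h2
  right
  obtain ⟨hdim, hperp⟩ := perp_inf_perp hQ hrad
  obtain ⟨U, hU, hUb, hUe, hUnd⟩ : ∃ U, Inv H U ∧ U ≠ ⊥ ∧ Even (finrank F U) ∧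
      Cfsg.Geo.IsNondegenerateOn (QuadraticMap.polar Q) U := by
    have hWpos : finrank F W ≠ 0 := fun h => hWb (Submodule.finrank_eq_zero.1 h)
    have hPpos : finrank F (perp hs W) ≠ 0 := by
      intro h
      refine hWt (Submodule.eq_top_of_finrank_eq ?_)
      rw [Module.finrank_fintype_fun_eq_card]; omega
    rcases Nat.even_or_odd (finrank F W) with he | ho
    · exact ⟨W, hW, hWb, he, nondegenerateOn_polar hQ hrad⟩
    · refine ⟨_, inv_perp hs hHf hW, fun h => hPpos (by rw [h, finrank_bot]), ?_,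
        nondegenerateOn_polar hQ hperp⟩
      rw [← hdim, Nat.odd_add] at hodd
      exact hodd.1 ho
  have hUt : ∀ U : Submodule F (ι → F), Even (finrank F U) → U ≠ ⊤ := by
    rintro U he rfl
    rw [finrank_top, Module.finrank_fintype_fun_eq_card] at he
    exact Nat.not_even_iff_odd.2 hodd he
  by_cases hex : Fintype.card F = 3 ∧ finrank F U = 2 ∧ Cfsg.Geo.IsPlusTypeOn Q U
  swap
  · exact ⟨U, hUb, hUe, hUnd, hex, hUt U hUe, le_subspaceStabilizer hU⟩
  obtain ⟨h3, hU2, hplus⟩ := hex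
  obtain ⟨a, ha, hQa, huniq⟩ := exists_axis_plus_plane hQ h2 h3 hU2 hUnd hplus
  let A : Submodule F (ι → F) := Submodule.span F {a}
  have ha0 : a ≠ 0 := by
    rintro rfl
    have h := hQ.smul 0 0
    rw [zero_smul, zero_pow two_ne_zero, zero_mul] at h
    exact zero_ne_one (h.symm.trans hQa)
  have hA : Inv H A := by
    intro g hg v hv
    obtain ⟨c, rfl⟩ := Submodule.mem_span_singleton.1 hv
    rw [Matrix.mulVec_smul]
    refine A.smul_mem _ ?_
    rcases huniq _ (hU g hg a ha) ((mem_isometryGroup.1 (hH hg) a).trans hQa) with h | h <;> rw [h]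
    · exact Submodule.mem_span_singleton_self a
    · exact neg_mem (Submodule.mem_span_singleton_self a)
  have hAr : A ⊓ perp hs A = ⊥ := by
    refine eq_bot_iff.2 fun v hv => (Submodule.mem_bot F).2 ?_
    obtain ⟨c, rfl⟩ := Submodule.mem_span_singleton.1 hv.1
    have h := hv.2 a (Submodule.mem_span_singleton_self a)
    rw [hs.smul_left, polar_self hQ, hQa, mul_one] at h
    rw [(mul_eq_zero.1 h).resolve_right h2, zero_smul]
  obtain ⟨hd, hp'⟩ := perp_inf_perp hQ hAr
  have hA1 : finrank F A = 1 := finrank_span_singleton ha0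
  have he : Even (finrank F (perp hs A)) := by
    obtain ⟨k, hk⟩ := hodd
    exact ⟨k, by omega⟩
  exact ⟨_, fun h => by rw [h, finrank_bot] at hd; omega, he, nondegenerateOn_polar hQ hp',
    fun h => by omega, hUt _ he, le_subspaceStabilizer (inv_perp hs hHf hA)⟩

/-- A group of isometries spanning inside a field of odd degree with trivial commutant outside it
consists of scalars. -/
theorem le_scalars_of_field (hQ : Cfsg.Geo.IsNondegenerateQuadraticForm Q) (h2 : (2 : F) ≠ 0)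
    (hodd : Odd (Fintype.card ι)) {N : Subgroup (GL ι F)} (hN : N ≤ Cfsg.isometryGroup F Q)
    (hK : Cfsg.Geo.IsFieldSubalgebra (Fintype.card ι) (commutant N)) :
    N ≤ Cfsg.Geo.scalars ι F := by
  classical
  haveI : Nonempty ι := Fintype.card_pos_iff.1 hodd.pos
  have hs := isSesq_of_bilinear hQ.polar_bilinear
  set f := QuadraticMap.polar Q
  have hNf := fixesPolar_of_le hN
  set K := commutant N
  -- elements of `N` lie in `K`
  let φ : ↥K →ₗ[F] (ι → F) :=
    { toFun := fun k => (k : Matrix ι ι F) *ᵥ Pi.single (Classical.arbitrary ι) 1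
      map_add' := fun x y => Matrix.add_mulVec _ _ _
      map_smul' := fun c x => Matrix.smul_mulVec _ _ _ }
  have hφinj : Function.Injective φ := by
    rw [← LinearMap.ker_eq_bot, LinearMap.ker_eq_bot']
    intro k hk
    by_contra hk0
    obtain ⟨y, hy, hyk⟩ := hK.inv k k.2 (fun h => hk0 (Subtype.ext h))
    have hk' : (k : Matrix ι ι F) *ᵥ Pi.single (Classical.arbitrary ι) 1 = 0 := hk
    have hyk' : y * (k : Matrix ι ι F) = 1 := mul_eq_one_comm.1 hyk
    have := congrArg (y *ᵥ ·) hk'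
    simp only [Matrix.mulVec_mulVec, hyk', Matrix.one_mulVec, Matrix.mulVec_zero] at this
    simpa using congrFun this (Classical.arbitrary ι)
  have hφsurj : Function.Surjective φ := (LinearMap.injective_iff_surjective_of_finrank_eq_finrank
    (by rw [Module.finrank_fintype_fun_eq_card]; exact hK.finrank_eq)).1 hφinj
  have hNK : ∀ a ∈ N, (a : Matrix ι ι F) ∈ K := by
    intro a ha
    obtain ⟨k₀, hk₀⟩ := hφsurj ((a : Matrix ι ι F) *ᵥ Pi.single (Classical.arbitrary ι) 1)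
    have : (a : Matrix ι ι F) = k₀ := by
      refine Matrix.toLin'.injective (LinearMap.ext fun v => ?_)
      obtain ⟨k, rfl⟩ := hφsurj v
      show (a : Matrix ι ι F) *ᵥ ((k : Matrix ι ι F) *ᵥ _) = (k₀ : Matrix ι ι F) *ᵥ _
      rw [Matrix.mulVec_mulVec, mem_commutant.1 k.2 a ha, ← Matrix.mulVec_mulVec]
      show (k : Matrix ι ι F) *ᵥ _ = (k₀ : Matrix ι ι F) *ᵥ ((k : Matrix ι ι F) *ᵥ _)
      rw [← hk₀]
      show (k : Matrix ι ι F) *ᵥ ((k₀ : Matrix ι ι F) *ᵥ _) = _
      rw [Matrix.mulVec_mulVec, hK.comm _ k.2 _ k₀.2, ← Matrix.mulVec_mulVec]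
    rw [this]; exact k₀.2
  -- adjoints
  have hadj := adjointClosed_commutant hs hQ.nondegenerate hNf
  choose st hst hstf using hadj
  have huniq : ∀ M M' : Matrix ι ι F, (∀ u v, f u (M *ᵥ v) = f u (M' *ᵥ v)) → M = M' := by
    intro M M' h
    refine Matrix.toLin'.injective (LinearMap.ext fun v => ?_)
    rw [Matrix.toLin'_apply, Matrix.toLin'_apply]
    by_contra hne
    obtain ⟨⟨u, hu⟩, -⟩ := hQ.nondegenerate (M *ᵥ v - M' *ᵥ v) (sub_ne_zero.2 hne)
    refine hu ?_
    show f u _ = 0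
    have : f u (M *ᵥ v - M' *ᵥ v) = f u (M *ᵥ v) - f u (M' *ᵥ v) :=
      map_sub (AddMonoidHom.mk' (fun z => f u z) (hs.add_right u)) _ _
    rw [this, h, sub_self]
  let S : ↥K →ₗ[F] ↥K :=
    { toFun := fun k => ⟨st k k.2, hst k k.2⟩
      map_add' := fun x y => Subtype.ext (huniq _ _ fun u v => by
        show f u (st ((x + y : ↥K) : Matrix ι ι F) (x + y).2 *ᵥ v) =
          f u ((st x x.2 + st y y.2) *ᵥ v)
        rw [← hstf, Matrix.add_mulVec (st _ x.2), hs.add_right, ← hstf, ← hstf, Subalgebra.coe_add,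
          Matrix.add_mulVec, hs.add_left])
      map_smul' := fun c x => Subtype.ext (huniq _ _ fun u v => by
        show f u (st ((c • x : ↥K) : Matrix ι ι F) (c • x).2 *ᵥ v) = f u ((c • st x x.2) *ᵥ v)
        rw [← hstf, Matrix.smul_mulVec c (st _ x.2), hs.smul_right, RingEquiv.refl_apply, ← hstf,
          Subalgebra.coe_smul, Matrix.smul_mulVec, hs.smul_left]) }
  have hsymm : ∀ u v, f u v = f v u := fun u v => QuadraticMap.polar_comm _ _ _
  have hSf : ∀ (k : ↥K) u v, f ((k : Matrix ι ι F) *ᵥ u) v = f u ((S k : Matrix ι ι F) *ᵥ v) :=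
    fun k => hstf k k.2
  have hSS : ∀ k, S (S k) = k := fun k => Subtype.ext (huniq _ _ fun u v => by
    rw [← hSf, hsymm, ← hSf, hsymm])
  have hSmul : ∀ x y : ↥K, S (x * y) = S x * S y := fun x y => Subtype.ext (huniq _ _ fun u v => by
    rw [← hSf, Subalgebra.coe_mul, hK.comm _ x.2 _ y.2, ← Matrix.mulVec_mulVec, hSf, hSf,
      Subalgebra.coe_mul, Matrix.mulVec_mulVec, hK.comm _ (S x).2 _ (S y).2])
  have hS1 : S 1 = 1 := Subtype.ext (huniq _ _ fun u v => by rw [← hSf]; simp)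
  have h2K : ∀ k : ↥K, k = -k → k = 0 := by
    intro k hk
    have h : (2 : F) • k = 0 := by rw [two_smul]; nth_rewrite 2 [hk]; exact add_neg_cancel k
    exact (smul_eq_zero.1 h).resolve_left h2
  have hfix : ∀ k, S k = k := by
    by_contra hcon
    push Not at hcon
    obtain ⟨k₁, hk₁⟩ := hcon
    set δ := k₁ - S k₁ with hδ
    have hδ0 : δ ≠ 0 := sub_ne_zero.2 (Ne.symm hk₁)
    have hSδ : S δ = -δ := by rw [hδ, map_sub, hSS, neg_sub]
    obtain ⟨y, hy, hδy⟩ := hK.inv δ δ.2 (fun h => hδ0 (Subtype.ext h))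
    have hdy : δ * ⟨y, hy⟩ = 1 := Subtype.ext hδy
    have hcomm : ∀ a b : ↥K, a * b = b * a := fun a b => Subtype.ext (hK.comm _ a.2 _ b.2)
    let Pp := LinearMap.ker (S - LinearMap.id)
    let Pm := LinearMap.ker (S + LinearMap.id)
    have hPp : ∀ k, k ∈ Pp ↔ S k = k := fun k => by simp [Pp, sub_eq_zero]
    have hPm : ∀ k, k ∈ Pm ↔ S k = -k := fun k => by simp [Pm, eq_neg_iff_add_eq_zero]
    let e₁ : ↥Pp →ₗ[F] ↥Pm :=
      { toFun := fun k => ⟨δ * k, (hPm _).2 (by rw [hSmul, hSδ, (hPp _).1 k.2]; exact Subtype.ext (by simp))⟩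
        map_add' := fun a b => Subtype.ext (mul_add _ _ _)
        map_smul' := fun c a => Subtype.ext (mul_smul_comm _ _ _) }
    let e₂ : ↥Pm →ₗ[F] ↥Pp :=
      { toFun := fun k => ⟨δ * k, (hPp _).2 (by rw [hSmul, hSδ, (hPm _).1 k.2]; exact Subtype.ext (by simp))⟩
        map_add' := fun a b => Subtype.ext (mul_add _ _ _)
        map_smul' := fun c a => Subtype.ext (mul_smul_comm _ _ _) }
    have hcancel : ∀ a b : ↥K, δ * a = δ * b → a = b := fun a b h => by
      have := congrArg ((⟨y, hy⟩ : ↥K) * ·) h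
      simpa only [← mul_assoc, hcomm ⟨y, hy⟩ δ, hdy, one_mul] using this
    have h12 := LinearMap.finrank_le_finrank_of_injective (f := e₁) fun a b h =>
      Subtype.ext (hcancel _ _ (congrArg Subtype.val h))
    have h21 := LinearMap.finrank_le_finrank_of_injective (f := e₂) fun a b h =>
      Subtype.ext (hcancel _ _ (congrArg Subtype.val h))
    have hsup : Pp ⊔ Pm = ⊤ := by
      refine eq_top_iff.2 fun k _ => Submodule.mem_sup.2
        ⟨(2 : F)⁻¹ • (k + S k), (hPp _).2 ?_, (2 : F)⁻¹ • (k - S k), (hPm _).2 ?_, ?_⟩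
      · rw [map_smul, map_add, hSS, add_comm]
      · rw [map_smul, map_sub, hSS, ← smul_neg, neg_sub]
      · rw [← smul_add, show k + S k + (k - S k) = (2 : F) • k by rw [two_smul]; abel, smul_smul,
          inv_mul_cancel₀ h2, one_smul]
    have hinf : Pp ⊓ Pm = ⊥ := eq_bot_iff.2 fun k hk => (Submodule.mem_bot F).2 (h2K k
      (((hPp k).1 hk.1).symm.trans ((hPm k).1 hk.2)))
    have hsum := Submodule.finrank_sup_add_finrank_inf_eq Pp Pm
    rw [hsup, hinf, finrank_bot, add_zero, finrank_top] at hsum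
    rw [hK.finrank_eq] at hsum
    exact Nat.not_even_iff_odd.2 hodd ⟨finrank F Pp, by omega⟩
  refine le_scalars_of_commutant fun a ha => ?_
  let k : ↥K := ⟨_, hNK a ha⟩
  have hsq : k * k = 1 := Subtype.ext (huniq _ _ fun u v => by
    rw [Subalgebra.coe_mul, Subalgebra.coe_one, Matrix.one_mulVec, ← Matrix.mulVec_mulVec]
    nth_rewrite 1 [← hfix k]
    rw [← hSf]
    exact hNf _ ⟨a, ha, rfl⟩ u v)
  by_cases h1 : k = 1
  · exact ⟨1, by rw [one_smul]; exact congrArg Subtype.val h1⟩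
  refine ⟨-1, ?_⟩
  obtain ⟨y, hy, hky⟩ := hK.inv ((k : Matrix ι ι F) - 1) (K.sub_mem k.2 K.one_mem)
    (fun h => h1 (Subtype.ext (sub_eq_zero.1 h)))
  have hprod : ((k : Matrix ι ι F) + 1) * ((k : Matrix ι ι F) - 1) = 0 := by
    have := congrArg Subtype.val hsq
    simp only [Subalgebra.coe_mul, Subalgebra.coe_one] at this
    rw [add_mul, mul_sub, this]; simp
  have := congrArg (· * y) hprod
  simp only [mul_assoc, hky, mul_one, zero_mul] at this
  rw [neg_one_smul]
  exact eq_neg_of_add_eq_zero_left this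

/-- A unitary automorphism of a field of odd order is the `q`th power map, `q² = |F|`. -/
lemma exists_sq_of_involutive [Fintype F] (h2 : (2 : F) ≠ 0) {σ : F ≃+* F}
    (hne : σ ≠ RingEquiv.refl F) (hinv : ∀ a, σ (σ a) = a) :
    ∃ q : ℕ, Fintype.card F = q ^ 2 ∧ ∀ a, σ a = a ^ q := by
  classical
  let F₀ : Subfield F := σ.toRingHom.eqLocusField (RingHom.id F)
  have hF₀ : ∀ x, x ∈ F₀ ↔ σ x = x := fun x => Iff.rfl
  obtain ⟨μ, hμ⟩ : ∃ μ, σ μ ≠ μ := by
    by_contra h
    push Not at h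
    exact hne (RingEquiv.ext h)
  set δ := μ - σ μ with hδ
  have hδ0 : δ ≠ 0 := sub_ne_zero.2 (Ne.symm hμ)
  have hσδ : σ δ = -δ := by rw [hδ, map_sub, hinv, neg_sub]
  let e : F₀ × F₀ → F := fun x => (x.1 : F) + x.2 * δ
  have he : Function.Bijective e := by
    constructor
    · rintro ⟨a, b⟩ ⟨c, d⟩ h
      simp only [e] at h
      have h' := congrArg σ h
      simp only [map_add, map_mul, hσδ, (hF₀ _).1 a.2, (hF₀ _).1 b.2, (hF₀ _).1 c.2, (hF₀ _).1 d.2] at h'
      have hb : (b : F) = d := mul_right_cancel₀ hδ0 (mul_left_cancel₀ h2 (by linear_combination h - h'))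
      exact Prod.ext (Subtype.ext (mul_left_cancel₀ h2 (by linear_combination h + h'))) (Subtype.ext hb)
    · intro x
      refine ⟨(⟨(x + σ x) / 2, (hF₀ _).2 ?_⟩, ⟨(x - σ x) / (2 * δ), (hF₀ _).2 ?_⟩), ?_⟩
      · rw [map_div₀, map_add, hinv, map_ofNat, add_comm]
      · rw [map_div₀, map_sub, hinv, map_mul, map_ofNat, hσδ]
        field_simp
        ring
      · simp only [e]
        field_simp
        ring
  have hc : Fintype.card F = Nat.card F₀ ^ 2 := by
    rw [← Nat.card_eq_fintype_card, ← Nat.card_eq_of_bijective e he, Nat.card_prod, sq]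
  obtain ⟨τ, hτ, hτfix⟩ := exists_frobenius_subfield F₀
  refine ⟨_, hc, fun a => ?_⟩
  obtain ⟨⟨x, y⟩, rfl⟩ := he.2 a
  rw [← hτ]
  simp only [e, map_add, map_mul, hσδ, (hF₀ _).1 x.2, (hF₀ _).1 y.2, (hτfix _).2 x.2,
    (hτfix _).2 y.2]
  have hsq : (τ δ) ^ 2 = δ ^ 2 := by
    rw [← map_pow]
    exact (hτfix _).2 ((hF₀ _).2 (by rw [map_pow, hσδ, neg_sq]))
  rcases sq_eq_sq_iff_eq_or_eq_neg.1 hsq with h | h
  · exact absurd (((hF₀ _).1 ((hτfix δ).1 h)).symm.trans hσδ)
      fun h' => hδ0 (mul_left_cancel₀ h2 (by linear_combination h'))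
  · rw [h]

/-- An `F₀`-structure with proportional Gram matrix can be scaled to carry the quadratic form. -/
theorem exists_quad_rational (hQ : Cfsg.Geo.IsNondegenerateQuadraticForm Q) (h2 : (2 : F) ≠ 0)
    (hodd : Odd (Fintype.card ι)) {F₀ : Subfield F}
    (hstd : ∀ a b, Cfsg.Geo.gramMatrix (QuadraticMap.polar Q) a b ∈ F₀) {C : GL ι F} {g₀ : F}
    (hg₀ : g₀ ≠ 0)
    (hG : ∀ a b, QuadraticMap.polar Q ((C : Matrix ι ι F) *ᵥ Pi.single a 1)
      ((C : Matrix ι ι F) *ᵥ Pi.single b 1) / g₀ ∈ F₀) :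
    ∃ d : Fˣ, Cfsg.Geo.IsQuadFormRationalStructure Q F₀ (scalarGL ι d * C) := by
  obtain ⟨k, hk⟩ := hodd
  have hs := isSesq_of_bilinear hQ.polar_bilinear
  set A := Cfsg.Geo.gramMatrix (QuadraticMap.polar Q) with hA
  set G := Cfsg.Geo.gramMatrix (fun u v => QuadraticMap.polar Q ((C : Matrix ι ι F) *ᵥ u)
    ((C : Matrix ι ι F) *ᵥ v)) with hGdef
  let G₀ : Matrix ι ι F₀ := fun a b => ⟨G a b / g₀, hG a b⟩
  let A₀ : Matrix ι ι F₀ := fun a b => ⟨A a b, hstd a b⟩
  have hG0 : G = g₀ • G₀.map F₀.subtype := by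
    ext a b
    show G a b = g₀ * (G a b / g₀)
    rw [mul_div_cancel₀ _ hg₀]
  have hCA : G.det = (C : Matrix ι ι F).det ^ 2 * A.det := by
    rw [hGdef, hs.gram_comp, Matrix.det_mul, Matrix.det_mul, Matrix.det_transpose,
      show (C : Matrix ι ι F).map (RingEquiv.refl F : F ≃+* F) = (C : Matrix ι ι F) from
        Matrix.map_id _, ← hA]
    ring
  have hA0 : A.det ≠ 0 :=
    ((Matrix.isUnit_iff_isUnit_det A).1 (hs.gram_isUnit hQ.nondegenerate)).ne_zero
  have hC0 : (C : Matrix ι ι F).det ≠ 0 :=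
    ((Matrix.isUnit_iff_isUnit_det _).1 C.isUnit).ne_zero
  have hdetG : G.det = g₀ ^ (2 * k + 1) * F₀.subtype G₀.det := by
    rw [hG0, Matrix.det_smul, hk]
    congr 1
    exact (RingHom.map_det _ _).symm
  have hdetA : A.det = F₀.subtype A₀.det := by
    rw [RingHom.map_det]
    rfl
  set d := g₀ ^ k / (C : Matrix ι ι F).det with hd
  have hd0 : d ≠ 0 := div_ne_zero (pow_ne_zero _ hg₀) hC0
  have hmem : d ^ 2 * g₀ ∈ F₀ := by
    have hG₀0 : F₀.subtype G₀.det ≠ 0 := by
      intro h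
      rw [hdetG, h, mul_zero] at hCA
      exact mul_ne_zero (pow_ne_zero 2 hC0) hA0 hCA.symm
    have : d ^ 2 * g₀ = F₀.subtype A₀.det / F₀.subtype G₀.det := by
      rw [eq_div_iff hG₀0, ← hdetA, hd]
      field_simp
      rw [hdetG] at hCA
      linear_combination hCA
    rw [this]
    exact F₀.div_mem A₀.det.2 G₀.det.2
  refine ⟨Units.mk0 d hd0, fun u hu => ?_⟩
  have hQe : ∀ w, Q w = 2⁻¹ * QuadraticMap.polar Q w w := fun w => by
    rw [polar_self hQ, ← mul_assoc, inv_mul_cancel₀ h2, one_mul]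
  rw [mul_mulVec, scalarGL_mulVec, hQ.smul, Units.val_mk0, hQe,
    show QuadraticMap.polar Q ((C : Matrix ι ι F) *ᵥ u) ((C : Matrix ι ι F) *ᵥ u) =
      u ⬝ᵥ (G *ᵥ u) from (isSesq_comp hs (C : Matrix ι ι F)).eq_dot u u, hG0, Matrix.smul_mulVec,
    dotProduct_smul, smul_eq_mul,
    show d ^ 2 * (2⁻¹ * (g₀ * (u ⬝ᵥ (G₀.map F₀.subtype *ᵥ u)))) =
      d ^ 2 * g₀ * (2⁻¹ * (u ⬝ᵥ (G₀.map F₀.subtype *ᵥ u))) by ring]
  refine F₀.mul_mem hmem (F₀.mul_mem (F₀.inv_mem (ofNat_mem F₀ 2)) ?_)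
  exact F₀.sum_mem fun a _ => F₀.mul_mem (hu a)
    (F₀.sum_mem fun b _ => F₀.mul_mem (G₀ a b).2 (hu b))

/-- An absolutely irreducible group of isometries realised over a subfield leaves a rational
structure for the form. -/
theorem exists_quad_rational_of_realised [Fintype F] [Nonempty ι]
    (hQ : Cfsg.Geo.IsNondegenerateQuadraticForm Q) (h2 : (2 : F) ≠ 0)
    (hodd : Odd (Fintype.card ι)) {P : Subgroup (GL ι F)} (hP : AbsIrr P)
    (hPQ : P ≤ Cfsg.isometryGroup F Q) {F₀ : Subfield F}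
    (hstd : ∀ a b, Cfsg.Geo.gramMatrix (QuadraticMap.polar Q) a b ∈ F₀) {B : GL ι F}
    (hB : ∀ s ∈ Cfsg.Geo.matrixSet P, ∀ i j,
      ((B : Matrix ι ι F) * s * ((B⁻¹ : GL ι F) : Matrix ι ι F)) i j ∈ F₀) :
    ∃ d : Fˣ, Cfsg.Geo.IsQuadFormRationalStructure Q F₀ (scalarGL ι d * B⁻¹) := by
  classical
  have hs := isSesq_of_bilinear hQ.polar_bilinear
  set f := QuadraticMap.polar Q
  have hPf : Cfsg.Geo.FixesForm (Cfsg.Geo.matrixSet P) f := fixesPolar_of_le hPQ
  obtain ⟨τ, hτ, hτfix⟩ := exists_frobenius_subfield F₀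
  let C : Matrix ι ι F := ((B⁻¹ : GL ι F) : Matrix ι ι F)
  let f₁ : (ι → F) → (ι → F) → F := fun u v => f (C *ᵥ u) (C *ᵥ v)
  have hs₁ : IsSesq (RingEquiv.refl F) f₁ := isSesq_comp hs C
  let φ : (ι → F) → (ι → F) := fun u => τ.symm ∘ ((B : Matrix ι ι F) *ᵥ u)
  let f₂ : (ι → F) → (ι → F) → F := fun u v => τ (f₁ (φ u) (φ v))
  have hφadd : ∀ u v, φ (u + v) = φ u + φ v := fun u v => by
    funext i; simp [φ, Matrix.mulVec_add]
  have hφsmul : ∀ (c : F) u, φ (c • u) = τ.symm c • φ u := fun c u => by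
    funext i; simp [φ, Matrix.mulVec_smul]
  have hs₂ : IsSesq (RingEquiv.refl F) f₂ :=
    ⟨fun u v w => by simp only [f₂, hφadd, hs₁.add_left, map_add],
      fun c u v => by simp only [f₂, hφsmul, hs₁.smul_left, map_mul, τ.apply_symm_apply],
      fun u v w => by simp only [f₂, hφadd, hs₁.add_right, map_add],
      fun c u v => by
        simp only [f₂, hφsmul, hs₁.smul_right, map_mul, RingEquiv.refl_apply, τ.apply_symm_apply]⟩
  have hPf₂ : Cfsg.Geo.FixesForm (Cfsg.Geo.matrixSet P) f₂ := by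
    intro s hs' u v
    set t := (B : Matrix ι ι F) * s * C with ht
    have hφs : ∀ w, φ (s *ᵥ w) = t *ᵥ φ w := by
      intro w
      have h1 : (B : Matrix ι ι F) *ᵥ (s *ᵥ w) = t *ᵥ ((B : Matrix ι ι F) *ᵥ w) := by
        simp only [ht, C, Matrix.mulVec_mulVec, mul_assoc, Units.inv_mul, mul_one]
      show τ.symm ∘ _ = _
      rw [h1, comp_mulVec]
      congr 1
      ext i j
      exact τ.symm_apply_eq.2 ((hτfix _).2 (hB s hs' i j)).symm
    have hCt : ∀ w, C *ᵥ (t *ᵥ w) = s *ᵥ (C *ᵥ w) := fun w => by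
      simp only [ht, C, Matrix.mulVec_mulVec, ← mul_assoc, Units.inv_mul, one_mul]
    simp only [f₂, f₁, hφs, hCt, hPf s hs']
  obtain ⟨c, hcs⟩ := exists_eq_smul hP hs hs₂ hQ.nondegenerate hPf hPf₂
  have hGtau : ∀ a b, τ (Cfsg.Geo.gramMatrix f₁ a b) = c * Cfsg.Geo.gramMatrix f₁ a b := by
    intro a b
    have h := hcs (C *ᵥ Pi.single a 1) (C *ᵥ Pi.single b 1)
    have hφe : ∀ a : ι, φ (C *ᵥ Pi.single a 1) = Pi.single a 1 := by
      intro a
      funext i
      simp only [φ, C, Function.comp_apply, mulVec_inv_cancel]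
      by_cases hi : i = a <;> simp [hi]
    simp only [f₂, hφe] at h
    exact h
  obtain ⟨a₀, b₀, hg0⟩ : ∃ a b, Cfsg.Geo.gramMatrix f₁ a b ≠ 0 := by
    by_contra hcon
    push Not at hcon
    have hz : ∀ u v, f₁ u v = 0 := fun u v => by
      rw [hs₁.eq_dot, show Cfsg.Geo.gramMatrix f₁ = 0 from Matrix.ext hcon]; simp
    let w : ι → F := Pi.single (Classical.arbitrary ι) 1
    obtain ⟨-, x, hx⟩ := hQ.nondegenerate w (fun h => by
      simpa [w] using congrFun h (Classical.arbitrary ι))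
    apply hx
    have := hz ((B : Matrix ι ι F) *ᵥ w) ((B : Matrix ι ι F) *ᵥ x)
    simpa [f₁, C, inv_mulVec_cancel] using this
  have hc0 : c ≠ 0 := by
    intro h
    have := hGtau a₀ b₀
    rw [h, zero_mul] at this
    exact hg0 ((map_eq_zero_iff τ τ.injective).1 this)
  refine exists_quad_rational hQ h2 hodd hstd hg0 fun a b => ?_
  rw [← hτfix, map_div₀]
  show τ (Cfsg.Geo.gramMatrix f₁ a b) / τ (Cfsg.Geo.gramMatrix f₁ a₀ b₀) = _
  rw [hGtau, hGtau, mul_div_mul_left _ _ hc0]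
  rfl

end CfsgLib.Aschbacher
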