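import Cfsg.Agent.Lib.Aschbacher.HermFrame
import Cfsg.Agent.Lib.Aschbacher.HermField

/-!
A tensor decomposition of an alternating form into two factors: the class four, or in the degenerate
cases a pair of singular spaces, a quadratic field, or a quadratic form.
-/

set_option autoImplicit false

namespace CfsgLib.Aschbacher

open Matrix Module

open scoped Kronecker

variable {F : Type*} [Field F] {ι κ : Type} [Fintype ι] [DecidableEq ι] [Fintype κ] [DecidableEq κ]
  {ε : F} {f : (ι → F) → (ι → F) → F}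

/-- A skew operator with scalar square, conjugated to multiples of itself. -/
theorem skew_operator [Nonempty ι] (hf : IsRefl (RingEquiv.refl F) ε f) (h2 : (2 : F) ≠ 0)
    {H : Subgroup (GL ι F)} (hH : Cfsg.Geo.FixesForm (Cfsg.Geo.matrixSet H) f)
    {I : Matrix ι ι F} {δ : F} (hδ : δ ≠ 0) (hI2 : I * I = δ • 1) (hIadj : hf.adj I = -I)
    (hnorm : ∀ g ∈ H, ∃ c : F,
      (g : Matrix ι ι F) * I * ((g⁻¹ : GL ι F) : Matrix ι ι F) = c • I) :
    (∃ (k : ℕ) (D : Fin 2 → Submodule F (ι → F)), 2 * k = Fintype.card ι ∧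
      Cfsg.Geo.IsMDecomposition k D ∧ (∀ i, Cfsg.Geo.IsTotallySingularFor f (D i)) ∧
      H ≤ Cfsg.Geo.decompositionStabilizer D) ∨
    (∃ K : Subalgebra F (Matrix ι ι F), Cfsg.Geo.IsFieldSubalgebra 2 K ∧
      Cfsg.Geo.IsAdjointClosedFor f K ∧ ¬ Cfsg.Geo.IsSelfAdjointFor f K ∧
      H ≤ Cfsg.Geo.subalgebraNormalizer K) := by
  classical
  have hIne : I ≠ 0 := by
    intro h
    rw [h, mul_zero] at hI2
    exact hδ ((smul_eq_zero.1 hI2.symm).resolve_right one_ne_zero)
  by_cases hsq : ∃ μ : F, μ * μ = δ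
  swap
  · right
    push Not at hsq
    have hind : ∀ a b : F, a • (1 : Matrix ι ι F) + b • I = 0 → a = 0 ∧ b = 0 := by
      intro a b h
      by_cases hb : b = 0
      · rw [hb, zero_smul, add_zero] at h
        exact ⟨(smul_eq_zero.1 h).resolve_right one_ne_zero, hb⟩
      · exfalso
        have hI : I = (-(a / b)) • (1 : Matrix ι ι F) := by
          have h1 : b • I = (-a) • (1 : Matrix ι ι F) := by
            rw [neg_smul]; exact eq_neg_of_add_eq_zero_right h
          calc I = b⁻¹ • (b • I) := by rw [smul_smul, inv_mul_cancel₀ hb, one_smul]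
            _ = _ := by rw [h1, smul_smul]; congr 1; field_simp
        rw [hI, Matrix.smul_mul, one_mul, smul_smul] at hI2
        exact hsq _ (smul_cancel_matrix one_ne_zero hI2)
    let K : Subalgebra F (Matrix ι ι F) :=
      { carrier := {M | ∃ a b : F, M = a • (1 : Matrix ι ι F) + b • I}
        mul_mem' := by
          rintro _ _ ⟨a, b, rfl⟩ ⟨c, d, rfl⟩
          refine ⟨a * c + b * d * δ, a * d + b * c, ?_⟩
          simp only [add_mul, mul_add, Matrix.smul_mul, Matrix.mul_smul, one_mul, mul_one, hI2,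
            smul_smul, add_smul]
          ring_nf
          abel
        add_mem' := by
          rintro _ _ ⟨a, b, rfl⟩ ⟨c, d, rfl⟩
          exact ⟨a + c, b + d, by rw [add_smul, add_smul]; abel⟩
        algebraMap_mem' := fun c => ⟨c, 0, by
          rw [Algebra.algebraMap_eq_smul_one, zero_smul, add_zero]⟩ }
    have hIK : I ∈ K := ⟨0, 1, by simp⟩
    refine ⟨K, ⟨?_, ?_, ?_⟩, ?_, ?_, mem_subalgebraNormalizer_of ?_⟩
    · rintro _ ⟨a, b, rfl⟩ _ ⟨c, d, rfl⟩
      simp only [add_mul, mul_add, Matrix.smul_mul, Matrix.mul_smul, one_mul, mul_one,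
        smul_smul, mul_comm a, mul_comm b]
      abel
    · rintro _ ⟨a, b, rfl⟩ hx
      have hn : a * a - b * b * δ ≠ 0 := by
        intro h
        by_cases hb : b = 0
        · rw [hb] at h hx
          have ha : a = 0 := by simpa using h
          exact hx (by simp [ha])
        · exact hsq (a / b) (by field_simp; linear_combination h)
      refine ⟨(a / (a * a - b * b * δ)) • (1 : Matrix ι ι F) + (-b / (a * a - b * b * δ)) • I,
        ⟨_, _, rfl⟩, ?_⟩
      simp only [add_mul, mul_add, Matrix.smul_mul, Matrix.mul_smul, one_mul, mul_one, hI2,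
        smul_smul]
      calc _ = (a * (a / (a * a - b * b * δ)) + b * (-b / (a * a - b * b * δ) * δ)) •
            (1 : Matrix ι ι F) + (b * (a / (a * a - b * b * δ)) + a * (-b / (a * a - b * b * δ))) • I := by
            rw [add_smul, add_smul]; ring_nf; abel
        _ = _ := by
          rw [show a * (a / (a * a - b * b * δ)) + b * (-b / (a * a - b * b * δ) * δ) = 1 by
            rw [mul_div_assoc', div_mul_eq_mul_div, mul_div_assoc', ← add_div, div_eq_one_iff_eq hn]
            ring,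
            show b * (a / (a * a - b * b * δ)) + a * (-b / (a * a - b * b * δ)) = 0 by ring,
            one_smul, zero_smul, add_zero]
    · let φ : (F × F) →ₗ[F] Matrix ι ι F :=
        { toFun := fun p => p.1 • (1 : Matrix ι ι F) + p.2 • I
          map_add' := fun p q => by simp only [Prod.fst_add, Prod.snd_add, add_smul]; abel
          map_smul' := fun c p => by simp [smul_add, smul_smul] }
      have hinj : Function.Injective φ := by
        rw [injective_iff_map_eq_zero]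
        rintro ⟨a, b⟩ h
        obtain ⟨rfl, rfl⟩ := hind a b h
        rfl
      have hrange : LinearMap.range φ = Subalgebra.toSubmodule K := by
        ext M
        constructor
        · rintro ⟨⟨a, b⟩, rfl⟩; exact ⟨a, b, rfl⟩
        · rintro ⟨a, b, rfl⟩; exact ⟨(a, b), rfl⟩
      rw [← Subalgebra.finrank_toSubmodule, ← hrange, LinearMap.finrank_range_of_inj hinj,
        finrank_prod, finrank_self]
    · rintro _ ⟨a, b, rfl⟩
      refine ⟨hf.adj (a • (1 : Matrix ι ι F) + b • I), ⟨a, -b, ?_⟩, hf.adj_spec _⟩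
      rw [hf.adj_add, adj_smul_id hf, adj_smul_id hf, hf.adj_one, hIadj, smul_neg, neg_smul]
    · intro hself
      have h1 : hf.adj I = I := hf.adj_eq (hself I hIK)
      rw [hIadj] at h1
      have h3 : (2 : F) • I = 0 := by
        rw [two_smul]
        exact (congrArg (· + I) h1).symm.trans (neg_add_cancel I)
      exact hIne ((smul_eq_zero.1 h3).resolve_left h2)
    · rintro g hg _ ⟨a, b, rfl⟩
      obtain ⟨c, hc⟩ := hnorm g hg
      refine ⟨a, b * c, ?_⟩
      rw [mul_add, add_mul, Matrix.mul_smul, Matrix.mul_smul, Matrix.smul_mul, Matrix.smul_mul,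
        mul_one, Units.mul_inv, hc, smul_smul]
  left
  obtain ⟨μ, hμ⟩ := hsq
  have hμ0 : μ ≠ 0 := fun h => hδ (by rw [← hμ, h, zero_mul])
  let s : Fin 2 → F := ![μ, -μ]
  have hs : ∀ i, s i * s i = δ := fun i => by fin_cases i <;> simp [s, hμ]
  have hs0 : ∀ i, s i ≠ 0 := fun i => by fin_cases i <;> simp [s, hμ0]
  let D : Fin 2 → Submodule F (ι → F) := fun i =>
    LinearMap.ker (Matrix.toLin' (I - s i • 1))
  have hmem : ∀ i v, v ∈ D i ↔ I *ᵥ v = s i • v := by
    intro i v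
    simp only [D, LinearMap.mem_ker, Matrix.toLin'_apply, Matrix.sub_mulVec, Matrix.smul_mulVec,
      Matrix.one_mulVec, sub_eq_zero]
  have hts : ∀ i, Cfsg.Geo.IsTotallySingularFor f (D i) := by
    intro i u hu v hv
    have h := hf.adj_spec I u v
    rw [hIadj, Matrix.neg_mulVec, (hmem i u).1 hu, (hmem i v).1 hv, hf.sesq.smul_left, ← neg_smul,
      hf.bilinear.smul_right] at h
    have h' : (2 * s i) * f u v = 0 := by linear_combination h
    exact (mul_eq_zero.1 h').resolve_left (mul_ne_zero h2 (hs0 i))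
  have hdisj : Disjoint (D 0) (D 1) := by
    rw [Submodule.disjoint_def]
    intro v h0 h1
    have h : μ • v = (-μ) • v := ((hmem 0 v).1 h0).symm.trans ((hmem 1 v).1 h1)
    have h' : (2 * μ) • v = 0 := by
      rw [two_mul, add_smul]
      conv_lhs => arg 1; rw [h]
      rw [neg_smul, neg_add_cancel]
    exact (smul_eq_zero.1 h').resolve_left (mul_ne_zero h2 hμ0)
  have hsup : D 0 ⊔ D 1 = ⊤ := by
    refine eq_top_iff.2 fun v _ => Submodule.mem_sup.2
      ⟨(2 : F)⁻¹ • (v + μ⁻¹ • (I *ᵥ v)), (hmem 0 _).2 ?_,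
        (2 : F)⁻¹ • (v - μ⁻¹ • (I *ᵥ v)), (hmem 1 _).2 ?_, ?_⟩
    · simp only [Matrix.mulVec_smul, Matrix.mulVec_add, Matrix.mulVec_mulVec, hI2,
        Matrix.smul_mulVec, Matrix.one_mulVec, smul_add, smul_smul, s, Matrix.cons_val_zero]
      rw [← hμ]; field_simp; abel
    · simp only [Matrix.mulVec_smul, Matrix.mulVec_sub, Matrix.mulVec_mulVec, hI2,
        Matrix.smul_mulVec, Matrix.one_mulVec, smul_sub, smul_smul, s, Matrix.cons_val_one,
        Matrix.cons_val_zero]
      rw [← hμ, neg_mul, neg_smul, neg_mul, neg_smul]; field_simp; abel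
    · rw [← smul_add, add_add_sub_cancel, ← two_smul F v, smul_smul, inv_mul_cancel₀ h2, one_smul]
  have hfr : ∀ i, 2 * finrank F (D i) ≤ Fintype.card ι := by
    intro i
    have h1 := hf.finrank_perp (D i)
    have h3 : finrank F (D i) ≤ finrank F (perp hf.sesq (D i)) :=
      Submodule.finrank_mono fun v hv w hw => hts i v hv w hw
    omega
  have hsum : finrank F (D 0) + finrank F (D 1) = Fintype.card ι := by
    rw [Submodule.finrank_add_eq_of_isCompl (IsCompl.of_eq (disjoint_iff.1 hdisj) hsup),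
      Module.finrank_fintype_fun_eq_card]
  have h00 := hfr 0
  have h11 := hfr 1
  have hpos := Fintype.card_pos (α := ι)
  refine ⟨finrank F (D 0), D, by omega, ⟨le_rfl, by omega, fun i => ?_, ?_, ?_⟩, hts,
    fun g hg => ?_⟩
  · fin_cases i
    · rfl
    · show finrank F (D 1) = _; omega
  · intro i
    fin_cases i
    · exact hdisj.mono_right (iSup₂_le fun j hj => by fin_cases j <;> simp_all)
    · exact hdisj.symm.mono_right (iSup₂_le fun j hj => by fin_cases j <;> simp_all)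
  · rw [← hsup]
    exact le_antisymm (iSup_le fun i => by fin_cases i <;> simp)
      (sup_le (le_iSup D 0) (le_iSup D 1))
  obtain ⟨c, hc⟩ := hnorm g hg
  have hcc : c * c = 1 := by
    have h : ((g : Matrix ι ι F) * I * ((g⁻¹ : GL ι F) : Matrix ι ι F)) *
        ((g : Matrix ι ι F) * I * ((g⁻¹ : GL ι F) : Matrix ι ι F)) = δ • 1 := by
      calc _ = (g : Matrix ι ι F) * (I * I) * ((g⁻¹ : GL ι F) : Matrix ι ι F) := by
            simp [mul_assoc]
        _ = _ := by rw [hI2, Matrix.mul_smul, mul_one, Matrix.smul_mul, Units.mul_inv]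
    rw [hc, Matrix.smul_mul, Matrix.mul_smul, hI2, smul_smul, smul_smul] at h
    exact mul_right_cancel₀ hδ ((smul_cancel_matrix one_ne_zero h).trans (one_mul δ).symm)
  have hgI : ∀ v, I *ᵥ ((g : Matrix ι ι F) *ᵥ v) = c • ((g : Matrix ι ι F) *ᵥ (I *ᵥ v)) := by
    intro v
    have h := congrArg (fun M => c • (M * (g : Matrix ι ι F))) hc
    simp only [mul_assoc, Units.inv_mul, mul_one, Matrix.smul_mul, smul_smul, hcc, one_smul] at h
    rw [Matrix.mulVec_mulVec, Matrix.mulVec_mulVec, ← Matrix.smul_mulVec, h]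
  obtain ⟨π, hπ⟩ : ∃ π : Equiv.Perm (Fin 2), ∀ i, s (π i) = c * s i := by
    rcases mul_self_eq_one_iff.1 hcc with rfl | rfl
    · exact ⟨1, fun i => by simp⟩
    · exact ⟨Equiv.swap 0 1, fun i => by fin_cases i <;> simp [s]⟩
  refine ⟨π, fun i => le_antisymm ?_ ?_⟩
  · rintro _ ⟨v, hv, rfl⟩
    rw [Matrix.toLin'_apply, hmem, hgI, (hmem i v).1 hv, Matrix.mulVec_smul, smul_smul, hπ]
  · intro v hv
    refine ⟨((g⁻¹ : GL ι F) : Matrix ι ι F) *ᵥ v, (hmem i _).2 ?_, by
      rw [Matrix.toLin'_apply, mulVec_inv_cancel]⟩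
    have h := hgI (((g⁻¹ : GL ι F) : Matrix ι ι F) *ᵥ v)
    rw [mulVec_inv_cancel, (hmem (π i) v).1 hv, hπ, ← smul_smul] at h
    have hc0 : c ≠ 0 := fun h0 => by rw [h0, zero_mul] at hcc; exact zero_ne_one hcc
    have h' := congrArg (fun x => ((g⁻¹ : GL ι F) : Matrix ι ι F) *ᵥ x)
      (smul_right_injective (ι → F) hc0 h)
    simp only [inv_mulVec_cancel, Matrix.mulVec_smul] at h'
    exact h'.symm

/-- A symmetric matrix oriented by a relation as a quadratic form, vanishing on a set of vectors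
permuted by the group. -/
theorem quad_of_oriented (hf : IsRefl (RingEquiv.refl F) ε f) {e : ι ≃ κ} {P : GL ι F}
    {J : Matrix κ κ F} (hJ : ∀ x y, pullForm e P f x y = Cfsg.Geo.formOfGram id J x y)
    (hsym : ∀ p q, J p q = J q p) (lt : κ → κ → Prop)
    (hlt : ∀ p q, J p q ≠ 0 → (lt p q ↔ ¬ lt q p)) (S : Set (κ → F))
    (hS : ∀ p, (Pi.single p 1 : κ → F) ∈ S)
    (hzero : ∀ x ∈ S, (∀ [DecidableRel lt],
      ∑ p, ∑ q, (if lt p q then x p * J p q * x q else 0) = 0))
    {H : Subgroup (GL ι F)} (hH : Cfsg.Geo.FixesForm (Cfsg.Geo.matrixSet H) f)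
    (hHS : ∀ g ∈ H, ∃ X : Matrix κ κ F, (g : Matrix ι ι F) = frAlg e P X ∧
      ∀ x ∈ S, X *ᵥ x ∈ S) :
    ∃ Q : (ι → F) → F, Cfsg.Geo.IsNondegenerateQuadraticForm Q ∧
      (∀ u v, QuadraticMap.polar Q u v = f u v) ∧ H ≤ Cfsg.Geo.quadSimilarityGroup Q := by
  classical
  let q : (κ → F) → F := fun x => ∑ p, ∑ r, if lt p r then x p * J p r * x r else 0
  have hpolq : ∀ x y, QuadraticMap.polar q x y = pullForm e P f x y := by
    intro x y
    have hflip : ∑ p, ∑ r, (if lt p r then y p * J p r * x r else 0) =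
        ∑ p, ∑ r, if lt r p then x p * J p r * y r else 0 := by
      rw [Finset.sum_comm]
      refine Finset.sum_congr rfl fun p _ => Finset.sum_congr rfl fun r _ => ?_
      split
      · rw [hsym r p]; ring
      · rfl
    calc QuadraticMap.polar q x y
        = (∑ p, ∑ r, if lt p r then x p * J p r * y r else 0) +
          ∑ p, ∑ r, (if lt p r then y p * J p r * x r else 0) := by
          simp only [QuadraticMap.polar, q, ← Finset.sum_sub_distrib, ← Finset.sum_add_distrib,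
            Pi.add_apply]
          refine Finset.sum_congr rfl fun p _ => Finset.sum_congr rfl fun r _ => ?_
          split <;> ring
      _ = _ := by
          rw [hflip, hJ, Cfsg.Geo.formOfGram, ← Finset.sum_add_distrib]
          refine Finset.sum_congr rfl fun p _ => ?_
          rw [← Finset.sum_add_distrib]
          refine Finset.sum_congr rfl fun r _ => ?_
          by_cases hz : J p r = 0
          · simp [hz]
          · have := hlt p r hz
            by_cases hp : lt p r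
            · simp [hp, this.1 hp]
            · have : lt r p := by tauto
              simp [hp, this]
  have hqsmul : ∀ (c : F) x, q (c • x) = c ^ 2 * q x := by
    intro c x
    simp only [q, Finset.mul_sum, Pi.smul_apply, smul_eq_mul]
    refine Finset.sum_congr rfl fun p _ => Finset.sum_congr rfl fun r _ => ?_
    split <;> ring
  let co : (ι → F) → (κ → F) := fun u => (((P⁻¹ : GL ι F) : Matrix ι ι F) *ᵥ u) ∘ e.symm
  have hco : ∀ u, (P : Matrix ι ι F) *ᵥ (co u ∘ e) = u := by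
    intro u
    simp only [co]
    rw [Function.comp_assoc, e.symm_comp_self, Function.comp_id, mulVec_inv_cancel]
  have hcoadd : ∀ u v, co (u + v) = co u + co v := fun u v => by
    funext p; simp [co, Matrix.mulVec_add]
  refine ⟨fun u => q (co u), quad_of_polar (fun c u => ?_) hf.bilinear hf.nondeg ?_, ?_,
    fun g hg => ⟨1, fun u => ?_⟩⟩
  · show q (co (c • u)) = _
    rw [show co (c • u) = c • co u by funext p; simp [co, Matrix.mulVec_smul], hqsmul]
  · intro u v
    have := hpolq (co u) (co v)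
    simp only [QuadraticMap.polar, ← hcoadd, pullForm, hco] at this
    exact this
  · intro u v
    have := hpolq (co u) (co v)
    simp only [QuadraticMap.polar, ← hcoadd, pullForm, hco] at this
    exact this
  obtain ⟨X, hgX, hXS⟩ := hHS g hg
  have hcog : co ((g : Matrix ι ι F) *ᵥ u) = X *ᵥ co u := by
    conv_lhs => rw [← hco u, hgX, frAlg_mulVec]
    simp only [co]
    rw [inv_mulVec_cancel, Function.comp_assoc, e.self_comp_symm, Function.comp_id]
  show q (co _) = ((1 : Fˣ) : F) * q (co u)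
  rw [hcog, Units.val_one, one_mul]
  let D : (κ → F) →+ F := AddMonoidHom.mk' (fun x => q (X *ᵥ x) - q x) fun x y => by
    have h1 := hpolq x y
    have h2 := hpolq (X *ᵥ x) (X *ᵥ y)
    rw [pullForm_isometry e P hgX (isometry_apply hH hg)] at h2
    simp only [QuadraticMap.polar, ← Matrix.mulVec_add] at h1 h2
    linear_combination h2 - h1
  suffices h : D (co u) = 0 by exact sub_eq_zero.1 h
  rw [pi_eq_sum_univ' (co u), map_sum]
  refine Finset.sum_eq_zero fun p _ => ?_
  show q (X *ᵥ (co u p • (Pi.single p 1 : κ → F))) - q (co u p • (Pi.single p 1 : κ → F)) = 0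
  rw [Matrix.mulVec_smul, hqsmul, hqsmul, show q (X *ᵥ (Pi.single p 1 : κ → F)) = 0 from
    hzero _ (hXS _ (hS p)), show q (Pi.single p 1 : κ → F) = 0 from hzero _ (hS p)]
  simp

/-- A form which is a tensor product in a frame stabilised by `H`. -/
structure TensorForm (f : (ι → F) → (ι → F) → F) (H : Subgroup (GL ι F)) {a b : ℕ}
    (e : ι ≃ Fin a × Fin b) (P : GL ι F) (G₁ : Matrix (Fin a) (Fin a) F)
    (G₂ : Matrix (Fin b) (Fin b) F) : Prop where
  unit₁ : IsUnit G₁
  unit₂ : IsUnit G₂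
  pull : ∀ x y, pullForm e P f x y = Cfsg.Geo.formOfGram id (G₁ ⊗ₖ G₂) x y
  le : H ≤ Cfsg.Geo.tensorProductSubgroup a b e P
  elem : ∀ g ∈ H, ∃ (c : GL (Fin a) F) (d : GL (Fin b) F) (u v : F), u * v = 1 ∧
    (g : Matrix ι ι F) = frAlg e P ((c : Matrix (Fin a) (Fin a) F) ⊗ₖ (d : Matrix (Fin b) (Fin b) F)) ∧
    (c : Matrix (Fin a) (Fin a) F)ᵀ * G₁ * (c : Matrix (Fin a) (Fin a) F) = u • G₁ ∧
    (d : Matrix (Fin b) (Fin b) F)ᵀ * G₂ * (d : Matrix (Fin b) (Fin b) F) = v • G₂

theorem TensorForm.swap {H : Subgroup (GL ι F)} {a b : ℕ} {e : ι ≃ Fin a × Fin b} {P : GL ι F}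
    {G₁ : Matrix (Fin a) (Fin a) F} {G₂ : Matrix (Fin b) (Fin b) F}
    (T : TensorForm f H e P G₁ G₂) : TensorForm f H (e.trans (Equiv.prodComm _ _)) P G₂ G₁ := by
  refine ⟨T.unit₂, T.unit₁, fun x y => ?_, T.le.trans (tensorProductSubgroup_swap e P),
    fun g hg => ?_⟩
  · have h := T.pull (x ∘ Equiv.prodComm _ _) (y ∘ Equiv.prodComm _ _)
    show f (_ *ᵥ ((x ∘ Equiv.prodComm _ _) ∘ e)) _ = _
    rw [show (y ∘ ⇑(e.trans (Equiv.prodComm _ _))) = (y ∘ Equiv.prodComm _ _) ∘ e from rfl]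
    show pullForm e P f _ _ = _
    rw [h]
    simp only [Cfsg.Geo.formOfGram]
    rw [← (Equiv.prodComm (Fin a) (Fin b)).sum_comp]
    refine Finset.sum_congr rfl fun p _ => ?_
    rw [← (Equiv.prodComm (Fin a) (Fin b)).sum_comp]
    refine Finset.sum_congr rfl fun r _ => ?_
    simp [mul_comm (G₁ p.1 r.1)]
  · obtain ⟨c, d, u, v, huv, hgX, hc, hd⟩ := T.elem g hg
    refine ⟨d, c, v, u, by rw [mul_comm, huv], ?_, hd, hc⟩
    rw [hgX, frAlg_apply, frAlg_apply]
    congr 2
    ext p r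
    simp [mul_comm]

lemma det_skew_even {b : ℕ} {G : Matrix (Fin b) (Fin b) F} (h2 : (2 : F) ≠ 0) (hG : IsUnit G)
    (hskew : Gᵀ = (-1 : F) • G) : Even b := by
  by_contra hodd
  rw [Nat.not_even_iff_odd] at hodd
  have h1 := congrArg Matrix.det hskew
  rw [Matrix.det_transpose, Matrix.det_smul, Fintype.card_fin, hodd.neg_one_pow, neg_one_mul] at h1
  have h3 : 2 * G.det = 0 := by linear_combination h1
  exact ((Matrix.isUnit_iff_isUnit_det G).1 hG).ne_zero ((mul_eq_zero.1 h3).resolve_left h2)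

lemma isRefl_formOfGram {b : ℕ} {G : Matrix (Fin b) (Fin b) F} {α : F} (hG : IsUnit G)
    (hα : α ≠ 0) (hsym : Gᵀ = α • G) :
    IsRefl (RingEquiv.refl F) α (Cfsg.Geo.formOfGram id G) := by
  have hsw : ∀ u v, Cfsg.Geo.formOfGram id G v u = α * Cfsg.Geo.formOfGram id G u v := by
    intro u v
    rw [formOfGram_eq, formOfGram_eq, Function.id_comp, Function.id_comp, dotProduct_comm,
      ← Matrix.vecMul_transpose, ← Matrix.dotProduct_mulVec, hsym, Matrix.smul_mulVec,
      dotProduct_smul, smul_eq_mul]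
  refine ⟨⟨fun x y v => ?_, fun c x v => ?_, fun v x y => ?_, fun c v x => ?_⟩, hsw,
    fun _ => rfl, fun v hv => ?_⟩
  · simp [formOfGram_eq, add_dotProduct]
  · simp [formOfGram_eq, smul_dotProduct]
  · simp [formOfGram_eq, Matrix.mulVec_add, dotProduct_add]
  · simp [formOfGram_eq, Matrix.mulVec_smul]
  · obtain ⟨i, hi⟩ : ∃ i, (G *ᵥ v) i ≠ 0 := by
      by_contra h
      push Not at h
      refine hv (Matrix.mulVec_injective_iff_isUnit.2 hG (?_ : G *ᵥ v = G *ᵥ 0))
      rw [Matrix.mulVec_zero]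
      exact funext h
    have h1 : Cfsg.Geo.formOfGram id G (Pi.single i 1) v ≠ 0 := by simpa [formOfGram_eq] using hi
    exact ⟨⟨_, h1⟩, ⟨Pi.single i 1, by rw [hsw]; exact mul_ne_zero hα h1⟩⟩

/-- The quadratic form of a tensor product of two alternating forms in characteristic two. -/
theorem TensorForm.quad [Fintype F] (hf : IsRefl (RingEquiv.refl F) ε f) (h2 : (2 : F) = 0)
    {H : Subgroup (GL ι F)} (hirr : Irr H) (hH : Cfsg.Geo.FixesForm (Cfsg.Geo.matrixSet H) f)
    {a b : ℕ} (ha : 2 ≤ a) (hb : 2 ≤ b) {e : ι ≃ Fin a × Fin b} {P : GL ι F}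
    {G₁ : Matrix (Fin a) (Fin a) F} {G₂ : Matrix (Fin b) (Fin b) F}
    (T : TensorForm f H e P G₁ G₂) (hs₁ : ∀ p q, G₁ p q = G₁ q p) (hs₂ : ∀ p q, G₂ p q = G₂ q p)
    (hd₁ : ∀ i, G₁ i i = 0) :
    ∃ Q : (ι → F) → F, Cfsg.Geo.IsNondegenerateQuadraticForm Q ∧
      (∀ u v, QuadraticMap.polar Q u v = f u v) ∧ H ≤ Cfsg.Geo.quadSimilarityGroup Q := by
  classical
  have hroot : ∀ x : F, ∃ y, y * y = x := by
    have : CharP F 2 := CharTwo.of_one_ne_zero_of_two_eq_zero one_ne_zero h2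
    intro x
    obtain ⟨y, hy⟩ := (Finite.injective_iff_surjective.1 (frobenius_inj F 2)) x
    exact ⟨y, by rw [← hy, frobenius_def, sq]⟩
  let φ : (Fin b → F) →+ F := AddMonoidHom.mk' (fun y => y ⬝ᵥ (G₂ *ᵥ y)) fun y z => by
    have hsw : y ⬝ᵥ (G₂ *ᵥ z) = z ⬝ᵥ (G₂ *ᵥ y) := by
      rw [dotProduct_comm, ← Matrix.vecMul_transpose, ← Matrix.dotProduct_mulVec,
        show G₂ᵀ = G₂ from Matrix.ext fun p q => hs₂ q p]
    rw [Matrix.mulVec_add, add_dotProduct, dotProduct_add, dotProduct_add, hsw]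
    linear_combination (z ⬝ᵥ (G₂ *ᵥ y)) * h2
  have hφsmul : ∀ (c : F) y, φ (c • y) = c * c * φ y := fun c y => by
    show (c • y) ⬝ᵥ (G₂ *ᵥ (c • y)) = c * c * (y ⬝ᵥ (G₂ *ᵥ y))
    rw [Matrix.mulVec_smul, smul_dotProduct, dotProduct_smul, smul_eq_mul, smul_eq_mul, mul_assoc]
  have hd₂ : ∀ j, G₂ j j = 0 := by
    by_contra hcon
    push Not at hcon
    obtain ⟨j₀, hj₀⟩ := hcon
    let W₂ : Submodule F (Fin b → F) :=
      { carrier := {y | φ y = 0}
        add_mem' := fun {x y} (hx : φ x = 0) (hy : φ y = 0) => by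
          show φ (x + y) = 0
          rw [map_add, hx, hy, add_zero]
        zero_mem' := map_zero φ
        smul_mem' := fun c y (hy : φ y = 0) => by
          show φ (c • y) = 0
          rw [hφsmul, hy, mul_zero] }
    have hsingle : φ (Pi.single j₀ 1) = G₂ j₀ j₀ := by
      show _ ⬝ᵥ (G₂ *ᵥ _) = _
      rw [Matrix.mulVec_single_one, single_dotProduct, one_mul]; rfl
    obtain ⟨w, hw, hw0⟩ : ∃ w, φ w = 0 ∧ w ≠ 0 := by
      obtain ⟨j₁, hj₁⟩ : ∃ j₁ : Fin b, j₁ ≠ j₀ := by
        have : Nontrivial (Fin b) := Fin.nontrivial_iff_two_le.2 hb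
        exact exists_ne j₀
      obtain ⟨r, hr⟩ := hroot (φ (Pi.single j₁ 1) / G₂ j₀ j₀)
      refine ⟨r • Pi.single j₀ 1 + Pi.single j₁ 1, ?_, fun h => ?_⟩
      · rw [map_add, hφsmul, hsingle, hr, div_mul_cancel₀ _ hj₀]
        linear_combination φ (Pi.single j₁ 1) * h2
      · simpa [hj₁] using congrFun h j₁
    let co : (ι → F) →ₗ[F] (Fin a × Fin b → F) :=
      (LinearMap.funLeft F F e.symm).comp (Matrix.toLin' ((P⁻¹ : GL ι F) : Matrix ι ι F))
    have hcoX : ∀ g ∈ H, ∀ u, ∀ X, (g : Matrix ι ι F) = frAlg e P X →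
        co ((g : Matrix ι ι F) *ᵥ u) = X *ᵥ co u := by
      intro g _ u X hX
      have hu : u = (P : Matrix ι ι F) *ᵥ (co u ∘ e) := by
        simp only [co, LinearMap.comp_apply, Matrix.toLin'_apply]
        rw [show (LinearMap.funLeft F F e.symm (((P⁻¹ : GL ι F) : Matrix ι ι F) *ᵥ u)) ∘ ⇑e =
          ((P⁻¹ : GL ι F) : Matrix ι ι F) *ᵥ u from funext fun i => by simp [LinearMap.funLeft],
          mulVec_inv_cancel]
      conv_lhs => rw [hu, hX, frAlg_mulVec]
      show (fun i => (((P⁻¹ : GL ι F) : Matrix ι ι F) *ᵥ _) (e.symm i)) = _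
      rw [inv_mulVec_cancel]
      funext i; simp
    let W : Submodule F (ι → F) :=
      ⨅ i : Fin a, W₂.comap ((LinearMap.funLeft F F (fun j => (i, j))).comp co)
    have hWmem : ∀ u, u ∈ W ↔ ∀ i, φ (fun j => co u (i, j)) = 0 := fun u => by
      simp [W, Submodule.mem_iInf, LinearMap.funLeft, W₂, Function.comp_def]
    have hsl : ∀ (y : Fin b → F) (x : Fin a → F),
        co ((P : Matrix ι ι F) *ᵥ ((fun p : Fin a × Fin b => x p.1 * y p.2) ∘ e)) =
          fun p => x p.1 * y p.2 := by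
      intro y x
      funext p
      simp [co, LinearMap.funLeft]
    have hWinv : Inv H W := by
      intro g hg u hu
      rw [hWmem] at hu ⊢
      obtain ⟨c, d, s, t, -, hgX, -, hd⟩ := T.elem g hg
      intro i
      rw [hcoX g hg u _ hgX]
      have hrow : (fun j => (((c : Matrix (Fin a) (Fin a) F) ⊗ₖ (d : Matrix (Fin b) (Fin b) F)) *ᵥ
          co u) (i, j)) = ∑ k, (c : Matrix (Fin a) (Fin a) F) i k •
            ((d : Matrix (Fin b) (Fin b) F) *ᵥ fun j => co u (k, j)) := by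
        funext j
        simp [Matrix.mulVec, dotProduct, Fintype.sum_prod_type, Finset.sum_apply, Finset.mul_sum,
          mul_assoc]
      rw [hrow, map_sum]
      refine Finset.sum_eq_zero fun k _ => ?_
      rw [hφsmul]
      refine mul_eq_zero_of_right _ ?_
      show (_ *ᵥ _) ⬝ᵥ (G₂ *ᵥ (_ *ᵥ _)) = 0
      rw [Matrix.mulVec_mulVec, ← Matrix.vecMul_transpose, ← Matrix.dotProduct_mulVec,
        Matrix.mulVec_mulVec, ← mul_assoc, hd, Matrix.smul_mulVec, dotProduct_smul]
      have := hu k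
      exact mul_eq_zero_of_right _ this
    let i₀ : Fin a := ⟨0, by omega⟩
    rcases irr_iff.1 hirr W hWinv with h | h
    · have hmem : (P : Matrix ι ι F) *ᵥ ((fun p : Fin a × Fin b =>
          (Pi.single i₀ 1 : Fin a → F) p.1 * w p.2) ∘ e) ∈ W := by
        rw [hWmem]
        intro i
        rw [hsl]
        show φ ((Pi.single i₀ 1 : Fin a → F) i • w) = 0
        rw [hφsmul, hw, mul_zero]
      rw [h, Submodule.mem_bot] at hmem
      obtain ⟨j, hj⟩ : ∃ j, w j ≠ 0 := by
        by_contra hc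
        push Not at hc
        exact hw0 (funext hc)
      have := congrFun (congrArg co hmem) (i₀, j)
      rw [hsl, map_zero] at this
      exact hj (by simpa using this)
    · have hmem : (P : Matrix ι ι F) *ᵥ ((fun p : Fin a × Fin b =>
          (Pi.single i₀ 1 : Fin a → F) p.1 * (Pi.single j₀ 1 : Fin b → F) p.2) ∘ e) ∈ W :=
        h ▸ Submodule.mem_top
      rw [hWmem] at hmem
      have := hmem i₀
      rw [hsl] at this
      apply hj₀
      rw [← hsingle, ← this]
      congr 1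
      funext j
      simp
  refine quad_of_oriented hf T.pull (fun p q => ?_) (fun p q => p.1 < q.1) (fun p q h => ?_)
    {x | ∃ (y : Fin a → F) (z : Fin b → F), x = fun p => y p.1 * z p.2}
    (fun p => ⟨Pi.single p.1 1, Pi.single p.2 1, funext fun q => ?_⟩) ?_ hH fun g hg => ?_
  · show G₁ p.1 q.1 * G₂ p.2 q.2 = G₁ q.1 p.1 * G₂ q.2 p.2
    rw [hs₁, hs₂]
  · have hne : p.1 ≠ q.1 := fun h' => h (by
      show G₁ p.1 q.1 * _ = 0
      rw [h', hd₁, zero_mul])
    constructor
    · exact fun h1 h2 => lt_asymm h1 h2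
    · exact fun h1 => lt_of_le_of_ne (not_lt.1 h1) hne
  · by_cases h : q = p
    · subst h; simp
    · rw [Pi.single_eq_of_ne h]
      rcases not_and_or.1 (fun hh : q.1 = p.1 ∧ q.2 = p.2 => h (Prod.ext hh.1 hh.2)) with h' | h' <;>
        simp [h']
  · rintro _ ⟨y, z, rfl⟩ inst
    have hz : z ⬝ᵥ (G₂ *ᵥ z) = 0 := by
      show φ z = 0
      rw [pi_eq_sum_univ' z, map_sum]
      refine Finset.sum_eq_zero fun j _ => ?_
      rw [hφsmul]
      refine mul_eq_zero_of_right _ ?_
      show _ ⬝ᵥ (G₂ *ᵥ _) = 0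
      rw [Matrix.mulVec_single_one, single_dotProduct, one_mul]
      exact hd₂ j
    calc _ = ∑ i, ∑ k, (if i < k then y i * G₁ i k * y k else 0) * (z ⬝ᵥ (G₂ *ᵥ z)) := by
          simp only [Fintype.sum_prod_type]
          refine Finset.sum_congr rfl fun i _ => ?_
          rw [Finset.sum_comm]
          refine Finset.sum_congr rfl fun k _ => ?_
          simp only [dotProduct, Matrix.mulVec, Finset.mul_sum, Matrix.kroneckerMap_apply]
          refine Finset.sum_congr rfl fun j _ => Finset.sum_congr rfl fun l _ => ?_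
          by_cases hik : i < k <;> simp [hik]
          ring
      _ = 0 := by simp [hz]
  · obtain ⟨c, d, -, -, -, hgX, -, -⟩ := T.elem g hg
    refine ⟨_, hgX, ?_⟩
    rintro _ ⟨y, z, rfl⟩
    refine ⟨(c : Matrix (Fin a) (Fin a) F) *ᵥ y, (d : Matrix (Fin b) (Fin b) F) *ᵥ z, funext fun p => ?_⟩
    simp only [Matrix.mulVec, dotProduct, Fintype.sum_prod_type, Matrix.kroneckerMap_apply,
      Finset.sum_mul, Finset.mul_sum]
    rw [Finset.sum_comm]
    exact Finset.sum_congr rfl fun i _ => Finset.sum_congr rfl fun j _ => by ring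

/-- The operator attached to a symmetric factor of dimension two. -/
theorem TensorForm.plane [Nonempty ι] (hf : IsRefl (RingEquiv.refl F) ε f) (h2 : (2 : F) ≠ 0)
    {H : Subgroup (GL ι F)} (hH : Cfsg.Geo.FixesForm (Cfsg.Geo.matrixSet H) f)
    {a : ℕ} {e : ι ≃ Fin a × Fin 2} {P : GL ι F}
    {G₁ : Matrix (Fin a) (Fin a) F} {G₂ : Matrix (Fin 2) (Fin 2) F}
    (T : TensorForm f H e P G₁ G₂) (hs : G₂ᵀ = G₂) :
    (∃ (k : ℕ) (D : Fin 2 → Submodule F (ι → F)), 2 * k = Fintype.card ι ∧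
      Cfsg.Geo.IsMDecomposition k D ∧ (∀ i, Cfsg.Geo.IsTotallySingularFor f (D i)) ∧
      H ≤ Cfsg.Geo.decompositionStabilizer D) ∨
    (∃ K : Subalgebra F (Matrix ι ι F), Cfsg.Geo.IsFieldSubalgebra 2 K ∧
      Cfsg.Geo.IsAdjointClosedFor f K ∧ ¬ Cfsg.Geo.IsSelfAdjointFor f K ∧
      H ≤ Cfsg.Geo.subalgebraNormalizer K) := by
  obtain ⟨Gu, hGu⟩ := T.unit₂
  set Gi : Matrix (Fin 2) (Fin 2) F := ((Gu⁻¹ : GL (Fin 2) F) : Matrix (Fin 2) (Fin 2) F) with hGi
  have hGiG : Gi * G₂ = 1 := by rw [hGi, ← hGu, Units.inv_mul]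
  have hGGi : G₂ * Gi = 1 := by rw [hGi, ← hGu, Units.mul_inv]
  have hGis : Giᵀ = Gi := by
    have h1 : Giᵀ * G₂ = 1 := by rw [← hs, ← Matrix.transpose_mul, hGGi, Matrix.transpose_one]
    calc Giᵀ = Giᵀ * (G₂ * Gi) := by rw [hGGi, mul_one]
      _ = Gi := by rw [← mul_assoc, h1, one_mul]
  set A : Matrix (Fin 2) (Fin 2) F := Gi * omega2 F with hA
  have hdet : Gi.det ≠ 0 := (Gu⁻¹ : GL (Fin 2) F).det_ne_zero
  have hω2 : omega2 F * omega2 F = (-1 : F) • 1 := by
    ext i j; fin_cases i <;> fin_cases j <;> simp [omega2]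
  have hA2 : A * A = (-Gi.det) • 1 := by
    have h := omega2_sim Gi
    rw [hGis] at h
    calc A * A = (Gi * omega2 F * Gi) * omega2 F := by simp [A, mul_assoc]
      _ = _ := by rw [h, Matrix.smul_mul, hω2, smul_smul, mul_neg, mul_one]
  set f' := pullForm e P f
  have hf' : IsRefl (RingEquiv.refl F) ε f' := hf.pull e P
  have hgram : Cfsg.Geo.gramMatrix f' = G₁ ⊗ₖ G₂ := by
    rw [show f' = Cfsg.Geo.formOfGram id (G₁ ⊗ₖ G₂) from funext fun x => funext fun y => T.pull x y]
    exact gramMatrix_formOfGram (σ := RingEquiv.refl F) _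
  have hadj : hf'.adj ((1 : Matrix (Fin a) (Fin a) F) ⊗ₖ A) =
      (-1 : F) • ((1 : Matrix (Fin a) (Fin a) F) ⊗ₖ A) := by
    have h := hf'.gram_adj ((1 : Matrix (Fin a) (Fin a) F) ⊗ₖ A)
    rw [hgram, show (hf'.adj ((1 : Matrix (Fin a) (Fin a) F) ⊗ₖ A)).map (RingEquiv.refl F) =
      hf'.adj ((1 : Matrix (Fin a) (Fin a) F) ⊗ₖ A) from Matrix.map_id _,
      ← Matrix.kroneckerMap_transpose, Matrix.transpose_one, ← Matrix.mul_kronecker_mul, one_mul,
      hA, Matrix.transpose_mul, hGis, omega2_transpose, mul_assoc, hGiG, mul_one] at h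
    have h' : (G₁ ⊗ₖ G₂) * hf'.adj ((1 : Matrix (Fin a) (Fin a) F) ⊗ₖ A) =
        (G₁ ⊗ₖ G₂) * ((-1 : F) • ((1 : Matrix (Fin a) (Fin a) F) ⊗ₖ A)) := by
      rw [← h, Matrix.mul_smul, ← Matrix.mul_kronecker_mul, mul_one, hA, ← mul_assoc, hGGi, one_mul,
        Matrix.kronecker_smul]
    exact (hgram ▸ hf'.sesq.gram_isUnit hf'.nondeg).mul_left_cancel h'
  refine skew_operator hf h2 hH (I := frAlg e P ((1 : Matrix (Fin a) (Fin a) F) ⊗ₖ A))
    (δ := -Gi.det) (neg_ne_zero.2 hdet) ?_ ?_ fun g hg => ?_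
  · rw [← map_mul, ← Matrix.mul_kronecker_mul, one_mul, hA2, Matrix.kronecker_smul,
      Matrix.one_kronecker_one, map_smul, map_one]
  · rw [← hf.adj_pull e P, show (hf.pull e P).adj ((1 : Matrix (Fin a) (Fin a) F) ⊗ₖ A) =
      (-1 : F) • ((1 : Matrix (Fin a) (Fin a) F) ⊗ₖ A) from hadj, map_smul, neg_one_smul]
  obtain ⟨c, d, u, v, huv, hgX, hc, hd⟩ := T.elem g hg
  have hv : v ≠ 0 := fun h => by rw [h, mul_zero] at huv; exact zero_ne_one huv
  have hdd : (d : Matrix (Fin 2) (Fin 2) F).det ≠ 0 := d.det_ne_zero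
  refine ⟨v / (d : Matrix (Fin 2) (Fin 2) F).det, ?_⟩
  have key : (d : Matrix (Fin 2) (Fin 2) F) * A =
      (v / (d : Matrix (Fin 2) (Fin 2) F).det) • (A * (d : Matrix (Fin 2) (Fin 2) F)) := by
    refine (((Matrix.isUnit_transpose _).2 d.isUnit).mul T.unit₂).mul_left_cancel ?_
    have h1 : (d : Matrix (Fin 2) (Fin 2) F)ᵀ * G₂ * ((d : Matrix (Fin 2) (Fin 2) F) * A) =
        v • omega2 F := by
      rw [← mul_assoc, hd, Matrix.smul_mul, hA, ← mul_assoc, hGGi, one_mul]
    have h3 : (d : Matrix (Fin 2) (Fin 2) F)ᵀ * G₂ * (A * (d : Matrix (Fin 2) (Fin 2) F)) =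
        (d : Matrix (Fin 2) (Fin 2) F).det • omega2 F := by
      rw [← omega2_sim, hA]
      calc _ = (d : Matrix (Fin 2) (Fin 2) F)ᵀ * (G₂ * Gi) * omega2 F *
            (d : Matrix (Fin 2) (Fin 2) F) := by simp [mul_assoc]
        _ = _ := by rw [hGGi, mul_one]
    rw [h1, Matrix.mul_smul, h3, smul_smul, div_mul_cancel₀ _ hdd]
  have hcomm : (g : Matrix ι ι F) * frAlg e P ((1 : Matrix (Fin a) (Fin a) F) ⊗ₖ A) =
      (v / (d : Matrix (Fin 2) (Fin 2) F).det) •
        (frAlg e P ((1 : Matrix (Fin a) (Fin a) F) ⊗ₖ A) * (g : Matrix ι ι F)) := by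
    rw [hgX, ← map_mul, ← map_mul, ← map_smul, ← Matrix.mul_kronecker_mul,
      ← Matrix.mul_kronecker_mul, mul_one, one_mul, key, Matrix.kronecker_smul]
  rw [hcomm, Matrix.smul_mul, mul_assoc, Units.mul_inv, mul_one]

end CfsgLib.Aschbacher
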