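import Cfsg.Agent.Lib.Aschbacher.UnitaryPair
import Cfsg.Agent.Lib.Aschbacher.SympTensor
import Cfsg.Agent.Lib.Aschbacher.Involutive

/-!
Adjoint-closed fields and full matrix algebras normalised by a group of unitary isometries, and
the resulting trichotomy for normalised subgroups.
-/

set_option autoImplicit false
set_option maxHeartbeats 800000

namespace CfsgLib.Aschbacher

open Matrix Module

open scoped Kronecker

variable {F : Type*} [Field F] [Fintype F] {n q : ℕ} {σ : F ≃+* F}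

/-- An adjoint-closed normalised field gives class three. -/
theorem unit_field [NeZero n] (hF : Fintype.card F = q ^ 2) (hσ : ∀ a, σ a = a ^ q)
    (hf : Cfsg.Geo.IsUnitaryForm σ (Cfsg.hermForm n F q)) {H : Subgroup (GL (Fin n) F)}
    (hH : H ≤ Cfsg.GU n F q) {e : ℕ} {K : Subalgebra F (Matrix (Fin n) (Fin n) F)}
    (hK : Cfsg.Geo.IsFieldSubalgebra e K) (he : 1 < e)
    (hadj : ∀ k ∈ K, (isRefl_of_unitary hf).adj k ∈ K)
    (hle : H ≤ Cfsg.Geo.subalgebraNormalizer K) : InUnitClassOver q H := by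
  classical
  have : Nonempty (Fin n) := ⟨⟨0, Nat.pos_of_ne_zero (NeZero.ne n)⟩⟩
  set hr := isRefl_of_unitary hf
  letI : Field ↥K := (isField_of_fieldSubalgebra hK).toField
  letI : Fintype ↥K := Fintype.ofFinite _
  let φ : ↥K ≃+* ↥K :=
    { toFun := fun k => ⟨hr.adj k, hadj k k.2⟩
      invFun := fun k => ⟨hr.adj k, hadj k k.2⟩
      left_inv := fun k => Subtype.ext (hr.adj_adj _)
      right_inv := fun k => Subtype.ext (hr.adj_adj _)
      map_mul' := fun x y => Subtype.ext (by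
        show hr.adj ((x : Matrix (Fin n) (Fin n) F) * y) = hr.adj x * hr.adj y
        rw [hr.adj_mul, hK.comm _ (hadj y y.2) _ (hadj x x.2)])
      map_add' := fun x y => Subtype.ext (hr.adj_add _ _) }
  have hscal : ∀ c : F, φ (algebraMap F ↥K c) = algebraMap F ↥K (σ c) := fun c => Subtype.ext (by
    show hr.adj ((algebraMap F ↥K c : ↥K) : Matrix (Fin n) (Fin n) F) = _
    rw [Subalgebra.coe_algebraMap, Subalgebra.coe_algebraMap, Algebra.algebraMap_eq_smul_one,
      Algebra.algebraMap_eq_smul_one, hr.adj_scalar])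
  have hinj : Function.Injective (algebraMap F ↥K) := (algebraMap F ↥K).injective
  obtain ⟨μ, hμ⟩ : ∃ μ, σ μ ≠ μ := by
    by_contra h
    push Not at h
    exact hf.ne_refl (RingEquiv.ext h)
  obtain ⟨Q, hQ, hφQ⟩ := exists_sq_of_involutive' (σ := φ)
    (fun h => hμ (hinj (by rw [← hscal, h]; rfl))) (fun a => Subtype.ext (hr.adj_adj _))
  have hcardK : Fintype.card ↥K = Fintype.card F ^ e := by
    rw [← hK.finrank_eq]; exact Module.card_eq_pow_finrank
  have hQe : Q = q ^ e := by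
    rw [hF, hQ, ← pow_mul, mul_comm, pow_mul] at hcardK
    exact Nat.pow_left_injective two_ne_zero hcardK
  have heodd : Odd e := by
    by_contra hev
    obtain ⟨j, hj⟩ := Nat.not_odd_iff_even.1 hev
    apply hμ
    apply hinj
    rw [← hscal, hφQ, ← map_pow, hQe, hj, ← two_mul, pow_mul, ← hF, FiniteField.pow_card_pow]
  obtain ⟨r, Q₀, K₀, hrp, hre, hK₀, hmem, hle₀⟩ := exists_prime_subfield hK he hle
  have hpow : ∀ (k : Matrix (Fin n) (Fin n) F) (j : ℕ), hr.adj (k ^ j) = hr.adj k ^ j := by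
    intro k j
    induction j with
    | zero => rw [pow_zero, pow_zero, hr.adj_one]
    | succ j ih => rw [pow_succ, hr.adj_mul, ih, ← pow_succ']
  refine ⟨Cfsg.Geo.subalgebraNormalizer K₀ ⊓ Cfsg.GU n F q, ?_, le_inf hle₀ hH⟩
  iterate 8 right
  left
  refine ⟨r, K₀, hrp, heodd.of_dvd_nat hre, hK₀, fun k hk => ?_, rfl⟩
  obtain ⟨hkK, hkQ⟩ := (hmem k).1 hk
  exact ⟨hr.adj k, (hmem _).2 ⟨hadj k hkK, by rw [← hpow, hkQ]⟩, hr.adj_spec k⟩

omit [Fintype F] in
lemma isometry_gram {κ : Type} [Fintype κ] [DecidableEq κ] {e : Fin n ≃ κ} {P : GL (Fin n) F}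
    {f : (Fin n → F) → (Fin n → F) → F} {G : Matrix κ κ F}
    (hpull : ∀ x y, pullForm e P f x y = Cfsg.Geo.formOfGram σ G x y) {g : GL (Fin n) F}
    {X : Matrix κ κ F} (hgX : (g : Matrix (Fin n) (Fin n) F) = frAlg e P X)
    (hg : ∀ u v, f ((g : Matrix (Fin n) (Fin n) F) *ᵥ u) ((g : Matrix (Fin n) (Fin n) F) *ᵥ v) =
      f u v) : Xᵀ * G * X.map σ = G := by
  ext p r
  have h := pullForm_isometry e P hgX hg (Pi.single p 1) (Pi.single r 1)
  rw [hpull, hpull, formOfGram_eq, formOfGram_eq, comp_mulVec, map_single_one,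
    Matrix.mulVec_mulVec, Matrix.mulVec_single_one, Matrix.mulVec_single_one,
    Matrix.mulVec_single_one] at h
  rw [mul_assoc, Matrix.mul_apply]
  simpa [Matrix.mul_apply, dotProduct, Matrix.col, Pi.single_apply] using h

/-- Class four. -/
theorem unit_tensor (hσ : ∀ a, σ a = a ^ q) (hinv : ∀ a, σ (σ a) = a)
    {H : Subgroup (GL (Fin n) F)} (hH : H ≤ Cfsg.GU n F q) {a b : ℕ}
    {e : Fin n ≃ Fin a × Fin b} {P : GL (Fin n) F} {G₁ : Matrix (Fin a) (Fin a) F}
    {G₂ : Matrix (Fin b) (Fin b) F} {c₀ : F} (ha : 2 ≤ a) (hab : a < b) (hc₀ : c₀ ≠ 0)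
    (hu₁ : IsUnit G₁) (hu₂ : IsUnit G₂) (hh₁ : G₁ᵀ = G₁.map σ) (hh₂ : G₂ᵀ = G₂.map σ)
    (hpull : ∀ x y, pullForm e P (Cfsg.hermForm n F q) x y =
      c₀ * Cfsg.Geo.formOfGram σ (G₁ ⊗ₖ G₂) x y)
    (hle : H ≤ Cfsg.Geo.tensorProductSubgroup a b e P) : InUnitClassOver q H := by
  have hfun : (fun x : F => x ^ q) = (σ : F → F) := funext fun x => (hσ x).symm
  refine ⟨Cfsg.Geo.tensorProductSubgroup a b e P ⊓ Cfsg.GU n F q, ?_, le_inf hle hH⟩
  iterate 9 right
  left
  refine ⟨a, b, e, P, _, _, ha, hab, unitaryFormPow_formOfGram hσ hinv hu₁ hh₁,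
    unitaryFormPow_formOfGram hσ hinv hu₂ hh₂, ⟨c₀, hc₀, fun x y => ?_⟩, rfl⟩
  rw [hfun, gramMatrix_formOfGram, gramMatrix_formOfGram]
  exact hpull x y

omit [Fintype F] in
/-- A tensor product with two equal factors lies in the tensor-wreath group. -/
lemma tensor_le_wreath {k : ℕ} (e : Fin n ≃ Fin k × Fin k) (P : GL (Fin n) F) :
    Cfsg.Geo.tensorProductSubgroup k k e P ≤
      Cfsg.Geo.tensorWreathSubgroup k 2 (e.trans (finTwoArrowEquiv (Fin k)).symm) P := by
  rw [Cfsg.Geo.tensorProductSubgroup, Cfsg.Geo.tensorWreathSubgroup, map_glReindex_conj,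
    map_glReindex_conj]
  rintro _ ⟨y, ⟨c, d, hy⟩, rfl⟩
  refine ⟨Cfsg.Geo.glReindex (finTwoArrowEquiv (Fin k)).symm y,
    Subgroup.subset_closure (Or.inl ⟨![c, d], fun x z => ?_⟩), Units.ext ?_⟩
  · simp [Cfsg.Geo.glReindex, hy, Fin.prod_univ_two]
  · rw [MulEquiv.coe_toMonoidHom, MulEquiv.coe_toMonoidHom, frU_val, frU_val, frAlg_apply,
      frAlg_apply]
    congr 2

/-- Two factors of dimension two: the group is rational over the fixed field. -/
theorem unit_two_two (hF : Fintype.card F = q ^ 2) (hσ : ∀ a, σ a = a ^ q)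
    (hf : Cfsg.Geo.IsUnitaryForm σ (Cfsg.hermForm n F q)) (hn : 2 ≤ n)
    {H : Subgroup (GL (Fin n) F)} (hH : H ≤ Cfsg.GU n F q) (hirr : Irr H)
    {e : Fin n ≃ Fin 2 × Fin 2} {P : GL (Fin n) F} {c₀ : F} (hc₀ : c₀ ≠ 0)
    (hpull : ∀ x y, pullForm e P (Cfsg.hermForm n F q) x y =
      c₀ * Cfsg.Geo.formOfGram σ (1 : Matrix (Fin 2 × Fin 2) (Fin 2 × Fin 2) F) x y)
    (hle : H ≤ Cfsg.Geo.tensorProductSubgroup 2 2 e P) : InUnitClassOver q H := by
  classical
  obtain ⟨μ, hμ⟩ : ∃ μ, σ μ ≠ μ := by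
    by_contra h
    push Not at h
    exact hf.ne_refl (RingEquiv.ext h)
  let m : Matrix (Fin 2 × Fin 2) (Fin 2 × Fin 2) F →+*
      Matrix (Fin 2 × Fin 2) (Fin 2 × Fin 2) F := σ.toRingHom.mapMatrix
  have hm : ∀ M, m M = M.map σ := fun _ => rfl
  set K : Matrix (Fin 2 × Fin 2) (Fin 2 × Fin 2) F := omega2 F ⊗ₖ omega2 F with hKdef
  have hKt : Kᵀ = K := by
    rw [hKdef, ← Matrix.kroneckerMap_transpose, omega2_transpose, Matrix.smul_kronecker,
      Matrix.kronecker_smul, smul_smul, neg_one_mul, neg_neg, one_smul]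
  have hK2 : K * K = 1 := by
    have h : omega2 F * omega2 F = (-1 : F) • (1 : Matrix (Fin 2) (Fin 2) F) := by
      ext i j; fin_cases i <;> fin_cases j <;> simp [omega2]
    rw [hKdef, ← Matrix.mul_kronecker_mul, h, Matrix.smul_kronecker, Matrix.kronecker_smul,
      smul_smul, neg_one_mul, neg_neg, one_smul, Matrix.one_kronecker_one]
  have hKσ : K.map σ = K := by
    ext ⟨i, j⟩ ⟨k, l⟩
    fin_cases i <;> fin_cases j <;> fin_cases k <;> fin_cases l <;> simp [hKdef, omega2]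
  -- the fixed points of the semilinear map
  let Qm : Matrix (Fin 2 × Fin 2) (Fin 2 × Fin 2) F := Matrix.of fun p r =>
    if p = (0, 0) then (if r = (0, 0) then μ else if r = (1, 1) then 1 else 0)
    else if p = (1, 1) then (if r = (0, 0) then σ μ else if r = (1, 1) then 1 else 0)
    else if p = (0, 1) then (if r = (0, 1) then μ else if r = (1, 0) then 1 else 0)
    else (if r = (0, 1) then -σ μ else if r = (1, 0) then -1 else 0)
  have hQK : Qm.map σ = K * Qm := by
    ext ⟨i, j⟩ ⟨k, l⟩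
    fin_cases i <;> fin_cases j <;> fin_cases k <;> fin_cases l <;>
      simp [Qm, hKdef, omega2, Matrix.mul_apply, Fintype.sum_prod_type, hf.involutive]
  obtain ⟨Qu, hQu⟩ : IsUnit Qm := by
    rw [← Matrix.mulVec_injective_iff_isUnit]
    intro u v huv
    have h : ∀ p, (Qm *ᵥ u) p = (Qm *ᵥ v) p := fun p => congrFun huv p
    have h00 := h (0, 0); have h11 := h (1, 1); have h01 := h (0, 1); have h10 := h (1, 0)
    simp [Qm, Matrix.mulVec, dotProduct, Fintype.sum_prod_type] at h00 h11 h01 h10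
    have hd : μ - σ μ ≠ 0 := sub_ne_zero.2 (Ne.symm hμ)
    have e1 : u (0, 0) = v (0, 0) := mul_left_cancel₀ hd (by linear_combination h00 - h11)
    have e2 : u (0, 1) = v (0, 1) := mul_left_cancel₀ hd (by linear_combination h01 + h10)
    funext ⟨i, j⟩
    fin_cases i <;> fin_cases j
    · exact e1
    · exact e2
    · show u (1, 0) = v (1, 0)
      rw [e2] at h01; linear_combination h01
    · show u (1, 1) = v (1, 1)
      rw [e1] at h00; linear_combination h00
  obtain ⟨p, h, hpp, hchar, hh, hqp⟩ := exists_prime_pow hF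
  have : Fact p.Prime := ⟨hpp⟩
  obtain ⟨F₁, hF₁, hmem⟩ := exists_subfield_of_dvd (F := F) (p := p) (f := 2 * h) (e := h)
    (by rw [hF, hqp, ← pow_mul, mul_comm]) (dvd_mul_left h 2)
  have hmem' : ∀ x, x ∈ F₁ ↔ σ x = x := fun x => by rw [hmem, hσ, hqp]
  set P' := frU e P Qu * P
  refine unit_rational hF hσ hf hn hH hirr Nat.prime_two (F₁ := F₁) (P := P') (c := c₀⁻¹)
    (by rw [hF₁, hF, hqp]) (inv_ne_zero hc₀) (fun a b => ?_) fun g hg => ?_
  · -- values of the form
    have hv : ∀ i : Fin n, (Pi.single i (1 : F) : Fin n → F) =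
        (Pi.single (e i) 1 : Fin 2 × Fin 2 → F) ∘ e := fun i => by
      funext j
      simp [Pi.single_apply]
    rw [hv a, hv b]
    show c₀⁻¹ * pullForm e (frU e P Qu * P) (Cfsg.hermForm n F q) _ _ ∈ F₁
    rw [pullForm_frame_change, hpull, ← mul_assoc, inv_mul_cancel₀ hc₀, one_mul, hmem']
    have hG : ∀ x y : Fin 2 × Fin 2 → F, Cfsg.Geo.formOfGram σ
        (1 : Matrix (Fin 2 × Fin 2) (Fin 2 × Fin 2) F) (Qm *ᵥ x) (Qm *ᵥ y) =
        x ⬝ᵥ ((Qmᵀ * K * Qm) *ᵥ ((σ : F → F) ∘ y)) := by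
      intro x y
      rw [formOfGram_eq, Matrix.one_mulVec, comp_mulVec, ← Matrix.vecMul_transpose,
        ← Matrix.dotProduct_mulVec, Matrix.mulVec_mulVec, hQK, ← mul_assoc]
    have hfix : (Qmᵀ * K * Qm).map σ = Qmᵀ * K * Qm := by
      rw [← hm, map_mul, map_mul, hm, hm, hm, hKσ, Matrix.transpose_map, hQK,
        Matrix.transpose_mul, hKt, mul_assoc Qmᵀ K K, hK2, mul_one, mul_assoc]
    rw [hQu, hG, map_single_one, Matrix.mulVec_single_one, single_dotProduct, one_mul]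
    exact congrFun (congrFun hfix (e a)) (e b)
  · -- membership
    have hle' := hle hg
    rw [Cfsg.Geo.tensorProductSubgroup, map_glReindex_conj] at hle'
    obtain ⟨y, ⟨c, d, hcd⟩, rfl⟩ := hle'
    set δ := (c : Matrix (Fin 2) (Fin 2) F).det * (d : Matrix (Fin 2) (Fin 2) F).det with hδ
    set Y : Matrix (Fin 2 × Fin 2) (Fin 2 × Fin 2) F := (y : Matrix (Fin 2 × Fin 2) (Fin 2 × Fin 2) F) with hY
    have hYK : Yᵀ * K * Y = δ • K := by
      rw [hcd, hKdef, ← Matrix.kroneckerMap_transpose, ← Matrix.mul_kronecker_mul,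
        ← Matrix.mul_kronecker_mul, omega2_sim, omega2_sim, Matrix.smul_kronecker,
        Matrix.kronecker_smul, smul_smul, hδ]
    have hYI : Yᵀ * Y.map σ = 1 := by
      have := isometry_gram (σ := σ) (G := c₀ • (1 : Matrix (Fin 2 × Fin 2) (Fin 2 × Fin 2) F))
        (e := e) (P := P) (f := Cfsg.hermForm n F q) (fun x z => by rw [hpull, formOfGram_smul])
        (g := frU e P y) (frU_val e P y) (isometry_apply (fixesForm_GU hH) hg)
      rw [Matrix.mul_smul, mul_one, Matrix.smul_mul] at this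
      exact smul_right_injective _ hc₀ this
    have hδ0 : δ ≠ 0 := mul_ne_zero
      ((Matrix.isUnit_iff_isUnit_det _).1 c.isUnit).ne_zero
      ((Matrix.isUnit_iff_isUnit_det _).1 d.isUnit).ne_zero
    have hsemi : Y.map σ = δ⁻¹ • (K * Y * K) := by
      have h1 : Yᵀ * (K * Y * K) = δ • 1 := by
        rw [← mul_assoc, ← mul_assoc, hYK, Matrix.smul_mul, hK2]
      have h2 : IsUnit Yᵀ := (Matrix.isUnit_transpose _).2 y.isUnit
      refine h2.mul_left_cancel ?_
      rw [hYI, Matrix.mul_smul, h1, smul_smul, inv_mul_cancel₀ hδ0, one_smul]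
    set Z : GL (Fin 2 × Fin 2) F := Qu⁻¹ * y * Qu with hZdef
    have hQZ : (Qu : Matrix (Fin 2 × Fin 2) (Fin 2 × Fin 2) F) * (Z : Matrix (Fin 2 × Fin 2) (Fin 2 × Fin 2) F) = Y * (Qu : Matrix (Fin 2 × Fin 2) (Fin 2 × Fin 2) F) := by
      rw [← Units.val_mul, hZdef, ← mul_assoc, mul_inv_cancel_left, Units.val_mul]
    have hZ : (Z : Matrix (Fin 2 × Fin 2) (Fin 2 × Fin 2) F).map σ = δ⁻¹ • (Z : Matrix (Fin 2 × Fin 2) (Fin 2 × Fin 2) F) := by
      refine (Qu.isUnit.map m).mul_left_cancel ?_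
      rw [hm, ← hm, ← hm, ← map_mul, hQZ, map_mul, hm, hm, hsemi, hQu, hQK, Matrix.mul_smul,
        Matrix.smul_mul, mul_assoc K Qm, ← hQu, hQZ, ← mul_assoc, mul_assoc (K * Y) K K, hK2,
        mul_one, mul_assoc]
    obtain ⟨i₀, j₀, hz⟩ : ∃ i j, (Z : Matrix (Fin 2 × Fin 2) (Fin 2 × Fin 2) F) i j ≠ 0 := by
      by_contra hcon
      push Not at hcon
      exact Z.ne_zero (Matrix.ext hcon)
    have hent : ∀ i j, σ ((Z : Matrix (Fin 2 × Fin 2) (Fin 2 × Fin 2) F) i j) = δ⁻¹ * (Z : Matrix (Fin 2 × Fin 2) (Fin 2 × Fin 2) F) i j := fun i j =>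
      congrFun (congrFun hZ i) j
    refine ⟨Cfsg.Geo.glReindex e.symm Z, ?_, ?_⟩
    · set x := Units.mk0 _ hz
      have h' : scalarGL (Fin n) x⁻¹ * Cfsg.Geo.glReindex e.symm Z ∈
          (Matrix.GeneralLinearGroup.map (F₁.subtype : F₁ →+* F)).range := by
        refine mem_range_map _ fun i j => (hmem' _).2 ?_
        simp only [Units.val_mul, scalarGL_val, Matrix.smul_mul, one_mul, Matrix.smul_apply,
          smul_eq_mul, Units.val_inv_eq_inv_val, map_mul, map_inv₀]
        have hij : ((Cfsg.Geo.glReindex e.symm Z : GL (Fin n) F) : Matrix (Fin n) (Fin n) F) i j =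
            (Z : Matrix (Fin 2 × Fin 2) (Fin 2 × Fin 2) F) (e i) (e j) := by
          simp [Cfsg.Geo.glReindex]
        rw [hij, hent, show σ ((x : Fˣ) : F) = δ⁻¹ * x from hent _ _, mul_inv, inv_inv]
        field_simp
      have heq : Cfsg.Geo.glReindex e.symm Z =
          scalarGL (Fin n) x * (scalarGL (Fin n) x⁻¹ * Cfsg.Geo.glReindex e.symm Z) := by
        rw [← mul_assoc, ← scalarGL_mul, mul_inv_cancel, scalarGL_one, one_mul]
      rw [heq]
      exact Subgroup.mul_mem _ (Subgroup.mem_sup_right (mem_scalars.2 ⟨x, rfl⟩))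
        (Subgroup.mem_sup_left h')
    · show frU e P' Z = frU e P y
      rw [show P' = frU e P Qu * P from rfl, frU_frame_change, hZdef]
      simp [mul_assoc]

/-- A normalised full matrix algebra gives a class. -/
theorem unit_units (hF : Fintype.card F = q ^ 2) (hσ : ∀ a, σ a = a ^ q)
    (hf : Cfsg.Geo.IsUnitaryForm σ (Cfsg.hermForm n F q)) {H : Subgroup (GL (Fin n) F)}
    (hH : H ≤ Cfsg.GU n F q) (hirr : Irr H) {a : ℕ} (ha : 2 ≤ a) (han : a < n)
    {E : Fin a → Fin a → Matrix (Fin n) (Fin n) F} (hE : IsUnits E)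
    (hEadj : ∀ k l, (isRefl_of_unitary hf).adj (E k l) ∈
      Submodule.span F (Set.range fun p : Fin a × Fin a => E p.1 p.2))
    (hHn : ∀ g ∈ H, ∀ k l, (g : Matrix (Fin n) (Fin n) F) * E k l *
      ((g⁻¹ : GL (Fin n) F) : Matrix (Fin n) (Fin n) F) ∈
      Submodule.span F (Set.range fun p : Fin a × Fin a => E p.1 p.2)) :
    InUnitClassOver q H := by
  classical
  have : Nonempty (Fin n) := ⟨⟨0, by omega⟩⟩
  have hr := isRefl_of_unitary hf
  obtain ⟨b, e, P, G₁, G₂, α, β, hb0, hcard, hu₁, hu₂, hpull, hαβ, hG₁, hG₂, hle, -⟩ :=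
    tensor_frame_form hr hE hEadj (fixesForm_GU hH) hHn
  rw [Fintype.card_fin] at hcard
  have hb : 2 ≤ b := by
    by_contra h
    obtain rfl : b = 1 := by omega
    omega
  -- Hermitian scalings
  have hscale : ∀ {c : ℕ} {G : Matrix (Fin c) (Fin c) F} {γ : F}, IsUnit G → Gᵀ = γ • G.map σ →
      ∃ l : F, l ≠ 0 ∧ IsUnit (l • G) ∧ (l • G)ᵀ = (l • G).map σ := by
    intro c G γ hG hGt
    have hγ : γ * σ γ = 1 ∨ G = 0 := by
      by_cases h0 : G = 0
      · exact Or.inr h0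
      left
      obtain ⟨i, j, hij⟩ : ∃ i j, G i j ≠ 0 := by
        by_contra hc
        push Not at hc
        exact h0 (Matrix.ext hc)
      have h1 : G j i = γ * σ (G i j) := congrFun (congrFun hGt i) j
      have h2 : G i j = γ * σ (G j i) := congrFun (congrFun hGt j) i
      rw [h1, map_mul, hf.involutive] at h2
      exact mul_right_cancel₀ hij (by rw [one_mul, mul_assoc]; exact h2.symm)
    rcases hγ with hγ | h0
    swap
    · exact ⟨1, one_ne_zero, by rwa [one_smul], by subst h0; ext; simp⟩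
    obtain ⟨l, hl0, hl⟩ := exists_hermitian_scale_top hf.involutive hf.ne_refl hγ
    refine ⟨l, hl0, ?_, ?_⟩
    · have hsm : l • G = Units.mk0 l hl0 • G := rfl
      rw [hsm]; exact hG.smul _
    · ext i j
      have h1 : G j i = γ * σ (G i j) := congrFun (congrFun hGt i) j
      simp only [Matrix.transpose_apply, Matrix.smul_apply, Matrix.map_apply, smul_eq_mul, map_mul,
        hl, h1]
      ring
  obtain ⟨l₁, hl₁, hu₁', hh₁⟩ := hscale hu₁ hG₁
  obtain ⟨l₂, hl₂, hu₂', hh₂⟩ := hscale hu₂ hG₂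
  set c₀ := (l₁ * l₂)⁻¹ with hc₀
  have hc₀0 : c₀ ≠ 0 := inv_ne_zero (mul_ne_zero hl₁ hl₂)
  have hpull' : ∀ x y, pullForm e P (Cfsg.hermForm n F q) x y =
      c₀ * Cfsg.Geo.formOfGram σ ((l₁ • G₁) ⊗ₖ (l₂ • G₂)) x y := by
    intro x y
    rw [hpull, Matrix.smul_kronecker, Matrix.kronecker_smul, smul_smul, formOfGram_smul, ← mul_assoc,
      hc₀, inv_mul_cancel₀ (mul_ne_zero hl₁ hl₂), one_mul]
  rcases lt_trichotomy a b with hab | hab | hab
  · exact unit_tensor hσ hf.involutive hH ha hab hc₀0 hu₁' hu₂' hh₁ hh₂ hpull' hle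
  swap
  · refine unit_tensor hσ hf.involutive hH (e := e.trans (Equiv.prodComm _ _)) (P := P) hb hab hc₀0
      hu₂' hu₁' hh₂ hh₁ (fun x y => ?_) (hle.trans (tensorProductSubgroup_swap e P))
    have h := hpull' (x ∘ Equiv.prodComm _ _) (y ∘ Equiv.prodComm _ _)
    show Cfsg.hermForm n F q (_ *ᵥ ((x ∘ Equiv.prodComm _ _) ∘ e))
      (_ *ᵥ ((y ∘ Equiv.prodComm _ _) ∘ e)) = _
    show pullForm e P (Cfsg.hermForm n F q) _ _ = _
    rw [h]
    congr 1
    simp only [Cfsg.Geo.formOfGram]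
    rw [← (Equiv.prodComm (Fin a) (Fin b)).sum_comp]
    refine Finset.sum_congr rfl fun p _ => ?_
    rw [← (Equiv.prodComm (Fin a) (Fin b)).sum_comp]
    refine Finset.sum_congr rfl fun r _ => ?_
    simp [mul_left_comm, mul_assoc, mul_comm (G₁ p.1 r.1)]
  subst hab
  obtain ⟨C₁, hC₁⟩ := exists_orthonormal hf.ne_refl hf.involutive hu₁' hh₁
  obtain ⟨C₂, hC₂⟩ := exists_orthonormal hf.ne_refl hf.involutive hu₂' hh₂
  set X := kronHom a a F (C₁, C₂)
  set P' := frU e P X * P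
  have hpull1 : ∀ x y, pullForm e P' (Cfsg.hermForm n F q) x y =
      c₀ * Cfsg.Geo.formOfGram σ (1 : Matrix (Fin a × Fin a) (Fin a × Fin a) F) x y := by
    intro x y
    rw [pullForm_frame_change, hpull', formOfGram_eq, formOfGram_eq, comp_mulVec,
      Matrix.mulVec_mulVec, ← Matrix.vecMul_transpose, ← Matrix.dotProduct_mulVec,
      Matrix.mulVec_mulVec]
    congr 3
    have hk : ((C₁ : Matrix (Fin a) (Fin a) F) ⊗ₖ (C₂ : Matrix (Fin a) (Fin a) F)).map σ =
        (C₁ : Matrix (Fin a) (Fin a) F).map σ ⊗ₖ (C₂ : Matrix (Fin a) (Fin a) F).map σ := by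
      ext ⟨p, r⟩ ⟨s, t⟩; simp
    rw [kronHom_val, hk, ← Matrix.kroneckerMap_transpose, ← Matrix.mul_kronecker_mul,
      ← Matrix.mul_kronecker_mul, ← mul_assoc, ← mul_assoc, hC₁, hC₂, Matrix.one_kronecker_one]
  have hle' : H ≤ (Cfsg.Geo.kroneckerSubgroup a a F).map (frU e P').toMonoidHom := by
    intro g hg
    have h := hle hg
    rw [Cfsg.Geo.tensorProductSubgroup, map_glReindex_conj] at h
    obtain ⟨y, hy, rfl⟩ := h
    have hX : X ∈ Cfsg.Geo.kroneckerSubgroup a a F := ⟨C₁, C₂, rfl⟩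
    refine ⟨X⁻¹ * y * X, Subgroup.mul_mem _ (Subgroup.mul_mem _ (Subgroup.inv_mem _ hX) hy) hX, ?_⟩
    show frU e (frU e P X * P) _ = frU e P y
    rw [frU_frame_change]
    simp [mul_assoc]
  have hle'' : H ≤ Cfsg.Geo.tensorProductSubgroup a a e P' := by
    rw [Cfsg.Geo.tensorProductSubgroup, map_glReindex_conj]; exact hle'
  by_cases h2 : a = 2
  · subst h2
    exact unit_two_two hF hσ hf (by omega) hH hirr hc₀0 hpull1 hle''
  by_cases h23 : q = 2 ∧ a = 3
  · obtain ⟨rfl, rfl⟩ := h23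
    exact pair_three_class hF hσ hf hH hc₀0 hpull1 hle'
  have hfun : (fun x : F => x ^ q) = (σ : F → F) := funext fun x => (hσ x).symm
  refine ⟨Cfsg.Geo.tensorWreathSubgroup a 2 (e.trans (finTwoArrowEquiv (Fin a)).symm) P' ⊓
    Cfsg.GU n F q, ?_, le_inf (hle''.trans (tensor_le_wreath e P')) hH⟩
  iterate 10 right
  refine ⟨a, 2, _, P', _, by omega, le_rfl, h23, unitaryFormPow_formOfGram hσ hf.involutive
    (G := (1 : Matrix (Fin a) (Fin a) F)) isUnit_one (by ext i j; by_cases h : i = j <;>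
      simp [h, Ne.symm]), ⟨c₀, hc₀0, fun x y => ?_⟩, rfl⟩
  rw [hfun, gramMatrix_formOfGram]
  have h := hpull1 (x ∘ (finTwoArrowEquiv (Fin a)).symm) (y ∘ (finTwoArrowEquiv (Fin a)).symm)
  simp only [pullForm, Function.comp_assoc] at h
  refine h.trans ?_
  congr 1
  simp only [Cfsg.Geo.formOfGram]
  rw [← (finTwoArrowEquiv (Fin a)).sum_comp]
  refine Finset.sum_congr rfl fun p _ => ?_
  rw [← (finTwoArrowEquiv (Fin a)).sum_comp]
  refine Finset.sum_congr rfl fun r _ => ?_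
  have hp : ∀ t : Fin 2 → Fin a, ![t 0, t 1] = t := fun t => by ext i; fin_cases i <;> rfl
  simp [Matrix.one_apply, Fin.prod_univ_two, Prod.ext_iff, ite_and, hp]
  split_ifs <;> rfl

/-- A normalised subgroup gives a class, consists of scalars or is absolutely irreducible. -/
theorem unit_trichotomy [NeZero n] (hF : Fintype.card F = q ^ 2) (hσ : ∀ a, σ a = a ^ q)
    (hf : Cfsg.Geo.IsUnitaryForm σ (Cfsg.hermForm n F q)) {H : Subgroup (GL (Fin n) F)}
    (hH : H ≤ Cfsg.GU n F q) (hirr : Irr H) {A : Subgroup (GL (Fin n) F)} (hAH : A ≤ H)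
    (hnA : ∀ g ∈ H, ∀ a ∈ A, g * a * g⁻¹ ∈ A) :
    InUnitClassOver q H ∨ A ≤ Cfsg.Geo.scalars (Fin n) F ∨ AbsIrr A := by
  classical
  have : Nonempty (Fin n) := ⟨⟨0, Nat.pos_of_ne_zero (NeZero.ne n)⟩⟩
  have hr := isRefl_of_unitary hf
  have hfix := fixesForm_GU hH
  have hA := fixesForm_mono hAH hfix
  rcases form_components hr hirr hfix hAH hnA with ⟨t, k, D, hD, hle⟩ | ⟨k, D, hk, hD, hts, hle⟩ |
    hfa
  · exact Or.inl ⟨_, Or.inr (Or.inr (Or.inl ⟨t, k, D, hD, rfl⟩)), le_inf hle hH⟩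
  · rw [Fintype.card_fin] at hk
    exact Or.inl ⟨_, Or.inr (Or.inr (Or.inr (Or.inl ⟨k, D, hk, hD, hts, rfl⟩))), le_inf hle hH⟩
  obtain ⟨S, -, hS⟩ := exists_minInv (inv_top A) (top_ne_bot (α := Submodule F (Fin n → F)))
  by_cases htop : S = ⊤
  · have hAirr : Irr A := irr_iff.2 fun W hW => by
      rcases hS.min W (htop ▸ le_top) hW with h | h
      · exact Or.inl h
      · exact Or.inr (h.trans htop)
    have hK := commutant_isField hAirr
    by_cases h1 : 1 < finrank F (commutant A)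
    · exact Or.inl (unit_field hF hσ hf hH hK h1 (fun k hk => hr.adj_mem_commutant hA hk)
        (le_normalizer_commutant hnA))
    · right; right
      refine absIrr_of_commutant hAirr fun M hM => ?_
      have : Nontrivial ↥(commutant A) :=
        ⟨⟨0, 1, fun h => zero_ne_one (congrArg (fun x : ↥(commutant A) =>
          (x : Matrix (Fin n) (Fin n) F)) h)⟩⟩
      have h2 : finrank F (commutant A) = 1 := by
        have : 0 < finrank F (commutant A) := Module.finrank_pos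
        omega
      obtain ⟨c, hc⟩ := (finrank_eq_one_iff_of_nonzero' (1 : ↥(commutant A))
        one_ne_zero).1 h2 ⟨M, hM⟩
      exact ⟨c, (congrArg Subtype.val hc).symm⟩
  · have hfS := hfa S hS
    have hK := centre_isField hS hfS
    by_cases h1 : 1 < finrank F ↥(envAlg A ⊓ commutant A)
    · exact Or.inl (unit_field hF hσ hf hH hK h1
        (fun k hk => ⟨mem_envAlg.2 (hr.adj_mem_envelope hA (mem_envAlg.1 hk.1)),
          hr.adj_mem_commutant hA hk.2⟩) (centre_normalised hnA))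
    have hcen : ∀ M ∈ envelope A, M ∈ commutant A →
        ∃ c : F, M = c • (1 : Matrix (Fin n) (Fin n) F) := by
      intro M hM hMc
      have : Nontrivial ↥(envAlg A ⊓ commutant A) :=
        ⟨⟨0, 1, fun h => zero_ne_one (congrArg (fun x : ↥(envAlg A ⊓ commutant A) =>
          (x : Matrix (Fin n) (Fin n) F)) h)⟩⟩
      have h2 : finrank F ↥(envAlg A ⊓ commutant A) = 1 := by
        have : 0 < finrank F ↥(envAlg A ⊓ commutant A) := Module.finrank_pos
        omega
      obtain ⟨c, hc⟩ := (finrank_eq_one_iff_of_nonzero' (1 : ↥(envAlg A ⊓ commutant A))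
        one_ne_zero).1 h2 ⟨M, hM, hMc⟩
      exact ⟨c, (congrArg Subtype.val hc).symm⟩
    obtain ⟨E, hE, hEmem, hEspan⟩ := exists_units_of_faithful hS hfS hcen
    rcases Nat.lt_or_ge (finrank F S) 2 with ha | ha
    · right; left
      have hpos : 0 < finrank F S := Nat.pos_of_ne_zero fun h =>
        hS.ne_bot (Submodule.finrank_eq_zero.1 h)
      refine le_scalars_of_commutant fun a haA => ?_
      obtain ⟨c, hc⟩ := (Submodule.mem_span_range_iff_exists_fun F).1 (hEspan (mem_envelope haA))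
      have : Subsingleton (Fin (finrank F S)) := Fin.subsingleton_iff_le_one.2 (by omega)
      let i₀ : Fin (finrank F S) := ⟨0, hpos⟩
      have h00 : E i₀ i₀ = 1 := by
        rw [← hE.sum]
        rw [Finset.sum_eq_single i₀ (fun b _ hb => absurd (Subsingleton.elim b i₀) hb) (by simp)]
      refine ⟨∑ p, c p, ?_⟩
      rw [← hc, Finset.sum_smul]
      refine Finset.sum_congr rfl fun p _ => ?_
      rw [Subsingleton.elim p.1 i₀, Subsingleton.elim p.2 i₀, h00]
    · left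
      have han : finrank F S < n := by
        have := Submodule.finrank_lt htop
        rwa [Module.finrank_fintype_fun_eq_card, Fintype.card_fin] at this
      exact unit_units hF hσ hf hH hirr ha han hE
        (fun k l => hEspan (hr.adj_mem_envelope hA (hEmem k l)))
        fun g hg k l => hEspan (conj_mem_envelope hnA hg (hEmem k l))

end CfsgLib.Aschbacher
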