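import Cfsg.Agent.Lib.Aschbacher.OrthFrames
import Cfsg.Agent.Lib.Aschbacher.SympGeneral
import Cfsg.Agent.Lib.Aschbacher.UnitaryUnits

/-!
Aschbacher's theorem for groups of isometries of quadratic forms in odd dimension, odd
characteristic.
-/

set_option autoImplicit false

namespace CfsgLib.Aschbacher

open Matrix Module

open scoped Kronecker

variable {F : Type*} [Field F] [Fintype F] {ι : Type} [Fintype ι] [DecidableEq ι]

open Cfsg.Geo in
/-- A geometric structure over `H` for a quadratic form in odd dimension. -/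
def InOrthOddOver (Q : (ι → F) → F) (H : Subgroup (GL ι F)) : Prop :=
  (∃ W : Submodule F (ι → F), W ≠ ⊥ ∧ W ≠ ⊤ ∧ IsTotallySingularQuad Q W ∧
      H ≤ subspaceStabilizer W) ∨
  (∃ W : Submodule F (ι → F), W ≠ ⊥ ∧ W ≠ ⊤ ∧ Even (finrank F W) ∧
      IsNondegenerateOn (QuadraticMap.polar Q) W ∧
      ¬ (Fintype.card F = 3 ∧ finrank F W = 2 ∧ IsPlusTypeOn Q W) ∧
      H ≤ subspaceStabilizer W) ∨
  (∃ (t k : ℕ) (D : Fin t → Submodule F (ι → F)), 1 < k ∧ ¬ (Fintype.card F = 3 ∧ k = 3) ∧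
      IsOrthogonalMDecomposition Q k D ∧ H ≤ decompositionStabilizer D) ∨
  (∃ (t : ℕ) (D : Fin t → Submodule F (ι → F)), (Fintype.card F).Prime ∧
      IsOrthogonalMDecomposition Q 1 D ∧ H ≤ decompositionStabilizer D) ∨
  (∃ (r : ℕ) (K : Subalgebra F (Matrix ι ι F)), r.Prime ∧ r ∣ Fintype.card ι ∧
      Fintype.card ι ≠ r ∧ IsFieldSubalgebra r K ∧ IsSelfAdjointFor (QuadraticMap.polar Q) K ∧
      H ≤ subalgebraNormalizer K) ∨
  (∃ (n₁ n₂ : ℕ) (e : ι ≃ Fin n₁ × Fin n₂) (P : GL ι F) (f₁ : (Fin n₁ → F) → (Fin n₁ → F) → F)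
      (f₂ : (Fin n₂ → F) → (Fin n₂ → F) → F), 3 ≤ n₁ ∧ n₁ < n₂ ∧ IsSymmetricForm f₁ ∧
      IsSymmetricForm f₂ ∧ IsTensorFormStructure id (QuadraticMap.polar Q) f₁ f₂ e P ∧
      H ≤ tensorProductSubgroup n₁ n₂ e P) ∨
  (∃ (F₀ : Subfield F) (r : ℕ) (P : GL ι F), r.Prime ∧ Fintype.card F = Nat.card F₀ ^ r ∧
      IsQuadFormRationalStructure Q F₀ P ∧ H ≤ subfieldSubgroup F₀ P) ∨
  (∃ (k t : ℕ) (e : ι ≃ (Fin t → Fin k)) (P : GL ι F) (f₁ : (Fin k → F) → (Fin k → F) → F),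
      3 ≤ k ∧ 2 ≤ t ∧ ¬ (Fintype.card F = 3 ∧ k = 3) ∧ IsSymmetricForm f₁ ∧
      IsTensorPowerFormStructure id (QuadraticMap.polar Q) f₁ e P ∧
      H ≤ tensorWreathSubgroup k t e P)

variable {Q : (ι → F) → F}

lemma isRefl_polar (hQ : Cfsg.Geo.IsNondegenerateQuadraticForm Q) :
    IsRefl (RingEquiv.refl F) (1 : F) (QuadraticMap.polar Q) :=
  ⟨isSesq_of_bilinear hQ.polar_bilinear, fun u v => by
    rw [one_mul, RingEquiv.refl_apply, QuadraticMap.polar_comm], fun _ => rfl, hQ.nondegenerate⟩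

omit [Fintype F] in
/-- A symmetry sign in odd degree is trivial. -/
lemma sign_eq_one {k : ℕ} (hk : Odd k) {G : Matrix (Fin k) (Fin k) F} (hu : IsUnit G) {α : F}
    (hG : Gᵀ = α • G) : α = 1 := by
  have : Nonempty (Fin k) := ⟨⟨0, hk.pos⟩⟩
  have h := congrArg Matrix.det hG
  rw [Matrix.det_transpose, Matrix.det_smul, Fintype.card_fin] at h
  have hd := ((Matrix.isUnit_iff_isUnit_det G).1 hu).ne_zero
  have hpow : α ^ k = 1 := mul_right_cancel₀ hd (by rw [one_mul]; exact h.symm)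
  have h2 : α * α = 1 := by
    have h := congrArg Matrix.transpose hG
    rw [Matrix.transpose_transpose, Matrix.transpose_smul, hG, smul_smul] at h
    exact (smul_cancel_matrix hu.ne_zero (h.symm.trans (one_smul F G).symm))
  obtain ⟨j, rfl⟩ := hk
  rwa [pow_succ, pow_mul, sq, h2, one_pow, one_mul] at hpow

omit [Fintype F] in
lemma isSymmetric_formOfGram {k : ℕ} {G : Matrix (Fin k) (Fin k) F} (hu : IsUnit G)
    (hG : Gᵀ = G) : Cfsg.Geo.IsSymmetricForm (Cfsg.Geo.formOfGram id G) := by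
  have hr := isRefl_formOfGram hu (α := (1 : F)) one_ne_zero (hG.trans (one_smul F G).symm)
  refine ⟨hr.bilinear, fun u v => ?_, hr.nondeg⟩
  rw [hr.swap v u]; simp

variable (hQ : Cfsg.Geo.IsNondegenerateQuadraticForm Q) (h2 : (2 : F) ≠ 0)
  (hodd : Odd (Fintype.card ι))
  (hstd : ∀ (F₀ : Subfield F) a b, Cfsg.Geo.gramMatrix (QuadraticMap.polar Q) a b ∈ F₀)
  {H : Subgroup (GL ι F)}

include hQ h2 hodd hstd in
/-- An orthogonal decomposition gives a class. -/
theorem orth_decomp (hH : H ≤ Cfsg.isometryGroup F Q) (hirr : Irr H) {t k : ℕ}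
    {D : Fin t → Submodule F (ι → F)}
    (hD : Cfsg.Geo.IsNondegenerateMDecomposition (QuadraticMap.polar Q) k D)
    (hle : H ≤ Cfsg.Geo.decompositionStabilizer D) : InOrthOddOver Q H := by
  classical
  have hDo := isometric_of_irr hD hH hirr hle
  have hk := hD.decomp.pos
  rcases Nat.lt_or_ge 1 k with h1 | h1
  · by_cases hex : Fintype.card F = 3 ∧ k = 3
    · obtain ⟨hq, rfl⟩ := hex
      obtain ⟨D', hD', hle'⟩ := frame_of_blocks hQ hq hDo hH hle
      exact Or.inr (Or.inr (Or.inr (Or.inl ⟨t * 3, D', by rw [hq]; exact Nat.prime_three,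
        hD', hle'⟩)))
    · exact Or.inr (Or.inr (Or.inl ⟨t, k, D, h1, hex, hDo, hle⟩))
  obtain rfl : k = 1 := by omega
  have htk : t = Fintype.card ι := by
    have := mDecomposition_mul_eq hD.decomp
    omega
  by_cases hq : (Fintype.card F).Prime
  · exact Or.inr (Or.inr (Or.inr (Or.inl ⟨t, D, hq, hDo, hle⟩)))
  obtain ⟨p, hchar⟩ := CharP.exists F
  obtain ⟨f, hpp, hc⟩ := FiniteField.card F p
  haveI : Fact p.Prime := ⟨hpp⟩
  obtain ⟨K, hK, -⟩ := exists_subfield_of_dvd (F := F) hc (one_dvd _)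
  obtain ⟨F₁, r, -, hr, hc₁⟩ := exists_subfield_prime (F₀ := K) fun htop => hq (by
    rw [← Nat.card_eq_fintype_card, ← Nat.card_congr Subfield.topEquiv.toEquiv, ← htop, hK,
      pow_one]
    exact hpp)
  obtain ⟨P, hP, hle'⟩ := frame_subfield hQ h2 htk.symm (htk ▸ hodd) (hstd F₁) hH hD hle
    (exists_trans_of_irr hD.decomp hirr hle)
  exact Or.inr (Or.inr (Or.inr (Or.inr (Or.inr (Or.inr (Or.inl ⟨F₁, r, P, hr, hc₁, hP, hle'⟩))))))

include hQ hodd in
/-- An adjoint-closed normalised field gives a class. -/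
theorem orth_field (hnp : ¬ (Fintype.card ι).Prime) (hH : H ≤ Cfsg.isometryGroup F Q) {e : ℕ}
    {K : Subalgebra F (Matrix ι ι F)} (hK : Cfsg.Geo.IsFieldSubalgebra e K) (he : 1 < e)
    (hadj : ∀ k ∈ K, (isRefl_polar hQ).adj k ∈ K)
    (hle : H ≤ Cfsg.Geo.subalgebraNormalizer K) : InOrthOddOver Q H := by
  have : Nonempty ι := Fintype.card_pos_iff.1 hodd.pos
  have hf := isRefl_polar hQ
  rcases field_involution hf hK he hadj (fixesPolar_of_le hH) hle with
    ⟨r, K₀, hr, hK₀, hself, hle₀⟩ | ⟨rfl, -, -⟩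
  · have hsa : Cfsg.Geo.IsSelfAdjointFor (QuadraticMap.polar Q) K₀ := fun k hk u v => by
      rw [hf.adj_spec, hself k hk]
    exact Or.inr (Or.inr (Or.inr (Or.inr (Or.inl ⟨r, K₀, hr, fieldSubalgebra_dvd hK₀,
      fun h => hnp (h ▸ hr), hK₀, hsa, hle₀⟩))))
  · exact absurd (fieldSubalgebra_dvd hK) fun h => Nat.not_even_iff_odd.2 hodd (even_iff_two_dvd.2 h)

include hQ h2 hodd in
/-- A normalised full matrix algebra gives a class. -/
theorem orth_units (hH : H ≤ Cfsg.isometryGroup F Q) {a : ℕ} (ha : 2 ≤ a)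
    (han : a < Fintype.card ι) {E : Fin a → Fin a → Matrix ι ι F} (hE : IsUnits E)
    (hEadj : ∀ k l, (isRefl_polar hQ).adj (E k l) ∈
      Submodule.span F (Set.range fun p : Fin a × Fin a => E p.1 p.2))
    (hHn : ∀ g ∈ H, ∀ k l, (g : Matrix ι ι F) * E k l *
      ((g⁻¹ : GL ι F) : Matrix ι ι F) ∈
      Submodule.span F (Set.range fun p : Fin a × Fin a => E p.1 p.2)) : InOrthOddOver Q H := by
  classical
  have : Nonempty ι := Fintype.card_pos_iff.1 hodd.pos
  have hf := isRefl_polar hQ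
  have hfix := fixesPolar_of_le hH
  obtain ⟨b, e, P, G₁, G₂, α, β, hb0, hcard, hu₁, hu₂, hpull, hαβ, hG₁, hG₂, hle, helem⟩ :=
    tensor_frame_form hf hE hEadj hfix hHn
  rw [show G₁.map (RingEquiv.refl F) = G₁ from Matrix.map_id _] at hG₁
  rw [show G₂.map (RingEquiv.refl F) = G₂ from Matrix.map_id _] at hG₂
  have hab := hcard ▸ hodd
  obtain ⟨hao, hbo⟩ := Nat.odd_mul.1 hab
  obtain rfl : α = 1 := sign_eq_one hao hu₁ hG₁
  obtain rfl : β = 1 := sign_eq_one hbo hu₂ hG₂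
  rw [one_smul] at hG₁ hG₂
  have hb : 2 ≤ b := by
    by_contra h
    obtain rfl : b = 1 := by omega
    omega
  have ha3 : 3 ≤ a := by obtain ⟨j, rfl⟩ := hao; omega
  have hb3 : 3 ≤ b := by obtain ⟨j, rfl⟩ := hbo; omega
  have hpull' : ∀ x y, pullForm e P (QuadraticMap.polar Q) x y =
      Cfsg.Geo.formOfGram id (G₁ ⊗ₖ G₂) x y := hpull
  have key : ∀ {a b : ℕ} {e : ι ≃ Fin a × Fin b} {G₁ : Matrix (Fin a) (Fin a) F}
      {G₂ : Matrix (Fin b) (Fin b) F}, 3 ≤ a → a < b → IsUnit G₁ → IsUnit G₂ → G₁ᵀ = G₁ →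
      G₂ᵀ = G₂ → (∀ x y, pullForm e P (QuadraticMap.polar Q) x y =
        Cfsg.Geo.formOfGram id (G₁ ⊗ₖ G₂) x y) →
      H ≤ Cfsg.Geo.tensorProductSubgroup a b e P → InOrthOddOver Q H := by
    intro a b e G₁ G₂ ha hab hu₁ hu₂ hG₁ hG₂ hpull hle
    refine Or.inr (Or.inr (Or.inr (Or.inr (Or.inr (Or.inl ⟨a, b, e, P, Cfsg.Geo.formOfGram id G₁,
      Cfsg.Geo.formOfGram id G₂, ha, hab, isSymmetric_formOfGram hu₁ hG₁,
      isSymmetric_formOfGram hu₂ hG₂, ⟨1, one_ne_zero, fun x y => ?_⟩, hle⟩)))))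
    have hg₁ : Cfsg.Geo.gramMatrix (Cfsg.Geo.formOfGram id G₁) = G₁ :=
      gramMatrix_formOfGram (σ := RingEquiv.refl F) G₁
    have hg₂ : Cfsg.Geo.gramMatrix (Cfsg.Geo.formOfGram id G₂) = G₂ :=
      gramMatrix_formOfGram (σ := RingEquiv.refl F) G₂
    rw [hg₁, hg₂, one_mul]
    exact hpull x y
  rcases lt_trichotomy a b with hlt | hlt | hlt
  · exact key ha3 hlt hu₁ hu₂ hG₁ hG₂ hpull' hle
  swap
  · refine key (e := e.trans (Equiv.prodComm _ _)) hb3 hlt hu₂ hu₁ hG₂ hG₁ (fun x y => ?_)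
      (hle.trans (tensorProductSubgroup_swap e P))
    have h := hpull' (x ∘ Equiv.prodComm _ _) (y ∘ Equiv.prodComm _ _)
    show pullForm e P (QuadraticMap.polar Q) (x ∘ Equiv.prodComm _ _) (y ∘ Equiv.prodComm _ _) = _
    rw [h]
    simp only [Cfsg.Geo.formOfGram]
    rw [← (Equiv.prodComm (Fin a) (Fin b)).sum_comp]
    refine Finset.sum_congr rfl fun p _ => ?_
    rw [← (Equiv.prodComm (Fin a) (Fin b)).sum_comp]
    refine Finset.sum_congr rfl fun r _ => ?_
    simp [mul_left_comm, mul_assoc, mul_comm (G₁ p.1 r.1)]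
  subst hlt
  obtain ⟨C, l, hl, hC⟩ := exists_similar h2 hao hG₂ hG₁ hu₂ hu₁
  set X := kronHom a a F (1, C)
  set P' := frU e P X * P
  have hpull1 : ∀ x y, pullForm e P' (QuadraticMap.polar Q) x y =
      l * Cfsg.Geo.formOfGram id (G₁ ⊗ₖ G₁) x y := by
    intro x y
    rw [pullForm_frame_change, hpull', formOfGram_eq, formOfGram_eq, Function.id_comp,
      Function.id_comp, Matrix.mulVec_mulVec, ← Matrix.vecMul_transpose,
      ← Matrix.dotProduct_mulVec, Matrix.mulVec_mulVec, kronHom_val, Units.val_one,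
      ← Matrix.kroneckerMap_transpose, Matrix.transpose_one, ← Matrix.mul_kronecker_mul,
      ← Matrix.mul_kronecker_mul, ← mul_assoc, ← mul_assoc, one_mul, mul_one, hC,
      Matrix.kronecker_smul, Matrix.smul_mulVec, dotProduct_smul, smul_eq_mul]
  have hle'' : H ≤ Cfsg.Geo.tensorProductSubgroup a a e P' := by
    rw [Cfsg.Geo.tensorProductSubgroup, map_glReindex_conj]
    intro g hg
    have h := hle hg
    rw [Cfsg.Geo.tensorProductSubgroup, map_glReindex_conj] at h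
    obtain ⟨y, hy, rfl⟩ := h
    have hX : X ∈ Cfsg.Geo.kroneckerSubgroup a a F := ⟨1, C, rfl⟩
    refine ⟨X⁻¹ * y * X, Subgroup.mul_mem _ (Subgroup.mul_mem _ (Subgroup.inv_mem _ hX) hy) hX, ?_⟩
    show frU e (frU e P X * P) _ = frU e P y
    rw [frU_frame_change]
    simp [mul_assoc]
  set e₂ := e.trans (finTwoArrowEquiv (Fin a)).symm
  have hle2 : H ≤ Cfsg.Geo.tensorWreathSubgroup a 2 e₂ P' := by
    refine hle''.trans ?_
    rw [Cfsg.Geo.tensorProductSubgroup, Cfsg.Geo.tensorWreathSubgroup, map_glReindex_conj,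
      map_glReindex_conj]
    rintro _ ⟨y, ⟨c, d, hy⟩, rfl⟩
    refine ⟨Cfsg.Geo.glReindex (finTwoArrowEquiv (Fin a)).symm y,
      Subgroup.subset_closure (Or.inl ⟨![c, d], fun x z => ?_⟩), Units.ext ?_⟩
    · simp [Cfsg.Geo.glReindex, hy, Fin.prod_univ_two]
    · rw [MulEquiv.coe_toMonoidHom, MulEquiv.coe_toMonoidHom, frU_val, frU_val, frAlg_apply,
        frAlg_apply]
      congr 2
  have hpull2 : ∀ x y, pullForm e₂ P' (QuadraticMap.polar Q) x y =
      l * Cfsg.Geo.formOfGram id (pureMat fun _ : Fin 2 => G₁) x y := by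
    intro x y
    have h := hpull1 (x ∘ (finTwoArrowEquiv (Fin a)).symm) (y ∘ (finTwoArrowEquiv (Fin a)).symm)
    simp only [pullForm, Function.comp_assoc] at h
    refine h.trans ?_
    congr 1
    simp only [Cfsg.Geo.formOfGram]
    rw [← (finTwoArrowEquiv (Fin a)).sum_comp]
    refine Finset.sum_congr rfl fun p _ => ?_
    rw [← (finTwoArrowEquiv (Fin a)).sum_comp]
    refine Finset.sum_congr rfl fun r _ => ?_
    have hp : ∀ t : Fin 2 → Fin a, ![t 0, t 1] = t := fun t => by ext i; fin_cases i <;> rfl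
    simp [pureMat_apply, Fin.prod_univ_two, hp]
  by_cases hex : Fintype.card F = 3 ∧ a = 3
  · obtain ⟨hq, rfl⟩ := hex
    obtain ⟨N, D, hD, hle'⟩ := frame_of_wreath hQ hq one_le_two e₂ P' hl hu₁ hG₁ hpull2 hH hle2
    exact Or.inr (Or.inr (Or.inr (Or.inl ⟨N, D, by rw [hq]; exact Nat.prime_three, hD, hle'⟩)))
  iterate 7 right
  refine ⟨a, 2, e₂, P', Cfsg.Geo.formOfGram id G₁, ha3, le_rfl, hex,
    isSymmetric_formOfGram hu₁ hG₁, ⟨l, hl, fun x y => ?_⟩, hle2⟩
  have hg₁ : Cfsg.Geo.gramMatrix (Cfsg.Geo.formOfGram id G₁) = G₁ :=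
    gramMatrix_formOfGram (σ := RingEquiv.refl F) G₁
  refine (hpull2 x y).trans ?_
  simp only [Cfsg.Geo.formOfGram, hg₁, pureMat_apply, id]

include hQ h2 hodd hstd in
/-- A normalised subgroup gives a class, consists of scalars or is absolutely irreducible. -/
theorem orth_trichotomy (hnp : ¬ (Fintype.card ι).Prime) (hH : H ≤ Cfsg.isometryGroup F Q)
    (hirr : Irr H) {A : Subgroup (GL ι F)} (hAH : A ≤ H)
    (hnA : ∀ g ∈ H, ∀ a ∈ A, g * a * g⁻¹ ∈ A) :
    InOrthOddOver Q H ∨ A ≤ Cfsg.Geo.scalars ι F ∨ AbsIrr A := by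
  classical
  have : Nonempty ι := Fintype.card_pos_iff.1 hodd.pos
  have hf := isRefl_polar hQ
  have hfix := fixesPolar_of_le hH
  have hA := fixesForm_mono hAH hfix
  rcases form_components hf hirr hfix hAH hnA with ⟨t, k, D, hD, hle⟩ | ⟨k, D, hk, -, -, -⟩ | hfa
  · exact Or.inl (orth_decomp hQ h2 hodd hstd hH hirr hD hle)
  · exact absurd hodd (Nat.not_odd_iff_even.2 ⟨k, by omega⟩)
  obtain ⟨S, -, hS⟩ := exists_minInv (inv_top A) (top_ne_bot (α := Submodule F (ι → F)))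
  by_cases htop : S = ⊤
  · have hAirr : Irr A := irr_iff.2 fun W hW => by
      rcases hS.min W (htop ▸ le_top) hW with h | h
      · exact Or.inl h
      · exact Or.inr (h.trans htop)
    have hK := commutant_isField hAirr
    by_cases h1 : 1 < finrank F (commutant A)
    · exact Or.inl (orth_field hQ hodd hnp hH hK h1 (fun k hk => hf.adj_mem_commutant hA hk)
        (le_normalizer_commutant hnA))
    · right; right
      refine absIrr_of_commutant hAirr fun M hM => ?_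
      have : Nontrivial ↥(commutant A) :=
        ⟨⟨0, 1, fun h => zero_ne_one (congrArg (fun x : ↥(commutant A) =>
          (x : Matrix ι ι F)) h)⟩⟩
      have h2 : finrank F (commutant A) = 1 := by
        have : 0 < finrank F (commutant A) := Module.finrank_pos
        omega
      obtain ⟨c, hc⟩ := (finrank_eq_one_iff_of_nonzero' (1 : ↥(commutant A))
        one_ne_zero).1 h2 ⟨M, hM⟩
      exact ⟨c, (congrArg Subtype.val hc).symm⟩
  · have hfS := hfa S hS
    have hK := centre_isField hS hfS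
    by_cases h1 : 1 < finrank F ↥(envAlg A ⊓ commutant A)
    · exact Or.inl (orth_field hQ hodd hnp hH hK h1
        (fun k hk => ⟨mem_envAlg.2 (hf.adj_mem_envelope hA (mem_envAlg.1 hk.1)),
          hf.adj_mem_commutant hA hk.2⟩) (centre_normalised hnA))
    have hcen : ∀ M ∈ envelope A, M ∈ commutant A →
        ∃ c : F, M = c • (1 : Matrix ι ι F) := by
      intro M hM hMc
      have : Nontrivial ↥(envAlg A ⊓ commutant A) :=
        ⟨⟨0, 1, fun h => zero_ne_one (congrArg (fun x : ↥(envAlg A ⊓ commutant A) =>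
          (x : Matrix ι ι F)) h)⟩⟩
      have h2 : finrank F ↥(envAlg A ⊓ commutant A) = 1 := by
        have : 0 < finrank F ↥(envAlg A ⊓ commutant A) := Module.finrank_pos
        omega
      obtain ⟨c, hc⟩ := (finrank_eq_one_iff_of_nonzero' (1 : ↥(envAlg A ⊓ commutant A))
        one_ne_zero).1 h2 ⟨M, hM, hMc⟩
      exact ⟨c, (congrArg Subtype.val hc).symm⟩
    obtain ⟨E, hE, hEmem, hEspan⟩ := exists_units_of_faithful hS hfS hcen
    rcases Nat.lt_or_ge (finrank F S) 2 with ha | ha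
    · right; left
      have hpos : 0 < finrank F S := Nat.pos_of_ne_zero fun h =>
        hS.ne_bot (Submodule.finrank_eq_zero.1 h)
      refine le_scalars_of_commutant fun a haA => ?_
      obtain ⟨c, hc⟩ := (Submodule.mem_span_range_iff_exists_fun F).1 (hEspan (mem_envelope haA))
      have : Subsingleton (Fin (finrank F S)) := Fin.subsingleton_iff_le_one.2 (by omega)
      let i₀ : Fin (finrank F S) := ⟨0, hpos⟩
      have h00 : E i₀ i₀ = 1 := by
        rw [← hE.sum]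
        rw [Finset.sum_eq_single i₀ (fun b _ hb => absurd (Subsingleton.elim b i₀) hb) (by simp)]
      refine ⟨∑ p, c p, ?_⟩
      rw [← hc, Finset.sum_smul]
      refine Finset.sum_congr rfl fun p _ => ?_
      rw [Subsingleton.elim p.1 i₀, Subsingleton.elim p.2 i₀, h00]
    · left
      have han : finrank F S < Fintype.card ι := by
        have := Submodule.finrank_lt htop
        rwa [Module.finrank_fintype_fun_eq_card] at this
      exact orth_units hQ h2 hodd hH ha han hE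
        (fun k l => hEspan (hf.adj_mem_envelope hA (hEmem k l)))
        fun g hg k l => hEspan (conj_mem_envelope hnA hg (hEmem k l))

include hQ h2 hodd in
/-- Commuting conjugates give a tensor power. -/
theorem orth_factors (hH : H ≤ Cfsg.isometryGroup F Q) {N Qs : Subgroup (GL ι F)} (hN : AbsIrr N)
    (hNH : N ≤ H) (hnorm : ∀ g ∈ H, ∀ a ∈ N, g * a * g⁻¹ ∈ N)
    (hQs : ¬ Qs ≤ Cfsg.Geo.scalars ι F) (hQN : Qs ≤ N)
    (hne : ∃ c ∈ H, Qs.map (MulAut.conj c).toMonoidHom ≠ Qs)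
    (hcomm : ∀ c ∈ H, ∀ d ∈ H,
      Qs.map (MulAut.conj c).toMonoidHom ≠ Qs.map (MulAut.conj d).toMonoidHom →
        ∀ x ∈ Qs.map (MulAut.conj c).toMonoidHom, ∀ y ∈ Qs.map (MulAut.conj d).toMonoidHom,
          x * y = y * x)
    (hgen : N ≤ Subgroup.closure
      (⋃ c ∈ H, (Qs.map (MulAut.conj c).toMonoidHom : Set (GL ι F))) ⊔ Cfsg.Geo.scalars ι F) :
    InOrthOddOver Q H := by
  classical
  have : Nonempty ι := Fintype.card_pos_iff.1 hodd.pos
  have hf := isRefl_polar hQ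
  have hfix := fixesPolar_of_le hH
  obtain ⟨t, m, E, X, ht, hm, hE, hc, hscal, hX, hmem, hspan, hperm, htrans⟩ :=
    exists_family_of_factors hN hQs hne hcomm hgen
  obtain ⟨e, P, hEfac, hfr⟩ := exists_frame_of_family (by omega) (by omega) hE hc hscal
  have : NeZero t := ⟨by omega⟩
  have : NeZero m := ⟨by omega⟩
  have hXH : ∀ i, X i ≤ H := by
    intro i
    obtain ⟨c, hcH, hXc⟩ := hX i
    rw [hXc]
    rintro _ ⟨x, hx, rfl⟩
    exact hNH (hnorm c hcH x (hQN hx))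
  obtain ⟨P', G, α, c₀, hc₀, hGu, -, hGt, hpull, hle, -⟩ :=
    power_frame_form hf hEfac hfr (fun i k l => hspan i
      (hf.adj_mem_envelope (fixesForm_mono (hXH i) hfix) (hmem i k l))) hfix
      (fun g hg => (hperm g hg).imp fun σ hσ i k l => hspan _ (hσ i k l))
      (fun j => by
        obtain ⟨g, hg, hgj⟩ := htrans 0 j
        obtain ⟨σ, hσ⟩ := hperm g hg
        refine ⟨g, hg, σ, ?_, fun i k l => hspan _ (hσ i k l)⟩
        by_contra hne'
        let a : Fin m := ⟨0, by omega⟩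
        let b : Fin m := ⟨1, by omega⟩
        have hab : a ≠ b := by simp [a, b, Fin.ext_iff]
        have h1 := hspan _ (hσ 0 a b)
        have h2 := hspan _ (hgj b a)
        obtain ⟨c1, hc1⟩ := (Submodule.mem_span_range_iff_exists_fun F).1 h1
        obtain ⟨c2, hc2⟩ := (Submodule.mem_span_range_iff_exists_fun F).1 h2
        have hcc : Commute (∑ p, c1 p • E (σ 0) p.1 p.2) (∑ p, c2 p • E j p.1 p.2) :=
          Commute.sum_left _ _ _ fun p _ => Commute.sum_right _ _ _ fun r _ =>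
            ((hc _ _ hne' _ _ _ _).smul_left _).smul_right _
        rw [hc1, hc2] at hcc
        have h3 : E 0 a b * E 0 b a = E 0 b a * E 0 a b := by
          have h4 := congrArg (fun M => ((g⁻¹ : GL ι F) : Matrix ι ι F) * M * (g : Matrix ι ι F))
            hcc.eq
          simpa [mul_assoc] using h4
        rw [(hE 0).mul_same, (hE 0).mul_same] at h3
        have h5 := congrArg (fun M => E 0 a a * M) h3
        simp only [(hE 0).mul_same, (hE 0).mul_ne hab] at h5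
        have h6 := congrArg (fun M => E 0 b a * M * E 0 a b) h5
        simp only [(hE 0).mul_same, mul_zero, zero_mul] at h6
        have h7 : ∀ k, E 0 k k = 0 := fun k => by
          rw [← (hE 0).mul_same k b k, ← (hE 0).mul_same k b b, h6, mul_zero, zero_mul]
        refine one_ne_zero (show (1 : Matrix ι ι F) = 0 from ?_)
        rw [← (hE 0).sum]
        exact Finset.sum_eq_zero fun k _ => h7 k)
  have hcard : Fintype.card ι = m ^ t := by rw [Fintype.card_congr e]; simp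
  have hmo : Odd m := by
    rw [hcard, Nat.odd_pow_iff (by omega)] at hodd
    exact hodd
  obtain rfl : α = 1 := sign_eq_one hmo hGu hGt
  rw [one_smul] at hGt
  by_cases hex : Fintype.card F = 3 ∧ m = 3
  · obtain ⟨hq, rfl⟩ := hex
    obtain ⟨N, D, hD, hle'⟩ := frame_of_wreath hQ hq (by omega) e P' hc₀ hGu hGt hpull hH hle
    exact Or.inr (Or.inr (Or.inr (Or.inl ⟨N, D, by rw [hq]; exact Nat.prime_three, hD, hle'⟩)))
  have hm3 : 3 ≤ m := by obtain ⟨j, rfl⟩ := hmo; omega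
  iterate 7 right
  refine ⟨m, t, e, P', Cfsg.Geo.formOfGram id G, hm3, ht, hex, isSymmetric_formOfGram hGu hGt,
    ⟨c₀, hc₀, fun x y => ?_⟩, hle⟩
  have hg₁ : Cfsg.Geo.gramMatrix (Cfsg.Geo.formOfGram id G) = G :=
    gramMatrix_formOfGram (σ := RingEquiv.refl F) G
  refine (hpull x y).trans ?_
  simp only [Cfsg.Geo.formOfGram, hg₁, pureMat_apply, id]

include hQ hstd in
/-- **Aschbacher's theorem** for quadratic forms in odd dimension. -/
theorem orth_odd_aschbacher (hF : Odd (Fintype.card F)) (hodd : Odd (Fintype.card ι))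
    (h5 : 5 ≤ Fintype.card ι) (hH : H ≤ Cfsg.isometryGroup F Q) :
    InOrthOddOver Q H ∨ Cfsg.Geo.InOrthogonalResidualClass H := by
  classical
  by_cases hp : (Fintype.card ι).Prime
  · rcases orth_prime_aschbacher hQ hF rfl hp h5 hstd hH with
      ⟨W, h0, hts, h1, hle⟩ | ⟨W, h0, he, hnd, hex, h1, hle⟩ | ⟨hq, D, hD, hle⟩ |
      ⟨F₀, r, P, hr, hc, hP, hle⟩ | hres
    · exact Or.inl (Or.inl ⟨W, h0, h1, hts, hle⟩)
    · exact Or.inl (Or.inr (Or.inl ⟨W, h0, h1, he, hnd, hex, hle⟩))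
    · exact Or.inl (Or.inr (Or.inr (Or.inr (Or.inl ⟨_, D, hq, hD, hle⟩))))
    · exact Or.inl (Or.inr (Or.inr (Or.inr (Or.inr (Or.inr (Or.inr (Or.inl
        ⟨F₀, r, P, hr, hc, hP, hle⟩)))))))
    · exact Or.inr hres
  have h2 : (2 : F) ≠ 0 := by
    intro h
    haveI : CharP F 2 := (CharP.charP_iff_prime_eq_zero Nat.prime_two).2 (by exact_mod_cast h)
    exact Nat.not_even_iff_odd.2 hF (Nat.even_iff.2
      (FiniteField.even_card_of_char_two (ringChar.eq F 2)))
  have : Nonempty ι := Fintype.card_pos_iff.1 (by omega)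
  have hcard : 1 < Fintype.card ι := by omega
  by_cases hirr : Irr H
  swap
  · left
    rcases reducible_orth hQ h2 hodd h5 hH hirr with
      ⟨W, h0, hts, h1, hle⟩ | ⟨W, h0, he, hnd, hex, h1, hle⟩
    · exact Or.inl ⟨W, h0, h1, hts, hle⟩
    · exact Or.inr (Or.inl ⟨W, h0, h1, he, hnd, hex, hle⟩)
  obtain ⟨N, ⟨hNH, hNn, hNZ, hNs⟩, hNmin⟩ := (Set.toFinite {N : Subgroup (GL ι F) |
    N ≤ H ∧ (∀ g ∈ H, ∀ a ∈ N, g * a * g⁻¹ ∈ N) ∧ H ⊓ Cfsg.Geo.scalars ι F ≤ N ∧
      ¬ N ≤ Cfsg.Geo.scalars ι F}).exists_minimal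
    ⟨H, le_rfl, fun g hg a ha => H.mul_mem (H.mul_mem hg ha) (H.inv_mem hg), inf_le_left,
      not_le_scalars_of_irr hcard hirr⟩
  have hmin : ∀ M ≤ N, (∀ g ∈ H, ∀ a ∈ M, g * a * g⁻¹ ∈ M) →
      (∀ z ∈ N, z ∈ Cfsg.Geo.scalars ι F → z ∈ M) →
      M ≤ Cfsg.Geo.scalars ι F ∨ M = N := by
    intro M hMN hMn hMZ
    by_cases hMs : M ≤ Cfsg.Geo.scalars ι F
    · exact Or.inl hMs
    · exact Or.inr (le_antisymm hMN (hNmin ⟨hMN.trans hNH, hMn,
        fun z hz => hMZ z (hNZ hz) hz.2, hMs⟩ hMN))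
  rcases orth_trichotomy hQ h2 hodd hstd hp hH hirr hNH hNn with h | hs | hNabs
  · exact Or.inl h
  · exact absurd hs hNs
  rcases core_or_factors hNabs hNH hNn hmin (not_class_two hQ hodd hcard hNabs (hNH.trans hH)) with
    ⟨hPabs, hPperf, hPn, hPsimp, hPna⟩ | ⟨Qs, hQs, -, hQN, hne, hcomm, hgen⟩
  swap
  · exact Or.inl (orth_factors hQ h2 hodd hH hNabs hNH hNn hQs hQN hne hcomm hgen)
  have hPH : ⁅N, N⁆ ≤ H := (Subgroup.commutator_le.2 fun a ha b hb =>
      N.mul_mem (N.mul_mem (N.mul_mem ha hb) (N.inv_mem ha)) (N.inv_mem hb)).trans hNH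
  by_cases hreal : ∃ F₀ : Subfield F, F₀ ≠ ⊤ ∧
      Cfsg.Geo.RealisableOver F₀ (Cfsg.Geo.matrixSet ⁅N, N⁆)
  · obtain ⟨F₀, hF₀, hreal⟩ := hreal
    obtain ⟨F₁, r, hle, hr, hc⟩ := exists_subfield_prime hF₀
    obtain ⟨B, hB⟩ := realisableOver_mono hle hreal
    obtain ⟨d, hd⟩ := exists_quad_rational_of_realised hQ h2 hodd hPabs (hPH.trans hH) (hstd F₁) hB
    left
    iterate 6 right
    left
    refine ⟨F₁, r, _, hr, hc, hd, ?_⟩
    rw [subfieldSubgroup_scalar_mul]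
    exact le_subfieldSubgroup_of_entries hPn (envelope_eq_top hPabs) hB
  refine Or.inr ⟨⁅N, N⁆, ⟨hPH, hPn, hPperf, hPsimp, hPna, ?_, hPabs, ?_⟩, ?_⟩
  · intro h _ hc
    exact hPabs.mem_scalars (commutator_mem_scalars_comm hPperf hc)
  · exact fun F₀ hF₀ hr => hreal ⟨F₀, hF₀, hr⟩
  · rintro ⟨σ, f, hf, hfix⟩
    obtain ⟨q, hq, hσ⟩ := exists_sq_of_involutive h2 hf.ne_refl hf.involutive
    exact hreal (realisableOver_of_two_forms hq hσ hf hPabs hfix hQ.polar_bilinear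
      hQ.nondegenerate (fixesPolar_of_le (hPH.trans hH)))

end CfsgLib.Aschbacher
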