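import Cfsg.Agent.Lib.Aschbacher.OrthForm

/-!
`Ω` of an odd dimensional quadratic form is contained in none of the subgroups of the classes,
proved with Siegel transformations.
-/

set_option autoImplicit false

namespace CfsgLib.Aschbacher

open Matrix Module
open scoped commutatorElement

variable {F : Type*} [Field F] {ι : Type} [Fintype ι] [DecidableEq ι] {Q : (ι → F) → F}

/-- The Siegel map attached to a singular `u` and `a ⊥ u`. -/
def siegelMap (hQ : Cfsg.Geo.IsNondegenerateQuadraticForm Q) (u a : ι → F) :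
    (ι → F) →ₗ[F] (ι → F) where
  toFun y := y + QuadraticMap.polar Q y u • a -
    (QuadraticMap.polar Q y a + Q a * QuadraticMap.polar Q y u) • u
  map_add' x y := by
    rw [hQ.polar_bilinear.add_left, hQ.polar_bilinear.add_left]
    module
  map_smul' c x := by
    rw [hQ.polar_bilinear.smul_left, hQ.polar_bilinear.smul_left, RingHom.id_apply]
    module

/-- The pairs (`u` singular, `a ⊥ u`) giving Siegel transformations. -/
structure SiegelPair (Q : (ι → F) → F) (u a : ι → F) : Prop where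
  sing : Q u = 0
  orth : QuadraticMap.polar Q a u = 0

variable (hQ : Cfsg.Geo.IsNondegenerateQuadraticForm Q) {u a b : ι → F}

include hQ

lemma quad_zero : Q 0 = 0 := by
  have := hQ.smul 0 0
  simpa using this

lemma SiegelPair.add (ha : SiegelPair Q u a) (hb : SiegelPair Q u b) : SiegelPair Q u (a + b) :=
  ⟨ha.sing, by rw [hQ.polar_bilinear.add_left, ha.orth, hb.orth, add_zero]⟩

lemma SiegelPair.smul (ha : SiegelPair Q u a) (c : F) : SiegelPair Q u (c • a) :=
  ⟨ha.sing, by rw [hQ.polar_bilinear.smul_left, ha.orth, mul_zero]⟩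

lemma siegelMap_comp (hu : Q u = 0) (hb : QuadraticMap.polar Q b u = 0)
    (ha : QuadraticMap.polar Q a u = 0) (y : ι → F) :
    siegelMap hQ u a (siegelMap hQ u b y) = siegelMap hQ u (a + b) y := by
  have hB := hQ.polar_bilinear
  have huu : QuadraticMap.polar Q u u = 0 := by rw [polar_self hQ, hu, mul_zero]
  set y' := siegelMap hQ u b y with hy'
  have hy'' : y' = y + QuadraticMap.polar Q y u • b +
      (-(QuadraticMap.polar Q y b + Q b * QuadraticMap.polar Q y u)) • u := by
    show y + _ - _ = _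
    module
  have h1 : QuadraticMap.polar Q y' u = QuadraticMap.polar Q y u := by
    rw [hy'', hB.add_left, hB.add_left, hB.smul_left, hB.smul_left, hb, huu]; ring
  have hua : QuadraticMap.polar Q u a = 0 := by rw [QuadraticMap.polar_comm, ha]
  have h2 : QuadraticMap.polar Q y' a = QuadraticMap.polar Q y a +
      QuadraticMap.polar Q y u * QuadraticMap.polar Q b a := by
    rw [hy'', hB.add_left, hB.add_left, hB.smul_left, hB.smul_left, hua]; ring
  have h3 : Q (a + b) = Q a + Q b + QuadraticMap.polar Q b a := by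
    simp only [QuadraticMap.polar, add_comm b a]; ring
  show y' + QuadraticMap.polar Q y' u • a - (QuadraticMap.polar Q y' a + Q a * QuadraticMap.polar Q y' u) • u
    = y + QuadraticMap.polar Q y u • (a + b) -
      (QuadraticMap.polar Q y (a + b) + Q (a + b) * QuadraticMap.polar Q y u) • u
  rw [h1, h2, h3, hB.add_right, hy'']
  module

lemma siegelMap_zero (y : ι → F) : siegelMap hQ u 0 y = y := by
  show y + _ - _ = y
  have : QuadraticMap.polar Q y 0 = 0 := by simpa using hQ.polar_bilinear.smul_right 0 y 0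
  rw [this, quad_zero hQ]
  module

/-- The Siegel transformation. -/
noncomputable def siegel (h : SiegelPair Q u a) : GL ι F :=
  ⟨LinearMap.toMatrix' (siegelMap hQ u a), LinearMap.toMatrix' (siegelMap hQ u ((-1 : F) • a)),
    by
      rw [← LinearMap.toMatrix'_comp, ← LinearMap.toMatrix'_id]
      refine congrArg _ (LinearMap.ext fun y => ?_)
      rw [LinearMap.comp_apply, siegelMap_comp hQ h.sing (h.smul hQ _).orth h.orth,
        show a + (-1 : F) • a = 0 by module, siegelMap_zero, LinearMap.id_apply],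
    by
      rw [← LinearMap.toMatrix'_comp, ← LinearMap.toMatrix'_id]
      refine congrArg _ (LinearMap.ext fun y => ?_)
      rw [LinearMap.comp_apply, siegelMap_comp hQ h.sing h.orth (h.smul hQ _).orth,
        show (-1 : F) • a + a = 0 by module, siegelMap_zero, LinearMap.id_apply]⟩

lemma siegel_mulVec' (h : SiegelPair Q u a) (y : ι → F) :
    (siegel hQ h : Matrix ι ι F) *ᵥ y = y + QuadraticMap.polar Q y u • a -
      (QuadraticMap.polar Q y a + Q a * QuadraticMap.polar Q y u) • u := by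
  show LinearMap.toMatrix' (siegelMap hQ u a) *ᵥ y = _
  rw [LinearMap.toMatrix'_mulVec]; rfl

lemma siegel_mul (ha : SiegelPair Q u a) (hb : SiegelPair Q u b) :
    siegel hQ ha * siegel hQ hb = siegel hQ (ha.add hQ hb) := by
  refine Units.ext ?_
  show LinearMap.toMatrix' (siegelMap hQ u a) * LinearMap.toMatrix' (siegelMap hQ u b) =
    LinearMap.toMatrix' (siegelMap hQ u (a + b))
  rw [← LinearMap.toMatrix'_comp]
  exact congrArg _ (LinearMap.ext fun y => siegelMap_comp hQ ha.sing hb.orth ha.orth y)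

lemma siegel_mem_isometry (h : SiegelPair Q u a) : siegel hQ h ∈ Cfsg.isometryGroup F Q := by
  refine mem_isometryGroup.2 fun y => ?_
  rw [siegel_mulVec' hQ h, sub_eq_add_neg, ← neg_smul, quad_sub_smul_self hQ _ _ _ h.sing,
    hQ.polar_bilinear.add_left, hQ.polar_bilinear.smul_left, h.orth]
  have := hQ.polar_bilinear.smul_right (QuadraticMap.polar Q y u) y a
  simp only [QuadraticMap.polar, hQ.smul] at this ⊢
  linear_combination this

lemma conj_siegel {g : GL ι F} (hg : g ∈ Cfsg.isometryGroup F Q) (h : SiegelPair Q u a)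
    (h' : SiegelPair Q ((g : Matrix ι ι F) *ᵥ u) ((g : Matrix ι ι F) *ᵥ a)) :
    g * siegel hQ h * g⁻¹ = siegel hQ h' := by
  rw [mul_inv_eq_iff_eq_mul]
  refine Units.ext (Matrix.toLin'.injective (LinearMap.ext fun y => ?_))
  have hf : ∀ v w, QuadraticMap.polar Q ((g : Matrix ι ι F) *ᵥ v) ((g : Matrix ι ι F) *ᵥ w) =
      QuadraticMap.polar Q v w := fun v w => by
    simp only [QuadraticMap.polar, ← Matrix.mulVec_add, mem_isometryGroup.1 hg]
  simp only [Matrix.toLin'_apply, mul_mulVec, siegel_mulVec', hf, mem_isometryGroup.1 hg,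
    Matrix.mulVec_sub, Matrix.mulVec_add, Matrix.mulVec_smul]

/-- Siegel transformations with anisotropic `a` are commutators of isometries. -/
theorem siegel_mem_omega (h2 : (2 : F) ≠ 0) (h : SiegelPair Q u a) (ha : Q a ≠ 0) :
    siegel hQ h ∈ Cfsg.Geo.omegaGL Q := by
  have hB := hQ.polar_bilinear
  let r : (ι → F) →ₗ[F] (ι → F) :=
    { toFun := fun y => y - (QuadraticMap.polar Q y a / Q a) • a
      map_add' := fun x y => by rw [hB.add_left]; module
      map_smul' := fun c x => by rw [hB.smul_left, RingHom.id_apply]; module }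
  have hra : r a = -a := by
    show a - (QuadraticMap.polar Q a a / Q a) • a = -a
    rw [polar_self hQ, mul_div_assoc, div_self ha, mul_one]
    module
  have hrr : r.comp r = LinearMap.id := LinearMap.ext fun y => by
    show r (y - (QuadraticMap.polar Q y a / Q a) • a) = y
    rw [map_sub, map_smul, hra]
    show y - (QuadraticMap.polar Q y a / Q a) • a - (QuadraticMap.polar Q y a / Q a) • (-a) = y
    module
  let R : GL ι F := ⟨LinearMap.toMatrix' r, LinearMap.toMatrix' r,
    by rw [← LinearMap.toMatrix'_comp, hrr, LinearMap.toMatrix'_id],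
    by rw [← LinearMap.toMatrix'_comp, hrr, LinearMap.toMatrix'_id]⟩
  have hR : ∀ y, (R : Matrix ι ι F) *ᵥ y = y - (QuadraticMap.polar Q y a / Q a) • a :=
    fun y => LinearMap.toMatrix'_mulVec r y
  have hRi : R ∈ Cfsg.isometryGroup F Q := mem_isometryGroup.2 fun y => by
    have hexp : ∀ k : F, Q (y + k • a) = Q y + k ^ 2 * Q a + k * QuadraticMap.polar Q y a := fun k => by
      have h3 := hB.smul_right k y a
      simp only [QuadraticMap.polar, hQ.smul] at h3 ⊢
      linear_combination h3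
    rw [hR, sub_eq_add_neg, ← neg_smul, hexp]
    field_simp
    ring
  have hRu : (R : Matrix ι ι F) *ᵥ u = u := by
    rw [hR, QuadraticMap.polar_comm, h.orth, zero_div, zero_smul, sub_zero]
  have hRa : (R : Matrix ι ι F) *ᵥ a = -a := (LinearMap.toMatrix'_mulVec r a).trans hra
  set c : F := -(2 : F)⁻¹ with hc
  have hs := h.smul hQ c
  have hs' : SiegelPair Q ((R : Matrix ι ι F) *ᵥ u) ((R : Matrix ι ι F) *ᵥ (c • a)) := by
    rw [hRu, Matrix.mulVec_smul, hRa]
    exact ⟨h.sing, by rw [hB.smul_left, ← neg_one_smul F a, hB.smul_left, h.orth]; ring⟩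
  have key : ⁅R, siegel hQ hs⁆ = siegel hQ h := by
    rw [commutatorElement_def, conj_siegel hQ hRi hs hs', mul_inv_eq_iff_eq_mul]
    refine Units.ext (Matrix.toLin'.injective (LinearMap.ext fun y => ?_))
    rw [siegel_mul hQ h hs]
    simp only [Matrix.toLin'_apply, siegel_mulVec', hRu, Matrix.mulVec_smul, hRa]
    rw [show c • -a = a + c • a by
      rw [hc, smul_neg, ← sub_eq_zero, show -(-(2:F)⁻¹ • a) - (a + -(2:F)⁻¹ • a) =
        (2 * (2:F)⁻¹ - 1) • a by module, mul_inv_cancel₀ h2, sub_self, zero_smul]]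
  rw [Cfsg.Geo.omegaGL, Cfsg.Omega, commutator_def]
  refine ⟨⁅(⟨R, hRi⟩ : Cfsg.isometryGroup F Q), ⟨_, siegel_mem_isometry hQ hs⟩⁆,
    Subgroup.commutator_mem_commutator (Subgroup.mem_top _) (Subgroup.mem_top _), ?_⟩
  rw [map_commutatorElement]
  exact key

omit hQ in
/-- Every non-zero vector is moved by a singular vector whose perpendicular takes every value. -/
def HasGoodVectors (Q : (ι → F) → F) : Prop :=
  ∀ b : ι → F, b ≠ 0 → ∃ u, Q u = 0 ∧ QuadraticMap.polar Q b u ≠ 0 ∧
    ∀ c : F, ∃ a, QuadraticMap.polar Q a u = 0 ∧ Q a = c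

variable (h2 : (2 : F) ≠ 0) (hgood : HasGoodVectors Q)

include h2 hgood

theorem exists_siegel_not_mem_subspaceStabilizer {W : Submodule F (ι → F)} (h0 : W ≠ ⊥)
    (h1 : W ≠ ⊤) : ∃ (u a : ι → F) (h : SiegelPair Q u a), Q a ≠ 0 ∧
      siegel hQ h ∉ Cfsg.Geo.subspaceStabilizer W := by
  by_contra hcon
  push Not at hcon
  have hB := hQ.polar_bilinear
  obtain ⟨w, hw, hw0⟩ := Submodule.exists_mem_ne_zero_of_ne_bot h0
  obtain ⟨u, hu, hwu, hval⟩ := hgood w hw0
  set c := QuadraticMap.polar Q w u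
  have hmove : ∀ a, QuadraticMap.polar Q a u = 0 → Q a ≠ 0 →
      c • a - (QuadraticMap.polar Q w a + Q a * c) • u ∈ W := by
    intro a ha hQa
    have h := sub_mem ((hcon _ _ ⟨hu, ha⟩ hQa w).1 hw) hw
    show c • a - _ ∈ W
    convert h using 1
    show _ = Matrix.mulVec (siegel hQ ⟨hu, ha⟩ : Matrix ι ι F) w - w
    rw [siegel_mulVec']
    show c • a - (QuadraticMap.polar Q w a + Q a * c) • u =
      w + c • a - (QuadraticMap.polar Q w a + Q a * c) • u - w
    abel
  obtain ⟨a₁, ha₁, hQa₁⟩ := hval 1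
  have hQneg : ∀ a, Q ((-1 : F) • a) = Q a := fun a => by rw [hQ.smul]; ring
  have huW : u ∈ W := by
    have h := add_mem (hmove a₁ ha₁ (by rw [hQa₁]; exact one_ne_zero))
      (hmove ((-1 : F) • a₁) (by rw [hB.smul_left, ha₁, mul_zero])
        (by rw [hQneg, hQa₁]; exact one_ne_zero))
    rw [hQneg, hQa₁, hB.smul_right] at h
    have h' : (-(2 * c)) • u ∈ W := by convert h using 1; module
    exact (Submodule.smul_mem_iff _ (neg_ne_zero.2 (mul_ne_zero h2 hwu))).1 h'
  have haW : ∀ a, QuadraticMap.polar Q a u = 0 → Q a ≠ 0 → a ∈ W := by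
    intro a ha hQa
    have h := add_mem (hmove a ha hQa)
      (W.smul_mem (QuadraticMap.polar Q w a + Q a * c) huW)
    rw [sub_add_cancel] at h
    exact (Submodule.smul_mem_iff _ hwu).1 h
  have hperp : ∀ a, QuadraticMap.polar Q a u = 0 → a ∈ W := by
    intro a ha
    by_cases hQa : Q a = 0
    swap
    · exact haW a ha hQa
    have hQat : ∀ t : F, Q (a₁ + t • a) = 1 + t * QuadraticMap.polar Q a₁ a := fun t => by
      rw [quad_sub_smul_self hQ _ _ _ hQa, hQa₁]
    have hort : ∀ t : F, QuadraticMap.polar Q (a₁ + t • a) u = 0 := fun t => by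
      rw [hB.add_left, hB.smul_left, ha₁, ha]; ring
    obtain ⟨t, ht, ht0⟩ : ∃ t : F, t ≠ 0 ∧ Q (a₁ + t • a) ≠ 0 := by
      by_cases h : Q (a₁ + (1 : F) • a) = 0
      · refine ⟨-1, neg_ne_zero.2 one_ne_zero, fun h' => h2 ?_⟩
        rw [hQat] at h h'
        linear_combination h + h'
      · exact ⟨1, one_ne_zero, h⟩
    have := sub_mem (haW _ (hort t) ht0) (haW a₁ ha₁ (by rw [hQa₁]; exact one_ne_zero))
    rw [add_sub_cancel_left] at this
    exact (Submodule.smul_mem_iff _ ht).1 this
  refine h1 (Submodule.eq_top_iff'.2 fun y => ?_)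
  have h := add_mem (hperp (y + (-(QuadraticMap.polar Q y u / c)) • w) (by
      rw [hB.add_left, hB.smul_left]
      show _ + -(QuadraticMap.polar Q y u / c) * c = 0
      rw [neg_mul, div_mul_cancel₀ _ hwu, add_neg_cancel]))
    (W.smul_mem (QuadraticMap.polar Q y u / c) hw)
  convert h using 1
  module

theorem not_omega_le_subspaceStabilizer {W : Submodule F (ι → F)} (h0 : W ≠ ⊥) (h1 : W ≠ ⊤) :
    ¬ Cfsg.Geo.omegaGL Q ≤ Cfsg.Geo.subspaceStabilizer W := fun hle => by
  obtain ⟨u, a, h, ha, hnot⟩ := exists_siegel_not_mem_subspaceStabilizer hQ h2 hgood h0 h1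
  exact hnot (hle (siegel_mem_omega hQ h2 h ha))

theorem not_omega_le_decompositionStabilizer {t : ℕ} {D : Fin t → Submodule F (ι → F)}
    (hD : Cfsg.Geo.IsNondegenerateMDecomposition (QuadraticMap.polar Q) 1 D) :
    ¬ Cfsg.Geo.omegaGL Q ≤ Cfsg.Geo.decompositionStabilizer D := by
  intro hle
  have hB := hQ.polar_bilinear
  obtain ⟨i⟩ : Nonempty (Fin t) := ⟨⟨0, by have := hD.decomp.two_le; omega⟩⟩
  obtain ⟨b, hb, hb0⟩ := Submodule.exists_mem_ne_zero_of_ne_bot (show D i ≠ ⊥ from fun h => by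
    have := hD.decomp.finrank_eq i
    rw [h, finrank_bot] at this
    exact zero_ne_one this)
  obtain ⟨u, hu, hbu, hval⟩ := hgood b hb0
  set c := QuadraticMap.polar Q b u
  obtain ⟨v, hv0, hv⟩ : ∃ v : F, v ≠ 0 ∧ v * c ^ 2 ≠ 2 * Q b := by
    by_cases h : (1 : F) * c ^ 2 = 2 * Q b
    · refine ⟨-1, neg_ne_zero.2 one_ne_zero, fun h' => ?_⟩
      exact mul_ne_zero h2 (pow_ne_zero 2 hbu) (by linear_combination h - h')
    · exact ⟨1, one_ne_zero, h⟩
  obtain ⟨a, ha, hQa⟩ := hval v
  have hp : SiegelPair Q u a := ⟨hu, ha⟩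
  obtain ⟨π, hπ⟩ := hle (siegel_mem_omega hQ h2 hp (hQa.symm ▸ hv0))
  have himg : (siegel hQ hp : Matrix ι ι F) *ᵥ b ∈ D (π i) := hπ i ▸ Submodule.mem_map_of_mem hb
  rw [siegel_mulVec' hQ hp, hQa] at himg
  set d := QuadraticMap.polar Q b a
  change b + c • a - (d + v * c) • u ∈ _ at himg
  by_cases hπi : π i = i
  · rw [hπi] at himg
    obtain ⟨l, hl⟩ := (finrank_eq_one_iff_of_nonzero' (⟨b, hb⟩ : D i) (by simpa using hb0)).1
      (hD.decomp.finrank_eq i) ⟨_, himg⟩
    have hl' : l • b = b + c • a - (d + v * c) • u := congrArg Subtype.val hl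
    have hl1 : l = 1 := by
      have h := congrArg (QuadraticMap.polar Q · u) hl'
      simp only [sub_eq_add_neg, ← neg_smul, hB.add_left, hB.smul_left, ha, polar_self hQ, hu] at h
      exact mul_right_cancel₀ hbu (by linear_combination h)
    rw [hl1, one_smul] at hl'
    have hca : c • a = (d + v * c) • u := by
      have := hl'.symm
      rw [add_sub_assoc, add_eq_left, sub_eq_zero] at this
      exact this
    have h := congrArg Q hca
    rw [hQ.smul, hQ.smul, hu, hQa, mul_zero] at h
    exact mul_ne_zero (pow_ne_zero 2 hbu) hv0 h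
  · have h := hD.orthogonal _ _ hπi _ himg _ hb
    simp only [sub_eq_add_neg, ← neg_smul, hB.add_left, hB.smul_left, polar_self hQ,
      QuadraticMap.polar_comm Q a b, QuadraticMap.polar_comm Q u b] at h
    exact hv (by linear_combination -h)

theorem not_omega_le_subfieldSubgroup [Fintype F] [Nonempty ι] {F₀ : Subfield F} {r : ℕ}
    (hr : r.Prime) (hc : Fintype.card F = Nat.card F₀ ^ r) (P : GL ι F) :
    ¬ Cfsg.Geo.omegaGL Q ≤ Cfsg.Geo.subfieldSubgroup F₀ P := by
  classical
  intro hle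
  have hB := hQ.polar_bilinear
  obtain ⟨p, hchar⟩ := CharP.exists F
  obtain ⟨f, hpp, -⟩ := FiniteField.card F p
  haveI : Fact p.Prime := ⟨hpp⟩
  let e₀ : ι → F := Pi.single (Classical.arbitrary ι) 1
  obtain ⟨u, hu, hbu, hval⟩ := hgood e₀ fun h => by
    simpa [e₀] using congrFun h (Classical.arbitrary ι)
  obtain ⟨a, ha, hQa⟩ := hval 1
  -- Siegel elements become rational
  have hent : ∀ t : F, t ≠ 0 → ∀ (ht : SiegelPair Q u (t • a)) i j,
      ((P⁻¹ * siegel hQ ht * P : GL ι F) : Matrix ι ι F) i j ∈ F₀ := by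
    intro t ht0 ht
    have hmem := hle (siegel_mem_omega hQ h2 ht (by
      rw [hQ.smul, hQa, mul_one]; exact pow_ne_zero 2 ht0))
    obtain ⟨X, hX, hXe⟩ := hmem
    have hXeq : X = P⁻¹ * siegel hQ ht * P := by rw [← hXe]; simp [mul_assoc]
    rw [← hXeq]
    obtain ⟨M', ⟨M, rfl⟩, s, hs, hms⟩ := Subgroup.mem_sup_of_normal_right.1 hX
    obtain ⟨d, hd⟩ := (Cfsg.Geo.mem_scalars_iff s).1 hs
    have hpow : siegel hQ ht ^ p = 1 := by
      have hk : ∀ k : ℕ, ∃ h : SiegelPair Q u ((k : F) • t • a), siegel hQ ht ^ k = siegel hQ h := by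
        intro k
        induction k with
        | zero =>
          refine ⟨ht.smul hQ _, Units.ext (Matrix.toLin'.injective (LinearMap.ext fun y => ?_))⟩
          have : QuadraticMap.polar Q y 0 = 0 := by simpa using hB.smul_right 0 y 0
          simp [siegel_mulVec' hQ, this, quad_zero hQ]
        | succ k ih =>
          obtain ⟨hk', he⟩ := ih
          refine ⟨ht.smul hQ _, ?_⟩
          rw [pow_succ, he, siegel_mul hQ]
          congr 1
          push_cast
          module
      obtain ⟨h0, he⟩ := hk p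
      obtain ⟨hz, he'⟩ := hk 0
      rw [he, ← pow_zero (siegel hQ ht), he']
      congr 2
      rw [CharP.cast_eq_zero, Nat.cast_zero]
    have hpow' : (Matrix.GeneralLinearGroup.map (F₀.subtype : F₀ →+* F) M * s) ^ p = 1 := by
      rw [hms, hXeq, show P⁻¹ * siegel hQ ht * P = MulAut.conj P⁻¹ (siegel hQ ht) by simp,
        ← map_pow, hpow, map_one]
    rw [Commute.mul_pow (by
      exact (scalars_comm hs _).symm), ← map_pow] at hpow'
    have hval' := congrArg Units.val hpow'
    rw [Units.val_mul, Units.val_pow_eq_pow_val s, hd, smul_pow, one_pow, Matrix.mul_smul, mul_one,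
      Units.val_one] at hval'
    have h00 := congrFun (congrFun hval' (Classical.arbitrary ι)) (Classical.arbitrary ι)
    rw [Matrix.smul_apply, smul_eq_mul, Matrix.one_apply_eq] at h00
    have hdp : (d : F) ^ p ∈ F₀ := by
      rw [eq_inv_of_mul_eq_one_left h00]
      exact F₀.inv_mem (Subtype.prop _)
    have hd0 : (d : F) ∈ F₀ := by
      refine mem_of_pow_card_eq ((frobenius_inj F p) ?_)
      rw [frobenius_def, frobenius_def, ← pow_mul, mul_comm, pow_mul]
      haveI : Fintype F₀ := Fintype.ofFinite _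
      rw [Nat.card_eq_fintype_card]
      exact congrArg Subtype.val (FiniteField.pow_card (⟨(d : F) ^ p, hdp⟩ : F₀))
    intro i j
    rw [← hms, Units.val_mul, hd, Matrix.mul_smul, mul_one, Matrix.smul_apply, smul_eq_mul]
    exact F₀.mul_mem hd0 (Subtype.prop _)
  -- a non-zero entry
  set u' := ((P⁻¹ : GL ι F) : Matrix ι ι F) *ᵥ u with hu'
  obtain ⟨i, hi⟩ : ∃ i, u' i ≠ 0 := by
    by_contra hcon
    push Not at hcon
    have : u = 0 := mulVec_injective P⁻¹ (show _ *ᵥ u = _ *ᵥ 0 by
      rw [Matrix.mulVec_zero]; exact funext hcon)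
    apply hbu
    rw [this]
    simpa using hB.smul_right 0 e₀ 0
  obtain ⟨j, hj⟩ : ∃ j, QuadraticMap.polar Q ((P : Matrix ι ι F) *ᵥ Pi.single j 1) u ≠ 0 := by
    by_contra hcon
    push Not at hcon
    apply hbu
    let L : (ι → F) →ₗ[F] F :=
      { toFun := fun y => QuadraticMap.polar Q ((P : Matrix ι ι F) *ᵥ y) u
        map_add' := fun x y => by rw [Matrix.mulVec_add, hB.add_left]
        map_smul' := fun c x => by rw [Matrix.mulVec_smul, hB.smul_left, RingHom.id_apply, smul_eq_mul] }
    have hL : L = 0 := (Pi.basisFun F ι).ext fun j => by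
      rw [Pi.basisFun_apply]; exact hcon j
    have := LinearMap.congr_fun hL (((P⁻¹ : GL ι F) : Matrix ι ι F) *ᵥ e₀)
    simpa [L, mulVec_inv_cancel] using this
  set k := 2 * QuadraticMap.polar Q ((P : Matrix ι ι F) *ᵥ Pi.single j 1) u * u' i with hk
  have hk0 : k ≠ 0 := mul_ne_zero (mul_ne_zero h2 hj) hi
  have hsq : ∀ t : F, t ≠ 0 → t ^ 2 * k ∈ F₀ := by
    intro t ht
    have hp1 : SiegelPair Q u (t • a) := (SiegelPair.mk hu ha).smul hQ t
    have hp2 : SiegelPair Q u ((-t) • a) := (SiegelPair.mk hu ha).smul hQ (-t)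
    have hsum := F₀.add_mem (hent t ht hp1 i j) (hent (-t) (neg_ne_zero.2 ht) hp2 i j)
    have hentry : ∀ X : GL ι F, (X : Matrix ι ι F) i j = ((X : Matrix ι ι F) *ᵥ Pi.single j 1) i :=
      fun X => by rw [Matrix.mulVec_single_one]; rfl
    rw [hentry, hentry, mul_mulVec, mul_mulVec, mul_mulVec, mul_mulVec, siegel_mulVec' hQ hp1,
      siegel_mulVec' hQ hp2] at hsum
    simp only [Matrix.mulVec_sub, Matrix.mulVec_add, Matrix.mulVec_smul, inv_mulVec_cancel,
      hQ.smul, hQa, hB.smul_right, Pi.add_apply, Pi.sub_apply, Pi.smul_apply, smul_eq_mul] at hsum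
    rw [← hu'] at hsum
    have h1 : (2 : F) * (Pi.single j (1 : F) : ι → F) i ∈ F₀ := by
      rw [Pi.single_apply]
      split
      · rw [mul_one]; exact ofNat_mem F₀ 2
      · rw [mul_zero]; exact F₀.zero_mem
    convert F₀.sub_mem h1 hsum using 1
    rw [hk]; ring
  have hall : ∀ x : F, x ∈ F₀ := by
    have hk1 : k ∈ F₀ := by simpa using hsq 1 one_ne_zero
    have hsq' : ∀ t : F, t ^ 2 ∈ F₀ := by
      intro t
      rcases eq_or_ne t 0 with rfl | ht
      · simp [F₀.zero_mem]
      · have := F₀.div_mem (hsq t ht) hk1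
        rwa [mul_div_cancel_right₀ _ hk0] at this
    intro x
    have := F₀.mul_mem (F₀.sub_mem (F₀.sub_mem (hsq' (x + 1)) (hsq' x)) F₀.one_mem)
      (F₀.inv_mem (ofNat_mem F₀ 2))
    convert this using 1
    field_simp
    ring
  have hcard : Nat.card F₀ = Fintype.card F := by
    rw [← Nat.card_eq_fintype_card]
    exact Nat.card_congr (Equiv.subtypeUnivEquiv hall)
  rw [← hcard] at hc
  have h1 : 1 < Nat.card F₀ := hcard ▸ Fintype.one_lt_card
  exact hr.one_lt.ne (Nat.pow_right_injective h1 ((pow_one (Nat.card F₀)).trans hc))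

end CfsgLib.Aschbacher
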