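import Cfsg.Agent.Lib.Aschbacher.OrthPrime
import Cfsg.Agent.Lib.Aschbacher.OrthProper
import Cfsg.Agent.Lib.Aschbacher.MaximalPrime

/-!
The shape of the maximal subgroups of `Ω_n`, `n ≥ 5` an odd prime, odd characteristic.
-/

set_option autoImplicit false

namespace CfsgLib.Aschbacher

open Matrix Module

variable {F : Type*} [Field F] {m : ℕ}

lemma polar_quadFormOdd (u v : Unit ⊕ (Fin m ⊕ Fin m) → F) :
    QuadraticMap.polar (Cfsg.quadFormOdd m F) u v = 2 * (u (.inl ()) * v (.inl ())) +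
      ∑ i : Fin m, (u (.inr (.inl i)) * v (.inr (.inr i)) + u (.inr (.inr i)) * v (.inr (.inl i))) := by
  simp only [QuadraticMap.polar, Cfsg.quadFormOdd, Pi.add_apply, add_mul, mul_add,
    Finset.sum_add_distrib]
  rw [Finset.sum_congr rfl fun (i : Fin m) _ =>
    mul_comm (u (Sum.inr (Sum.inr i))) (v (Sum.inr (Sum.inl i)))]
  ring

lemma isNondegenerate_quadFormOdd (h2 : (2 : F) ≠ 0) :
    Cfsg.Geo.IsNondegenerateQuadraticForm (Cfsg.quadFormOdd m F) := by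
  have hB : Cfsg.Geo.IsBilinearForm (QuadraticMap.polar (Cfsg.quadFormOdd m F)) := by
    refine ⟨fun x y v => ?_, fun c x v => ?_, fun v x y => ?_, fun c v x => ?_⟩ <;>
      simp only [polar_quadFormOdd, Pi.add_apply, Pi.smul_apply, smul_eq_mul, add_mul, mul_add,
        Finset.sum_add_distrib, Finset.mul_sum, mul_assoc, mul_left_comm] <;> ring
  refine ⟨fun c v => ?_, hB, fun v hv => ?_⟩
  · simp only [Cfsg.quadFormOdd, Pi.smul_apply, smul_eq_mul, mul_add, Finset.mul_sum, mul_pow]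
    congr 1
    exact Finset.sum_congr rfl fun i _ => by ring
  · obtain ⟨i, hi⟩ := Function.ne_iff.1 hv
    have key : ∃ x, QuadraticMap.polar (Cfsg.quadFormOdd m F) v x ≠ 0 := by
      rcases i with ⟨⟩ | i | i
      · exact ⟨Pi.single (.inl ()) 1, by simpa [polar_quadFormOdd, Pi.single_apply, h2] using hi⟩
      · exact ⟨Pi.single (.inr (.inr i)) 1, by
          simpa [polar_quadFormOdd, Pi.single_apply, Finset.sum_add_distrib] using hi⟩
      · exact ⟨Pi.single (.inr (.inl i)) 1, by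
          simpa [polar_quadFormOdd, Pi.single_apply, Finset.sum_add_distrib] using hi⟩
    obtain ⟨x, hx⟩ := key
    exact ⟨⟨x, by rwa [QuadraticMap.polar_comm]⟩, x, hx⟩

lemma gram_quadFormOdd_mem (F₀ : Subfield F) (a b : Unit ⊕ (Fin m ⊕ Fin m)) :
    Cfsg.Geo.gramMatrix (QuadraticMap.polar (Cfsg.quadFormOdd m F)) a b ∈ F₀ := by
  show QuadraticMap.polar _ (Pi.single a 1) (Pi.single b 1) ∈ F₀
  rw [polar_quadFormOdd]
  have hs : ∀ i j : Unit ⊕ (Fin m ⊕ Fin m), (Pi.single i (1 : F) : _ → F) j ∈ F₀ := fun i j => by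
    rw [Pi.single_apply]; split
    · exact F₀.one_mem
    · exact F₀.zero_mem
  exact F₀.add_mem (F₀.mul_mem (ofNat_mem F₀ 2) (F₀.mul_mem (hs _ _) (hs _ _)))
    (F₀.sum_mem fun i _ => F₀.add_mem (F₀.mul_mem (hs _ _) (hs _ _)) (F₀.mul_mem (hs _ _) (hs _ _)))

lemma hasGoodVectors_quadFormOdd (hm : 2 ≤ m) (h2 : (2 : F) ≠ 0) :
    HasGoodVectors (Cfsg.quadFormOdd m F) := by
  classical
  -- a vector supported off the index `j` has a perpendicular taking every value there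
  have hval : ∀ (u : Unit ⊕ (Fin m ⊕ Fin m) → F) (j : Fin m),
      u (.inr (.inl j)) = 0 → u (.inr (.inr j)) = 0 →
      ∀ c : F, ∃ a, QuadraticMap.polar (Cfsg.quadFormOdd m F) a u = 0 ∧
        Cfsg.quadFormOdd m F a = c := by
    intro u j hl hr c
    refine ⟨(Pi.single (.inr (.inl j)) 1 + Pi.single (.inr (.inr j)) c :
      Unit ⊕ (Fin m ⊕ Fin m) → F), ?_, ?_⟩
    · rw [polar_quadFormOdd]
      simp [Pi.single_apply, Finset.sum_add_distrib, hl, hr]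
    · simp [Cfsg.quadFormOdd, Pi.single_apply]
  intro b hb
  let i₀ : Fin m := ⟨0, by omega⟩
  let i₁ : Fin m := ⟨1, by omega⟩
  have h01 : i₀ ≠ i₁ := fun h => by simpa [i₀, i₁] using congrArg Fin.val h
  by_cases hl : ∃ i, b (.inr (.inl i)) ≠ 0
  · obtain ⟨i, hi⟩ := hl
    obtain ⟨j, hj⟩ : ∃ j, j ≠ i := if h : i = i₀ then ⟨i₁, h ▸ h01.symm⟩ else ⟨i₀, Ne.symm h⟩
    refine ⟨Pi.single (.inr (.inr i)) 1, by simp [Cfsg.quadFormOdd, Pi.single_apply],
      by simpa [polar_quadFormOdd, Pi.single_apply, Finset.sum_add_distrib] using hi,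
      hval _ j (by simp) (by simp [hj])⟩
  by_cases hr : ∃ i, b (.inr (.inr i)) ≠ 0
  · obtain ⟨i, hi⟩ := hr
    obtain ⟨j, hj⟩ : ∃ j, j ≠ i := if h : i = i₀ then ⟨i₁, h ▸ h01.symm⟩ else ⟨i₀, Ne.symm h⟩
    refine ⟨Pi.single (.inr (.inl i)) 1, by simp [Cfsg.quadFormOdd, Pi.single_apply],
      by simpa [polar_quadFormOdd, Pi.single_apply, Finset.sum_add_distrib] using hi,
      hval _ j (by simp [hj]) (by simp)⟩
  push Not at hl hr
  have h0 : b (.inl ()) ≠ 0 := fun h => hb (funext fun i => by rcases i with ⟨⟩ | i | i <;> simp [h, hl, hr])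
  refine ⟨(Pi.single (.inl ()) 1 + Pi.single (.inr (.inl i₀)) 1 + Pi.single (.inr (.inr i₀)) (-1) :
    Unit ⊕ (Fin m ⊕ Fin m) → F), ?_, ?_, hval _ i₁ ?_ ?_⟩
  · simp [Cfsg.quadFormOdd, Pi.single_apply]
  · simp [polar_quadFormOdd, Pi.single_apply, hl, hr, h0, h2]
  · simp [h01.symm]
  · simp [h01.symm]

lemma omegaGL_le_isometry {ι : Type} [Fintype ι] [DecidableEq ι] (Q : (ι → F) → F) :
    Cfsg.Geo.omegaGL Q ≤ Cfsg.isometryGroup F Q := by
  rintro _ ⟨g, -, rfl⟩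
  exact g.2

/-- Maximal subgroups of `Ω_n`, `n = 2m + 1` prime. -/
theorem maximal_prime_orth [Fintype F] {n : ℕ} (hn : 2 * m + 1 = n) (hp : n.Prime) (hn5 : 5 ≤ n)
    (hodd : Odd (Fintype.card F)) {H : Subgroup (GL (Unit ⊕ (Fin m ⊕ Fin m)) F)}
    (hH : Cfsg.Geo.IsMaximalIn (Cfsg.Geo.omegaGL (Cfsg.quadFormOdd m F)) H) :
    (∃ W : Submodule F (Unit ⊕ (Fin m ⊕ Fin m) → F), W ≠ ⊥ ∧
        Cfsg.Geo.IsTotallySingularQuad (Cfsg.quadFormOdd m F) W ∧
        H = Cfsg.Geo.subspaceStabilizer W ⊓ Cfsg.Geo.omegaGL (Cfsg.quadFormOdd m F)) ∨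
    (∃ W : Submodule F (Unit ⊕ (Fin m ⊕ Fin m) → F), W ≠ ⊥ ∧ Even (finrank F W) ∧
        Cfsg.Geo.IsNondegenerateOn (QuadraticMap.polar (Cfsg.quadFormOdd m F)) W ∧
        ¬ (Fintype.card F = 3 ∧ finrank F W = 2 ∧ Cfsg.Geo.IsPlusTypeOn (Cfsg.quadFormOdd m F) W) ∧
        H = Cfsg.Geo.subspaceStabilizer W ⊓ Cfsg.Geo.omegaGL (Cfsg.quadFormOdd m F)) ∨
    ((Fintype.card F).Prime ∧ ∃ D : Fin n → Submodule F (Unit ⊕ (Fin m ⊕ Fin m) → F),
        Cfsg.Geo.IsOrthogonalMDecomposition (Cfsg.quadFormOdd m F) 1 D ∧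
        H = Cfsg.Geo.decompositionStabilizer D ⊓ Cfsg.Geo.omegaGL (Cfsg.quadFormOdd m F)) ∨
    (∃ (F₀ : Subfield F) (r : ℕ) (P : GL (Unit ⊕ (Fin m ⊕ Fin m)) F), r.Prime ∧
        Fintype.card F = Nat.card F₀ ^ r ∧
        Cfsg.Geo.IsQuadFormRationalStructure (Cfsg.quadFormOdd m F) F₀ P ∧
        H = Cfsg.Geo.subfieldSubgroup F₀ P ⊓ Cfsg.Geo.omegaGL (Cfsg.quadFormOdd m F)) ∨
    Cfsg.Geo.InOrthogonalResidualClass H := by
  have h2 : (2 : F) ≠ 0 := by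
    intro h
    haveI : CharP F 2 := (CharP.charP_iff_prime_eq_zero Nat.prime_two).2 (by exact_mod_cast h)
    exact Nat.not_even_iff_odd.2 hodd (Nat.even_iff.2
      (FiniteField.even_card_of_char_two (ringChar.eq F 2)))
  have hQ := isNondegenerate_quadFormOdd (m := m) h2
  have hgood := hasGoodVectors_quadFormOdd (F := F) (m := m) (by omega) h2
  have hcard : Fintype.card (Unit ⊕ (Fin m ⊕ Fin m)) = n := by simp; omega
  rcases orth_prime_aschbacher hQ hodd hcard hp hn5 gram_quadFormOdd_mem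
      (hH.1.le.trans (omegaGL_le_isometry _)) with
    ⟨W, h0, hts, h1, hle⟩ | ⟨W, h0, he, hnd, hex, h1, hle⟩ | ⟨hq, D, hD, hle⟩ |
    ⟨F₀, r, P, hr, hc, hP, hle⟩ | hres
  · exact Or.inl ⟨W, h0, hts,
      eq_inf_of_maximal hH hle (not_omega_le_subspaceStabilizer hQ h2 hgood h0 h1)⟩
  · exact Or.inr (Or.inl ⟨W, h0, he, hnd, hex,
      eq_inf_of_maximal hH hle (not_omega_le_subspaceStabilizer hQ h2 hgood h0 h1)⟩)
  · exact Or.inr (Or.inr (Or.inl ⟨hq, D, hD,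
      eq_inf_of_maximal hH hle (not_omega_le_decompositionStabilizer hQ h2 hgood hD.decomp)⟩))
  · exact Or.inr (Or.inr (Or.inr (Or.inl ⟨F₀, r, P, hr, hc, hP,
      eq_inf_of_maximal hH hle (not_omega_le_subfieldSubgroup hQ h2 hgood hr hc P)⟩)))
  · exact Or.inr (Or.inr (Or.inr (Or.inr hres)))

end CfsgLib.Aschbacher
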