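import Cfsg.Agent.Lib.Aschbacher.OrthForm

/-!
Aschbacher's theorem for groups of isometries of a quadratic form in odd prime dimension, odd
characteristic.
-/

set_option autoImplicit false

namespace CfsgLib.Aschbacher

open Matrix Module

variable {F : Type*} [Field F] {ι : Type} [Fintype ι] [DecidableEq ι] {n : ℕ}

/-- A normalised subgroup of an irreducible group in prime dimension. -/
lemma prime_trichotomy' [Finite F] (hn : Fintype.card ι = n) (hp : n.Prime)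
    {H A : Subgroup (GL ι F)} (hirr : Irr H) (hA : ∀ g ∈ H, ∀ a ∈ A, g * a * g⁻¹ ∈ A) :
    (∃ D : Fin n → Submodule F (ι → F), Cfsg.Geo.IsMDecomposition 1 D ∧
        H ≤ Cfsg.Geo.decompositionStabilizer D ∧ ∀ i, Inv A (D i)) ∨
      A ≤ Cfsg.Geo.scalars ι F ∨ (Cfsg.Geo.IsFieldSubalgebra n (commutant A)) ∨ AbsIrr A := by
  haveI : Nonempty ι := Fintype.card_pos_iff.1 (hn ▸ hp.pos)
  haveI : Fintype F := Fintype.ofFinite F
  rcases decomposition_or_faithful' hirr hA with ⟨t, m, D, hD, hle, hinv⟩ | hf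
  · have h := mDecomposition_mul_eq hD
    rw [hn] at h
    rcases hp.eq_one_or_self_of_dvd t ⟨m, h.symm⟩ with h1 | h1
    · have := hD.two_le; omega
    · subst h1
      obtain rfl : m = 1 := Nat.eq_of_mul_eq_mul_left hp.pos (h.trans (mul_one _).symm)
      exact Or.inl ⟨D, hD, hle, hinv⟩
  right
  obtain ⟨S, -, hS⟩ := exists_minInv (inv_top A) (top_ne_bot (α := Submodule F (ι → F)))
  have hdvd := finrank_dvd_card hirr hA hS
  rw [hn] at hdvd
  rcases hp.eq_one_or_self_of_dvd _ hdvd with h1 | h1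
  · left
    obtain ⟨v, hv, hv0⟩ := Submodule.exists_mem_ne_zero_of_ne_bot hS.ne_bot
    have hspan : ∀ w ∈ S, ∃ c : F, w = c • v := by
      intro w hw
      obtain ⟨c, hc⟩ :=
        (finrank_eq_one_iff_of_nonzero' (⟨v, hv⟩ : S) (by simpa using hv0)).1 h1 ⟨w, hw⟩
      exact ⟨c, (congrArg Subtype.val hc).symm⟩
    refine le_scalars_of_commutant fun a ha => ?_
    obtain ⟨c, hc⟩ := hspan _ (hS.inv a ha v hv)
    refine ⟨c, sub_eq_zero.1 ((Submodule.mem_bot F).1 (hf S hS ▸ (⟨?_, ?_⟩ :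
      (a : Matrix ι ι F) - c • 1 ∈ ann A S)))⟩
    · exact sub_mem (mem_envelope ha) (Submodule.smul_mem _ c (one_mem_envelope A))
    · intro w hw
      obtain ⟨d, rfl⟩ := hspan w hw
      rw [Matrix.sub_mulVec, Matrix.smul_mulVec, Matrix.one_mulVec, Matrix.mulVec_smul, hc,
        smul_comm, sub_self]
  · have htop : S = ⊤ := Submodule.eq_top_of_finrank_eq (by simpa [hn] using h1)
    have hAirr : Irr A := irr_iff.2 fun W hW => by
      rcases hS.min W (htop ▸ le_top) hW with h | h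
      · exact Or.inl h
      · exact Or.inr (h.trans htop)
    have hK := commutant_isField hAirr
    have hdvd' := fieldSubalgebra_dvd hK
    rw [hn] at hdvd'
    rcases hp.eq_one_or_self_of_dvd _ hdvd' with h2 | h2
    · right; right
      refine absIrr_of_commutant hAirr fun M hM => ?_
      obtain ⟨c, hc⟩ := (finrank_eq_one_iff_of_nonzero' (1 : ↥(commutant A))
        one_ne_zero).1 h2 ⟨M, hM⟩
      exact ⟨c, (congrArg Subtype.val hc).symm⟩
    · exact Or.inr (Or.inl ⟨hK.comm, hK.inv, h2⟩)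

/-- An absolutely irreducible group of isometries of odd degree is not abelian modulo scalars. -/
lemma not_class_two {Q : (ι → F) → F} (hQ : Cfsg.Geo.IsNondegenerateQuadraticForm Q)
    (hodd : Odd (Fintype.card ι)) (hι : 1 < Fintype.card ι) {N : Subgroup (GL ι F)}
    (hN : AbsIrr N) (hNQ : N ≤ Cfsg.isometryGroup F Q) :
    ¬ ∀ a ∈ N, ∀ b ∈ N, a * b * a⁻¹ * b⁻¹ ∈ Cfsg.Geo.scalars ι F := by
  intro h
  haveI : Nonempty ι := Fintype.card_pos_iff.1 (by omega)
  have hcomm : ∀ a ∈ N, ∀ b ∈ N, a * b = b * a := by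
    intro a ha b hb
    set z := a * b * a⁻¹ * b⁻¹ with hz
    have hzN : z ∈ N := N.mul_mem (N.mul_mem (N.mul_mem ha hb) (N.inv_mem ha)) (N.inv_mem hb)
    obtain ⟨c, hc⟩ := (Cfsg.Geo.mem_scalars_iff z).1 (h a ha b hb)
    have hc2 : (c : F) ^ 2 = 1 := by
      let w : ι → F := Pi.single (Classical.arbitrary ι) 1
      obtain ⟨-, x, hx⟩ := hQ.nondegenerate w fun h0 => by
        simpa [w] using congrFun h0 (Classical.arbitrary ι)
      have h' := fixesPolar_of_le hNQ _ ⟨z, hzN, rfl⟩ w x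
      simp only [hc, Matrix.smul_mulVec, Matrix.one_mulVec] at h'
      rw [hQ.polar_bilinear.smul_left, hQ.polar_bilinear.smul_right, ← mul_assoc, ← sq] at h'
      exact mul_right_cancel₀ hx (h'.trans (one_mul _).symm)
    have hdet : Matrix.GeneralLinearGroup.det z = 1 := by
      simp [hz, mul_comm (Matrix.GeneralLinearGroup.det a)]
    have hdet' : (c : F) ^ Fintype.card ι = 1 := by
      have h1 := congrArg Units.val hdet
      rw [Matrix.GeneralLinearGroup.val_det_apply, hc, Matrix.det_smul, Matrix.det_one, mul_one] at h1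
      exact h1
    obtain ⟨k, hk⟩ := hodd
    rw [hk, pow_succ, pow_mul, hc2, one_pow, one_mul] at hdet'
    have hz1 : z = 1 := Units.ext (by rw [hc, hdet', one_smul, Units.val_one])
    calc a * b = z * (b * a) := by rw [hz]; group
      _ = b * a := by rw [hz1, one_mul]
  exact not_le_scalars_of_irr hι hN.1 fun a ha => hN.mem_scalars (hcomm a ha)

/-- A frame over a field that is not prime is defined over a subfield. -/
theorem frame_subfield [Fintype F] {Q : (ι → F) → F}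
    (hQ : Cfsg.Geo.IsNondegenerateQuadraticForm Q) (h2 : (2 : F) ≠ 0)
    (hn : Fintype.card ι = n) (hodd : Odd n) {F₁ : Subfield F}
    (hstd : ∀ a b, Cfsg.Geo.gramMatrix (QuadraticMap.polar Q) a b ∈ F₁) {H : Subgroup (GL ι F)}
    (hH : H ≤ Cfsg.isometryGroup F Q) {D : Fin n → Submodule F (ι → F)}
    (hD : Cfsg.Geo.IsNondegenerateMDecomposition (QuadraticMap.polar Q) 1 D)
    (hle : H ≤ Cfsg.Geo.decompositionStabilizer D)
    (htrans : ∀ i j, ∃ h ∈ H, (D i).map (Matrix.toLin' (h : Matrix ι ι F)) = D j) :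
    ∃ P : GL ι F, Cfsg.Geo.IsQuadFormRationalStructure Q F₁ P ∧
      H ≤ Cfsg.Geo.subfieldSubgroup F₁ P := by
  classical
  obtain ⟨i₀⟩ : Nonempty (Fin n) := ⟨⟨0, hodd.pos⟩⟩
  have hne : D i₀ ≠ ⊥ := fun h => by
    have := hD.decomp.finrank_eq i₀
    rw [h, finrank_bot] at this
    exact zero_ne_one this
  obtain ⟨v, hv, hv0⟩ := Submodule.exists_mem_ne_zero_of_ne_bot hne
  have hline : ∀ j, ∀ w ∈ D j, w ≠ 0 → ∀ x ∈ D j, ∃ c : F, c • w = x := by
    intro j w hw hw0 x hx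
    obtain ⟨c, hc⟩ := (finrank_eq_one_iff_of_nonzero' (⟨w, hw⟩ : D j)
      (by simpa using hw0)).1 (hD.decomp.finrank_eq j) ⟨x, hx⟩
    exact ⟨c, congrArg Subtype.val hc⟩
  choose h hh hmap using htrans i₀
  let b : Fin n → ι → F := fun j => (h j : Matrix ι ι F) *ᵥ v
  have hb : ∀ j, b j ∈ D j := fun j => hmap j ▸ Submodule.mem_map_of_mem hv
  have hb0 : ∀ j, b j ≠ 0 := fun j h0 => hv0 (mulVec_injective (h j) (by
    show (h j : Matrix ι ι F) *ᵥ v = (h j : Matrix ι ι F) *ᵥ 0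
    rw [Matrix.mulVec_zero]; exact h0))
  have hQb : ∀ j, Q (b j) = Q v := fun j => mem_isometryGroup.1 (hH (hh j)) v
  have hg0 : QuadraticMap.polar Q v v ≠ 0 := by
    obtain ⟨⟨x, hx, hxv⟩, -⟩ := hD.nondegenerate i₀ v hv hv0
    obtain ⟨c, rfl⟩ := hline i₀ v hv hv0 x hx
    rw [hQ.polar_bilinear.smul_left] at hxv
    exact right_ne_zero_of_mul hxv
  let e : ι ≃ Fin n := Fintype.equivOfCardEq (by rw [hn, Fintype.card_fin])
  have hli : LinearIndependent F fun a => b (e a) :=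
    (hD.decomp.indep.linearIndependent D hb hb0).comp e e.injective
  let M : Matrix ι ι F := fun r a => b (e a) r
  have hMu : IsUnit M := Matrix.linearIndependent_cols_iff_isUnit.1 hli
  obtain ⟨C, hC⟩ := hMu
  have hcol : ∀ a, (C : Matrix ι ι F) *ᵥ Pi.single a 1 = b (e a) := fun a => by
    rw [hC, Matrix.mulVec_single_one]; rfl
  have hsd : ∀ x ∈ F₁, ∀ y ∈ F₁, x / y ∈ F₁ := fun x hx y hy => F₁.div_mem hx hy
  obtain ⟨d, hd⟩ := exists_quad_rational hQ h2 (hn.symm ▸ hodd) hstd (C := C) hg0 fun a c => by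
    rw [hcol, hcol]
    by_cases hac : a = c
    · subst hac
      rw [polar_self hQ, polar_self hQ, hQb, div_self (by rwa [polar_self hQ] at hg0)]
      exact F₁.one_mem
    · rw [hD.orthogonal _ _ (fun h => hac (e.injective h)) _ (hb _) _ (hb _), zero_div]
      exact F₁.zero_mem
  refine ⟨_, hd, ?_⟩
  rw [subfieldSubgroup_scalar_mul]
  intro g hg
  obtain ⟨π, hπ⟩ := hle hg
  suffices hent : ∀ r a, ((C⁻¹ * g * C : GL ι F) : Matrix ι ι F) r a ∈ F₁ from
    ⟨C⁻¹ * g * C, Subgroup.mem_sup_left (mem_range_map _ hent), by simp [mul_assoc]⟩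
  intro r a
  have himg : (g : Matrix ι ι F) *ᵥ b (e a) ∈ D (π (e a)) :=
    hπ (e a) ▸ Submodule.mem_map_of_mem (hb _)
  obtain ⟨c, hc⟩ := hline _ _ (hb _) (hb0 _) _ himg
  have hc1 : c = 1 ∨ c = -1 := by
    have h1 := mem_isometryGroup.1 (hH hg) (b (e a))
    rw [← hc, hQ.smul, hQb, hQb] at h1
    have hv' : Q v ≠ 0 := fun h0 => hg0 (by rw [polar_self hQ, h0, mul_zero])
    exact sq_eq_one_iff.1 (mul_right_cancel₀ hv' (h1.trans (one_mul _).symm))
  have hentry : ((C⁻¹ * g * C : GL ι F) : Matrix ι ι F) r a =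
      c * (Pi.single (e.symm (π (e a))) (1 : F) : ι → F) r := by
    have h1 : ((C⁻¹ * g * C : GL ι F) : Matrix ι ι F) *ᵥ Pi.single a 1 =
        c • (Pi.single (e.symm (π (e a))) (1 : F) : ι → F) := by
      rw [mul_mulVec, mul_mulVec, hcol, ← hc, Matrix.mulVec_smul]
      congr 1
      rw [← e.apply_symm_apply (π (e a)), ← hcol, e.apply_symm_apply, inv_mulVec_cancel]
    have := congrFun h1 r
    rwa [Matrix.mulVec_single_one, Pi.smul_apply, smul_eq_mul] at this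
  rw [hentry, Pi.single_apply]
  split
  · rcases hc1 with rfl | rfl <;> simp [F₁.one_mem, F₁.neg_mem]
  · simp [F₁.zero_mem]

/-- Aschbacher's theorem in odd prime dimension, orthogonal case. -/
theorem orth_prime_aschbacher [Fintype F] {Q : (ι → F) → F}
    (hQ : Cfsg.Geo.IsNondegenerateQuadraticForm Q) (hF : Odd (Fintype.card F))
    (hn : Fintype.card ι = n) (hp : n.Prime) (hn5 : 5 ≤ n)
    (hstd : ∀ (F₀ : Subfield F) a b, Cfsg.Geo.gramMatrix (QuadraticMap.polar Q) a b ∈ F₀)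
    {H : Subgroup (GL ι F)} (hH : H ≤ Cfsg.isometryGroup F Q) :
    (∃ W : Submodule F (ι → F), W ≠ ⊥ ∧ Cfsg.Geo.IsTotallySingularQuad Q W ∧ W ≠ ⊤ ∧
        H ≤ Cfsg.Geo.subspaceStabilizer W) ∨
    (∃ W : Submodule F (ι → F), W ≠ ⊥ ∧ Even (finrank F W) ∧
        Cfsg.Geo.IsNondegenerateOn (QuadraticMap.polar Q) W ∧
        ¬ (Fintype.card F = 3 ∧ finrank F W = 2 ∧ Cfsg.Geo.IsPlusTypeOn Q W) ∧ W ≠ ⊤ ∧
        H ≤ Cfsg.Geo.subspaceStabilizer W) ∨
    ((Fintype.card F).Prime ∧ ∃ D : Fin n → Submodule F (ι → F),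
        Cfsg.Geo.IsOrthogonalMDecomposition Q 1 D ∧ H ≤ Cfsg.Geo.decompositionStabilizer D) ∨
    (∃ (F₀ : Subfield F) (r : ℕ) (P : GL ι F), r.Prime ∧ Fintype.card F = Nat.card F₀ ^ r ∧
        Cfsg.Geo.IsQuadFormRationalStructure Q F₀ P ∧ H ≤ Cfsg.Geo.subfieldSubgroup F₀ P) ∨
    Cfsg.Geo.InOrthogonalResidualClass H := by
  classical
  have h2 : (2 : F) ≠ 0 := by
    intro h
    haveI : CharP F 2 := (CharP.charP_iff_prime_eq_zero Nat.prime_two).2 (by exact_mod_cast h)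
    exact Nat.not_even_iff_odd.2 hF (Nat.even_iff.2
      (FiniteField.even_card_of_char_two (ringChar.eq F 2)))
  have hodd : Odd n := hp.odd_of_ne_two (by omega)
  have hodd' : Odd (Fintype.card ι) := hn.symm ▸ hodd
  have hcard : 1 < Fintype.card ι := by omega
  haveI : Nonempty ι := Fintype.card_pos_iff.1 (by omega)
  by_cases hirr : Irr H
  swap
  · rcases reducible_orth hQ h2 hodd' (by omega) hH hirr with h | h
    · exact Or.inl h
    · exact Or.inr (Or.inl h)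
  right; right
  obtain ⟨N, ⟨hNH, hNn, hNZ, hNs⟩, hNmin⟩ := (Set.toFinite {N : Subgroup (GL ι F) |
    N ≤ H ∧ (∀ g ∈ H, ∀ a ∈ N, g * a * g⁻¹ ∈ N) ∧ H ⊓ Cfsg.Geo.scalars ι F ≤ N ∧
      ¬ N ≤ Cfsg.Geo.scalars ι F}).exists_minimal
    ⟨H, le_rfl, fun g hg a ha => H.mul_mem (H.mul_mem hg ha) (H.inv_mem hg), inf_le_left,
      not_le_scalars_of_irr hcard hirr⟩
  have hmin : ∀ M ≤ N, (∀ g ∈ H, ∀ a ∈ M, g * a * g⁻¹ ∈ M) →
      (∀ z ∈ N, z ∈ Cfsg.Geo.scalars ι F → z ∈ M) →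
      M ≤ Cfsg.Geo.scalars ι F ∨ M = N := by
    intro M hMN hMn hMZ
    by_cases hMs : M ≤ Cfsg.Geo.scalars ι F
    · exact Or.inl hMs
    · exact Or.inr (le_antisymm hMN (hNmin ⟨hMN.trans hNH, hMn,
        fun z hz => hMZ z (hNZ hz) hz.2, hMs⟩ hMN))
  have hsubf : ∀ F₀ : Subfield F, F₀ ≠ ⊤ → ∃ (F₁ : Subfield F) (r : ℕ), F₀ ≤ F₁ ∧ r.Prime ∧
      Fintype.card F = Nat.card F₁ ^ r := fun F₀ hF₀ => exists_subfield_prime hF₀
  rcases prime_trichotomy' hn hp hirr hNn with ⟨D, hD, hle, hinv⟩ | hs | hK | hNabs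
  · obtain ⟨hDn, htrans⟩ := frame_orthogonal_of_sesq hp hodd (isSesq_of_bilinear hQ.polar_bilinear)
      hQ.nondegenerate (fun u v h => by rwa [QuadraticMap.polar_comm]) hirr (fixesPolar_of_le hH)
      (fixesPolar_of_le (hNH.trans hH)) hNn hNs hD hle hinv
    by_cases hq : (Fintype.card F).Prime
    · refine Or.inl ⟨hq, D, ⟨hDn, fun i j => ?_⟩, hle⟩
      obtain ⟨g, hg, hmap⟩ := htrans i j
      refine ⟨(Submodule.equivMapOfInjective (Matrix.toLin' (g : Matrix ι ι F))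
        (fun x y h => mulVec_injective g (by simpa using h)) (D i)).trans
          (LinearEquiv.ofEq _ _ hmap), fun w => ?_⟩
      show Q (Matrix.toLin' (g : Matrix ι ι F) w) = _
      rw [Matrix.toLin'_apply]
      exact mem_isometryGroup.1 (hH hg) w
    · refine Or.inr (Or.inl ?_)
      obtain ⟨p, hchar⟩ := CharP.exists F
      obtain ⟨f, hpp, hc⟩ := FiniteField.card F p
      haveI : Fact p.Prime := ⟨hpp⟩
      obtain ⟨K, hK, -⟩ := exists_subfield_of_dvd (F := F) hc (one_dvd _)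
      obtain ⟨F₁, r, -, hr, hc₁⟩ := hsubf K fun htop => hq (by
        rw [← Nat.card_eq_fintype_card, ← Nat.card_congr Subfield.topEquiv.toEquiv, ← htop, hK,
          pow_one]
        exact hpp)
      obtain ⟨P, hP, hle'⟩ := frame_subfield hQ h2 hn hodd (hstd F₁) hH hDn hle htrans
      exact ⟨F₁, r, P, hr, hc₁, hP, hle'⟩
  · exact absurd hs hNs
  · exact absurd (le_scalars_of_field hQ h2 hodd' (hNH.trans hH) (hn.symm ▸ hK)) hNs
  right
  obtain ⟨hPabs, hPperf, hPn, hPsimp, hPna⟩ := residualCore_of_minimal (hn.symm ▸ hp) hNabs hNH hNn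
    (fun z hz hzs => hNZ ⟨hz, hzs⟩) hmin (not_class_two hQ hodd' hcard hNabs (hNH.trans hH))
  have hPH : ⁅N, N⁆ ≤ H := (Subgroup.commutator_le.2 fun a ha b hb =>
      N.mul_mem (N.mul_mem (N.mul_mem ha hb) (N.inv_mem ha)) (N.inv_mem hb)).trans hNH
  by_cases hreal : ∃ F₀ : Subfield F, F₀ ≠ ⊤ ∧
      Cfsg.Geo.RealisableOver F₀ (Cfsg.Geo.matrixSet ⁅N, N⁆)
  · obtain ⟨F₀, hF₀, hreal⟩ := hreal
    obtain ⟨F₁, r, hle, hr, hc⟩ := hsubf F₀ hF₀
    obtain ⟨B, hB⟩ := realisableOver_mono hle hreal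
    obtain ⟨d, hd⟩ := exists_quad_rational_of_realised hQ h2 hodd' hPabs (hPH.trans hH) (hstd F₁) hB
    refine Or.inl ⟨F₁, r, _, hr, hc, hd, ?_⟩
    rw [subfieldSubgroup_scalar_mul]
    exact le_subfieldSubgroup_of_entries hPn (envelope_eq_top hPabs) hB
  refine Or.inr ⟨⁅N, N⁆, ⟨hPH, hPn, hPperf, hPsimp, hPna, ?_, hPabs, ?_⟩, ?_⟩
  · intro h _ hc
    exact hPabs.mem_scalars (commutator_mem_scalars_comm hPperf hc)
  · exact fun F₀ hF₀ hr => hreal ⟨F₀, hF₀, hr⟩
  · rintro ⟨σ, f, hf, hfix⟩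
    obtain ⟨q, hq, hσ⟩ := exists_sq_of_involutive h2 hf.ne_refl hf.involutive
    exact hreal (realisableOver_of_two_forms hq hσ hf hPabs hfix hQ.polar_bilinear
      hQ.nondegenerate (fixesPolar_of_le (hPH.trans hH)))

end CfsgLib.Aschbacher
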