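import Cfsg.Agent.Lib.Aschbacher.OrthProper
import Cfsg.Agent.Lib.Aschbacher.ProperGeneral
import Cfsg.Agent.Lib.Aschbacher.SympFamily
import Cfsg.Agent.Lib.Aschbacher.HermField
import Cfsg.Agent.Lib.Aschbacher.HermFrame

/-!
`Ω` of an odd dimensional quadratic form lies in no block, extension field or tensor wreath
subgroup: the fixed space of a Siegel transformation has codimension two.
-/

set_option autoImplicit false

namespace CfsgLib.Aschbacher

open Matrix Module

variable {F : Type*} [Field F] {ι : Type} [Fintype ι] [DecidableEq ι] {Q : (ι → F) → F}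
  (hQ : Cfsg.Geo.IsNondegenerateQuadraticForm Q) {u a : ι → F}

/-- The functional `y ↦ p(y, v)`. -/
def polarDual (v : ι → F) : (ι → F) →ₗ[F] F where
  toFun y := QuadraticMap.polar Q y v
  map_add' x y := hQ.polar_bilinear.add_left x y v
  map_smul' c x := hQ.polar_bilinear.smul_left c x v

omit [DecidableEq ι] in
lemma exists_perp_kernel {V : Type*} [AddCommGroup V] [Module F V] [FiniteDimensional F V]
    (f : V →ₗ[F] F) (g : V →ₗ[F] F) (hV : 2 < finrank F V) :
    ∃ x : V, x ≠ 0 ∧ f x = 0 ∧ g x = 0 := by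
  have hne : LinearMap.ker (f.prod g) ≠ ⊥ := by
    intro h
    have h1 := (f.prod g).finrank_range_add_finrank_ker
    rw [h, finrank_bot] at h1
    have h2 := Submodule.finrank_le (LinearMap.range (f.prod g))
    simp only [finrank_prod, finrank_self] at h2
    omega
  obtain ⟨x, hx, hx0⟩ := Submodule.exists_mem_ne_zero_of_ne_bot hne
  rw [LinearMap.mem_ker, LinearMap.prod_apply] at hx
  exact ⟨x, hx0, congrArg Prod.fst hx, congrArg Prod.snd hx⟩

lemma siegel_fix (h : SiegelPair Q u a) {y : ι → F} (hu : QuadraticMap.polar Q y u = 0)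
    (ha : QuadraticMap.polar Q y a = 0) : (siegel hQ h : Matrix ι ι F) *ᵥ y = y := by
  rw [siegel_mulVec' hQ h, hu, ha]; module

variable (h2 : (2 : F) ≠ 0) (hgood : HasGoodVectors Q)

include hgood in
lemma exists_siegel_moving [Nonempty ι] : ∃ (u a : ι → F) (h : SiegelPair Q u a) (y : ι → F),
    Q a ≠ 0 ∧ (siegel hQ h : Matrix ι ι F) *ᵥ y ≠ y := by
  classical
  let e₀ : ι → F := Pi.single (Classical.arbitrary ι) 1
  obtain ⟨u, hu, hbu, hval⟩ := hgood e₀ fun h => by
    simpa [e₀] using congrFun h (Classical.arbitrary ι)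
  obtain ⟨a, ha, hQa⟩ := hval 1
  refine ⟨u, a, ⟨hu, ha⟩, e₀, by rw [hQa]; exact one_ne_zero, fun h => ?_⟩
  rw [siegel_mulVec', add_sub_assoc, add_eq_left, sub_eq_zero] at h
  have := congrArg Q h
  rw [hQ.smul, hQ.smul, hu, hQa, mul_zero, mul_one] at this
  exact hbu (pow_eq_zero_iff two_ne_zero |>.1 this)

include hQ h2 hgood

/-- Blocks of dimension at least three. -/
theorem not_omega_le_blockStabilizer {t k : ℕ} (hk : 3 ≤ k) {D : Fin t → Submodule F (ι → F)}
    (hD : Cfsg.Geo.IsMDecomposition k D) :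
    ¬ Cfsg.Geo.omegaGL Q ≤ Cfsg.Geo.decompositionStabilizer D := by
  intro hle
  let i₀ : Fin t := ⟨0, by have := hD.two_le; omega⟩
  let i₁ : Fin t := ⟨1, by have := hD.two_le; omega⟩
  have h01 : i₁ ≠ i₀ := by simp [i₀, i₁, Fin.ext_iff]
  have hne : ∀ i, D i ≠ ⊥ := fun i h => by
    have := hD.finrank_eq i
    rw [h, finrank_bot] at this
    omega
  have hWt : D i₀ ≠ ⊤ := fun h => by
    have h2 := hD.indep.pairwiseDisjoint h01
    simp only [Function.onFun, h, disjoint_top] at h2
    exact hne i₁ h2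
  obtain ⟨u, a, h, ha, hnot⟩ := exists_siegel_not_mem_subspaceStabilizer hQ h2 hgood (hne i₀) hWt
  obtain ⟨σ, hσ⟩ := hle (siegel_mem_omega hQ h2 h ha)
  obtain ⟨⟨x, hx⟩, hx0, hxu, hxa⟩ := exists_perp_kernel ((polarDual hQ u).comp (D i₀).subtype)
    ((polarDual hQ a).comp (D i₀).subtype) (by rw [hD.finrank_eq]; omega)
  have hfix : x ∈ D (σ i₀) := by
    rw [← hσ i₀]
    exact ⟨x, hx, by rw [Matrix.toLin'_apply]; exact siegel_fix hQ h hxu hxa⟩
  have hi : σ i₀ = i₀ := by
    by_contra hc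
    exact hx0 (Subtype.ext (Submodule.disjoint_def.1 (hD.indep.pairwiseDisjoint hc) x hfix hx))
  have hmap := hσ i₀
  rw [hi] at hmap
  refine hnot fun v => ?_
  constructor
  · exact fun hv => hmap.le ⟨v, hv, Matrix.toLin'_apply _ _⟩
  · intro hv
    obtain ⟨w, hw, hwv⟩ := hmap.symm.le hv
    rw [Matrix.toLin'_apply] at hwv
    rwa [mulVec_injective _ hwv] at hw

theorem not_omega_le_subalgebraNormalizer (hn : 4 < Fintype.card ι) {r : ℕ}
    {K : Subalgebra F (Matrix ι ι F)} (hK : Cfsg.Geo.IsFieldSubalgebra r K) (hr : 3 ≤ r) :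
    ¬ Cfsg.Geo.omegaGL Q ≤ Cfsg.Geo.subalgebraNormalizer K := by
  classical
  intro hle
  have : Nonempty ι := Fintype.card_pos_iff.1 (by omega)
  have hB := hQ.polar_bilinear
  obtain ⟨u, a, h, y, ha, hy⟩ := exists_siegel_moving hQ hgood
  obtain ⟨g, hg⟩ : ∃ g, siegel hQ h = g := ⟨_, rfl⟩
  have hgm : g ∈ Cfsg.Geo.subalgebraNormalizer K := hg ▸ hle (siegel_mem_omega hQ h2 h ha)
  have hcomm : ∀ k ∈ K, (g : Matrix ι ι F) * k = k * (g : Matrix ι ι F) := by
    intro k hk
    obtain ⟨k', hk'⟩ : ∃ k', (g : Matrix ι ι F) * k * ((g⁻¹ : GL ι F) : Matrix ι ι F) = k' :=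
      ⟨_, rfl⟩
    have hkK : k' ∈ K := hk' ▸ (hgm k).1 hk
    have hgk : (g : Matrix ι ι F) * k = k' * (g : Matrix ι ι F) := by
      rw [← hk', mul_assoc, ← Units.val_mul, inv_mul_cancel, Units.val_one, mul_one]
    suffices k' = k by rw [hgk, this]
    -- a common fixed vector of `g` in `x` and `k x`
    have hne : ∃ x : ι → F, x ≠ 0 ∧ QuadraticMap.polar Q x u = 0 ∧ QuadraticMap.polar Q x a = 0 ∧
        QuadraticMap.polar Q (k *ᵥ x) u = 0 ∧ QuadraticMap.polar Q (k *ᵥ x) a = 0 := by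
      let L := (((polarDual hQ u).prod (polarDual hQ a)).prod
        (((polarDual hQ u).prod (polarDual hQ a)).comp (Matrix.toLin' k)))
      have hker : LinearMap.ker L ≠ ⊥ := by
        intro hb
        have h1 := L.finrank_range_add_finrank_ker
        have h3 := Submodule.finrank_le (LinearMap.range L)
        rw [hb, finrank_bot, Module.finrank_fintype_fun_eq_card] at h1
        simp only [finrank_prod, finrank_self] at h3
        omega
      obtain ⟨x, hx, hx0⟩ := Submodule.exists_mem_ne_zero_of_ne_bot hker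
      simp only [L, LinearMap.mem_ker, LinearMap.prod_apply, Function.prod_apply, Prod.mk_eq_zero,
        LinearMap.comp_apply, Matrix.toLin'_apply] at hx
      exact ⟨x, hx0, hx.1.1, hx.1.2, hx.2.1, hx.2.2⟩
    obtain ⟨x, hx0, hxu, hxa, hku, hka⟩ := hne
    by_contra hc
    refine hx0 (fieldSubalgebra_mulVec_eq_zero hK (sub_mem hkK hk) (sub_ne_zero.2 hc) ?_)
    have h1 := congrArg (fun M => M *ᵥ x) hgk
    simp only [← Matrix.mulVec_mulVec, ← hg, siegel_fix hQ h hxu hxa, siegel_fix hQ h hku hka] at h1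
    rw [Matrix.sub_mulVec, ← h1, sub_self]
  obtain ⟨w, hw⟩ : ∃ w, (g : Matrix ι ι F) *ᵥ y - y = w := ⟨_, rfl⟩
  have hw0 : w ≠ 0 := hw ▸ sub_ne_zero.2 (hg ▸ hy)
  let S : Submodule F (ι → F) := Submodule.span F (↑({u, a} : Finset (ι → F)) : Set (ι → F))
  have hS : ∀ z, (g : Matrix ι ι F) *ᵥ z - z ∈ S := fun z => by
    rw [← hg, siegel_mulVec' hQ h, add_sub_assoc, add_sub_cancel_left]
    exact sub_mem (S.smul_mem _ (Submodule.subset_span (by simp)))
      (S.smul_mem _ (Submodule.subset_span (by simp)))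
  let φ : K →ₗ[F] (ι → F) := ((Matrix.mulVecBilin F F).flip w).comp K.val.toLinearMap
  have hinj : Function.Injective φ := by
    rw [injective_iff_map_eq_zero]
    intro b hb
    by_contra hb0
    exact hw0 (fieldSubalgebra_mulVec_eq_zero hK b.2 (fun he => hb0 (Subtype.ext he)) hb)
  have hle' : LinearMap.range φ ≤ S := by
    rintro _ ⟨⟨b, hb⟩, rfl⟩
    show b *ᵥ w ∈ S
    rw [← hw, Matrix.mulVec_sub, Matrix.mulVec_mulVec, ← hcomm b hb, ← Matrix.mulVec_mulVec]
    exact hS _
  have h1 := Submodule.finrank_mono hle'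
  have h3 : finrank F S ≤ 2 :=
    (finrank_span_finset_le_card ({u, a} : Finset (ι → F))).trans Finset.card_le_two
  rw [LinearMap.finrank_range_of_inj hinj, hK.finrank_eq] at h1
  omega

omit hQ h2 hgood in
/-- A matrix keeping every line is scalar. -/
lemma eq_smul_one_of_lines {k : ℕ} (hk : 0 < k) {A : Matrix (Fin k) (Fin k) F}
    (hA : ∀ x : Fin k → F, x ≠ 0 → ∃ c : F, A *ᵥ x = c • x) : ∃ c : F, A = c • 1 := by
  classical
  have hcol : ∀ j, ∃ c : F, ∀ i, A i j = if i = j then c else 0 := fun j => by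
    obtain ⟨c, hc⟩ := hA (Pi.single j 1) (by simp)
    refine ⟨c, fun i => ?_⟩
    have := congrFun hc i
    rw [Matrix.mulVec_single_one] at this
    simpa [Pi.single_apply] using this
  choose c hc using hcol
  obtain ⟨d, hd⟩ := hA (fun _ => 1) fun h => one_ne_zero (congrFun h ⟨0, hk⟩)
  refine ⟨d, Matrix.ext fun i j => ?_⟩
  have hci : c i = d := by
    have := congrFun hd i
    simpa [Matrix.mulVec, dotProduct, hc] using this
  rw [hc, Matrix.smul_apply, Matrix.one_apply]
  split
  · next h => subst h; simp [hci]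
  · simp

theorem not_omega_le_tensorWreathSubgroup [Nonempty ι] {k : ℕ} (hk : 3 ≤ k)
    (e : ι ≃ (Fin 2 → Fin k)) (P : GL ι F) :
    ¬ Cfsg.Geo.omegaGL Q ≤ Cfsg.Geo.tensorWreathSubgroup k 2 e P := by
  classical
  intro hle
  have hB := hQ.polar_bilinear
  obtain ⟨u, a, h, y, ha, hy⟩ := exists_siegel_moving hQ hgood
  have hh : SiegelPair Q u ((2 : F)⁻¹ • a) := h.smul hQ _
  have hg : siegel hQ hh * siegel hQ hh = siegel hQ h := by
    rw [siegel_mul hQ hh hh]
    congr 1
    rw [← add_smul, ← two_mul, mul_inv_cancel₀ h2, one_smul]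
  have hmem := hle (siegel_mem_omega hQ h2 hh (by
    rw [hQ.smul]; exact mul_ne_zero (pow_ne_zero 2 (inv_ne_zero h2)) ha))
  rw [Cfsg.Geo.tensorWreathSubgroup, map_glReindex_conj] at hmem
  obtain ⟨X, hX, hXe⟩ := hmem
  obtain ⟨A, σ, rfl⟩ := exists_pure_perm hX
  obtain ⟨C, hC⟩ : ∃ C : Fin 2 → Matrix (Fin k) (Fin k) F,
      (siegel hQ h : Matrix ι ι F) = frAlg e P (pureMat C) := by
    refine ⟨fun i => (A i : Matrix (Fin k) (Fin k) F) * (A (σ.symm i) : Matrix (Fin k) (Fin k) F), ?_⟩
    rw [← hg, ← hXe, ← map_mul, MulEquiv.coe_toMonoidHom, frU_val]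
    congr 1
    show pureMat (fun i => (A i : Matrix (Fin k) (Fin k) F)) * permMat k F σ *
      (pureMat (fun i => (A i : Matrix (Fin k) (Fin k) F)) * permMat k F σ) = _
    rw [mul_assoc, ← mul_assoc (permMat k F σ), permMat_mul_pureMat, mul_assoc, permMat_mul,
      (by decide : ∀ τ : Equiv.Perm (Fin 2), τ * τ = 1) σ, permMat_one, mul_one, pureMat_mul]
    rfl
  -- every factor keeps all lines
  have hlines : ∀ i, ∀ x : Fin k → F, x ≠ 0 → ∃ c : F, C i *ᵥ x = c • x := by
    intro i x hx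
    obtain ⟨j, hji⟩ : ∃ j : Fin 2, j ≠ i := exists_ne i
    let f : (Fin k → F) →ₗ[F] (ι → F) :=
      { toFun := fun v => (P : Matrix ι ι F) *ᵥ (fun z => x ((e z) i) * v ((e z) j))
        map_add' := fun v w => by
          rw [← Matrix.mulVec_add]; congr 1; funext z; simp [mul_add]
        map_smul' := fun c v => by
          rw [RingHom.id_apply, ← Matrix.mulVec_smul]; congr 1; funext z; simp [mul_left_comm] }
    obtain ⟨v, hv0, hvu, hva⟩ := exists_perp_kernel ((polarDual hQ u).comp f)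
      ((polarDual hQ a).comp f) (by rw [Module.finrank_fin_fun]; omega)
    let w : Fin 2 → Fin k → F := fun l => if l = i then x else v
    have hpv : (fun z => x ((e z) i) * v ((e z) j)) = pureVec w ∘ e := by
      funext z
      simp only [Function.comp_apply, pureVec, w]
      rw [Finset.prod_eq_mul i j hji.symm (fun l _ hl => absurd hl (by omega)) (by simp) (by simp),
        if_pos rfl, if_neg hji]
    have h1 : (siegel hQ h : Matrix ι ι F) *ᵥ f v = f v := siegel_fix hQ h hvu hva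
    change (siegel hQ h : Matrix ι ι F) *ᵥ ((P : Matrix ι ι F) *ᵥ _) = (P : Matrix ι ι F) *ᵥ _ at h1
    rw [hpv, hC, frAlg_mulVec, pureMat_mulVec] at h1
    have h3 : pureVec (fun l => C l *ᵥ w l) = pureVec w :=
      funext fun z => by simpa using congrFun (mulVec_injective P h1) (e.symm z)
    obtain ⟨b, hb⟩ := Function.ne_iff.1 hv0
    obtain ⟨c, hc⟩ := Function.ne_iff.1 hx
    have h4 : ∀ z, (C i *ᵥ x) z * (C j *ᵥ v) b = x z * v b := by
      intro z
      have := congrFun h3 (fun l => if l = i then z else b)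
      simp only [pureVec] at this
      rw [Finset.prod_eq_mul i j hji.symm (fun l _ hl => absurd hl (by omega)) (by simp) (by simp),
        Finset.prod_eq_mul i j hji.symm (fun l _ hl => absurd hl (by omega)) (by simp) (by simp)]
        at this
      simpa [w, hji] using this
    have h5 : (C j *ᵥ v) b ≠ 0 := fun h0 => by
      have := h4 c
      rw [h0, mul_zero] at this
      exact mul_ne_zero hc hb this.symm
    refine ⟨v b / (C j *ᵥ v) b, funext fun z => ?_⟩
    rw [Pi.smul_apply, smul_eq_mul, div_mul_eq_mul_div, mul_comm, eq_div_iff h5, h4]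
  obtain ⟨c₀, h0⟩ := eq_smul_one_of_lines (by omega) (hlines 0)
  obtain ⟨c₁, h1⟩ := eq_smul_one_of_lines (by omega) (hlines 1)
  have hscal : pureMat C = (c₀ * c₁) • (1 : Matrix (Fin 2 → Fin k) (Fin 2 → Fin k) F) := by
    rw [← pureMat_one]
    ext p q
    simp [pureMat_apply, Fin.prod_univ_two, h0, h1, mul_mul_mul_comm]
  rw [hscal, map_smul, map_one] at hC
  obtain ⟨z, hz0, hzu, hza⟩ := exists_perp_kernel (polarDual hQ u) (polarDual hQ a) (by
    rw [Module.finrank_fintype_fun_eq_card, Fintype.card_congr e]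
    simp only [Fintype.card_pi, Fintype.card_fin, Finset.prod_const, Finset.card_univ]
    nlinarith)
  have hfix := siegel_fix hQ h hzu hza
  rw [hC, Matrix.smul_mulVec, Matrix.one_mulVec] at hfix
  have hc1 : c₀ * c₁ = 1 := by
    by_contra hc
    refine hz0 ((smul_eq_zero.1 (show (c₀ * c₁ - 1) • z = 0 by
      rw [sub_smul, hfix, one_smul, sub_self])).resolve_left (sub_ne_zero.2 hc))
  rw [hC, hc1, one_smul, Matrix.one_mulVec] at hy
  exact hy rfl

end CfsgLib.Aschbacher
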