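import Cfsg.Agent.Lib.Aschbacher.MaximalPrime

/-!
Over the field with four elements the normaliser of a cubic field of matrices meets `SL_3` inside a
subfield group of type `GL_3(2)`.
-/

set_option autoImplicit false

namespace CfsgLib.Aschbacher

open Matrix Module

variable {F : Type*} [Field F] [Fintype F]

set_option maxHeartbeats 1000000 in
theorem cubic_normalizer_le_subfield (hq : Fintype.card F = 4)
    {K : Subalgebra F (Matrix (Fin 3) (Fin 3) F)} (hK : Cfsg.Geo.IsFieldSubalgebra 3 K) :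
    ∃ (F₀ : Subfield F) (B : GL (Fin 3) F), Fintype.card F = Nat.card F₀ ^ 2 ∧
      Cfsg.Geo.subalgebraNormalizer K ⊓ Cfsg.Geo.specialLinear (Fin 3) F ≤
        Cfsg.Geo.subfieldSubgroup F₀ B := by
  classical
  haveI : Fact (Nat.Prime 2) := ⟨Nat.prime_two⟩
  haveI : CharP F 2 := charP_of_card_eq_prime_pow (p := 2) (f := 2) (by rw [hq]; norm_num)
  obtain ⟨F₀, hF₀, hmem⟩ :=
    exists_subfield_of_dvd (F := F) (p := 2) (f := 2) (e := 1) (by rw [hq]; norm_num) (one_dvd 2)
  -- the multiplicative group of `K`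
  have hinv : ∀ g : GL (Fin 3) F, (g : Matrix (Fin 3) (Fin 3) F) ∈ K →
      ((g⁻¹ : GL (Fin 3) F) : Matrix (Fin 3) (Fin 3) F) ∈ K := by
    intro g hg
    obtain ⟨y, hy, hgy⟩ := hK.inv _ hg g.ne_zero
    have : ((g⁻¹ : GL (Fin 3) F) : Matrix (Fin 3) (Fin 3) F) = y := by
      rw [← mul_one ((g⁻¹ : GL (Fin 3) F) : Matrix (Fin 3) (Fin 3) F), ← hgy,
        Units.inv_mul_cancel_left]
    exact this ▸ hy
  let U : Subgroup (GL (Fin 3) F) :=
    { carrier := {g | (g : Matrix (Fin 3) (Fin 3) F) ∈ K}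
      one_mem' := one_mem K
      mul_mem' := fun {a b} ha hb => by
        show ((a * b : GL (Fin 3) F) : Matrix (Fin 3) (Fin 3) F) ∈ K
        rw [Units.val_mul]; exact mul_mem ha hb
      inv_mem' := fun {g} hg => hinv g hg }
  have hcomm : ∀ a ∈ U, ∀ b ∈ U, a * b = b * a := fun a ha b hb =>
    Units.ext (by rw [Units.val_mul, Units.val_mul]; exact hK.comm _ ha _ hb)
  have hunit : ∀ k ∈ K, k ≠ 0 → ∃ g ∈ U, (g : Matrix (Fin 3) (Fin 3) F) = k := by
    intro k hk hk0
    obtain ⟨y, -, hy⟩ := hK.inv k hk hk0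
    exact ⟨⟨k, y, hy, mul_eq_one_comm.1 hy⟩, hk, rfl⟩
  have hcardU : Nat.card U = 63 := by
    have hcK : Nat.card K = 64 := by
      have h := Module.natCard_eq_pow_finrank (K := F) (V := K)
      rw [hK.finrank_eq, Nat.card_eq_fintype_card (α := F), hq] at h
      rw [h]; norm_num
    have e : U ≃ {k : K // k ≠ 0} :=
      Equiv.ofBijective (fun g => ⟨⟨((g : GL (Fin 3) F) : Matrix (Fin 3) (Fin 3) F), g.2⟩,
        fun h => (g : GL (Fin 3) F).ne_zero (congrArg Subtype.val h)⟩) ⟨fun a b h => by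
          exact Subtype.ext (Units.ext (congrArg (fun x : {k : K // k ≠ 0} => ((x : K) : Matrix (Fin 3) (Fin 3) F)) h)),
        fun k => by
          obtain ⟨g, hg, hgk⟩ := hunit k.1.1 k.1.2 (fun h => k.2 (Subtype.ext h))
          exact ⟨⟨g, hg⟩, Subtype.ext (Subtype.ext hgk)⟩⟩
    haveI : Fintype K := Fintype.ofFinite _
    rw [Nat.card_congr e, Nat.card_eq_fintype_card, Fintype.card_subtype_compl,
      Fintype.card_subtype_eq, ← Nat.card_eq_fintype_card, hcK]
  haveI : Fact (Nat.Prime 7) := ⟨by decide⟩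
  obtain ⟨a₀, ha₀⟩ := exists_prime_orderOf_dvd_card' (G := U) 7 (by rw [hcardU]; norm_num)
  let α : GL (Fin 3) F := a₀
  have hαK : (α : Matrix (Fin 3) (Fin 3) F) ∈ K := a₀.2
  have hα7 : α ^ 7 = 1 := by
    have := congrArg Subtype.val (ha₀ ▸ pow_orderOf_eq_one a₀ : a₀ ^ 7 = 1)
    simpa [α] using this
  have hαord : orderOf α = 7 := (orderOf_injective U.subtype U.subtype_injective a₀).trans ha₀
  have hα1 : α ≠ 1 := fun h => by rw [h, orderOf_one] at hαord; omega
  have hsev : ∀ x ∈ U, x ^ 7 = 1 → x ∈ Subgroup.zpowers α := by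
    let P : Subgroup (GL (Fin 3) F) :=
      { carrier := {g | g ∈ U ∧ g ^ 7 = 1}
        one_mem' := ⟨U.one_mem, one_pow 7⟩
        mul_mem' := fun {a b} ha hb => ⟨U.mul_mem ha.1 hb.1, by
          rw [(show Commute a b from hcomm a ha.1 b hb.1).mul_pow, ha.2, hb.2, one_mul]⟩
        inv_mem' := fun {a} ha => ⟨U.inv_mem ha.1, by rw [inv_pow, ha.2, inv_one]⟩ }
    have hPU : Nat.card P ∣ 63 := hcardU ▸ Subgroup.card_dvd_of_le (fun g hg => hg.1)
    have hPp : IsPGroup 7 P := fun g => ⟨1, by rw [pow_one]; exact Subtype.ext g.2.2⟩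
    obtain ⟨k, hk⟩ := IsPGroup.iff_card.1 hPp
    have hle : Subgroup.zpowers α ≤ P := Subgroup.zpowers_le.2 ⟨hαK, hα7⟩
    have hk1 : Nat.card P ≤ 7 := by
      rw [hk] at hPU ⊢
      rcases k with _ | _ | k
      · norm_num
      · norm_num
      · exfalso
        have : 49 ∣ 63 := dvd_trans ⟨7 ^ k, by ring⟩ hPU
        norm_num at this
    have heq : Subgroup.zpowers α = P :=
      Subgroup.eq_of_le_of_card_ge hle (by rw [Nat.card_zpowers, hαord]; exact hk1)
    exact fun x hx hx7 => heq ▸ (show x ∈ P from ⟨hx, hx7⟩)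
  -- the minimal polynomial has coefficients in `F₀`
  set A : Matrix (Fin 3) (Fin 3) F := (α : Matrix (Fin 3) (Fin 3) F) with hAdef
  have hscalar : ∀ c : F, A ≠ c • 1 := by
    intro c hc
    have hc0 : c ≠ 0 := fun h => α.ne_zero (by rw [← hAdef, hc, h, zero_smul])
    have h7 : A ^ 7 = 1 := by rw [hAdef, ← Units.val_pow_eq_pow_val, hα7, Units.val_one]
    have h3 : c ^ 3 = 1 := by
      have h := FiniteField.pow_card_sub_one_eq_one c hc0
      rwa [hq] at h
    rw [hc, smul_pow, one_pow] at h7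
    apply hα1
    refine Units.ext ?_
    rw [← hAdef, hc, Units.val_one]
    have h7' := congrFun (congrFun h7 0) 0
    simp at h7'
    have : c = 1 := by
      have e : c ^ 7 = (c ^ 3) ^ 2 * c := by ring
      rw [e, h3, one_pow, one_mul] at h7'
      exact h7'
    rw [this, one_smul]
  have hlin : ∀ a b : F, a • A + b • 1 = 0 → a = 0 ∧ b = 0 := by
    intro a b h
    by_cases ha : a = 0
    · rw [ha, zero_smul, zero_add] at h
      refine ⟨ha, ?_⟩
      simpa using congrFun (congrFun h 0) 0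
    · exfalso
      refine hscalar (-(a⁻¹ * b)) ?_
      have h' := congrArg (fun X => a⁻¹ • X) h
      simp only [smul_add, smul_smul, inv_mul_cancel₀ ha, one_smul, smul_zero] at h'
      rw [neg_smul]
      exact eq_neg_of_add_eq_zero_left h'
  have htwo : (2 : Matrix (Fin 3) (Fin 3) F) = 0 := by
    have h : (2 : F) = 0 := CharTwo.two_eq_zero
    ext i j
    simp [Matrix.ofNat_apply, h]
  have hcub : A ^ 3 = A + 1 ∨ A ^ 3 = A ^ 2 + 1 := by
    have h7 : A ^ 7 = 1 := by rw [hAdef, ← Units.val_pow_eq_pow_val, hα7, Units.val_one]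
    have hP : A - 1 ≠ 0 := fun h => hscalar 1 (by rw [one_smul]; exact sub_eq_zero.1 h)
    have hA : A ∈ K := hαK
    have hdom : ∀ x ∈ K, ∀ y : Matrix (Fin 3) (Fin 3) F, x * y = 0 → x ≠ 0 → y = 0 := by
      intro x hx y hxy hx0
      obtain ⟨z, -, hz⟩ := hK.inv x hx hx0
      rw [← one_mul y, ← mul_eq_one_comm.1 hz, mul_assoc, hxy, mul_zero]
    have hprod : (A - 1) * ((A ^ 3 - A - 1) * (A ^ 3 - A ^ 2 - 1)) = 0 := by
      have e : (A - 1) * ((A ^ 3 - A - 1) * (A ^ 3 - A ^ 2 - 1)) =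
          (A ^ 7 - 1) + 2 * (A ^ 3 - A ^ 6) := by noncomm_ring
      rw [e, h7, htwo, zero_mul, sub_self, add_zero]
    have h1 := hdom _ (sub_mem hA (one_mem K)) _ hprod hP
    by_cases h2 : A ^ 3 - A - 1 = 0
    · left; rw [sub_sub, sub_eq_zero] at h2; exact h2
    · right
      have h3 := hdom _ (sub_mem (sub_mem (pow_mem hA 3) hA) (one_mem K)) _ h1 h2
      rw [sub_sub, sub_eq_zero] at h3; exact h3
  let v : Fin 3 → F := Pi.single 0 1
  have hv : v ≠ 0 := by simp [v]
  have hKinj : ∀ k ∈ K, k *ᵥ v = 0 → k = 0 := by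
    intro k hk hkv
    by_contra hk0
    obtain ⟨y, -, hy⟩ := hK.inv k hk hk0
    exact hv (by rw [← Matrix.one_mulVec v, ← mul_eq_one_comm.1 hy, ← Matrix.mulVec_mulVec, hkv,
      Matrix.mulVec_zero])
  let e : Fin 3 → Fin 3 → F := fun i => (A ^ (i : ℕ)) *ᵥ v
  have hli : LinearIndependent F e := by
    rw [Fintype.linearIndependent_iff]
    intro c hc
    simp only [e, Fin.sum_univ_three, ← Matrix.smul_mulVec, ← Matrix.add_mulVec] at hc
    have h0 := hKinj _ (add_mem (add_mem (K.smul_mem (pow_mem hαK _) _) (K.smul_mem (pow_mem hαK _) _))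
      (K.smul_mem (pow_mem hαK _) _)) hc
    simp only [Fin.val_zero, pow_zero, Fin.val_one, pow_one, Fin.val_two] at h0
    have hc2 : c 2 = 0 := by
      by_contra hc2
      set a := -(c 1) / c 2 with ha
      set b := -(c 0) / c 2 with hb
      have hA2 : A ^ 2 = a • A + b • (1 : Matrix (Fin 3) (Fin 3) F) := by
        have : c 2 • (A ^ 2 - (a • A + b • 1)) = 0 := by
          rw [smul_sub, smul_add, smul_smul, smul_smul, ha, hb, mul_div_cancel₀ _ hc2,
            mul_div_cancel₀ _ hc2, neg_smul, neg_smul, ← h0]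
          abel
        exact sub_eq_zero.1 ((smul_eq_zero.1 this).resolve_left hc2)
      have hA3 : A ^ 3 = (a ^ 2 + b) • A + (a * b) • (1 : Matrix (Fin 3) (Fin 3) F) := by
        rw [pow_succ, hA2, add_mul, Matrix.smul_mul, Matrix.smul_mul, ← sq, hA2, one_mul, smul_add,
          smul_smul, smul_smul, sq a, add_smul]
        abel
      have ha4 : ∀ x : F, x ≠ 0 → x ^ 3 = 1 := by
        intro x hx
        have h := FiniteField.pow_card_sub_one_eq_one x hx
        rwa [hq] at h
      have h2F : (2 : F) = 0 := CharTwo.two_eq_zero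
      rcases hcub with h | h
      · obtain ⟨h1, h2⟩ := hlin (a ^ 2 + b - 1) (a * b - 1) (by
          rw [sub_smul, sub_smul, one_smul, one_smul, ← add_sub_assoc,
            sub_add_eq_add_sub, sub_sub, ← hA3, h, sub_self])
        have ha0 : a ≠ 0 := fun h' => by rw [h', zero_mul] at h2; simp at h2
        have h3 := ha4 a ha0
        exact ha0 (by linear_combination h2 + h3 - a * h1 + h2F)
      · rw [hA2] at h
        obtain ⟨h1, h2⟩ := hlin (a ^ 2 + b - a) (a * b - b - 1) (by
          have : A ^ 3 - (a • A + b • 1 + 1) = 0 := sub_eq_zero.2 h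
          rw [← this, hA3]
          simp only [sub_smul, one_smul]
          abel)
        have ha0 : a ≠ 0 := fun h' => by
          rw [h'] at h1 h2
          have hb0 : b = 0 := by linear_combination h1
          rw [hb0] at h2
          simp at h2
        have h3 := ha4 a ha0
        exact ha0 (by linear_combination (a - 1) * h1 - h2 - h3 + (a ^ 2 - 1) * h2F)
    rw [hc2, zero_smul, add_zero] at h0
    obtain ⟨h1, h00⟩ := hlin (c 1) (c 0) (by rw [add_comm]; exact h0)
    intro i
    fin_cases i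
    · exact h00
    · exact h1
    · exact hc2
  let Bm : Matrix (Fin 3) (Fin 3) F := Matrix.of fun i j => e j i
  obtain ⟨B, hB⟩ : IsUnit Bm := Matrix.linearIndependent_cols_iff_isUnit.1 hli
  have hBcol : ∀ j, (B : Matrix (Fin 3) (Fin 3) F) *ᵥ Pi.single j 1 = e j := fun j => by
    rw [hB, Matrix.mulVec_single_one]; rfl
  let S : Subgroup (GL (Fin 3) F) := Cfsg.Geo.subfieldSubgroup F₀ B
  have hS : ∀ g, B⁻¹ * g * B ∈
      (Matrix.GeneralLinearGroup.map (n := Fin 3) (F₀.subtype : F₀ →+* F)).range → g ∈ S :=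
    fun g hg => ⟨_, Subgroup.mem_sup_left hg, by simp [mul_assoc]⟩
  have hcolmem : ∀ g : GL (Fin 3) F,
      (∀ j i, ((((B⁻¹ : GL (Fin 3) F) : Matrix (Fin 3) (Fin 3) F)) *ᵥ
        ((g : Matrix (Fin 3) (Fin 3) F) *ᵥ e j)) i ∈ F₀) →
      B⁻¹ * g * B ∈
        (Matrix.GeneralLinearGroup.map (n := Fin 3) (F₀.subtype : F₀ →+* F)).range := by
    intro g hg
    refine mem_range_map _ fun i j => ?_
    have h := hg j i
    rw [← hBcol, ← mul_mulVec, ← mul_mulVec, Matrix.mulVec_single_one] at h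
    exact h
  have hαrange : B⁻¹ * α * B ∈
      (Matrix.GeneralLinearGroup.map (n := Fin 3) (F₀.subtype : F₀ →+* F)).range := by
    refine hcolmem α fun j i => ?_
    have hsingle : ∀ k i, (Pi.single k (1 : F) : Fin 3 → F) i ∈ F₀ := by
      intro k i
      rw [Pi.single_apply]
      split
      · exact F₀.one_mem
      · exact F₀.zero_mem
    have hj : A *ᵥ e j = (A ^ ((j : ℕ) + 1)) *ᵥ v := by
      simp only [e]; rw [Matrix.mulVec_mulVec, pow_succ']
    have hback : ∀ k, ((B⁻¹ : GL (Fin 3) F) : Matrix (Fin 3) (Fin 3) F) *ᵥ e k = Pi.single k 1 :=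
      fun k => by rw [← hBcol, inv_mulVec_cancel]
    rw [← hAdef, hj]
    fin_cases j
    · show ((((B⁻¹ : GL (Fin 3) F) : Matrix (Fin 3) (Fin 3) F)) *ᵥ e 1) i ∈ F₀
      rw [hback]; exact hsingle 1 i
    · show ((((B⁻¹ : GL (Fin 3) F) : Matrix (Fin 3) (Fin 3) F)) *ᵥ e 2) i ∈ F₀
      rw [hback]; exact hsingle 2 i
    · show ((((B⁻¹ : GL (Fin 3) F) : Matrix (Fin 3) (Fin 3) F)) *ᵥ ((A ^ 3) *ᵥ v)) i ∈ F₀
      have he : A = A ^ ((1 : Fin 3) : ℕ) := (pow_one A).symm
      have he0 : v = e 0 := by simp [e]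
      rcases hcub with h | h <;> rw [h, Matrix.add_mulVec, Matrix.one_mulVec, Matrix.mulVec_add,
        Pi.add_apply]
      · rw [show A *ᵥ v = e 1 by simp [e], he0, hback, hback]
        exact F₀.add_mem (hsingle 1 i) (hsingle 0 i)
      · rw [show (A ^ 2) *ᵥ v = e 2 by simp [e], he0, hback, hback]
        exact F₀.add_mem (hsingle 2 i) (hsingle 0 i)
  refine ⟨F₀, B, by rw [hF₀, hq]; norm_num, fun g hg => ?_⟩
  obtain ⟨hgN, hgSL⟩ := hg
  -- `g α g⁻¹` is a power of `α`
  have hconj : g * α * g⁻¹ ∈ U := by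
    show ((g * α * g⁻¹ : GL (Fin 3) F) : Matrix (Fin 3) (Fin 3) F) ∈ K
    rw [Units.val_mul, Units.val_mul]
    exact (hgN A).1 hαK
  obtain ⟨m, hm⟩ : g * α * g⁻¹ ∈ Submonoid.powers α := by
    rw [mem_powers_iff_mem_zpowers]
    exact hsev _ hconj (by rw [conj_pow, hα7, mul_one, mul_inv_cancel])
  -- `g v = k₀ v`
  let f : K →ₗ[F] (Fin 3 → F) := ((Matrix.mulVecBilin F F).flip v).comp K.val.toLinearMap
  have hfinj : Function.Injective f := by
    intro a b hab
    refine Subtype.ext (sub_eq_zero.1 (hKinj _ (sub_mem a.2 b.2) ?_))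
    rw [Matrix.sub_mulVec, sub_eq_zero]
    exact hab
  have hfsurj : Function.Surjective f :=
    (LinearMap.injective_iff_surjective_of_finrank_eq_finrank
      (by rw [hK.finrank_eq]; simp)).1 hfinj
  obtain ⟨k, hk⟩ := hfsurj ((g : Matrix (Fin 3) (Fin 3) F) *ᵥ v)
  have hk' : (k : Matrix (Fin 3) (Fin 3) F) *ᵥ v = (g : Matrix (Fin 3) (Fin 3) F) *ᵥ v := hk
  obtain ⟨k₀, hk₀U, hk₀⟩ := hunit _ k.2 (fun h0 => by
    rw [h0, Matrix.zero_mulVec] at hk'
    exact hv (mulVec_injective g (hk'.symm.trans (Matrix.mulVec_zero _).symm)))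
  let ψ := k₀⁻¹ * g
  have hψ : ∀ i : Fin 3, (ψ : Matrix (Fin 3) (Fin 3) F) *ᵥ e i =
      (((α ^ (m * (i : ℕ))) : GL (Fin 3) F) : Matrix (Fin 3) (Fin 3) F) *ᵥ v := by
    intro i
    have h1 : g * α ^ (i : ℕ) = α ^ (m * (i : ℕ)) * g := by
      have hp : (g * α * g⁻¹) ^ (i : ℕ) = g * α ^ (i : ℕ) * g⁻¹ := conj_pow
      rw [← hm] at hp
      rw [pow_mul]
      simp only at hp
      rw [hp, inv_mul_cancel_right]
    have h2 : k₀⁻¹ * α ^ (m * (i : ℕ)) = α ^ (m * (i : ℕ)) * k₀⁻¹ :=
      hcomm _ (U.inv_mem hk₀U) _ (U.pow_mem hαK _)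
    show (ψ : Matrix (Fin 3) (Fin 3) F) *ᵥ (A ^ (i : ℕ) *ᵥ v) = _
    rw [hAdef, ← Units.val_pow_eq_pow_val, ← mul_mulVec]
    simp only [ψ]
    rw [mul_assoc, h1, ← mul_assoc, h2, mul_assoc, mul_mulVec, mul_mulVec k₀⁻¹, ← hk', ← hk₀,
      inv_mulVec_cancel]
  have hψrange : B⁻¹ * ψ * B ∈
      (Matrix.GeneralLinearGroup.map (n := Fin 3) (F₀.subtype : F₀ →+* F)).range := by
    refine hcolmem ψ fun j i => ?_
    obtain ⟨M, hM⟩ := Subgroup.pow_mem _ hαrange (m * (j : ℕ))
    have h1 : ∀ l : ℕ, (B⁻¹ * α * B) ^ l = B⁻¹ * α ^ l * B := by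
      intro l
      have : B⁻¹ * α * B = MulAut.conj B⁻¹ α := by simp
      rw [this, ← map_pow]
      simp
    rw [h1] at hM
    rw [hψ, show v = (B : Matrix (Fin 3) (Fin 3) F) *ᵥ Pi.single 0 1 by rw [hBcol]; simp [e],
      ← mul_mulVec, ← mul_mulVec, ← hM, Matrix.mulVec_single_one]
    exact ((M : Matrix (Fin 3) (Fin 3) F₀) i 0).2
  -- the determinant of `k₀` is one
  have hdetψ : (ψ : Matrix (Fin 3) (Fin 3) F).det = 1 := by
    obtain ⟨M, hM⟩ := hψrange
    have hd : (ψ : Matrix (Fin 3) (Fin 3) F).det = F₀.subtype (M : Matrix (Fin 3) (Fin 3) F₀).det := by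
      have h1 : ((B⁻¹ * ψ * B : GL (Fin 3) F) : Matrix (Fin 3) (Fin 3) F).det =
          (ψ : Matrix (Fin 3) (Fin 3) F).det := by
        rw [Units.val_mul, Units.val_mul, Matrix.det_units_conj' B]
      rw [← h1, ← hM, RingHom.map_det]
      rfl
    rw [hd]
    set d := F₀.subtype (M : Matrix (Fin 3) (Fin 3) F₀).det with hddef
    have hd2 : d ^ 2 = d := by
      have := (hmem d).1 (M : Matrix (Fin 3) (Fin 3) F₀).det.2
      simpa using this
    have hd0 : d ≠ 0 := hd ▸ ψ.det_ne_zero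
    exact mul_left_cancel₀ hd0 (by rw [mul_one, ← sq, hd2])
  have hdetk : (k₀ : Matrix (Fin 3) (Fin 3) F).det = 1 := by
    have hg1 := det_eq_one_of_mem hgSL
    have : g = k₀ * ψ := by simp [ψ]
    rw [this, Units.val_mul, Matrix.det_mul, hdetψ, mul_one] at hg1
    exact hg1
  -- elements of determinant one in `U` are scalars times powers of `α`
  have hk₀S : k₀ ∈ S := by
    let D : U →* Fˣ := (Matrix.GeneralLinearGroup.det : GL (Fin 3) F →* Fˣ).comp U.subtype
    have hker : k₀ ∈ D.ker.map U.subtype :=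
      ⟨⟨k₀, hk₀U⟩, Units.ext hdetk, rfl⟩
    have hcardF : Nat.card Fˣ = 3 := by
      rw [Nat.card_units, Nat.card_eq_fintype_card, hq]
    have hsurj : Function.Surjective D := by
      have hne : ∃ u, D u ≠ 1 := by
        by_contra hall
        push Not at hall
        -- otherwise a cubic polynomial would take the value one four times
        let χ := A.charpoly
        have hev : ∀ c : F, (χ - 1).eval c = 0 := by
          intro c
          rw [Polynomial.eval_sub, Matrix.eval_charpoly, Polynomial.eval_one, sub_eq_zero]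
          have hmemK : Matrix.scalar (Fin 3) c - A ∈ K := by
            refine sub_mem ?_ hαK
            have : Matrix.scalar (Fin 3) c = c • (1 : Matrix (Fin 3) (Fin 3) F) := by
              simp [Matrix.smul_one_eq_diagonal]
            rw [this]
            exact K.smul_mem (one_mem K) c
          obtain ⟨u, hu, huv⟩ := hunit _ hmemK (fun h => hscalar c (by
            rw [sub_eq_zero] at h
            rw [← h]; simp [Matrix.smul_one_eq_diagonal]))
          have := congrArg Units.val (hall ⟨u, hu⟩)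
          rw [← huv]
          exact this
        have hdeg : (χ - 1).natDegree = 3 := by
          rw [Polynomial.natDegree_sub_eq_left_of_natDegree_lt]
          · simp [χ, Matrix.charpoly_natDegree_eq_dim]
          · simp [χ, Matrix.charpoly_natDegree_eq_dim]
        have hne0 : χ - 1 ≠ 0 := fun h => by rw [h] at hdeg; simp at hdeg
        have h4 := Polynomial.card_le_degree_of_subset_roots (p := χ - 1) (Z := Finset.univ)
          (fun c _ => (Polynomial.mem_roots hne0).2 (hev c))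
        rw [Finset.card_univ, hq, hdeg] at h4
        omega
      obtain ⟨u, hu⟩ := hne
      refine MonoidHom.range_eq_top.1 (Subgroup.eq_top_of_card_eq _ ?_)
      have h1 : Nat.card D.range ∣ 3 := by
        have h := Subgroup.card_subgroup_dvd_card D.range
        rwa [hcardF] at h
      rw [hcardF]
      refine ((Nat.prime_three.eq_one_or_self_of_dvd _ h1)).resolve_left fun h => hu ?_
      have := Subgroup.card_eq_one.1 h
      have hmem' : D u ∈ D.range := ⟨u, rfl⟩
      rw [this, Subgroup.mem_bot] at hmem'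
      exact hmem'
    have hcard21 : Nat.card (D.ker.map U.subtype) = 21 := by
      rw [← Nat.card_congr (Subgroup.equivMapOfInjective D.ker U.subtype U.subtype_injective).toEquiv]
      have h := Subgroup.index_mul_card D.ker
      rw [Subgroup.index_ker, MonoidHom.range_eq_top.2 hsurj, Subgroup.card_top, hcardF, hcardU] at h
      omega
    let T : Subgroup (GL (Fin 3) F) := Cfsg.Geo.scalars (Fin 3) F ⊔ Subgroup.zpowers α
    have hTle : T ≤ D.ker.map U.subtype := by
      refine sup_le ?_ (Subgroup.zpowers_le.2 ⟨a₀, ?_, rfl⟩)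
      · intro z hz
        obtain ⟨c, hc⟩ := (Cfsg.Geo.mem_scalars_iff z).1 hz
        refine ⟨⟨z, ?_⟩, Units.ext ?_, rfl⟩
        · show (z : Matrix (Fin 3) (Fin 3) F) ∈ K
          rw [hc]; exact K.smul_mem (one_mem K) _
        · show (z : Matrix (Fin 3) (Fin 3) F).det = 1
          rw [hc, Matrix.det_smul, Fintype.card_fin, Matrix.det_one, mul_one]
          have h := FiniteField.pow_card_sub_one_eq_one (c : F) c.ne_zero
          rwa [hq] at h
      · have h1 : orderOf (D a₀) ∣ 7 := ha₀ ▸ orderOf_map_dvd D a₀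
        have h2 : orderOf (D a₀) ∣ 3 := by
          have h := orderOf_dvd_natCard (D a₀)
          rwa [hcardF] at h
        have h3 := Nat.dvd_gcd h1 h2
        norm_num at h3
        exact h3
    have hcardS : Nat.card (Cfsg.Geo.scalars (Fin 3) F) = 3 := by
      have hinj : Function.Injective
          (Units.map (Matrix.scalar (Fin 3) : F →+* Matrix (Fin 3) (Fin 3) F).toMonoidHom) := by
        intro x y hxy
        refine Units.ext ?_
        have h := congrArg (fun g : GL (Fin 3) F => (g : Matrix (Fin 3) (Fin 3) F) 0 0) hxy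
        simpa using h
      exact (Nat.card_congr (MonoidHom.ofInjective hinj).toEquiv.symm).trans hcardF
    have h21 : 21 ∣ Nat.card T := by
      have h3 : 3 ∣ Nat.card T := by
        have h := Subgroup.card_dvd_of_le (le_sup_left : Cfsg.Geo.scalars (Fin 3) F ≤ T)
        rwa [hcardS] at h
      have h7 : 7 ∣ Nat.card T := by
        have := Subgroup.card_dvd_of_le (le_sup_right : Subgroup.zpowers α ≤ T)
        rwa [Nat.card_zpowers, hαord] at this
      omega
    have hTeq : T = D.ker.map U.subtype := Subgroup.eq_of_le_of_card_ge hTle (by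
      rw [hcard21]; exact Nat.le_of_dvd Nat.card_pos h21)
    have hTS : T ≤ S := by
      refine sup_le (fun z hz => ⟨z, Subgroup.mem_sup_right hz, ?_⟩)
        (Subgroup.zpowers_le.2 (hS α hαrange))
      show B * z * B⁻¹ = z
      rw [← scalars_comm hz, mul_inv_cancel_right]
    exact hTS (hTeq ▸ hker)
  have : g = k₀ * ψ := by simp [ψ]
  rw [this]
  exact S.mul_mem hk₀S (hS ψ hψrange)

end CfsgLib.Aschbacher
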