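import Cfsg.Agent.Lib.Aschbacher.ProperGeneral
import Cfsg.Agent.Lib.Aschbacher.MaximalPrime
import Cfsg.Agent.Lib.Aschbacher.SmallFields

/-!
The stabiliser of a frame in `SL_4(5)` lies in the normaliser of `4 ∘ 2^(1+4)`.
-/

set_option autoImplicit false

namespace CfsgLib.Aschbacher.SL4F5

open Matrix Module

variable {F : Type*} [Field F]

/-- `g` is monomial, with permutation `π` and coefficients `a`. -/
def Mono {n : ℕ} (g : GL (Fin n) F) (π : Equiv.Perm (Fin n)) (a : Fin n → F) : Prop :=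
  ∀ (v : Fin n → F) (i : Fin n), ((g : Matrix (Fin n) (Fin n) F) *ᵥ v) (π i) = a i * v i

lemma Mono.mul {n : ℕ} {g h : GL (Fin n) F} {π ρ : Equiv.Perm (Fin n)} {a b : Fin n → F}
    (hg : Mono g π a) (hh : Mono h ρ b) : Mono (g * h) (π * ρ) fun i => a (ρ i) * b i := by
  intro v i
  rw [mul_mulVec, Equiv.Perm.mul_apply, hg, hh, mul_assoc]

lemma Mono.one {n : ℕ} : Mono (1 : GL (Fin n) F) 1 fun _ => 1 := by intro v i; simp

lemma Mono.inv {n : ℕ} {g : GL (Fin n) F} {π : Equiv.Perm (Fin n)} {a : Fin n → F}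
    (hg : Mono g π a) (ha : ∀ i, a i ≠ 0) : Mono g⁻¹ π⁻¹ fun i => (a (π⁻¹ i))⁻¹ := by
  intro v i
  have h := hg (((g⁻¹ : GL (Fin n) F) : Matrix (Fin n) (Fin n) F) *ᵥ v) (π⁻¹ i)
  rw [Equiv.Perm.inv_def, Equiv.apply_symm_apply, mulVec_inv_cancel] at h
  show (((g⁻¹ : GL (Fin n) F) : Matrix (Fin n) (Fin n) F) *ᵥ v) (π.symm i) = (a (π.symm i))⁻¹ * v i
  rw [h, inv_mul_cancel_left₀ (ha _)]

lemma Mono.ext {n : ℕ} {g h : GL (Fin n) F} {π : Equiv.Perm (Fin n)} {a : Fin n → F}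
    (hg : Mono g π a) (hh : Mono h π a) : g = h := by
  refine Units.ext (Matrix.toLin'.injective (LinearMap.ext fun v => funext fun k => ?_))
  obtain ⟨i, rfl⟩ := π.surjective k
  rw [Matrix.toLin'_apply, Matrix.toLin'_apply, hg, hh]

lemma Mono.det {n : ℕ} {g : GL (Fin n) F} {π : Equiv.Perm (Fin n)} {a : Fin n → F}
    (hg : Mono g π a) :
    (g : Matrix (Fin n) (Fin n) F).det = (Equiv.Perm.sign π.symm : ℤ) * ∏ i, a i := by
  have h : (g : Matrix (Fin n) (Fin n) F) = (Matrix.diagonal a).submatrix π.symm id := by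
    ext k j
    obtain ⟨i, rfl⟩ := π.surjective k
    have h1 := hg (Pi.single j 1) i
    rw [Matrix.mulVec_single_one, Matrix.col_apply] at h1
    rw [h1, Matrix.submatrix_apply, Equiv.symm_apply_apply, id]
    simp [Matrix.diagonal_apply, Pi.single_apply]
  rw [h, Matrix.det_permute, Matrix.det_diagonal]

/-- The translations of `Fin 4`, read as the plane over two elements. -/
def IsV4 (π : Equiv.Perm (Fin 4)) : Prop := π * π = 1 ∧ (π = 1 ∨ ∀ i, π i ≠ i)

instance : DecidablePred IsV4 := fun _ => inferInstanceAs (Decidable (_ ∧ _))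

lemma isV4_mul : ∀ π ρ, IsV4 π → IsV4 ρ → IsV4 (π * ρ) := by decide +kernel

lemma isV4_cases : ∀ π, IsV4 π → π = 1 ∨ π = Equiv.swap 0 2 * Equiv.swap 1 3 ∨
    π = Equiv.swap 0 1 * Equiv.swap 2 3 ∨ π = Equiv.swap 0 3 * Equiv.swap 1 2 := by decide +kernel

lemma isV4_conj {π : Equiv.Perm (Fin 4)} (h : IsV4 π) (ρ : Equiv.Perm (Fin 4)) :
    IsV4 (ρ * π * ρ⁻¹) := by
  refine ⟨?_, ?_⟩
  · rw [show ρ * π * ρ⁻¹ * (ρ * π * ρ⁻¹) = ρ * (π * π) * ρ⁻¹ by group, h.1]
    group
  · rcases h.2 with h' | h'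
    · exact Or.inl (by rw [h']; group)
    · refine Or.inr fun i hi => h' (ρ⁻¹ i) ?_
      have := congrArg (ρ⁻¹ : Equiv.Perm (Fin 4)) hi
      simpa using this

variable (F) in
/-- The group `4 ∘ 2^(1+4)`. -/
def R : Subgroup (GL (Fin 4) F) where
  carrier := {g | ∃ (π : Equiv.Perm (Fin 4)) (d : Fin 4 → F), IsV4 π ∧ Mono g π d ∧
    (∀ i j, d i ^ 2 = d j ^ 2) ∧ ∏ i, d i = 1}
  one_mem' := ⟨1, fun _ => 1, ⟨one_mul 1, Or.inl rfl⟩, Mono.one, fun _ _ => rfl, by simp⟩
  mul_mem' := by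
    rintro g h ⟨π, a, hπ, hg, ha, ha'⟩ ⟨ρ, b, hρ, hh, hb, hb'⟩
    refine ⟨π * ρ, _, isV4_mul π ρ hπ hρ, hg.mul hh, fun i j => ?_, ?_⟩
    · rw [mul_pow, mul_pow, ha (ρ i) (ρ j), hb i j]
    · rw [Finset.prod_mul_distrib, Equiv.prod_comp, ha', hb', one_mul]
  inv_mem' := by
    rintro g ⟨π, a, hπ, hg, ha, ha'⟩
    have hne : ∀ i, a i ≠ 0 := fun i h =>
      one_ne_zero (ha'.symm.trans (Finset.prod_eq_zero (Finset.mem_univ i) h))
    refine ⟨π⁻¹, _, ?_, hg.inv hne, fun i j => ?_, ?_⟩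
    · have : π⁻¹ = π := inv_eq_of_mul_eq_one_right hπ.1
      rwa [this]
    · rw [inv_pow, inv_pow, ha]
    · rw [Equiv.prod_comp π⁻¹ (fun i => (a i)⁻¹), Finset.prod_inv_distrib, ha', inv_one]

lemma mem_R {g : GL (Fin 4) F} : g ∈ R F ↔ ∃ (π : Equiv.Perm (Fin 4)) (d : Fin 4 → F), IsV4 π ∧
    Mono g π d ∧ (∀ i j, d i ^ 2 = d j ^ 2) ∧ ∏ i, d i = 1 := Iff.rfl

section five

variable [Fintype F] (hq : Fintype.card F = 5)
include hq

lemma pow_four {c : F} (hc : c ≠ 0) : c ^ 4 = 1 := by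
  have := FiniteField.pow_card_sub_one_eq_one c hc
  rwa [hq] at this

lemma sq_cases {c : F} (hc : c ≠ 0) : c ^ 2 = 1 ∨ c ^ 2 = -1 :=
  mul_self_eq_one_iff.1 (by rw [← pow_add]; exact pow_four hq hc)

lemma five_eq_zero : (5 : F) = 0 := by
  have := Fact.mk (show Nat.Prime 5 by norm_num)
  have : CharP F 5 := charP_of_card_eq_prime_pow (p := 5) (f := 1) (by rw [hq]; norm_num)
  exact_mod_cast CharP.cast_eq_zero F 5

omit hq in
/-- The matrix moving the frame. -/
def gMat : Matrix (Fin 4) (Fin 4) F := !![1, 0, 1, 0; 0, 1, 0, -1; 1, 0, -1, 0; 0, 1, 0, 1]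

lemma gMat_det : (gMat (F := F)).det = 1 := by
  have h5 := five_eq_zero hq
  simp [gMat, Matrix.det_succ_row_zero, Fin.sum_univ_succ, Fin.succAbove]
  linear_combination -h5

lemma mono_normalises {h : GL (Fin 4) F} {ρ : Equiv.Perm (Fin 4)} {a : Fin 4 → F}
    (hh : Mono h ρ a) (ha : ∀ i, a i ≠ 0) (hprod : (∏ i, a i) ^ 2 = 1) :
    ∀ r ∈ R F, h * r * h⁻¹ ∈ R F := by
  rintro r ⟨π, d, hπ, hr, hd, hd'⟩
  have hm := (hh.mul hr).mul (hh.inv ha)
  refine ⟨ρ * π * ρ⁻¹, _, isV4_conj hπ ρ, hm, ?_, ?_⟩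
  · intro i j
    have key : ∀ k, (a (π k)) ^ 2 * (a k)⁻¹ ^ 2 = (a (π 0)) ^ 2 * (a 0)⁻¹ ^ 2 := by
      rw [Fin.prod_univ_four, mul_pow, mul_pow, mul_pow] at hprod
      have hs := fun k => sq_cases hq (ha k)
      intro k
      rcases isV4_cases π hπ with rfl | rfl | rfl | rfl
      · simp [ha]
      all_goals
        simp only [inv_pow]
        rcases hs 0 with h0 | h0 <;> rcases hs 1 with h1 | h1 <;> rcases hs 2 with h2 | h2 <;>
          rcases hs 3 with h3 | h3 <;> rw [h0, h1, h2, h3] at hprod <;>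
          fin_cases k <;> simp [Equiv.Perm.mul_apply, Equiv.swap_apply_def, h0, h1, h2, h3] at hprod ⊢ <;>
          first | assumption | exact hprod.symm
    simp only [mul_pow, hd (ρ⁻¹ i) (ρ⁻¹ j)]
    linear_combination (d (ρ⁻¹ j) ^ 2) * key (ρ⁻¹ i) - (d (ρ⁻¹ j) ^ 2) * key (ρ⁻¹ j)
  · simp only [Finset.prod_mul_distrib]
    rw [Equiv.prod_comp ρ⁻¹ (fun i => a (π i)), Equiv.prod_comp π a, Equiv.prod_comp ρ⁻¹ d,
      Equiv.prod_comp ρ⁻¹ (fun i => (a i)⁻¹), hd', Finset.prod_inv_distrib, mul_one,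
      mul_inv_cancel₀ (Finset.prod_ne_zero_iff.2 fun i _ => ha i)]

lemma mono_mem_normalizer {h : GL (Fin 4) F} {ρ : Equiv.Perm (Fin 4)} {a : Fin 4 → F}
    (hh : Mono h ρ a) (ha : ∀ i, a i ≠ 0) (hdet : (h : Matrix (Fin 4) (Fin 4) F).det = 1) :
    h ∈ Cfsg.Geo.subgroupNormalizer (R F) := by
  have hprod : (∏ i, a i) ^ 2 = 1 := by
    have h1 := hh.det.symm.trans hdet
    rcases Int.units_eq_one_or (Equiv.Perm.sign ρ.symm) with hs | hs <;> rw [hs] at h1 <;>
      simp at h1 <;> first | linear_combination (∏ i, a i + 1) * h1 | linear_combination (1 - ∏ i, a i) * h1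
  refine Subgroup.mem_normalizer_iff.2 fun r => ⟨mono_normalises hq hh ha hprod r, fun hr => ?_⟩
  have hp' : (∏ i, (a (ρ⁻¹ i))⁻¹) ^ 2 = 1 := by
    rw [Equiv.prod_comp ρ⁻¹ (fun i => (a i)⁻¹), Finset.prod_inv_distrib, inv_pow, hprod, inv_one]
  have := mono_normalises hq (hh.inv ha) (fun i => inv_ne_zero (ha _)) hp' _ hr
  simpa [mul_assoc] using this

lemma isPGroup_R : IsPGroup 2 (R F) := by
  rintro ⟨r, π, d, hπ, hr, hd, hd'⟩
  refine ⟨2, Subtype.ext ?_⟩
  have hne : d 0 ≠ 0 := fun h =>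
    one_ne_zero (hd'.symm.trans (Finset.prod_eq_zero (Finset.mem_univ 0) h))
  have h2 := hr.mul hr
  rw [hπ.1] at h2
  have h4 := h2.mul h2
  have he : ∀ i, d (π i) * d i * (d (π i) * d i) = 1 := fun i => by
    linear_combination d i ^ 2 * hd (π i) 0 + d 0 ^ 2 * hd i 0 + pow_four hq hne
  rw [mul_one] at h4
  simp only [Equiv.Perm.one_apply, he] at h4
  have : r ^ (2 ^ 2) = 1 := by
    refine Mono.ext ?_ Mono.one
    convert h4 using 1
    simp only [show (2 : ℕ) ^ 2 = 4 from rfl, pow_succ, pow_zero, one_mul, mul_assoc]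
  exact this

lemma irr_R : Irr (R F) := by
  rw [irr_iff]
  intro W hW
  by_cases hbot : W = ⊥
  · exact Or.inl hbot
  right
  obtain ⟨v, hv, hv0⟩ := Submodule.exists_mem_ne_zero_of_ne_bot hbot
  obtain ⟨k, hk⟩ : ∃ k, v k ≠ 0 := by
    by_contra h
    push Not at h
    exact hv0 (funext h)
  have h2 : (2 : F) ≠ 0 := by
    intro h
    exact one_ne_zero (show (1 : F) = 0 by linear_combination five_eq_zero hq - 2 * h)
  -- every sign change and translation lies in the group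
  have hact : ∀ (π : Equiv.Perm (Fin 4)) (d : Fin 4 → F), IsV4 π → (∀ i, d i ^ 2 = 1) →
      ∏ i, d i = 1 → ∀ w ∈ W, (fun j => d (π.symm j) * w (π.symm j)) ∈ W := by
    intro π d hπ hd hd' w hw
    let m : Matrix (Fin 4) (Fin 4) F := (Matrix.diagonal d).submatrix π.symm id
    have hm : IsUnit m := by
      rw [Matrix.isUnit_iff_isUnit_det, Matrix.det_permute, Matrix.det_diagonal, hd', mul_one]
      rcases Int.units_eq_one_or (Equiv.Perm.sign π.symm) with h | h <;> rw [h] <;> simp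
    have hmono : Mono hm.unit π d := by
      intro v i
      show (m *ᵥ v) (π i) = d i * v i
      simp [m, Matrix.mulVec, dotProduct, Matrix.diagonal_apply]
    have h := hW hm.unit ⟨π, d, hπ, hmono, fun i j => by rw [hd, hd], hd'⟩ w hw
    convert h using 1
    funext j
    obtain ⟨i, rfl⟩ := π.surjective j
    rw [hmono w i, Equiv.symm_apply_apply]
  -- move a non-zero coordinate to the first place
  obtain ⟨u, hu, hu0⟩ : ∃ u ∈ W, u 0 ≠ 0 := by
    obtain ⟨π, hπ, hπk⟩ := (by decide +kernel : ∀ k, ∃ π, IsV4 π ∧ π k = 0) k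
    refine ⟨_, hact π (fun _ => 1) hπ (by simp) (by simp) v hv, ?_⟩
    rw [← hπk]; simpa using hk
  have he0 : (Pi.single 0 1 : Fin 4 → F) ∈ W := by
    have hdiag := fun d (hd : ∀ i, d i ^ 2 = 1) (hd' : ∏ i, d i = 1) =>
      hact 1 d ⟨one_mul 1, Or.inl rfl⟩ hd hd' u hu
    have hA := hdiag ![1, 1, -1, -1] (fun i => by fin_cases i <;> simp) (by simp [Fin.prod_univ_four])
    have hB := hdiag ![1, -1, 1, -1] (fun i => by fin_cases i <;> simp) (by simp [Fin.prod_univ_four])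
    have hC := hdiag ![1, -1, -1, 1] (fun i => by fin_cases i <;> simp) (by simp [Fin.prod_univ_four])
    have hs := W.smul_mem ((2 * 2 * u 0)⁻¹) (W.add_mem (W.add_mem (W.add_mem hu hA) hB) hC)
    convert hs using 1
    funext i
    fin_cases i <;> simp [Equiv.Perm.one_symm]
    field_simp
    ring
  rw [eq_top_iff]
  intro w _
  rw [pi_eq_sum_univ' w]
  refine W.sum_mem fun i _ => W.smul_mem _ ?_
  obtain ⟨π, hπ, hπk⟩ := (by decide +kernel : ∀ k, ∃ π, IsV4 π ∧ π 0 = k) i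
  convert hact π (fun _ => 1) hπ (by simp) (by simp) _ he0 using 1
  funext j
  simp only [Pi.single_apply, one_mul, ← hπk, Equiv.symm_apply_eq]

/-- The generators of `R`. -/
lemma R_le_closure (zA zB xA xB : GL (Fin 4) F) (hzA : Mono zA 1 ![1, 1, -1, -1])
    (hzB : Mono zB 1 ![1, -1, 1, -1]) (hxA : Mono xA (Equiv.swap 0 2 * Equiv.swap 1 3) fun _ => 1)
    (hxB : Mono xB (Equiv.swap 0 1 * Equiv.swap 2 3) fun _ => 1) :
    R F ≤ Subgroup.closure ({zA, zB, xA, xB} ∪
      (Cfsg.Geo.scalars (Fin 4) F : Set (GL (Fin 4) F))) := by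
  set C := Subgroup.closure ({zA, zB, xA, xB} ∪
      (Cfsg.Geo.scalars (Fin 4) F : Set (GL (Fin 4) F))) with hC
  have hzAC : zA ∈ C := Subgroup.subset_closure (by simp)
  have hzBC : zB ∈ C := Subgroup.subset_closure (by simp)
  have hxAC : xA ∈ C := Subgroup.subset_closure (by simp)
  have hxBC : xB ∈ C := Subgroup.subset_closure (by simp)
  have hdiag : ∀ (r : GL (Fin 4) F) (d : Fin 4 → F), Mono r 1 d → (∀ i j, d i ^ 2 = d j ^ 2) →
      ∏ i, d i = 1 → r ∈ C := by
    intro r d hr hd hd'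
    rw [Fin.prod_univ_four] at hd'
    have hne : d 0 ≠ 0 := by intro h; rw [h] at hd'; simp at hd'
    let s : GL (Fin 4) F :=
      Matrix.GeneralLinearGroup.mkOfDetNeZero ((d 0) • (1 : Matrix (Fin 4) (Fin 4) F))
        (by simp [hne])
    have hs : Mono s 1 fun _ => d 0 := by intro v i; simp [s, Matrix.smul_mulVec]
    have hsC : s ∈ C := Subgroup.subset_closure (Or.inr ((Cfsg.Geo.mem_scalars_iff s).2 ⟨Units.mk0 (d 0) hne, rfl⟩))
    have h4 := pow_four hq hne
    have hsign : ∀ i, d i = d 0 ∨ d i = - d 0 := fun i => sq_eq_sq_iff_eq_or_eq_neg.1 (hd i 0)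
    have fin : ∀ x : GL (Fin 4) F, x ∈ C → ∀ e : Fin 4 → F, Mono x 1 e →
        (∀ i, d i = d 0 * e i) → r ∈ C := by
      intro x hx e he hde
      have : r = s * x := by
        refine Mono.ext (a := d) hr ?_
        have h := hs.mul he
        rw [one_mul] at h
        convert h using 1
        funext i; exact hde i
      rw [this]; exact C.mul_mem hsC hx
    have h20 : (2 : F) ≠ 0 := fun h =>
      one_ne_zero (show (1 : F) = 0 by linear_combination five_eq_zero hq - 2 * h)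
    rcases hsign 1 with h1 | h1 <;> rcases hsign 2 with h2 | h2
    · have h3 : d 3 = d 0 := mul_left_cancel₀ (pow_ne_zero 3 hne)
        (by rw [h1, h2] at hd'; linear_combination hd' - h4)
      exact fin 1 C.one_mem (fun _ => 1) Mono.one (fun i => by fin_cases i <;> simp [h1, h2, h3])
    · have h3 : d 3 = -d 0 := mul_left_cancel₀ (pow_ne_zero 3 hne)
        (by rw [h1, h2] at hd'; linear_combination -hd' + h4)
      exact fin zA hzAC _ hzA (fun i => by fin_cases i <;> simp [h1, h2, h3])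
    · have h3 : d 3 = -d 0 := mul_left_cancel₀ (pow_ne_zero 3 hne)
        (by rw [h1, h2] at hd'; linear_combination -hd' + h4)
      exact fin zB hzBC _ hzB (fun i => by fin_cases i <;> simp [h1, h2, h3])
    · have h3 : d 3 = d 0 := mul_left_cancel₀ (pow_ne_zero 3 hne)
        (by rw [h1, h2] at hd'; linear_combination hd' - h4)
      have h := hzA.mul hzB
      rw [one_mul] at h
      exact fin (zA * zB) (C.mul_mem hzAC hzBC) _ h
        (fun i => by fin_cases i <;> simp [h1, h2, h3])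
  rintro r ⟨π, d, hπ, hr, hd, hd'⟩
  have red : ∀ x ∈ C, ∀ e : Fin 4 → F, (∀ i, e i = 1) → Mono x π e → r ∈ C := by
    intro x hx e he hm
    obtain rfl : e = fun _ => 1 := funext he
    have h := hm.mul hr
    rw [hπ.1] at h
    simp only [one_mul] at h
    exact (C.mul_mem_cancel_left hx).1 (hdiag _ d h hd hd')
  rcases isV4_cases π hπ with rfl | rfl | rfl | rfl
  · exact hdiag r d hr hd hd'
  · exact red xA hxAC _ (fun _ => rfl) hxA
  · exact red xB hxBC _ (fun _ => rfl) hxB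
  · refine red (xA * xB) (C.mul_mem hxAC hxBC) _ (fun _ => one_mul 1) ?_
    have := hxA.mul hxB
    rwa [show Equiv.swap (0 : Fin 4) 2 * Equiv.swap 1 3 * (Equiv.swap 0 1 * Equiv.swap 2 3) =
      Equiv.swap 0 3 * Equiv.swap 1 2 by decide +kernel] at this

lemma exists_mover : ∃ g : GL (Fin 4) F, g ∈ Cfsg.Geo.specialLinear (Fin 4) F ∧
    (g : Matrix (Fin 4) (Fin 4) F) = gMat ∧ g ∈ Cfsg.Geo.subgroupNormalizer (R F) := by
  let g : GL (Fin 4) F := Matrix.GeneralLinearGroup.mkOfDetNeZero gMat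
    (by rw [gMat_det hq]; exact one_ne_zero)
  refine ⟨g, ?_, rfl, ?_⟩
  · rw [Cfsg.Geo.specialLinear, MonoidHom.mem_ker]
    exact Units.ext (gMat_det hq)
  let zA : GL (Fin 4) F := Matrix.GeneralLinearGroup.mkOfDetNeZero
    (Matrix.diagonal ![1, 1, -1, -1]) (by simp [Matrix.det_diagonal, Fin.prod_univ_four])
  let zB : GL (Fin 4) F := Matrix.GeneralLinearGroup.mkOfDetNeZero
    (Matrix.diagonal ![1, -1, 1, -1]) (by simp [Matrix.det_diagonal, Fin.prod_univ_four])
  let xA : GL (Fin 4) F := ⟨!![0, 0, 1, 0; 0, 0, 0, 1; 1, 0, 0, 0; 0, 1, 0, 0],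
    !![0, 0, 1, 0; 0, 0, 0, 1; 1, 0, 0, 0; 0, 1, 0, 0],
    by ext i j; fin_cases i <;> fin_cases j <;> simp [Matrix.mul_apply, Fin.sum_univ_four],
    by ext i j; fin_cases i <;> fin_cases j <;> simp [Matrix.mul_apply, Fin.sum_univ_four]⟩
  let xB : GL (Fin 4) F := ⟨!![0, 1, 0, 0; 1, 0, 0, 0; 0, 0, 0, 1; 0, 0, 1, 0],
    !![0, 1, 0, 0; 1, 0, 0, 0; 0, 0, 0, 1; 0, 0, 1, 0],
    by ext i j; fin_cases i <;> fin_cases j <;> simp [Matrix.mul_apply, Fin.sum_univ_four],
    by ext i j; fin_cases i <;> fin_cases j <;> simp [Matrix.mul_apply, Fin.sum_univ_four]⟩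
  have hzA : Mono zA 1 ![1, 1, -1, -1] := by
    intro v i; simp [zA, Matrix.mulVec_diagonal]
  have hzB : Mono zB 1 ![1, -1, 1, -1] := by
    intro v i; simp [zB, Matrix.mulVec_diagonal]
  have hxA : Mono xA (Equiv.swap 0 2 * Equiv.swap 1 3) fun _ => 1 := by
    intro v i
    fin_cases i <;> simp [xA, Equiv.swap_apply_def, Matrix.mulVec, dotProduct, Fin.sum_univ_four]
  have hxB : Mono xB (Equiv.swap 0 1 * Equiv.swap 2 3) fun _ => 1 := by
    intro v i
    fin_cases i <;> simp [xB, Equiv.swap_apply_def, Matrix.mulVec, dotProduct, Fin.sum_univ_four]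
  have hin : ∀ (x : GL (Fin 4) F) (π : Equiv.Perm (Fin 4)) (d : Fin 4 → F), IsV4 π →
      Mono x π d → (∀ i, d i ^ 2 = 1) → ∏ i, d i = 1 → x ∈ R F := fun x π d hπ hx hd hd' =>
    ⟨π, d, hπ, hx, fun i j => by rw [hd, hd], hd'⟩
  have hzAR : zA ∈ R F := hin _ _ _ (by decide +kernel) hzA (fun i => by fin_cases i <;> simp)
    (by simp [Fin.prod_univ_four])
  have hzBR : zB ∈ R F := hin _ _ _ (by decide +kernel) hzB (fun i => by fin_cases i <;> simp)
    (by simp [Fin.prod_univ_four])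
  have hxAR : xA ∈ R F := hin _ _ _ (by decide +kernel) hxA (by simp) (by simp)
  have hxBR : xB ∈ R F := hin _ _ _ (by decide +kernel) hxB (by simp) (by simp)
  have hconj : ∀ x y : GL (Fin 4) F, g * x = y * g → y ∈ R F → g * x * g⁻¹ ∈ R F := by
    intro x y h hy
    rwa [h, mul_inv_cancel_right]
  have hmap : ∀ r ∈ R F, g * r * g⁻¹ ∈ R F := by
    intro r hr
    have hle : Subgroup.closure ({zA, zB, xA, xB} ∪
        (Cfsg.Geo.scalars (Fin 4) F : Set (GL (Fin 4) F))) ≤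
          (R F).comap (MulAut.conj g).toMonoidHom := by
      rw [Subgroup.closure_le]
      rintro x ((rfl | rfl | rfl | rfl) | hx) <;>
        simp only [SetLike.mem_coe, Subgroup.mem_comap, MulEquiv.coe_toMonoidHom,
          MulAut.conj_apply]
      · refine hconj _ xA (Units.ext ?_) hxAR
        ext i j; fin_cases i <;> fin_cases j <;>
          simp [g, zA, xA, gMat, Matrix.mul_apply, Fin.sum_univ_four]
      · refine hconj _ zB (Units.ext ?_) hzBR
        ext i j; fin_cases i <;> fin_cases j <;>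
          simp [g, zB, gMat, Matrix.mul_apply, Fin.sum_univ_four]
      · refine hconj _ (zA * zB) (Units.ext ?_) ((R F).mul_mem hzAR hzBR)
        ext i j; fin_cases i <;> fin_cases j <;>
          simp [g, zA, zB, xA, gMat, Matrix.mul_apply, Fin.sum_univ_four]
      · refine hconj _ (xA * xB) (Units.ext ?_) ((R F).mul_mem hxAR hxBR)
        ext i j; fin_cases i <;> fin_cases j <;>
          simp [g, xA, xB, gMat, Matrix.mul_apply, Fin.sum_univ_four]
      · obtain ⟨c', hc'⟩ := (Cfsg.Geo.mem_scalars_iff x).1 hx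
        obtain ⟨c, hc⟩ : ∃ c : F, (x : Matrix (Fin 4) (Fin 4) F) = c • 1 := ⟨c', hc'⟩
        have hgx : g * x = x * g := Units.ext (by
          simp [Units.val_mul, hc, Matrix.mul_smul, Matrix.smul_mul])
        rw [hgx, mul_inv_cancel_right]
        have hc0 : c ≠ 0 := by
          intro h
          have := x.isUnit
          rw [hc, h, zero_smul] at this
          exact this.ne_zero rfl
        exact ⟨1, fun _ => c, ⟨one_mul 1, Or.inl rfl⟩,
          fun v i => by simp [hc, Matrix.smul_mulVec], fun _ _ => rfl,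
          by simp [pow_four hq hc0]⟩
    exact hle (R_le_closure hq zA zB xA xB hzA hzB hxA hxB hr)
  exact normalizer_of_finite hmap
where
  normalizer_of_finite {g : GL (Fin 4) F} (hmap : ∀ r ∈ R F, g * r * g⁻¹ ∈ R F) :
      g ∈ Cfsg.Geo.subgroupNormalizer (R F) := by
    refine Subgroup.mem_normalizer_iff.2 fun r => ⟨hmap r, fun hr => ?_⟩
    let f : R F → R F := fun x => ⟨g * x * g⁻¹, hmap x x.2⟩
    have hinj : Function.Injective f := fun x y h => by
      have := congrArg Subtype.val h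
      simpa [f] using this
    obtain ⟨⟨x, hx⟩, h⟩ := Finite.surjective_of_injective hinj ⟨_, hr⟩
    have : x = r := by simpa [f] using congrArg Subtype.val h
    exact this ▸ hx

/-- A maximal subgroup of `SL_4(5)` stabilises no frame. -/
theorem no_frame {H : Subgroup (GL (Fin 4) F)}
    (hH : Cfsg.Geo.IsMaximalIn (Cfsg.Geo.specialLinear (Fin 4) F) H)
    {D : Fin 4 → Submodule F (Fin 4 → F)} (hD : Cfsg.Geo.IsMDecomposition 1 D)
    (hle : H ≤ Cfsg.Geo.decompositionStabilizer D) : False := by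
  obtain ⟨B, hB⟩ := frame_monomial hD
  let N := (Cfsg.Geo.subgroupNormalizer (R F)).comap (MulAut.conj B⁻¹).toMonoidHom
  have hN : ∀ x, x ∈ N ↔ B⁻¹ * x * B ∈ Cfsg.Geo.subgroupNormalizer (R F) := fun x => by
    simp [N]
  have hHN : H ≤ N := by
    intro x hx
    obtain ⟨σ, a, ha, h⟩ := hB x (hle hx)
    refine (hN x).2 (mono_mem_normalizer hq h ha ?_)
    rw [Units.val_mul, Units.val_mul, Matrix.det_units_conj']
    exact det_eq_one_of_mem (hH.1.le hx)
  have hnot : ¬ Cfsg.Geo.specialLinear (Fin 4) F ≤ N := by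
    intro h
    have : Fact (Nat.Prime 5) := ⟨by norm_num⟩
    have : CharP F 5 := charP_of_card_eq_prime_pow (p := 5) (f := 1) (by rw [hq]; norm_num)
    refine not_le_normalizer_pGroup (p := 5) le_rfl (by norm_num) Nat.prime_two (by norm_num)
      (isPGroup_R hq) (irr_R hq) fun y hy => ?_
    have := (hN _).1 (h (conj_mem_specialLinear (g := B) hy))
    simpa [mul_assoc] using this
  have heq := eq_inf_of_maximal hH hHN hnot
  obtain ⟨g, hgSL, hgmat, hgN⟩ := exists_mover hq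
  have hmem : B * g * B⁻¹ ∈ H := by
    rw [heq]
    refine ⟨(hN _).2 ?_, conj_mem_specialLinear hgSL⟩
    simpa [mul_assoc] using hgN
  obtain ⟨σ, a, -, h⟩ := hB _ (hle hmem)
  have hg : B⁻¹ * (B * g * B⁻¹) * B = g := by group
  rw [hg, hgmat] at h
  have h1 := h (Pi.single 0 1)
  obtain ⟨i, hi⟩ := σ.surjective 0
  obtain ⟨j, hj⟩ := σ.surjective 2
  have hi' := h1 i
  have hj' := h1 j
  rw [hi] at hi'
  rw [hj] at hj'
  simp [gMat, Matrix.mulVec_single_one, Pi.single_apply] at hi' hj'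
  have hi0 : i = 0 := by by_contra hne; rw [if_neg hne] at hi'; exact one_ne_zero hi'
  have hj0 : j = 0 := by by_contra hne; rw [if_neg hne] at hj'; exact one_ne_zero hj'
  have h02 := hi.symm.trans (congrArg σ (hi0.trans hj0.symm)) |>.trans hj
  exact absurd h02 (by decide)

end five

end CfsgLib.Aschbacher.SL4F5
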