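import Mathlib

/-!
Explicit matrices over the field with four elements: an element of order eleven of `SU_5(2)`, an
element normalising it, an involution, and an orbit of 55 points of the group they generate.
-/

set_option autoImplicit false

namespace CfsgLib.Aschbacher.SU52

open Matrix

/-- The field with four elements. -/
abbrev K4 : Type := QuadraticAlgebra (ZMod 2) 1 1

/-- `0` -/
abbrev e0 : K4 := ⟨0, 0⟩
/-- `1` -/
abbrev e1 : K4 := ⟨1, 0⟩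
/-- `ω` -/
abbrev e2 : K4 := ⟨0, 1⟩
/-- `ω²` -/
abbrev e3 : K4 := ⟨1, 1⟩

/-- An element of order eleven. -/
def X : Matrix (Fin 5) (Fin 5) K4 := Matrix.of ![![e1, e0, e3, e3, e0], ![e2, e0, e2, e3, e0], ![e0, e0, e0, e0, e2], ![e3, e0, e1, e3, e0], ![e0, e2, e0, e0, e0]]

/-- The fourth power of `X`. -/
def X4 : Matrix (Fin 5) (Fin 5) K4 := Matrix.of ![![e0, e0, e2, e2, e1], ![e1, e1, e1, e3, e1], ![e0, e0, e1, e2, e2], ![e2, e3, e1, e3, e1], ![e3, e2, e1, e3, e1]]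

/-- An element conjugating `X` to its fourth power. -/
def Y : Matrix (Fin 5) (Fin 5) K4 := Matrix.of ![![e0, e0, e2, e0, e0], ![e1, e2, e0, e2, e0], ![e3, e1, e0, e0, e2], ![e0, e1, e0, e1, e2], ![e1, e0, e0, e2, e3]]

/-- An involution generating `L_2(11)` with `X`. -/
def T : Matrix (Fin 5) (Fin 5) K4 := Matrix.of ![![e1, e0, e0, e0, e0], ![e0, e1, e0, e3, e2], ![e0, e0, e1, e1, e3], ![e0, e2, e1, e0, e3], ![e0, e3, e2, e2, e0]]

/-- An element moving the orbit. -/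
def W : Matrix (Fin 5) (Fin 5) K4 := Matrix.of ![![e2, e0, e0, e0, e0], ![e0, e3, e0, e0, e0], ![e0, e0, e1, e0, e0], ![e0, e0, e0, e1, e0], ![e0, e0, e0, e0, e1]]

/-- The inverse of the cyclic basis. -/
def Binv : Matrix (Fin 5) (Fin 5) K4 := Matrix.of ![![e1, e3, e1, e0, e1], ![e0, e2, e0, e3, e1], ![e0, e2, e2, e1, e0], ![e0, e0, e1, e0, e0], ![e0, e2, e2, e1, e2]]

/-- The orbit. -/
def S : Fin 55 → Fin 5 → K4 := ![![e0, e0, e0, e1, e0],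
  ![e0, e0, e1, e2, e2],
  ![e0, e0, e1, e2, e3],
  ![e0, e0, e1, e3, e1],
  ![e0, e1, e0, e1, e2],
  ![e0, e1, e0, e1, e3],
  ![e0, e1, e0, e3, e1],
  ![e0, e1, e1, e0, e2],
  ![e0, e1, e1, e0, e3],
  ![e0, e1, e2, e0, e3],
  ![e1, e0, e1, e0, e1],
  ![e1, e0, e1, e0, e3],
  ![e1, e0, e1, e1, e0],
  ![e1, e0, e2, e3, e0],
  ![e1, e0, e3, e0, e3],
  ![e1, e0, e3, e1, e0],
  ![e1, e1, e0, e0, e1],
  ![e1, e1, e0, e1, e0],
  ![e1, e1, e1, e1, e1],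
  ![e1, e1, e1, e1, e3],
  ![e1, e1, e2, e0, e0],
  ![e1, e1, e2, e1, e3],
  ![e1, e1, e2, e3, e1],
  ![e1, e1, e3, e2, e2],
  ![e1, e1, e3, e3, e2],
  ![e1, e2, e0, e2, e0],
  ![e1, e2, e1, e1, e1],
  ![e1, e2, e1, e1, e2],
  ![e1, e2, e1, e2, e1],
  ![e1, e2, e1, e2, e2],
  ![e1, e2, e1, e3, e1],
  ![e1, e2, e2, e0, e0],
  ![e1, e2, e2, e1, e2],
  ![e1, e2, e2, e2, e2],
  ![e1, e2, e2, e2, e3],
  ![e1, e2, e2, e3, e1],
  ![e1, e2, e2, e3, e2],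
  ![e1, e2, e3, e0, e0],
  ![e1, e2, e3, e1, e1],
  ![e1, e2, e3, e2, e3],
  ![e1, e3, e0, e0, e1],
  ![e1, e3, e0, e0, e3],
  ![e1, e3, e0, e1, e0],
  ![e1, e3, e1, e1, e2],
  ![e1, e3, e1, e2, e2],
  ![e1, e3, e1, e2, e3],
  ![e1, e3, e1, e3, e1],
  ![e1, e3, e1, e3, e2],
  ![e1, e3, e2, e1, e2],
  ![e1, e3, e2, e1, e3],
  ![e1, e3, e2, e2, e3],
  ![e1, e3, e2, e3, e2],
  ![e1, e3, e2, e3, e3],
  ![e1, e3, e3, e1, e1],
  ![e1, e3, e3, e1, e3]]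

/-- The action of `X` on the orbit. -/
def imgX : Fin 55 → Fin 55 := ![17, 31, 37, 13, 19, 21, 18, 45, 50, 44, 12, 15, 42, 25, 20, 0, 36, 40, 48, 43, 4, 52, 28, 22, 23, 6, 49, 54, 38, 26, 7, 5, 46, 14, 11, 29, 33, 16, 1, 24, 35, 30, 41, 53, 27, 32, 8, 9, 47, 51, 10, 34, 39, 2, 3]

/-- The multipliers of `X` on the orbit. -/
def scX : Fin 55 → K4 := ![e3, e2, e2, e1, e3, e3, e2, e3, e3, e1, e2, e2, e1, e2, e3, e3, e1, e2, e1, e1, e1, e3, e2, e2, e1, e3, e1, e1, e3, e3, e2, e1, e3, e1, e1, e2, e2, e3, e2, e2, e1, e1, e2, e1, e3, e3, e2, e2, e3, e3, e1, e2, e2, e2, e1]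

theorem actX : ∀ i, X *ᵥ S i = scX i • S (imgX i) := by decide +kernel

theorem unitX : Xᵀ * X.map (· ^ 2) = 1 := by decide +kernel

theorem detX : X.det = 1 := by decide +kernel

/-- The action of `Y` on the orbit. -/
def imgY : Fin 55 → Fin 55 := ![6, 35, 39, 46, 1, 0, 8, 19, 16, 41, 53, 47, 36, 12, 21, 54, 5, 9, 42, 52, 23, 29, 40, 11, 26, 7, 13, 10, 49, 44, 33, 51, 14, 38, 25, 18, 24, 28, 15, 17, 3, 2, 4, 22, 32, 37, 43, 50, 45, 48, 20, 27, 34, 31, 30]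

/-- The multipliers of `Y` on the orbit. -/
def scY : Fin 55 → K4 := ![e2, e2, e2, e2, e2, e1, e3, e2, e2, e3, e2, e2, e2, e3, e1, e1, e3, e1, e2, e2, e3, e3, e3, e1, e1, e1, e2, e2, e2, e2, e2, e3, e3, e3, e3, e3, e3, e1, e1, e1, e2, e1, e2, e2, e2, e2, e2, e2, e3, e3, e3, e3, e3, e1, e1]

theorem actY : ∀ i, Y *ᵥ S i = scY i • S (imgY i) := by decide +kernel

theorem unitY : Yᵀ * Y.map (· ^ 2) = 1 := by decide +kernel

theorem detY : Y.det = 1 := by decide +kernel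

/-- The action of `T` on the orbit. -/
def imgT : Fin 55 → Fin 55 := ![9, 8, 3, 2, 6, 7, 4, 5, 1, 0, 33, 24, 42, 29, 18, 52, 54, 28, 14, 49, 20, 44, 22, 40, 11, 51, 53, 30, 17, 13, 27, 32, 31, 10, 35, 34, 41, 37, 47, 39, 23, 36, 12, 43, 21, 45, 46, 38, 50, 19, 48, 25, 15, 26, 16]

/-- The multipliers of `T` on the orbit. -/
def scT : Fin 55 → K4 := ![e3, e2, e1, e1, e1, e3, e1, e2, e3, e2, e1, e1, e1, e1, e1, e1, e1, e1, e1, e1, e1, e1, e1, e1, e1, e1, e1, e1, e1, e1, e1, e1, e1, e1, e1, e1, e1, e1, e1, e1, e1, e1, e1, e1, e1, e1, e1, e1, e1, e1, e1, e1, e1, e1, e1]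

theorem actT : ∀ i, T *ᵥ S i = scT i • S (imgT i) := by decide +kernel

theorem unitT : Tᵀ * T.map (· ^ 2) = 1 := by decide +kernel

theorem detT : T.det = 1 := by decide +kernel

theorem X_pow : X ^ 11 = 1 := by decide +kernel

theorem X_four : X ^ 4 = X4 := by decide +kernel

theorem Y_conj : Y * X = X4 * Y := by decide +kernel

theorem trace_X : ∀ k : Fin 11, (X ^ (k : ℕ)).trace = X.trace →
    (k : ℕ) = 1 ∨ (k : ℕ) = 3 ∨ (k : ℕ) = 4 ∨ (k : ℕ) = 5 ∨ (k : ℕ) = 9 := by decide +kernel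

theorem X_ne_one : X ≠ 1 := by decide +kernel

theorem cyclic : (Matrix.of fun i j : Fin 5 => (X ^ (j : ℕ) *ᵥ ![e1, e0, e0, e0, e0]) i) * Binv = 1 := by
  decide +kernel

theorem T_sq : T * T = 1 := by decide +kernel

theorem T_conj : ∀ k : Fin 11, T * X * T ≠ X ^ (k : ℕ) := by decide +kernel

theorem unitW : Wᵀ * W.map (· ^ 2) = 1 := by decide +kernel

theorem detW : W.det = 1 := by decide +kernel

theorem W_moves : ∀ (j : Fin 55) (a b : ZMod 2), W *ᵥ S 4 ≠ (⟨a, b⟩ : K4) • S j := by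
  decide +kernel

theorem S_ne_zero : ∀ i, S i ≠ 0 := by decide +kernel

theorem card_K4 : Fintype.card (ZMod 2 × ZMod 2) = 4 := by decide +kernel

theorem units_K4 : ∀ a b : ZMod 2, (⟨a, b⟩ : K4) ≠ 0 → (⟨a, b⟩ : K4) ^ 3 = 1 := by decide +kernel

end CfsgLib.Aschbacher.SU52
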