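import Cfsg.Agent.Lib.Aschbacher.Singer
import Cfsg.Agent.Lib.Aschbacher.SU52Data

/-!
In `SU_5(2)` the normaliser of an adjoint-closed quintic field lies in a copy of `L_2(11)`.
-/

set_option autoImplicit false

namespace CfsgLib.Aschbacher.SU52

open Matrix Module
open scoped Pointwise

variable {F : Type*} [Field F] [Fintype F]

set_option maxHeartbeats 1000000 in
theorem singer_not_maximal (hF : Fintype.card F = 2 ^ 2)
    {K : Subalgebra F (Matrix (Fin 5) (Fin 5) F)} (hK : Cfsg.Geo.IsFieldSubalgebra 5 K)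
    (hKa : Cfsg.Geo.IsAdjointClosedFor (Cfsg.hermForm 5 F 2) K) :
    ¬ Cfsg.Geo.IsMaximalIn (SUgl 5 F 2) (Cfsg.Geo.subalgebraNormalizer K ⊓ SUgl 5 F 2) := by
  classical
  intro hmax
  haveI : Fact (Nat.Prime 2) := ⟨Nat.prime_two⟩
  haveI : Fact (Nat.Prime 11) := ⟨by decide⟩
  obtain ⟨σ, hσ, hf⟩ := exists_unitary_hermForm (n := 5) hF
  have hs := isSesq_of_unitary hf
  haveI : CharP F 2 := charP_of_card_eq_prime_pow (p := 2) (f := 2) hF
  -- the field with four elements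
  letI : Algebra (ZMod 2) F := ZMod.algebra F 2
  obtain ⟨w, hw'⟩ := exists_omega (q := 2) hF
  have hw : orderOf w = 3 := hw'
  have hw1 : (w : F) ≠ 1 := fun h => by
    rw [show w = 1 from Units.ext h, orderOf_one] at hw; omega
  have hw3 : (w : F) ^ 3 = 1 := by
    rw [← Units.val_pow_eq_pow_val, ← hw, pow_orderOf_eq_one, Units.val_one]
  have h20 : (2 : F) = 0 := CharTwo.two_eq_zero
  have hw2 : (w : F) * w = (1 : ZMod 2) • (1 : F) + (1 : ZMod 2) • (w : F) := by
    rw [one_smul, one_smul]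
    have h0 : ((w : F) - 1) * ((w : F) ^ 2 + w + 1) = 0 := by linear_combination hw3
    have h1 := (mul_eq_zero.1 h0).resolve_left (sub_ne_zero.2 hw1)
    linear_combination h1 - (1 + (w : F)) * h20
  let φA : K4 →ₐ[ZMod 2] F := QuadraticAlgebra.lift ⟨(w : F), hw2⟩
  let φ : K4 →+* F := φA.toRingHom
  have hφinj : Function.Injective φ := by
    refine (injective_iff_map_eq_zero φ).2 fun z hz => ?_
    by_contra hne
    have h3 := congrArg φ (units_K4 z.re z.im (by simpa using hne))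
    rw [map_pow, map_one, QuadraticAlgebra.mk_eta, hz] at h3
    simp at h3
  haveI : Fintype K4 := Fintype.ofEquiv _ (QuadraticAlgebra.equivProd (1 : ZMod 2) 1).symm
  have hφbij : Function.Bijective φ :=
    (Fintype.bijective_iff_injective_and_card φ).2 ⟨hφinj, by
      rw [Fintype.card_congr (QuadraticAlgebra.equivProd (1 : ZMod 2) 1), card_K4, hF]; rfl⟩
  let m : Matrix (Fin 5) (Fin 5) K4 → Matrix (Fin 5) (Fin 5) F := fun M => M.map φ
  have hm1 : m 1 = 1 := Matrix.map_one φ (map_zero φ) (map_one φ)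
  have hmmul : ∀ M N, m (M * N) = m M * m N := fun M N => Matrix.map_mul
  have hmpow : ∀ M (k : ℕ), m (M ^ k) = m M ^ k := fun M k =>
    map_pow φ.mapMatrix M k
  have hminj : Function.Injective m := Matrix.map_injective hφinj
  have hlift : ∀ M : Matrix (Fin 5) (Fin 5) K4, Mᵀ * M.map (· ^ 2) = 1 → M.det = 1 →
      ∃ g : GL (Fin 5) F, (g : Matrix (Fin 5) (Fin 5) F) = m M ∧ g ∈ SUgl 5 F 2 := by
    intro M hu hd
    have hdet : (m M).det = 1 := by
      show (φ.mapMatrix M).det = 1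
      rw [← RingHom.map_det, hd, map_one]
    refine ⟨Matrix.GeneralLinearGroup.mkOfDetNeZero (m M) (by rw [hdet]; exact one_ne_zero), rfl,
      mem_GU.2 fun u v => ?_, MonoidHom.mem_ker.2 (Units.ext hdet)⟩
    have hG : Cfsg.Geo.gramMatrix (Cfsg.hermForm 5 F 2) = 1 := by
      ext a b
      simp [Cfsg.Geo.gramMatrix, Cfsg.hermForm, Pi.single_apply, Matrix.one_apply, ite_pow,
        eq_comm]
    have hMσ : (m M).map σ = m (M.map (· ^ 2)) := by
      ext a b
      simp [m, hσ, map_pow]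
    show Cfsg.hermForm 5 F 2 (m M *ᵥ u) (m M *ᵥ v) = _
    rw [hs.eq_dot, hs.eq_dot u v, hG, Matrix.one_mulVec, Matrix.one_mulVec, comp_mulVec, hMσ,
      ← Matrix.vecMul_transpose, ← Matrix.dotProduct_mulVec, Matrix.mulVec_mulVec]
    have : (m M)ᵀ * m (M.map (· ^ 2)) = 1 := by
      rw [show (m M)ᵀ = m Mᵀ from rfl, ← hmmul, hu, hm1]
    rw [this, Matrix.one_mulVec]
  obtain ⟨x₀, hx₀, hx₀S⟩ := hlift X unitX detX
  obtain ⟨y₀, hy₀, hy₀S⟩ := hlift Y unitY detY
  obtain ⟨t₀, ht₀, ht₀S⟩ := hlift T unitT detT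
  obtain ⟨w₀, hw₀, hw₀S⟩ := hlift W unitW detW
  -- the stabiliser of the orbit
  let v : Fin 55 → Fin 5 → F := fun i => φ ∘ S i
  let Gs : Subgroup (GL (Fin 5) F) :=
    { carrier := {g | ∀ i, ∃ (j : Fin 55) (c : F),
        (g : Matrix (Fin 5) (Fin 5) F) *ᵥ v i = c • v j}
      one_mem' := fun i => ⟨i, 1, by simp⟩
      mul_mem' := fun {a b} ha hb i => by
        obtain ⟨j, c, hj⟩ := hb i
        obtain ⟨k, d, hk⟩ := ha j
        exact ⟨k, c * d, by rw [mul_mulVec, hj, Matrix.mulVec_smul, hk, smul_smul]⟩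
      inv_mem' := fun {a} ha => by
        have hpow : ∀ k : ℕ, ∀ i, ∃ (j : Fin 55) (c : F),
            ((a ^ k : GL (Fin 5) F) : Matrix (Fin 5) (Fin 5) F) *ᵥ v i = c • v j := by
          intro k
          induction k with
          | zero => exact fun i => ⟨i, 1, by simp⟩
          | succ k ih =>
            intro i
            obtain ⟨j, c, hj⟩ := ih i
            obtain ⟨l, d, hl⟩ := ha j
            exact ⟨l, c * d, by rw [pow_succ', mul_mulVec, hj, Matrix.mulVec_smul, hl, smul_smul]⟩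
        have hinv : a⁻¹ = a ^ (orderOf a - 1) :=
          inv_eq_of_mul_eq_one_right (by
            rw [← pow_succ', Nat.sub_add_cancel (orderOf_pos a), pow_orderOf_eq_one])
        intro i
        rw [hinv]
        exact hpow _ i }
  have hact : ∀ (M : Matrix (Fin 5) (Fin 5) K4) (g : GL (Fin 5) F) (img : Fin 55 → Fin 55)
      (sc : Fin 55 → K4), (g : Matrix (Fin 5) (Fin 5) F) = m M →
      (∀ i, M *ᵥ S i = sc i • S (img i)) → g ∈ Gs := by
    intro M g img sc hg h i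
    refine ⟨img i, φ (sc i), ?_⟩
    funext a
    rw [hg]
    show ((M.map φ) *ᵥ (φ ∘ S i)) a = _
    rw [← RingHom.map_mulVec, h i]
    simp [v]
  have hx₀G := hact X x₀ _ _ hx₀ actX
  have hy₀G := hact Y y₀ _ _ hy₀ actY
  have ht₀G := hact T t₀ _ _ ht₀ actT
  have hw₀G : w₀ ∉ Gs := fun h => by
    obtain ⟨j, c, hj⟩ := h 4
    obtain ⟨z, rfl⟩ := hφbij.2 c
    apply W_moves j z.re z.im
    funext a
    apply hφinj
    rw [RingHom.map_mulVec, QuadraticAlgebra.mk_eta]
    have := congrFun hj a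
    rw [hw₀] at this
    simpa [v] using this
  have hx₀pow : x₀ ^ 11 = 1 := Units.ext (by
    rw [Units.val_pow_eq_pow_val, hx₀, ← hmpow, X_pow, hm1, Units.val_one])
  have hx₀ord : orderOf x₀ = 11 := orderOf_eq_prime hx₀pow fun h => X_ne_one (hminj (by
    rw [← hx₀, h, Units.val_one, hm1]))
  -- an element of order eleven in the field
  obtain ⟨x, hxK, hxo, hxf⟩ := (norm_one_torus hf hF hK hKa).2 11 (by decide) (by norm_num)
  have hdet3 : ∀ d : Fˣ, d ^ 3 = 1 := fun d => by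
    have h := pow_card_eq_one (x := d)
    rwa [Fintype.card_units, hF] at h
  have hxS : x ∈ SUgl 5 F 2 := by
    refine ⟨mem_GU.2 hxf, MonoidHom.mem_ker.2 ?_⟩
    have h11 : (Matrix.GeneralLinearGroup.det x) ^ 11 = 1 := by
      rw [← map_pow, ← hxo, pow_orderOf_eq_one, map_one]
    have h3 := hdet3 (Matrix.GeneralLinearGroup.det x)
    calc Matrix.GeneralLinearGroup.det x
        = (Matrix.GeneralLinearGroup.det x) ^ 12 := by
          rw [pow_succ, h11, one_mul]
      _ = 1 := by rw [show 12 = 3 * 4 from rfl, pow_mul, h3, one_pow]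
  -- conjugate it into the explicit cyclic group
  obtain ⟨g, hgS, hgx⟩ : ∃ g ∈ SUgl 5 F 2, g * x * g⁻¹ ∈ Subgroup.zpowers x₀ := by
    let x' : ↥(SUgl 5 F 2) := ⟨x, hxS⟩
    let x₀' : ↥(SUgl 5 F 2) := ⟨x₀, hx₀S⟩
    have ho : orderOf x' = 11 := by rw [← Subgroup.orderOf_coe]; exact hxo
    have ho₀ : orderOf x₀' = 11 := by rw [← Subgroup.orderOf_coe]; exact hx₀ord
    have hGL : Nat.card (GL (Fin 5) F) =
        ∏ i : Fin 5, ((2 ^ 2) ^ 5 - (2 ^ 2) ^ (i : ℕ)) := by
      rw [Matrix.card_GL_field, hF]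
    have hfac : (Nat.card ↥(SUgl 5 F 2)).factorization 11 = 1 := by
      refine le_antisymm ?_ ?_
      · by_contra h
        have h2 : 11 ^ 2 ∣ Nat.card ↥(SUgl 5 F 2) :=
          ((Nat.Prime.pow_dvd_iff_le_factorization (by decide) Nat.card_pos.ne').2 (by omega))
        have h3 := h2.trans (Subgroup.card_subgroup_dvd_card _)
        rw [hGL] at h3
        simp [Fin.prod_univ_five] at h3
      · exact (Nat.Prime.pow_dvd_iff_le_factorization (by decide) Nat.card_pos.ne').1 (by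
          rw [pow_one, ← ho]; exact orderOf_dvd_natCard x')
    obtain ⟨g, hg⟩ := MulAction.exists_smul_eq (↥(SUgl 5 F 2))
      (Sylow.ofCard (Subgroup.zpowers x') (by rw [Nat.card_zpowers, ho, hfac, pow_one]))
      (Sylow.ofCard (Subgroup.zpowers x₀') (by rw [Nat.card_zpowers, ho₀, hfac, pow_one]))
    refine ⟨g, g.2, ?_⟩
    have h : g * x' * g⁻¹ ∈ Subgroup.zpowers x₀' := by
      have h2 : MulAut.conj g x' ∈ MulAut.conj g • Subgroup.zpowers x' :=
        Subgroup.smul_mem_pointwise_smul _ _ _ (Subgroup.mem_zpowers x')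
      have h3 := congrArg (fun P : Sylow 11 ↥(SUgl 5 F 2) => (P : Subgroup ↥(SUgl 5 F 2))) hg
      simp only [Sylow.coe_subgroup_smul, Sylow.coe_ofCard] at h3
      rw [h3] at h2
      simpa using h2
    obtain ⟨k, hk⟩ := Subgroup.mem_zpowers_iff.1 h
    exact Subgroup.mem_zpowers_iff.2 ⟨k, by simpa using congrArg Subtype.val hk⟩
  set x' := g * x * g⁻¹ with hx'
  have hx'ord : orderOf x' = 11 := by
    rw [hx', show g * x * g⁻¹ = MulAut.conj g x from rfl, MulEquiv.orderOf_eq, hxo]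
  have hzeq : Subgroup.zpowers x' = Subgroup.zpowers x₀ := by
    refine Subgroup.eq_of_le_of_card_ge ((Subgroup.zpowers_le).2 hgx) ?_
    rw [Nat.card_zpowers, Nat.card_zpowers, hx'ord, hx₀ord]
  -- powers of `x₀` go back to the field
  have hback : ∀ z ∈ Subgroup.zpowers x₀, g⁻¹ * z * g ∈ Subgroup.zpowers x := by
    intro z hz
    rw [← hzeq] at hz
    obtain ⟨k, rfl⟩ := Subgroup.mem_zpowers_iff.1 hz
    refine Subgroup.mem_zpowers_iff.2 ⟨k, ?_⟩
    rw [hx', conj_zpow]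
    group
  have hzK : ∀ z ∈ Subgroup.zpowers x, (z : Matrix (Fin 5) (Fin 5) F) ∈ K := by
    intro z hz
    obtain ⟨k, rfl⟩ := (mem_powers_iff_mem_zpowers (x := x)).2 hz
    show ((x ^ k : GL (Fin 5) F) : Matrix (Fin 5) (Fin 5) F) ∈ K
    rw [Units.val_pow_eq_pow_val]
    exact pow_mem hxK k
  set H := Cfsg.Geo.subalgebraNormalizer K ⊓ SUgl 5 F 2 with hH
  -- conjugating the normaliser into the stabiliser
  have hk : ∀ h ∈ H, g * h * g⁻¹ ∈ Gs ∧
      (g * h * g⁻¹) * x₀ * (g * h * g⁻¹)⁻¹ ∈ Subgroup.zpowers x₀ := by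
    intro h hh
    set k := g * h * g⁻¹ with hkdef
    have hkS : k ∈ SUgl 5 F 2 := Subgroup.mul_mem _ (Subgroup.mul_mem _ hgS hh.2) (inv_mem hgS)
    have hnorm : ∀ z ∈ Subgroup.zpowers x₀, k * z * k⁻¹ ∈ Subgroup.zpowers x₀ := by
      intro z hz
      have h1 := hback z hz
      have h2 : h * (g⁻¹ * z * g) * h⁻¹ ∈ Subgroup.zpowers x := by
        refine mem_zpowers_of_pow_eq_one hK hxK ?_ (by norm_num) hxo ?_
        · simp only [Units.val_mul]
          have := (hh.1 _).1 (hzK _ h1)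
          simpa [Units.val_mul] using this
        · rw [conj_pow]
          obtain ⟨i, hi⟩ := Subgroup.mem_zpowers_iff.1 h1
          have hpx : x ^ (11 : ℕ) = 1 := by rw [← hxo]; exact pow_orderOf_eq_one x
          rw [← hi, ← zpow_natCast, ← _root_.zpow_mul, mul_comm i, _root_.zpow_mul, zpow_natCast,
            hpx, _root_.one_zpow, mul_one, mul_inv_cancel]
      obtain ⟨i, hi⟩ := Subgroup.mem_zpowers_iff.1 h2
      rw [← hzeq]
      refine Subgroup.mem_zpowers_iff.2 ⟨i, ?_⟩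
      rw [hx', conj_zpow, hi, hkdef]
      group
    have hk0 := hnorm x₀ (Subgroup.mem_zpowers x₀)
    refine ⟨?_, hk0⟩
    obtain ⟨a, ha⟩ := (mem_powers_iff_mem_zpowers (x := x₀)).2 hk0
    have ha' : x₀ ^ (a % 11) = k * x₀ * k⁻¹ := by
      rw [← ha, ← hx₀ord, pow_mod_orderOf]
    have hval : ∀ i : ℕ, ((x₀ ^ i : GL (Fin 5) F) : Matrix (Fin 5) (Fin 5) F) = m (X ^ i) :=
      fun i => by rw [Units.val_pow_eq_pow_val, hx₀, hmpow]
    have htr : (X ^ (a % 11)).trace = X.trace := by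
      apply hφinj
      have h1 := congrArg (fun z : GL (Fin 5) F => Matrix.trace (z : Matrix (Fin 5) (Fin 5) F)) ha'
      simp only [hval, trace_conj, hx₀] at h1
      rw [← AddMonoidHom.coe_coe φ, AddMonoidHom.map_trace, AddMonoidHom.map_trace]
      exact h1
    have hyx : y₀ * x₀ * y₀⁻¹ = x₀ ^ 4 := by
      rw [mul_inv_eq_iff_eq_mul]
      refine Units.ext ?_
      rw [Units.val_mul, Units.val_mul, hval, X_four, hy₀, hx₀, ← hmmul, ← hmmul, Y_conj]
    have hyn : ∀ j : ℕ, y₀ ^ j * x₀ * (y₀ ^ j)⁻¹ = x₀ ^ (4 ^ j % 11) := by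
      intro j
      rw [← hx₀ord, pow_mod_orderOf]
      induction j with
      | zero => simp
      | succ j ih =>
        rw [pow_succ' y₀, _root_.mul_inv_rev,
          show y₀ * y₀ ^ j * x₀ * ((y₀ ^ j)⁻¹ * y₀⁻¹) =
            y₀ * (y₀ ^ j * x₀ * (y₀ ^ j)⁻¹) * y₀⁻¹ by group, ih, ← conj_pow, hyx, ← pow_mul,
          pow_succ']
    obtain ⟨j, hj⟩ : ∃ j, 4 ^ j % 11 = a % 11 := by
      rcases trace_X ⟨a % 11, Nat.mod_lt _ (by norm_num)⟩ htr with h | h | h | h | h <;>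
        simp only at h <;> rw [h]
      · exact ⟨0, rfl⟩
      · exact ⟨4, rfl⟩
      · exact ⟨1, rfl⟩
      · exact ⟨2, rfl⟩
      · exact ⟨3, rfl⟩
    have hjk := (hj ▸ hyn j : y₀ ^ j * x₀ * (y₀ ^ j)⁻¹ = x₀ ^ (a % 11)).trans ha'
    set c := (y₀ ^ j)⁻¹ * k with hc
    have hcx : c * x₀ = x₀ * c := by
      calc c * x₀ = (y₀ ^ j)⁻¹ * (k * x₀ * k⁻¹) * k := by rw [hc]; group
        _ = (y₀ ^ j)⁻¹ * (y₀ ^ j * x₀ * (y₀ ^ j)⁻¹) * k := by rw [hjk]
        _ = x₀ * c := by rw [hc]; group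
    have hcS : c ∈ SUgl 5 F 2 := Subgroup.mul_mem _ (inv_mem (pow_mem hy₀S j)) hkS
    set c' := g⁻¹ * c * g with hc'
    have hc'S : c' ∈ SUgl 5 F 2 := Subgroup.mul_mem _ (Subgroup.mul_mem _ (inv_mem hgS) hcS) hgS
    set X' := g⁻¹ * x₀ * g with hX'
    let e : Fin 5 → F := Pi.single 0 1
    let e' : Fin 5 → F := ((g⁻¹ : GL (Fin 5) F) : Matrix (Fin 5) (Fin 5) F) *ᵥ e
    have hc'K : (c' : Matrix (Fin 5) (Fin 5) F) ∈ K := by
      refine mem_of_commute (e := e') (by rwa [Fintype.card_fin])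
        (hzK X' (hback x₀ (Subgroup.mem_zpowers x₀))) ?_ (fun h0 => ?_) ?_
      · rw [← Units.val_mul, ← Units.val_mul]
        congr 1
        calc c' * X' = g⁻¹ * (c * x₀) * g := by rw [hc', hX']; group
          _ = X' * c' := by rw [hcx, hc', hX']; group
      · have := congrArg (fun z => (g : Matrix (Fin 5) (Fin 5) F) *ᵥ z) h0
        simp only [e', mulVec_inv_cancel, Matrix.mulVec_zero] at this
        simpa [e] using congrFun this 0
      · refine eq_top_iff.2 fun z _ => ?_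
        let B : Matrix (Fin 5) (Fin 5) F := m (Matrix.of fun i j : Fin 5 =>
          (X ^ (j : ℕ) *ᵥ ![e1, e0, e0, e0, e0]) i)
        have hB : B * m Binv = 1 := by rw [← hmmul, cyclic, hm1]
        have hz : z = ((g⁻¹ : GL (Fin 5) F) : Matrix (Fin 5) (Fin 5) F) *ᵥ
            (B *ᵥ (m Binv *ᵥ ((g : Matrix (Fin 5) (Fin 5) F) *ᵥ z))) := by
          rw [Matrix.mulVec_mulVec _ B, hB, Matrix.one_mulVec, inv_mulVec_cancel]
        rw [hz]
        generalize m Binv *ᵥ ((g : Matrix (Fin 5) (Fin 5) F) *ᵥ z) = coef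
        rw [Matrix.mulVec_eq_sum coef B, Matrix.mulVec_sum]
        refine sum_mem fun i _ => ?_
        rw [op_smul_eq_smul, Matrix.mulVec_smul]
        refine Submodule.smul_mem _ _ (Submodule.subset_span ⟨i, ?_⟩)
        show _ = ((g⁻¹ : GL (Fin 5) F) : Matrix (Fin 5) (Fin 5) F) *ᵥ Bᵀ i
        have hcol : Bᵀ i = ((x₀ ^ (i : ℕ) : GL (Fin 5) F) : Matrix (Fin 5) (Fin 5) F) *ᵥ e := by
          rw [hval]
          funext r
          show φ ((X ^ (i : ℕ) *ᵥ ![e1, e0, e0, e0, e0]) r) = _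
          rw [RingHom.map_mulVec]
          have he0 : φ e0 = 0 := map_zero φ
          have he1 : φ e1 = 1 := map_one φ
          have hv : (φ ∘ ![e1, e0, e0, e0, e0] : Fin 5 → F) = e := by
            funext k
            fin_cases k <;> simp [e, he0, he1]
          rw [hv]
        rw [hcol]
        show (X' : Matrix (Fin 5) (Fin 5) F) ^ (i : ℕ) *ᵥ e' = _
        rw [← Units.val_pow_eq_pow_val,
          show e' = ((g⁻¹ : GL (Fin 5) F) : Matrix (Fin 5) (Fin 5) F) *ᵥ e from rfl, ← mul_mulVec,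
          ← mul_mulVec]
        have hpw : X' ^ (i : ℕ) * g⁻¹ = g⁻¹ * x₀ ^ (i : ℕ) := by
          rw [hX', show g⁻¹ * x₀ * g = g⁻¹ * x₀ * g⁻¹⁻¹ by rw [inv_inv], conj_pow]
          group
        rw [hpw]
    have h33 := (norm_one_torus hf hF hK hKa).1 c' hc'K (mem_GU.1 hc'S.1)
    have h11 : c' ^ 11 = 1 := by
      have hwK : ((scalarGL (Fin 5) w : GL (Fin 5) F) : Matrix (Fin 5) (Fin 5) F) ∈ K := by
        rw [scalarGL_val]; exact Subalgebra.smul_mem _ (one_mem K) _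
      have hwo : orderOf (scalarGL (Fin 5) w) = 3 := by
        refine orderOf_eq_prime (by
          rw [scalarGL, ← map_pow, ← hw, pow_orderOf_eq_one, map_one]) fun h => hw1 ?_
        have := congrArg (fun z : GL (Fin 5) F => (z : Matrix (Fin 5) (Fin 5) F) 0 0) h
        simpa [scalarGL_val] using this
      obtain ⟨i, hi⟩ := Subgroup.mem_zpowers_iff.1
        (mem_zpowers_of_pow_eq_one hK hwK (y := c' ^ 11) (by
          rw [Units.val_pow_eq_pow_val]; exact pow_mem hc'K 11) (by norm_num) hwo (by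
          rw [← pow_mul]; exact h33))
      have hdet : Matrix.GeneralLinearGroup.det (scalarGL (Fin 5) w) = w ^ (5 : ℕ) := by
        refine Units.ext ?_
        rw [Matrix.GeneralLinearGroup.val_det_apply, scalarGL_val, Matrix.det_smul, Matrix.det_one,
          mul_one, Units.val_pow_eq_pow_val]
        exact congrArg (fun k : ℕ => (w : F) ^ k) (Fintype.card_fin 5)
      have h1 := congrArg Matrix.GeneralLinearGroup.det hi
      rw [map_zpow, map_pow, MonoidHom.mem_ker.1 hc'S.2, one_pow, hdet, ← zpow_natCast,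
        ← _root_.zpow_mul, ← orderOf_dvd_iff_zpow_eq_one, hw] at h1
      rw [← hi, ← orderOf_dvd_iff_zpow_eq_one, hwo]
      omega
    obtain ⟨i, hi⟩ := Subgroup.mem_zpowers_iff.1
      (mem_zpowers_of_pow_eq_one hK hxK hc'K (by norm_num) hxo h11)
    have hcz : c ∈ Subgroup.zpowers x₀ := by
      rw [← hzeq]
      refine Subgroup.mem_zpowers_iff.2 ⟨i, ?_⟩
      rw [hx', conj_zpow, hi, hc']
      group
    have hkeq : k = y₀ ^ j * c := by rw [hc]; group
    rw [hkeq]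
    exact Gs.mul_mem (pow_mem hy₀G j) ((Subgroup.zpowers_le).2 hx₀G hcz)
  -- the intermediate subgroup
  let M₁ : Subgroup (GL (Fin 5) F) := (SUgl 5 F 2 ⊓ Gs).map (MulAut.conj g⁻¹).toMonoidHom
  have hmem : ∀ z, z ∈ M₁ ↔ g * z * g⁻¹ ∈ SUgl 5 F 2 ⊓ Gs := by
    intro z
    constructor
    · rintro ⟨y, hy, rfl⟩; simpa [mul_assoc] using hy
    · intro h; exact ⟨_, h, by simp [mul_assoc]⟩
  have hle : H ≤ M₁ := fun h hh => (hmem h).2
    ⟨Subgroup.mul_mem _ (Subgroup.mul_mem _ hgS hh.2) (inv_mem hgS), (hk h hh).1⟩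
  have hleS : M₁ ≤ SUgl 5 F 2 := fun z hz => by
    have h := Subgroup.mul_mem _ (Subgroup.mul_mem _ (inv_mem hgS) ((hmem z).1 hz).1) hgS
    simpa [mul_assoc] using h
  rcases hmax.2 M₁ hle hleS with heq | heq
  · have ht : g⁻¹ * t₀ * g ∈ H := heq ▸ (hmem _).2 (by
      simpa [mul_assoc] using (⟨ht₀S, ht₀G⟩ : t₀ ∈ SUgl 5 F 2 ⊓ Gs))
    have h := (hk _ ht).2
    rw [show g * (g⁻¹ * t₀ * g) * g⁻¹ = t₀ by group] at h
    obtain ⟨a, ha⟩ := (mem_powers_iff_mem_zpowers (x := x₀)).2 h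
    have htinv : t₀⁻¹ = t₀ := inv_eq_of_mul_eq_one_right (Units.ext (by
      rw [Units.val_mul, ht₀, ← hmmul, T_sq, hm1, Units.val_one]))
    apply T_conj ⟨a % 11, Nat.mod_lt _ (by norm_num)⟩
    apply hminj
    show m _ = m (X ^ (a % 11))
    rw [hmmul, hmmul, hmpow, ← ht₀, ← hx₀, ← Units.val_pow_eq_pow_val, ← hx₀ord, pow_mod_orderOf,
      ← Units.val_mul, ← Units.val_mul]
    refine congrArg Units.val ?_
    rw [show x₀ ^ a = t₀ * x₀ * t₀⁻¹ from ha, htinv]
  · apply hw₀G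
    have : g⁻¹ * w₀ * g ∈ M₁ :=
      heq ▸ Subgroup.mul_mem _ (Subgroup.mul_mem _ (inv_mem hgS) hw₀S) hgS
    simpa [mul_assoc] using ((hmem _).1 this).2

end CfsgLib.Aschbacher.SU52
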