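import Cfsg.Agent.Lib.Aschbacher.UnitaryMaximal

/-!
Fields of matrices closed under adjoints: the norm-one torus, and centralisers of cyclic matrices.
-/

set_option autoImplicit false

namespace CfsgLib.Aschbacher

open Matrix Module

variable {F : Type*} [Field F] {ι : Type} [Fintype ι] [DecidableEq ι] {σ : F ≃+* F}
  {f : (ι → F) → (ι → F) → F}

/-- A bilinear bookkeeping: equal values on all pairs give equal matrices. -/
lemma mulVec_ext_of_form (hf : Cfsg.Geo.IsUnitaryForm σ f) {M N : Matrix ι ι F}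
    (h : ∀ u v, f u (M *ᵥ v) = f u (N *ᵥ v)) : M = N := by
  have hs := isSesq_of_unitary hf
  refine Matrix.toLin'.injective (LinearMap.ext fun v => ?_)
  simp only [Matrix.toLin'_apply]
  by_contra hne
  obtain ⟨⟨u, hu⟩, -⟩ := hf.nondegenerate (M *ᵥ v - N *ᵥ v) (sub_ne_zero.2 hne)
  apply hu
  have hsub : f u (M *ᵥ v - N *ᵥ v) = f u (M *ᵥ v) - f u (N *ᵥ v) :=
    map_sub (AddMonoidHom.mk' (fun z => f u z) (hs.add_right u)) _ _
  rw [hsub, h, sub_self]

lemma finite_isField [Finite F] [Nonempty ι] {r : ℕ} {K : Subalgebra F (Matrix ι ι F)}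
    (hK : Cfsg.Geo.IsFieldSubalgebra r K) : IsField K where
  exists_pair_ne :=
    ⟨0, 1, fun h => zero_ne_one (congrArg (fun x : K => (x : Matrix ι ι F)) h)⟩
  mul_comm a b := Subtype.ext (hK.comm _ a.2 _ b.2)
  mul_inv_cancel {a} ha := by
    obtain ⟨y, hy, h⟩ := hK.inv _ a.2 (fun h => ha (Subtype.ext h))
    exact ⟨⟨y, hy⟩, Subtype.ext h⟩

/-- The norm-one elements of an adjoint-closed field form a group of order `q ^ r + 1`. -/
theorem norm_one_torus [Fintype F] [Nonempty ι] (hf : Cfsg.Geo.IsUnitaryForm σ f) {q r : ℕ}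
    (hF : Fintype.card F = q ^ 2) {K : Subalgebra F (Matrix ι ι F)}
    (hK : Cfsg.Geo.IsFieldSubalgebra r K) (hKa : Cfsg.Geo.IsAdjointClosedFor f K) :
    (∀ c : GL ι F, (c : Matrix ι ι F) ∈ K →
      (∀ u v, f ((c : Matrix ι ι F) *ᵥ u) ((c : Matrix ι ι F) *ᵥ v) = f u v) →
        c ^ (q ^ r + 1) = 1) ∧
    ∀ l : ℕ, l.Prime → l ∣ q ^ r + 1 → ∃ c : GL ι F, (c : Matrix ι ι F) ∈ K ∧ orderOf c = l ∧
      ∀ u v, f ((c : Matrix ι ι F) *ᵥ u) ((c : Matrix ι ι F) *ᵥ v) = f u v := by
  classical
  have hs := isSesq_of_unitary hf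
  letI : Field K := (finite_isField hK).toField
  haveI : Fintype K := Fintype.ofFinite _
  choose st hst hst' using hKa
  let s : K → K := fun a => ⟨st a a.2, hst a a.2⟩
  have hadj : ∀ (a : K) u v, f ((a : Matrix ι ι F) *ᵥ u) v = f u ((s a : Matrix ι ι F) *ᵥ v) :=
    fun a => hst' a a.2
  have huniq : ∀ (a b : K), (∀ u v, f ((a : Matrix ι ι F) *ᵥ u) v =
      f u ((b : Matrix ι ι F) *ᵥ v)) → s a = b := fun a b h =>
    Subtype.ext (mulVec_ext_of_form hf fun u v => (hadj a u v).symm.trans (h u v))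
  have hsadd : ∀ a b : K, s (a + b) = s a + s b := fun a b => huniq _ _ fun u v => by
    show f (((a : Matrix ι ι F) + (b : Matrix ι ι F)) *ᵥ u) v = f u (((s a : Matrix ι ι F) + (s b : Matrix ι ι F)) *ᵥ v)
    rw [Matrix.add_mulVec, Matrix.add_mulVec, hs.add_left, hs.add_right, hadj, hadj]
  have hsmul : ∀ a b : K, s (a * b) = s a * s b := fun a b => huniq _ _ fun u v => by
    rw [mul_comm (s a)]
    show f (((a : Matrix ι ι F) * (b : Matrix ι ι F)) *ᵥ u) v = f u (((s b : Matrix ι ι F) * (s a : Matrix ι ι F)) *ᵥ v)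
    rw [← Matrix.mulVec_mulVec, ← Matrix.mulVec_mulVec, hadj, hadj]
  have hs1 : s 1 = 1 := huniq _ _ fun u v => by simp
  have hss : ∀ a : K, s (s a) = a := fun a => huniq _ _ fun u v => by
    rw [hf.herm, ← hadj, ← hf.herm]
  let S : K →+* K :=
    { toFun := s, map_one' := hs1, map_mul' := hsmul
      map_zero' := by
        have h : s 0 = s 0 + s 0 := by rw [← hsadd, add_zero]
        exact left_eq_add.1 h
      map_add' := hsadd }
  -- some element moves
  obtain ⟨μ, hμ⟩ : ∃ μ, σ μ ≠ μ := by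
    by_contra h
    push Not at h
    exact hf.ne_refl (RingEquiv.ext h)
  let t : K := algebraMap F K μ
  have hst0 : s t = algebraMap F K (σ μ) := huniq _ _ fun u v => by
    simp [t, Algebra.algebraMap_eq_smul_one, Matrix.smul_mulVec, hs.smul_left, hs.smul_right,
      hf.involutive]
  have ht : s t ≠ t := fun h => hμ ((algebraMap F K).injective (hst0.symm.trans h))
  -- the fixed field has `q ^ r` elements
  let L : Subfield K := S.eqLocusField (RingHom.id K)
  have hL : ∀ a, a ∈ L ↔ s a = a := fun a => Iff.rfl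
  haveI : Fintype L := Fintype.ofFinite _
  have hbij : Function.Bijective fun p : L × L => (p.1 : K) + p.2 * t := by
    constructor
    · rintro ⟨a, b⟩ ⟨c, d⟩ h
      have h2 : s ((a : K) + b * t) = s ((c : K) + d * t) := congrArg s h
      simp only [hsadd, hsmul, (hL _).1 a.2, (hL _).1 b.2, (hL _).1 c.2, (hL _).1 d.2] at h2
      have h' : (a : K) + b * t = c + d * t := h
      have h3 : ((b : K) - d) * (s t - t) = 0 := by linear_combination h2 - h'
      have hbd : (b : K) = d :=
        sub_eq_zero.1 ((mul_eq_zero.1 h3).resolve_right (sub_ne_zero.2 ht))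
      have hac : (a : K) = c := by linear_combination h' - t * hbd
      exact Prod.ext (Subtype.ext hac) (Subtype.ext hbd)
    · intro a
      let b := (s a - a) / (s t - t)
      have hb : b ∈ L := by
        rw [hL]
        show S b = b
        simp only [b, map_div₀, map_sub]
        show (s (s a) - s a) / (s (s t) - s t) = _
        rw [hss, hss, div_eq_div_iff (sub_ne_zero.2 (Ne.symm ht)) (sub_ne_zero.2 ht)]
        ring
      have hc : a - b * t ∈ L := by
        rw [hL]
        show S (a - b * t) = _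
        rw [map_sub, map_mul]
        show s a - s b * s t = _
        rw [(hL b).1 hb]
        have h4 : b * (s t - t) = s a - a := div_mul_cancel₀ _ (sub_ne_zero.2 ht)
        linear_combination -h4
      exact ⟨(⟨_, hc⟩, ⟨b, hb⟩), sub_add_cancel a (b * t)⟩
  have hcK : Fintype.card K = (q ^ r) ^ 2 := by
    have h := Module.natCard_eq_pow_finrank (K := F) (V := K)
    rw [hK.finrank_eq, Nat.card_eq_fintype_card, Nat.card_eq_fintype_card, hF] at h
    rw [h, ← pow_mul, ← pow_mul, mul_comm]
  have hcL : Fintype.card L = q ^ r := by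
    have h := Fintype.card_congr (Equiv.ofBijective _ hbij)
    rw [Fintype.card_prod, hcK, ← pow_two] at h
    exact Nat.pow_left_injective two_ne_zero h
  -- the norm-one group is the image of `b ↦ b / s b`
  have hs0 : ∀ b : K, b ≠ 0 → s b ≠ 0 := fun b hb => (map_ne_zero S).2 hb
  let ψ : Kˣ →* Kˣ :=
    { toFun := fun b => Units.mk0 ((b : K) / s b) (div_ne_zero b.ne_zero (hs0 _ b.ne_zero))
      map_one' := Units.ext (by simp [hs1])
      map_mul' := fun a b => Units.ext (by simp [hsmul, mul_div_mul_comm]) }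
  have hker : Nat.card ψ.ker = Nat.card Lˣ := by
    refine (Nat.card_congr ?_).symm
    exact
      { toFun := fun u => ⟨Units.map (L.subtype : L →* K) u, by
          rw [MonoidHom.mem_ker]
          refine Units.ext ?_
          have hu : s ((u : L) : K) = ((u : L) : K) := (hL _).1 (u : L).2
          simp [ψ, hu]⟩
        invFun := fun u => Units.mk0 ⟨((u : Kˣ) : K), (hL _).2 (by
            have h := congrArg Units.val (MonoidHom.mem_ker.1 u.2)
            simp only [ψ, MonoidHom.coe_mk, OneHom.coe_mk, Units.val_mk0, Units.val_one] at h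
            exact ((div_eq_one_iff_eq (hs0 _ (u : Kˣ).ne_zero)).1 h).symm)⟩
          (fun h => (u : Kˣ).ne_zero (congrArg Subtype.val h))
        left_inv := fun u => by ext; rfl
        right_inv := fun u => by ext; rfl }
  have hrange : Nat.card ψ.range = q ^ r + 1 := by
    have h1 := Subgroup.card_mul_index ψ.ker
    rw [Subgroup.index_ker, hker, Nat.card_units, Nat.card_units, Nat.card_eq_fintype_card (α := L),
      Nat.card_eq_fintype_card (α := K), hcL, hcK] at h1
    have hq := one_lt_q hF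
    have hr : 0 < r := by
      rw [← hK.finrank_eq]
      exact Module.finrank_pos
    have h2 : 1 < q ^ r := Nat.one_lt_pow hr.ne' hq
    have h3 : ((q ^ r) ^ 2 - 1) = (q ^ r + 1) * (q ^ r - 1) := by rw [← Nat.sq_sub_sq, one_pow]
    rw [h3, mul_comm] at h1
    exact Nat.eq_of_mul_eq_mul_right (by omega) h1
  let ε : Kˣ →* GL ι F := Units.map (K.val : K →* Matrix ι ι F)
  have hεinj : Function.Injective ε := fun a b h => Units.ext (Subtype.ext (congrArg Units.val h))
  refine ⟨fun c hc hcf => ?_, fun l hl hdvd => ?_⟩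
  · have hc0 : (⟨(c : Matrix ι ι F), hc⟩ : K) ≠ 0 := fun h => c.ne_zero (congrArg Subtype.val h)
    let a : Kˣ := Units.mk0 _ hc0
    have ha : (a : K) * s a = 1 := by
      rw [mul_comm]
      refine Subtype.ext (mulVec_ext_of_form hf fun u v => ?_)
      show f u (((s a : Matrix ι ι F) * (c : Matrix ι ι F)) *ᵥ v) = f u ((1 : Matrix ι ι F) *ᵥ v)
      rw [← Matrix.mulVec_mulVec, ← hadj, Matrix.one_mulVec]
      exact hcf u v
    -- Hilbert's theorem 90
    obtain ⟨w, hw⟩ : ∃ w : K, w + a * s w ≠ 0 := by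
      by_contra h
      push Not at h
      have h1 := h 1
      rw [hs1, mul_one] at h1
      have h2 := h t
      have h3 : (a : K) = -1 := eq_neg_of_add_eq_zero_right h1
      rw [h3] at h2
      exact ht (by linear_combination -h2)
    have hmem : a ∈ ψ.range := ⟨Units.mk0 _ hw, Units.ext (by
      simp only [ψ, MonoidHom.coe_mk, OneHom.coe_mk, Units.val_mk0]
      rw [div_eq_iff (hs0 _ hw), hsadd, hsmul, hss]
      linear_combination -w * ha)⟩
    have h4 : (⟨a, hmem⟩ : ψ.range) ^ (q ^ r + 1) = 1 := hrange ▸ pow_card_eq_one'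
    have h5 : a ^ (q ^ r + 1) = 1 := congrArg Subtype.val h4
    have h6 : ε a = c := Units.ext rfl
    rw [← h6, ← map_pow, h5, map_one]
  · haveI : Fact l.Prime := ⟨hl⟩
    obtain ⟨⟨_, b, rfl⟩, hord⟩ := exists_prime_orderOf_dvd_card' (G := ψ.range) l (hrange ▸ hdvd)
    rw [← Subgroup.orderOf_coe] at hord
    refine ⟨ε (ψ b), ((ψ b : K)).2, by rw [orderOf_injective ε hεinj]; exact hord, fun u v => ?_⟩
    show f (((ψ b : K) : Matrix ι ι F) *ᵥ u) (((ψ b : K) : Matrix ι ι F) *ᵥ v) = f u v
    have h1 : s (ψ b : K) * (ψ b : K) = 1 := by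
      have hb := (b : Kˣ).ne_zero
      simp only [ψ, MonoidHom.coe_mk, OneHom.coe_mk, Units.val_mk0]
      show S ((b : K) / s b) * _ = 1
      rw [map_div₀]
      show s b / s (s b) * _ = 1
      rw [hss]
      field_simp [hs0 _ hb]
    rw [hadj, Matrix.mulVec_mulVec]
    have h7 := congrArg (fun x : K => (x : Matrix ι ι F)) h1
    simp only [Subalgebra.coe_mul, Subalgebra.coe_one] at h7
    rw [h7, Matrix.one_mulVec]

/-- In a field, an element killed by a prime is a power of any element of that order. -/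
lemma mem_zpowers_of_pow_eq_one [Finite F] [Nonempty ι] {r : ℕ}
    {K : Subalgebra F (Matrix ι ι F)} (hK : Cfsg.Geo.IsFieldSubalgebra r K) {x y : GL ι F}
    (hx : (x : Matrix ι ι F) ∈ K) (hy : (y : Matrix ι ι F) ∈ K) {l : ℕ} (hl : 0 < l)
    (hxo : orderOf x = l) (hyl : y ^ l = 1) : y ∈ Subgroup.zpowers x := by
  letI : Field K := (finite_isField hK).toField
  haveI : NeZero l := ⟨hl.ne'⟩
  have hprim : IsPrimitiveRoot (⟨(x : Matrix ι ι F), hx⟩ : K) l := by
    refine ⟨Subtype.ext ?_, fun m hm => ?_⟩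
    · show (x : Matrix ι ι F) ^ l = 1
      rw [← Units.val_pow_eq_pow_val, ← hxo, pow_orderOf_eq_one, Units.val_one]
    · rw [← hxo]
      exact orderOf_dvd_of_pow_eq_one (Units.ext (by simpa using congrArg Subtype.val hm))
  obtain ⟨i, -, hi⟩ := hprim.eq_pow_of_pow_eq_one (ξ := (⟨(y : Matrix ι ι F), hy⟩ : K))
    (Subtype.ext (by
      simpa using congrArg Units.val hyl))
  have : y = x ^ i := Units.ext (by simpa using (congrArg Subtype.val hi).symm)
  exact this ▸ Subgroup.pow_mem _ (Subgroup.mem_zpowers x) i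

/-- What commutes with a cyclic element of a field of full degree lies in the field. -/
lemma mem_of_commute [Finite F] [Nonempty ι] {K : Subalgebra F (Matrix ι ι F)}
    (hK : Cfsg.Geo.IsFieldSubalgebra (Fintype.card ι) K) {X c : Matrix ι ι F} (hX : X ∈ K)
    (hc : c * X = X * c) {e : ι → F} (he : e ≠ 0)
    (hcyc : Submodule.span F (Set.range fun i : ℕ => (X ^ i) *ᵥ e) = ⊤) : c ∈ K := by
  let φ : K →ₗ[F] (ι → F) := ((Matrix.mulVecBilin F F).flip e).comp K.val.toLinearMap
  have hinj : Function.Injective φ := by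
    intro a b hab
    by_contra hne
    obtain ⟨y, -, hy⟩ := hK.inv ((a : Matrix ι ι F) - (b : Matrix ι ι F)) (sub_mem a.2 b.2)
      (fun h => hne (Subtype.ext (sub_eq_zero.1 h)))
    have h0 : ((a : Matrix ι ι F) - (b : Matrix ι ι F)) *ᵥ e = 0 := by
      rw [Matrix.sub_mulVec, sub_eq_zero]; exact hab
    apply he
    rw [← Matrix.one_mulVec e, ← mul_eq_one_comm.1 hy, ← Matrix.mulVec_mulVec, h0,
      Matrix.mulVec_zero]
  obtain ⟨k, hk⟩ := (LinearMap.injective_iff_surjective_of_finrank_eq_finrank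
    (by rw [hK.finrank_eq, Module.finrank_fintype_fun_eq_card])).1 hinj (c *ᵥ e)
  have heq : Matrix.toLin' c = Matrix.toLin' (k : Matrix ι ι F) := by
    refine LinearMap.ext_on hcyc ?_
    rintro _ ⟨i, rfl⟩
    simp only [Matrix.toLin'_apply, Matrix.mulVec_mulVec]
    rw [((show Commute c X from hc).pow_right i).eq,
      ((show Commute (k : Matrix ι ι F) X from hK.comm _ k.2 _ hX).pow_right i).eq,
      ← Matrix.mulVec_mulVec, ← Matrix.mulVec_mulVec]
    congr 1
    exact hk.symm
  rw [Matrix.toLin'.injective heq]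
  exact k.2

end CfsgLib.Aschbacher
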