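import Cfsg.Agent.Lib.Aschbacher.Clifford

/-!
In a primitive irreducible soluble linear group every non-identity element fixes at most three
quarters of the space.
-/

set_option autoImplicit false

namespace CfsgLib.Aschbacher

open Matrix Module
open scoped commutatorElement

section groupPart

variable {G : Type*} [Group G] [Finite G]

/-- A soluble group has an abelian normal subgroup `A` and a normal subgroup `N ≥ A` with
`[N,A] = 1`, `[N,N] ≤ A` and `C(N) ≤ A`. -/
theorem exists_class_two_self_centralizing (hsol : Group.IsSolvable G) :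
    ∃ A N : Subgroup G, A.Normal ∧ N.Normal ∧ (∀ a ∈ A, ∀ b ∈ A, a * b = b * a) ∧
      ⁅N, N⁆ ≤ A ∧ ∀ g : G, (∀ x ∈ N, g * x = x * g) → g ∈ A := by
  obtain ⟨A, ⟨hAn, hAc⟩, hAmax⟩ := (Set.toFinite
    {A : Subgroup G | A.Normal ∧ ∀ a ∈ A, ∀ b ∈ A, a * b = b * a}).exists_maximal
    ⟨⊥, inferInstance, fun a ha b hb => by
      rw [Subgroup.mem_bot] at ha hb; rw [ha, hb]⟩
  have hAself : ∀ B : Subgroup G, B.Normal → (∀ a ∈ B, ∀ b ∈ B, a * b = b * a) → A ≤ B → B ≤ A :=
    fun B h1 h2 h3 => hAmax ⟨h1, h2⟩ h3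
  let C := Subgroup.centralizer (A : Set G)
  have : A.Normal := hAn
  obtain ⟨N, ⟨hNn, hAN, hNC, hNA⟩, hNmax⟩ := (Set.toFinite
    {N : Subgroup G | N.Normal ∧ A ≤ N ∧ N ≤ C ∧ ⁅N, N⁆ ≤ A}).exists_maximal
    ⟨A, hAn, le_rfl, fun a ha => Subgroup.mem_centralizer_iff.2 fun b hb => hAc b hb a ha,
      Subgroup.commutator_le.2 fun a ha b hb => by
        rw [commutatorElement_def, hAc a ha b hb]; simp⟩
  have : N.Normal := hNn
  refine ⟨A, N, hAn, hNn, hAc, hNA, ?_⟩
  let D := Subgroup.centralizer (N : Set G)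
  have hAD : A ≤ D := fun a ha => Subgroup.mem_centralizer_iff.2 fun x hx =>
    (Subgroup.mem_centralizer_iff.1 (hNC hx) a ha).symm
  have hDC : D ≤ C := Subgroup.centralizer_le hAN
  have hDN : D ⊓ N ≤ A := by
    refine hAself _ inferInstance (fun a ha b hb => ?_) (le_inf hAD hAN)
    exact (Subgroup.mem_centralizer_iff.1 ha.1 b hb.2).symm
  suffices hDA : D ≤ A by
    intro g hg
    exact hDA (Subgroup.mem_centralizer_iff.2 fun x hx => (hg x hx).symm)
  by_contra hDA
  obtain ⟨k, hk⟩ := hsol.solvable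
  let X : ℕ → Subgroup G := fun i => Nat.rec D (fun _ Y => ⁅Y, Y⁆) i
  have hXn : ∀ i, (X i).Normal := by
    intro i
    induction i with
    | zero => exact inferInstanceAs (Subgroup.centralizer (N : Set G)).Normal
    | succ i ih => exact @Subgroup.commutator_normal G _ (X i) (X i) ih ih
  have hXD : ∀ i, X i ≤ D := by
    intro i
    induction i with
    | zero => exact le_rfl
    | succ i ih =>
      refine Subgroup.commutator_le.2 fun a ha b hb => ?_
      rw [commutatorElement_def]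
      exact D.mul_mem (D.mul_mem (D.mul_mem (ih ha) (ih hb)) (D.inv_mem (ih ha))) (D.inv_mem (ih hb))
  have hXder : ∀ i, X i ≤ derivedSeries G i := by
    intro i
    induction i with
    | zero => exact le_top
    | succ i ih => exact Subgroup.commutator_mono ih ih
  have hXk : X k ≤ A := ((hXder k).trans hk.le).trans bot_le
  obtain ⟨i, hi, hi1⟩ : ∃ i, ¬ X i ≤ A ∧ X (i + 1) ≤ A := by
    by_contra h
    push Not at h
    have : ∀ i, ¬ X i ≤ A := fun i => Nat.rec hDA (fun i ih => h i ih) i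
    exact this k hXk
  have : (X i).Normal := hXn i
  let M := X i ⊔ A
  have hN' : ⁅N ⊔ M, N ⊔ M⁆ ≤ A := by
    let π := QuotientGroup.mk' A
    have hmem : ∀ {u v : G}, ⁅u, v⁆ ∈ A → π u * π v = π v * π u := by
      intro u v h
      have h1 : π ⁅u, v⁆ = 1 := (QuotientGroup.eq_one_iff _).2 h
      rwa [map_commutatorElement, commutatorElement_eq_one_iff_mul_comm] at h1
    have hND : ∀ x ∈ N, ∀ y ∈ D, ⁅x, y⁆ ∈ A := by
      intro x hx y hy
      have := Subgroup.mem_centralizer_iff.1 hy x hx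
      rw [commutatorElement_def, this]
      simp [A.one_mem]
    let S : Set G := (N : Set G) ∪ ((SetLike.coe (X i)) ∪ (A : Set G))
    have hS : ∀ u ∈ S, ∀ v ∈ S, π u * π v = π v * π u := by
      have hA1 : ∀ a ∈ A, π a = 1 := fun a ha => (QuotientGroup.eq_one_iff _).2 ha
      rintro u (hu | hu | hu) v (hv | hv | hv)
      · exact hmem (hNA (Subgroup.commutator_mem_commutator hu hv))
      · exact hmem (hND u hu v (hXD i hv))
      · simp [hA1 v hv]
      · exact (hmem (hND v hv u (hXD i hu))).symm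
      · exact hmem (hi1 (Subgroup.commutator_mem_commutator hu hv))
      · simp [hA1 v hv]
      all_goals simp [hA1 u hu]
    have hcl : N ⊔ M = Subgroup.closure S := by
      simp only [S, M, Subgroup.closure_union, Subgroup.closure_eq]
    rw [hcl, Subgroup.commutator_le]
    intro u hu v hv
    have key : ∀ u ∈ Subgroup.closure S, ∀ v ∈ Subgroup.closure S, π u * π v = π v * π u := by
      intro u hu v hv
      exact Subgroup.closure_induction₂ (p := fun a b _ _ => π a * π b = π b * π a)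
        (fun a b ha hb => hS a ha b hb) (fun a _ => by simp) (fun a _ => by simp)
        (fun a b c _ _ _ h1 h2 => by rw [map_mul, mul_assoc, h2, ← mul_assoc, h1, mul_assoc])
        (fun a b c _ _ _ h1 h2 => by rw [map_mul, ← mul_assoc, h1, mul_assoc, h2, mul_assoc])
        (fun a b _ _ h => by rw [map_inv]; exact Commute.inv_left h)
        (fun a b _ _ h => by rw [map_inv]; exact Commute.inv_right h) hu hv
    refine (QuotientGroup.eq_one_iff _).1 ?_
    show π ⁅u, v⁆ = 1
    rw [map_commutatorElement, commutatorElement_eq_one_iff_mul_comm]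
    exact key u hu v hv
  have hMN : M ≤ N := by
    have hXA : (X i ⊔ A).Normal := @Subgroup.sup_normal G _ (X i) A (hXn i) hAn
    have hnorm : (N ⊔ M).Normal := @Subgroup.sup_normal G _ N (X i ⊔ A) hNn hXA
    refine le_trans le_sup_right (hNmax ⟨hnorm, le_sup_of_le_left hAN, ?_, hN'⟩ le_sup_left)
    exact sup_le hNC (sup_le ((hXD i).trans hDC) (hAN.trans hNC))
  exact hi ((le_inf (hXD i) (le_sup_left.trans hMN)).trans hDN)

end groupPart

section linear

variable {ι : Type} [Fintype ι] [DecidableEq ι] {F : Type*} [Field F]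

/-- The fixed space of a matrix. -/
noncomputable def fixSpace (g : GL ι F) : Submodule F (ι → F) :=
  LinearMap.ker (Matrix.toLin' (g : Matrix ι ι F) - 1)

lemma mem_fixSpace {g : GL ι F} {v : ι → F} :
    v ∈ fixSpace g ↔ (g : Matrix ι ι F) *ᵥ v = v := by
  simp [fixSpace, LinearMap.mem_ker, sub_eq_zero]

/-- The fixed space of a commutator. -/
lemma two_mul_fixSpace_le (g x : GL ι F) :
    2 * finrank F (fixSpace g) ≤ Fintype.card ι + finrank F (fixSpace (g * x * g⁻¹ * x⁻¹)) := by
  have hle : fixSpace g ⊓ tr x (fixSpace g) ≤ fixSpace (g * x * g⁻¹ * x⁻¹) := by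
    rintro v ⟨hv, hv'⟩
    rw [SetLike.mem_coe, mem_fixSpace] at hv
    obtain ⟨w, hw, rfl⟩ := mem_tr.1 hv'
    rw [mem_fixSpace] at hw ⊢
    rw [mul_mulVec, inv_mulVec_cancel, mul_mulVec, mul_mulVec]
    rw [show ((g⁻¹ : GL ι F) : Matrix ι ι F) *ᵥ w = w from by
      conv_lhs => rw [← hw]
      rw [inv_mulVec_cancel]]
    exact hv
  have h1 := Submodule.finrank_sup_add_finrank_inf_eq (fixSpace g) (tr x (fixSpace g))
  rw [finrank_tr] at h1
  have h2 : finrank F ↥(fixSpace g ⊔ tr x (fixSpace g)) ≤ Fintype.card ι := by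
    simpa using Submodule.finrank_le (fixSpace g ⊔ tr x (fixSpace g))
  have h3 := Submodule.finrank_mono hle
  omega

/-- The main statement. -/
theorem four_mul_fixSpace_le [Finite F] (G : Subgroup (GL ι F)) (hsol : Group.IsSolvable G)
    (hirr : Cfsg.Geo.ActsIrreducibly (Cfsg.Geo.matrixSet G))
    (hprim : ¬ ∃ (t m : ℕ) (D : Fin t → Submodule F (ι → F)),
      Cfsg.Geo.IsMDecomposition m D ∧ G ≤ Cfsg.Geo.decompositionStabilizer D)
    {g : GL ι F} (hg : g ∈ G) (hg1 : g ≠ 1) :
    4 * finrank F (fixSpace g) ≤ 3 * Fintype.card ι := by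
  obtain ⟨A, N, hAn, hNn, hAc, hNA, hC⟩ := exists_class_two_self_centralizing hsol
  have hfpf : ∀ a : G, a ∈ A → a ≠ 1 → finrank F (fixSpace (a : GL ι F)) = 0 := by
    intro a ha ha1
    rw [Submodule.finrank_eq_zero, eq_bot_iff]
    intro v hv
    rw [mem_fixSpace] at hv
    rw [Submodule.mem_bot]
    have hB : ((a : GL ι F) : Matrix ι ι F) ∈ envelope (A.map G.subtype) :=
      Submodule.subset_span ⟨(a : GL ι F), Subgroup.mem_map_of_mem G.subtype ha, rfl⟩
    have hB1 : (1 : Matrix ι ι F) ∈ envelope (A.map G.subtype) :=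
      Submodule.subset_span ⟨1, Subgroup.one_mem _, rfl⟩
    refine mulVec_eq_zero_of_commutative (A := A.map G.subtype) hirr ?_ ?_ hprim
      (sub_mem hB hB1) ?_ ?_
    · rintro h hh _ ⟨b, hb, rfl⟩
      have hm : ((⟨h, hh⟩ : G) * b * (⟨h, hh⟩ : G)⁻¹) ∈ A := hAn.conj_mem b hb _
      refine Subgroup.mem_map.2 ⟨_, hm, ?_⟩
      simp only [map_mul, map_inv, Subgroup.coe_subtype]
    · rintro _ ⟨b, hb, rfl⟩ _ ⟨c, hc, rfl⟩
      rw [← map_mul, ← map_mul, hAc b hb c hc]
    · intro h
      exact ha1 (Subtype.ext (Units.ext (sub_eq_zero.1 h)))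
    · rw [Matrix.sub_mulVec, hv, Matrix.one_mulVec, sub_self]
  by_cases hgA : (⟨g, hg⟩ : G) ∈ A
  · have := hfpf ⟨g, hg⟩ hgA (fun h => hg1 (congrArg Subtype.val h))
    simp only at this
    omega
  · have hx : ∃ x ∈ N, (⟨g, hg⟩ : G) * x ≠ x * ⟨g, hg⟩ := by
      by_contra h
      push Not at h
      exact hgA (hC _ h)
    obtain ⟨x, hxN, hx⟩ := hx
    set y : G := ⟨g, hg⟩ * x * ⟨g, hg⟩⁻¹ * x⁻¹ with hy
    have hy1 : y ≠ 1 := by
      intro h
      rw [hy, mul_inv_eq_one, mul_inv_eq_iff_eq_mul] at h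
      exact hx h
    have hyN : y ∈ N := N.mul_mem (hNn.conj_mem x hxN _) (N.inv_mem hxN)
    have h1 := two_mul_fixSpace_le g (x : GL ι F)
    by_cases hyA : y ∈ A
    · have := hfpf y hyA hy1
      rw [hy] at this
      simp only [Subgroup.coe_mul, Subgroup.coe_inv] at this
      omega
    · have hz : ∃ z ∈ N, y * z ≠ z * y := by
        by_contra h
        push Not at h
        exact hyA (hC _ h)
      obtain ⟨z, hzN, hz⟩ := hz
      have hw1 : y * z * y⁻¹ * z⁻¹ ≠ 1 := by
        intro h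
        rw [mul_inv_eq_one, mul_inv_eq_iff_eq_mul] at h
        exact hz h
      have hwA : y * z * y⁻¹ * z⁻¹ ∈ A := by
        rw [← commutatorElement_def]
        exact hNA (Subgroup.commutator_mem_commutator hyN hzN)
      have h2 := two_mul_fixSpace_le (y : GL ι F) (z : GL ι F)
      have h3 := hfpf _ hwA hw1
      simp only [Subgroup.coe_mul, Subgroup.coe_inv] at h3
      rw [hy] at h2 h3
      simp only [Subgroup.coe_mul, Subgroup.coe_inv] at h2 h3
      omega

end linear

end CfsgLib.Aschbacher
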