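import Cfsg.Agent.Lib.Aschbacher.Proper

/-! The normaliser of an extension field with an intermediate field is not maximal. -/

set_option autoImplicit false

namespace CfsgLib.Aschbacher

open Matrix Module

variable {n : ℕ} {F : Type*} [Field F] [Fintype F]

/-- The abstract form of `exists_centralizing_not_normalizing`. -/
theorem exists_tau {L : Type*} [Field L] (ρ : L →+* Matrix (Fin n) (Fin n) F)
    (hscal : ∀ c : F, ∃ l, ρ l = algebraMap F _ c) {r : ℕ} {K : Subalgebra F (Matrix (Fin n) (Fin n) F)}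
    (hK : Cfsg.Geo.IsFieldSubalgebra r K) (hρK : ∀ l, ρ l ∈ K) (hrn : r < n)
    {k : Matrix (Fin n) (Fin n) F} (hk : k ∈ K) (hkL : ∀ l, ρ l ≠ k) :
    ∃ τ : Matrix (Fin n) (Fin n) F, τ * τ = 0 ∧ (∀ l, τ * ρ l = ρ l * τ) ∧
      (1 + τ) * k * (1 - τ) ∉ K := by
  classical
  haveI : NeZero n := ⟨by omega⟩
  letI : Module L (Fin n → F) := Module.compHom _
    ((Matrix.toLinAlgEquiv' : Matrix (Fin n) (Fin n) F ≃ₐ[F] _).toAlgHom.toRingHom.comp ρ)
  have hsmul : ∀ (l : L) (x : Fin n → F), l • x = ρ l *ᵥ x :=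
    fun l x => Matrix.toLinAlgEquiv'_apply _ _
  obtain ⟨v, hv⟩ : ∃ v : Fin n → F, v ≠ 0 := ⟨1, one_ne_zero⟩
  let Kv : Submodule F (Fin n → F) :=
    (Subalgebra.toSubmodule K).map ((Matrix.mulVecBilin F F).flip v)
  have hKv : ∀ u, u ∈ Kv ↔ ∃ c ∈ K, c *ᵥ v = u := by intro u; simp [Kv, Submodule.mem_map]
  obtain ⟨x, hx⟩ : ∃ x, x ∉ Kv := by
    by_contra! h
    have h1 : finrank F Kv ≤ r := by
      rw [← hK.finrank_eq, ← Subalgebra.finrank_toSubmodule]
      exact Submodule.finrank_map_le _ _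
    rw [show Kv = ⊤ from eq_top_iff.2 fun u _ => h u, finrank_top, Module.finrank_fin_fun] at h1
    omega
  let W : Submodule L (Fin n → F) :=
    { carrier := Kv
      add_mem' := Kv.add_mem
      zero_mem' := Kv.zero_mem
      smul_mem' := fun l u hu => by
        obtain ⟨c, hc, rfl⟩ := (hKv u).1 hu
        show l • (c *ᵥ v) ∈ Kv
        rw [hsmul, Matrix.mulVec_mulVec]
        exact (hKv _).2 ⟨_, mul_mem (hρK l) hc, rfl⟩ }
  have hunit : ∀ c ∈ K, ∀ u : Fin n → F, c ≠ 0 → c *ᵥ u ∈ Kv → u ∈ Kv := by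
    intro c hc u hc0 hcu
    obtain ⟨y, hy, hcy⟩ := hK.inv c hc hc0
    obtain ⟨d, hd, hdv⟩ := (hKv _).1 hcu
    refine (hKv u).2 ⟨y * d, mul_mem hy hd, ?_⟩
    rw [← Matrix.mulVec_mulVec, hdv, Matrix.mulVec_mulVec, mul_eq_one_comm.1 hcy, Matrix.one_mulVec]
  have hxW : x ∉ W ⊔ Submodule.span L {k *ᵥ x} := by
    intro h
    obtain ⟨w, hw, z, hz, hwz⟩ := Submodule.mem_sup.1 h
    obtain ⟨l, rfl⟩ := Submodule.mem_span_singleton.1 hz
    rw [hsmul, Matrix.mulVec_mulVec] at hwz
    have hd : (1 - ρ l * k) *ᵥ x ∈ Kv := by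
      rw [Matrix.sub_mulVec, Matrix.one_mulVec]
      nth_rewrite 1 [← hwz]
      rw [add_sub_cancel_right]; exact hw
    refine hx (hunit _ (sub_mem (one_mem K) (mul_mem (hρK l) hk)) x (fun e => ?_) hd)
    rw [sub_eq_zero] at e
    have hl0 : l ≠ 0 := fun e0 => by simp [e0] at e
    refine hkL l⁻¹ ?_
    rw [← mul_one (ρ l⁻¹), e, ← mul_assoc, ← map_mul, inv_mul_cancel₀ hl0, map_one, one_mul]
  obtain ⟨φ, hφx, hφ⟩ := Submodule.exists_dual_map_eq_bot_of_notMem hxW inferInstance
  have hφ0 : ∀ u ∈ W ⊔ Submodule.span L {k *ᵥ x}, φ u = 0 := fun u hu =>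
    (Submodule.mem_bot _).1 (hφ ▸ Submodule.mem_map_of_mem hu)
  let τl : (Fin n → F) →ₗ[F] (Fin n → F) :=
    { toFun := fun u => φ u • v
      map_add' := fun a b => by rw [map_add, add_smul]
      map_smul' := fun c a => by
        obtain ⟨l, hl⟩ := hscal c
        have h1 : ∀ u : Fin n → F, c • u = l • u := fun u => by
          rw [hsmul, hl]
          simp [Algebra.algebraMap_eq_smul_one, Matrix.smul_mulVec]
        rw [h1, φ.map_smul, smul_eq_mul, mul_smul, RingHom.id_apply, h1] }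
  let τ : Matrix (Fin n) (Fin n) F := LinearMap.toMatrix' τl
  have hτ : ∀ u, τ *ᵥ u = φ u • v := fun u => by
    simp [τ, LinearMap.toMatrix'_mulVec, τl]
  have hφv : ∀ u ∈ Kv, φ u = 0 := fun u hu => hφ0 u (Submodule.mem_sup_left hu)
  have hvK : v ∈ Kv := (hKv v).2 ⟨1, one_mem K, Matrix.one_mulVec v⟩
  have hττ : τ * τ = 0 := by
    apply Matrix.ext_of_mulVec_single
    intro i
    rw [← Matrix.mulVec_mulVec, hτ, hτ, hφv, zero_smul, Matrix.zero_mulVec]
    exact W.smul_mem _ hvK
  have hcomm : ∀ l, τ * ρ l = ρ l * τ := by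
    intro l
    apply Matrix.ext_of_mulVec_single
    intro i
    rw [← Matrix.mulVec_mulVec, ← Matrix.mulVec_mulVec, hτ, hτ]
    rw [← hsmul, ← hsmul, φ.map_smul, smul_eq_mul, mul_smul]
  refine ⟨τ, hττ, hcomm, fun hk'K => ?_⟩
  · have hinv1 : (1 - τ) * (1 + τ) = 1 := by
      rw [sub_mul, one_mul, mul_add, mul_one, hττ, add_zero, add_sub_cancel_right]
    set k' := (1 + τ) * k * (1 - τ) with hk'
    have h1 : k' * (1 + τ) = (1 + τ) * k := by
      rw [hk', mul_assoc, hinv1, mul_one]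
    have h2 : ∀ u, k' *ᵥ (u + φ u • v) = k *ᵥ u + φ (k *ᵥ u) • v := fun u => by
      have := congrArg (fun M : Matrix (Fin n) (Fin n) F => M *ᵥ u) h1
      simpa [← Matrix.mulVec_mulVec, Matrix.add_mulVec, Matrix.one_mulVec, hτ] using this
    have hkv : k *ᵥ v ∈ Kv := (hKv _).2 ⟨k, hk, rfl⟩
    have he := h2 v
    rw [hφv v hvK, hφv _ hkv, zero_smul, add_zero, add_zero] at he
    have hinv : ∀ c ∈ K, ∀ u : Fin n → F, c *ᵥ u = 0 → c ≠ 0 → u = 0 := by
      intro c hc u hcu hc0
      obtain ⟨y, -, hcy⟩ := hK.inv c hc hc0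
      rw [← Matrix.one_mulVec u, ← mul_eq_one_comm.1 hcy, ← Matrix.mulVec_mulVec, hcu, Matrix.mulVec_zero]
    have hkk : k' = k := by
      by_contra hne
      exact hv (hinv _ (sub_mem hk'K hk) v (by rw [Matrix.sub_mulVec, he, sub_self]) (sub_ne_zero.2 hne))
    have hx2 := h2 x
    rw [hkk, hφ0 _ (Submodule.mem_sup_right (Submodule.mem_span_singleton_self _)), zero_smul, add_zero,
      Matrix.mulVec_add, add_eq_left] at hx2
    have := hinv k hk _ hx2 (fun e => hkL 0 (by rw [map_zero, e]))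
    exact hv ((smul_eq_zero.1 this).resolve_left hφx)

/-- A transvection over `L` which does not normalise `K`. -/
theorem exists_centralizing_not_normalizing {r s : ℕ} {K L : Subalgebra F (Matrix (Fin n) (Fin n) F)}
    (hK : Cfsg.Geo.IsFieldSubalgebra r K) (hL : Cfsg.Geo.IsFieldSubalgebra s L) (hLK : L ≤ K)
    (hsr : s < r) (hrn : r < n) :
    ∃ g : GL (Fin n) F, g ∈ Cfsg.Geo.specialLinear (Fin n) F ∧ g ∈ Cfsg.Geo.subalgebraNormalizer L ∧
      g ∉ Cfsg.Geo.subalgebraNormalizer K := by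
  classical
  haveI : NeZero n := ⟨by omega⟩
  obtain ⟨k, hk, hkL⟩ : ∃ k ∈ K, k ∉ L := by
    by_contra! h
    have e : K = L := le_antisymm h hLK
    subst e
    exact absurd (hK.finrank_eq.symm.trans hL.finrank_eq) (by omega)
  have hfield : IsField L :=
    { exists_pair_ne := ⟨0, 1, fun h => by simpa using congrArg Subtype.val h⟩
      mul_comm := fun a b => Subtype.ext (hL.comm a a.2 b b.2)
      mul_inv_cancel := fun {a} ha => by
        obtain ⟨y, hy, hay⟩ := hL.inv a a.2 (fun e => ha (Subtype.ext e))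
        exact ⟨⟨y, hy⟩, Subtype.ext hay⟩ }
  obtain ⟨τ, hττ, hcomm', hnot⟩ := @exists_tau n F _ _ L hfield.toField L.val.toRingHom
    (fun c => ⟨algebraMap F L c, rfl⟩) r K hK (fun l => hLK l.2) hrn k hk
    (fun l e => hkL (e ▸ l.2))
  have hcomm : ∀ l ∈ L, τ * l = l * τ := fun l hl => hcomm' ⟨l, hl⟩
  let g : GL (Fin n) F := ⟨1 + τ, 1 - τ, by
    rw [mul_sub, mul_one, add_mul, one_mul, hττ, add_zero, add_sub_cancel_right], by
    rw [sub_mul, one_mul, mul_add, mul_one, hττ, add_zero, add_sub_cancel_right]⟩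
  have hgs : g ∈ Cfsg.Geo.specialLinear (Fin n) F := by
    obtain ⟨p, hp⟩ := CharP.exists F
    haveI := hp
    haveI := Fact.mk (CharP.char_is_prime F p)
    have hpow : (1 + τ) ^ p = 1 := by
      rw [add_pow_char_of_commute (R := Matrix (Fin n) (Fin n) F) (p := p) (Commute.one_left τ), one_pow]
      obtain ⟨m, hm⟩ := Nat.exists_eq_add_of_le (Nat.Prime.two_le (Fact.out : p.Prime))
      rw [hm, pow_add, sq, hττ, zero_mul, add_zero]
    have hd : (1 + τ).det ^ p = (1 : F) ^ p := by rw [← Matrix.det_pow, hpow, Matrix.det_one, one_pow]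
    exact MonoidHom.mem_ker.2 (Units.ext (frobenius_inj F p hd))
  have hfix : ∀ l ∈ L, (g : Matrix (Fin n) (Fin n) F) * l * ((g⁻¹ : GL (Fin n) F) : Matrix (Fin n) (Fin n) F) = l := by
    intro l hl
    show (1 + τ) * l * (1 - τ) = l
    have hc : (1 + τ) * l = l * (1 + τ) := by rw [add_mul, mul_add, hcomm l hl, one_mul, mul_one]
    rw [hc, mul_assoc, show (1 + τ) * (1 - τ) = 1 from g.val_inv, mul_one]
  refine ⟨g, hgs, fun l => ⟨fun hl => by rw [hfix l hl]; exact hl, fun hl => ?_⟩, fun hN => hnot ((hN k).1 hk)⟩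
  · set m := (g : Matrix (Fin n) (Fin n) F) * l * ((g⁻¹ : GL (Fin n) F) : Matrix (Fin n) (Fin n) F) with hm
    have h1 : (1 + τ) * m = m * (1 + τ) := by rw [add_mul, mul_add, hcomm m hl, one_mul, mul_one]
    have h2 : l = (1 - τ) * m * (1 + τ) := by
      rw [hm]
      show l = (1 - τ) * ((1 + τ) * l * (1 - τ)) * (1 + τ)
      rw [← mul_assoc, ← mul_assoc, show (1 - τ) * (1 + τ) = 1 from g.inv_val, one_mul, mul_assoc,
        show (1 - τ) * (1 + τ) = 1 from g.inv_val, mul_one]
    rw [h2, mul_assoc, ← h1, ← mul_assoc, show (1 - τ) * (1 + τ) = 1 from g.inv_val, one_mul]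
    exact hl

/-- The subfield of order `q ^ s`. -/
theorem exists_subfield {r s : ℕ} {K : Subalgebra F (Matrix (Fin n) (Fin n) F)}
    (hK : Cfsg.Geo.IsFieldSubalgebra r K) (hs : s ∣ r) (hs0 : 0 < s) (hr0 : 0 < r) :
    ∃ L : Subalgebra F (Matrix (Fin n) (Fin n) F), Cfsg.Geo.IsFieldSubalgebra s L ∧ L ≤ K ∧
      Cfsg.Geo.subalgebraNormalizer K ≤ Cfsg.Geo.subalgebraNormalizer L := by
  classical
  set Q := Fintype.card F ^ s with hQ
  haveI : Nontrivial K := by
    refine Module.nontrivial_of_finrank_pos (R := F) ?_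
    rw [hK.finrank_eq]
    exact hr0
  letI : Field K := IsField.toField
    { exists_pair_ne := exists_pair_ne K
      mul_comm := fun a b => Subtype.ext (hK.comm a a.2 b b.2)
      mul_inv_cancel := fun {a} ha => by
        obtain ⟨y, hy, hay⟩ := hK.inv a a.2 (fun e => ha (Subtype.ext e))
        exact ⟨⟨y, hy⟩, Subtype.ext hay⟩ }
  haveI : Finite K := inferInstance
  letI : Fintype K := Fintype.ofFinite K
  obtain ⟨p, hp⟩ := CharP.exists F
  haveI := hp
  haveI := Fact.mk (CharP.char_is_prime F p)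
  obtain ⟨e, -, hcard⟩ := FiniteField.card F p
  haveI : CharP K p := charP_of_injective_algebraMap (algebraMap F K).injective p
  have hQp : Q = p ^ ((e : ℕ) * s) := by rw [hQ, hcard, pow_mul]
  have hadd : ∀ a b : K, (a + b) ^ Q = a ^ Q + b ^ Q := fun a b => by rw [hQp]; exact add_pow_char_pow a b p _
  have hscal : ∀ c : F, c ^ Q = c := fun c => FiniteField.pow_card_pow s c
  let L₀ : Subalgebra F K :=
    { carrier := {a | a ^ Q = a}
      mul_mem' := fun {a b} ha hb => by show (a * b) ^ Q = a * b; rw [mul_pow, ha, hb]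
      one_mem' := one_pow Q
      add_mem' := fun {a b} ha hb => by show (a + b) ^ Q = a + b; rw [hadd, ha, hb]
      zero_mem' := zero_pow (by rw [hQ]; positivity)
      algebraMap_mem' := fun c => by show algebraMap F K c ^ Q = _; rw [← map_pow, hscal] }
  refine ⟨L₀.map K.val, ?_, ?_, ?_⟩
  · refine ⟨?_, ?_, ?_⟩
    · rintro _ ⟨x, -, rfl⟩ _ ⟨y, -, rfl⟩
      exact hK.comm x x.2 y y.2
    · rintro _ ⟨x, hx, rfl⟩ hx0
      have hx0' : x ≠ 0 := fun h => hx0 (by rw [h, map_zero])
      refine ⟨K.val x⁻¹, ⟨x⁻¹, ?_, rfl⟩, ?_⟩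
      · show (x⁻¹) ^ Q = x⁻¹
        rw [inv_pow, show x ^ Q = x from hx]
      · exact congrArg Subtype.val (mul_inv_cancel₀ hx0')
    · rw [show finrank F (L₀.map K.val) = finrank F L₀ from
        (Subalgebra.equivMapOfInjective L₀ K.val Subtype.val_injective).toLinearEquiv.finrank_eq.symm]
      have hQ1 : 1 < Q := by rw [hQ]; exact Nat.one_lt_pow (by omega) Fintype.one_lt_card
      have hdvd : Q - 1 ∣ Nat.card Kˣ := by
        obtain ⟨t, rfl⟩ := hs
        rw [Nat.card_eq_fintype_card, Fintype.card_units, Module.card_eq_pow_finrank (K := F) (V := K),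
          hK.finrank_eq, pow_mul, ← hQ]
        exact Nat.sub_one_dvd_pow_sub_one Q t
      have hker : Nat.card (powMonoidHom (Q - 1) : Kˣ →* Kˣ).ker = Q - 1 := by
        rw [IsCyclic.card_powMonoidHom_ker, Nat.gcd_eq_right hdvd]
      have hL : Nat.card L₀ = Fintype.card F ^ s := by
        have e : L₀ ≃ Option (powMonoidHom (Q - 1) : Kˣ →* Kˣ).ker :=
          { toFun := fun a => if h : (a : K) = 0 then none else
              some ⟨Units.mk0 a h, by
                rw [MonoidHom.mem_ker, powMonoidHom_apply]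
                refine Units.ext (mul_left_cancel₀ h ?_)
                rw [Units.val_pow_eq_pow_val, Units.val_mk0, ← pow_succ', Units.val_one, mul_one,
                  Nat.sub_add_cancel hQ1.le]
                exact a.2⟩
            invFun := fun o => o.elim 0 fun u => ⟨((u : Kˣ) : K), by
              show ((u : Kˣ) : K) ^ Q = _
              calc ((u : Kˣ) : K) ^ Q = ((u : Kˣ) : K) ^ (Q - 1 + 1) :=
                    congrArg (((u : Kˣ) : K) ^ ·) (Nat.sub_add_cancel hQ1.le).symm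
                _ = _ := by
                  rw [pow_succ, ← Units.val_pow_eq_pow_val, show (u : Kˣ) ^ (Q - 1) = 1 by exact MonoidHom.mem_ker.1 u.2,
                    Units.val_one, one_mul]⟩
            left_inv := fun a => by
              by_cases h : (a : K) = 0
              · simp only [dif_pos h, Option.elim_none]; exact Subtype.ext h.symm
              · dsimp only; rw [dif_neg h]; exact Subtype.ext rfl
            right_inv := fun o => by
              rcases o with _ | u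
              · simp
              · simp }
        rw [Nat.card_congr e, Finite.card_option, hker, ← hQ]
        omega
      have := Module.card_eq_pow_finrank (K := F) (V := L₀)
      rw [← Nat.card_eq_fintype_card, hL] at this
      exact (Nat.pow_right_injective Fintype.one_lt_card this).symm
  · rintro _ ⟨x, -, rfl⟩; exact x.2
  · intro g hg
    have himp : ∀ h : GL (Fin n) F, h ∈ Cfsg.Geo.subalgebraNormalizer K → ∀ l ∈ L₀.map K.val,
        (h : Matrix (Fin n) (Fin n) F) * l * ((h⁻¹ : GL (Fin n) F) : Matrix (Fin n) (Fin n) F) ∈ L₀.map K.val := by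
      rintro h hh _ ⟨x, hx, rfl⟩
      refine ⟨⟨_, (hh x).1 x.2⟩, ?_, rfl⟩
      refine Subtype.ext ?_
      show ((h : Matrix (Fin n) (Fin n) F) * x * ((h⁻¹ : GL (Fin n) F) : Matrix (Fin n) (Fin n) F)) ^ Q = _
      rw [Units.conj_pow h (x : Matrix (Fin n) (Fin n) F) Q, show (x : Matrix (Fin n) (Fin n) F) ^ Q = x from congrArg Subtype.val hx]
    intro l
    refine ⟨himp g hg l, fun hl => ?_⟩
    have := himp g⁻¹ (inv_mem hg) _ hl
    simpa [mul_assoc, ← Units.val_mul] using this

end CfsgLib.Aschbacher
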