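import Cfsg.Agent.Lib.Aschbacher.SympMaximal
import Cfsg.Agent.Lib.Aschbacher.PlaneTensor

/-!
The eight dimensional symplectic group: the tensor product of a plane and a plus type four-space
lies in a tensor cube of planes, over three elements also in the normaliser of an extraspecial
group; neither kind of subgroup contains the symplectic group.
-/

set_option autoImplicit false

namespace CfsgLib.Aschbacher

open Matrix Module

open scoped Kronecker

variable {F : Type*} [Field F]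

section Proper

variable {m : ℕ}

theorem spGL_not_le_tensorWreathSubgroup {k t : ℕ} (hk : 2 ≤ k) (ht : 3 ≤ t)
    (e : (Fin m ⊕ Fin m) ≃ (Fin t → Fin k)) (P : GL (Fin m ⊕ Fin m) F) :
    ¬ Cfsg.spGL m F ≤ Cfsg.Geo.tensorWreathSubgroup k t e P := by
  classical
  intro hle
  let a₀ : Fin k := ⟨0, by omega⟩
  let a₁ : Fin k := ⟨1, by omega⟩
  have hne : ∀ x : Fin k, ∃ y, y ≠ x := fun x =>
    if h : x = a₀ then ⟨a₁, by simp [h, a₀, a₁, Fin.ext_iff]⟩ else ⟨a₀, Ne.symm h⟩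
  let k₀ : Fin t → Fin k := fun _ => a₀
  obtain ⟨φ, hφ0, ⟨q₁, hq₁⟩, hφ⟩ := frame_transvection e P k₀
  obtain ⟨X, hX, hent⟩ := hφ 1
  have h := hle hX
  rw [Cfsg.Geo.tensorWreathSubgroup, map_glReindex_conj] at h
  obtain ⟨Y, hY, hYX⟩ := h
  obtain rfl : Y = X := (frU e P).injective hYX
  obtain ⟨A, σ, rfl⟩ := exists_pure_perm hY
  have hE : ∀ p w : Fin t → Fin k,
      ((pureGL A * permGL k F σ : GL (Fin t → Fin k) F) :
        Matrix (Fin t → Fin k) (Fin t → Fin k) F) p w =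
      ∏ i, (A i : Matrix (Fin k) (Fin k) F) (p i) (w (σ.symm i)) := by
    intro p w
    show (pureMat (fun i => (A i : Matrix (Fin k) (Fin k) F)) * permMat k F σ) p w = _
    rw [Matrix.mul_apply, Finset.sum_eq_single (w ∘ σ.symm)]
    · simp [permMat, pureMat_apply, Function.comp_assoc]
    · intro v _ hv
      have : w ≠ v ∘ σ := fun h => hv (by simp [h, Function.comp_assoc])
      simp [permMat, this]
    · simp
  have hrow : ∀ p, p ≠ k₀ → ∀ w, ∏ i, (A i : Matrix (Fin k) (Fin k) F) (p i) (w (σ.symm i)) =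
      if p = w then 1 else 0 := fun p hp w => by
    rw [← hE, hent]; simp [hp]
  have hdiag : ∀ p, p ≠ k₀ → ∀ i, (A i : Matrix (Fin k) (Fin k) F) (p i) (p (σ.symm i)) ≠ 0 :=
    fun p hp i h => by
      have := hrow p hp p
      rw [if_pos rfl, Finset.prod_eq_zero (Finset.mem_univ i) h] at this
      exact zero_ne_one this
  have hoff : ∀ p, p ≠ k₀ → ∀ i b, b ≠ p (σ.symm i) →
      (A i : Matrix (Fin k) (Fin k) F) (p i) b = 0 := fun p hp i b hb => by
    have := hrow p hp (Function.update p (σ.symm i) b)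
    rw [if_neg (fun h => hb (by rw [congrFun h (σ.symm i), Function.update_self])),
      Finset.prod_eq_zero_iff] at this
    obtain ⟨l, -, hl⟩ := this
    by_cases hli : l = i
    · subst hli; rwa [Function.update_self] at hl
    · rw [Function.update_of_ne (fun h => hli (σ.symm.injective h))] at hl
      exact absurd hl (hdiag p hp l)
  -- a row away from the special one with two prescribed coordinates
  have hpick : ∀ i j : Fin t, ∀ a b : Fin k, (i = j → a = b) →
      ∃ p : Fin t → Fin k, p ≠ k₀ ∧ p i = a ∧ p j = b := by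
    intro i j a b hab
    obtain ⟨l, hli, hlj⟩ : ∃ l : Fin t, l ≠ i ∧ l ≠ j := by
      have : (Finset.univ \ {i, j} : Finset (Fin t)).Nonempty := by
        rw [← Finset.card_pos]
        have h1 := Finset.le_card_sdiff ({i, j} : Finset (Fin t)) Finset.univ
        have h2 := Finset.card_le_two (a := i) (b := j)
        rw [Finset.card_univ, Fintype.card_fin] at h1
        omega
      obtain ⟨l, hl⟩ := this
      simp only [Finset.mem_sdiff, Finset.mem_insert, Finset.mem_singleton, not_or] at hl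
      exact ⟨l, hl.2⟩
    obtain ⟨c, hc⟩ := hne a₀
    refine ⟨fun x => if x = i then a else if x = j then b else c, fun h => hc ?_, if_pos rfl, ?_⟩
    · have := congrFun h l
      simpa [hli, hlj, k₀] using this
    · show (if j = i then a else if j = j then b else c) = b
      by_cases hji : j = i
      · rw [if_pos hji]; exact hab hji.symm
      · rw [if_neg hji, if_pos rfl]
  have hσ : ∀ i, σ.symm i = i := by
    intro i
    by_contra hc
    obtain ⟨b, hb⟩ := hne a₀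
    obtain ⟨p, hp, hpi, hpj⟩ := hpick i (σ.symm i) a₀ a₀ (fun _ => rfl)
    obtain ⟨p', hp', hpi', hpj'⟩ := hpick i (σ.symm i) a₀ b (fun h => absurd h.symm hc)
    have h1 := hdiag p hp i
    rw [hpi, hpj] at h1
    refine h1 ?_
    have h2 := hoff p' hp' i a₀ (by rw [hpj']; exact hb.symm)
    rwa [hpi'] at h2
  have hq : q₁ ≠ k₀ := fun h => hq₁ (h ▸ hφ0)
  have h1 := hent k₀ q₁
  rw [hE, if_neg hq.symm, if_pos rfl, one_mul, zero_add] at h1
  obtain ⟨i, hi⟩ := Function.ne_iff.1 hq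
  obtain ⟨p, hp, hpi, -⟩ := hpick i i a₀ a₀ (fun _ => rfl)
  have h2 := hoff p hp i (q₁ i) (by rw [hσ, hpi]; exact hi)
  rw [hpi] at h2
  exact hq₁ (h1.symm.trans (Finset.prod_eq_zero (Finset.mem_univ i) (by rw [hσ]; exact h2)))

theorem spGL_not_le_subgroupNormalizer (hm : 3 ≤ m) {r : ℕ} [Fact r.Prime] [Finite F]
    {R : Subgroup (GL (Fin m ⊕ Fin m) F)} (hR : IsPGroup r R) (habs : AbsIrr R) :
    ¬ Cfsg.spGL m F ≤ Cfsg.Geo.subgroupNormalizer R := by
  classical
  intro hle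
  have : Nonempty (Fin m ⊕ Fin m) := ⟨Sum.inl ⟨0, by omega⟩⟩
  have hcen : ∀ z : R, z ∈ Subgroup.center R → (z : GL (Fin m ⊕ Fin m) F) ∈ Cfsg.Geo.scalars _ F :=
    fun z hz => habs.mem_scalars fun a ha =>
      (congrArg Subtype.val (Subgroup.mem_center_iff.1 hz ⟨a, ha⟩)).symm
  have hnt : ¬ ∀ x : R, x ∈ Subgroup.center R := fun h =>
    not_le_scalars_of_irr (by simp; omega) habs.1 fun x hx => hcen ⟨x, hx⟩ (h ⟨x, hx⟩)
  -- a non-central element of the second centre
  obtain ⟨x, hx, hxc⟩ : ∃ x : R, (∀ z : R, x * z * x⁻¹ * z⁻¹ ∈ Subgroup.center R) ∧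
      x ∉ Subgroup.center R := by
    have : Nontrivial (R ⧸ Subgroup.center R) := by
      push Not at hnt
      obtain ⟨x, hx⟩ := hnt
      exact ⟨⟨QuotientGroup.mk x, 1, fun h => hx ((QuotientGroup.eq_one_iff x).1 h)⟩⟩
    have := (hR.to_quotient (Subgroup.center R)).center_nontrivial
    obtain ⟨⟨xb, hxb⟩, hne⟩ := exists_ne (1 : Subgroup.center (R ⧸ Subgroup.center R))
    obtain ⟨x, rfl⟩ := QuotientGroup.mk_surjective xb
    refine ⟨x, fun z => ?_, fun h => hne (Subtype.ext ((QuotientGroup.eq_one_iff x).2 h))⟩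
    rw [← QuotientGroup.eq_one_iff]
    have h := Subgroup.mem_center_iff.1 hxb (QuotientGroup.mk z)
    simp only [QuotientGroup.mk_mul, QuotientGroup.mk_inv]
    rw [← h]
    group
  obtain ⟨xg, hxg⟩ : ∃ g : GL (Fin m ⊕ Fin m) F, (x : GL (Fin m ⊕ Fin m) F) = g := ⟨_, rfl⟩
  have hxs : ∀ z ∈ R, ∃ c : Fˣ, xg * z = scalarGL _ c * (z * xg) := by
    intro z hz
    obtain ⟨c, hc⟩ := mem_scalars.1 (hcen _ (hx ⟨z, hz⟩))
    exact ⟨c, by rw [← hc, ← hxg]; simp only [Subgroup.coe_mul, Subgroup.coe_inv]; group⟩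
  refine hxc (Subgroup.mem_center_iff.2 fun w => Subtype.ext ?_)
  suffices hs : xg ∈ Cfsg.Geo.scalars _ F from
    (by
      rw [Subgroup.coe_mul, Subgroup.coe_mul, hxg]; exact (scalars_comm hs (w : GL (Fin m ⊕ Fin m) F)).symm)
  -- `xg` commutes with all transvections
  have hcomm : ∀ v, sT v (1 : F) * xg = xg * sT v (1 : F) := by
    intro v
    obtain ⟨g, hg⟩ : ∃ g, sT v (1 : F) = g := ⟨_, rfl⟩
    have hgn : g ∈ Cfsg.Geo.subgroupNormalizer R := hg ▸ hle (sT_mem v 1)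
    have hgn' := Subgroup.mem_normalizer_iff.1 hgn
    let φ : R → R := fun z => ⟨g * z * g⁻¹, (hgn' _).1 z.2⟩
    obtain ⟨y, hy⟩ : ∃ y : R, φ x * x⁻¹ = y := ⟨_, rfl⟩
    have hyv : (y : GL (Fin m ⊕ Fin m) F) = g * xg * g⁻¹ * xg⁻¹ := by rw [← hy, ← hxg]; rfl
    have hyc : ∀ z ∈ R, ∃ c : Fˣ, (y : GL (Fin m ⊕ Fin m) F) * z = scalarGL _ c * (z * (y : GL (Fin m ⊕ Fin m) F)) := by
      intro z hz
      have hz' : g⁻¹ * z * g ∈ R := by
        rw [hgn', show g * (g⁻¹ * z * g) * g⁻¹ = z by group]; exact hz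
      obtain ⟨c, hc⟩ := hxs z hz
      obtain ⟨d, hd⟩ := hxs _ hz'
      have hd' : g * xg * g⁻¹ * z = scalarGL _ d * (z * (g * xg * g⁻¹)) := by
        calc g * xg * g⁻¹ * z = g * (xg * (g⁻¹ * z * g)) * g⁻¹ := by group
          _ = (g * scalarGL _ d) * g⁻¹ * z * (g * xg * g⁻¹) := by rw [hd]; group
          _ = _ := by rw [← scalarGL_comm]; group
      have hc' : xg⁻¹ * z = scalarGL _ c⁻¹ * (z * xg⁻¹) := by
        obtain ⟨s, hs⟩ : ∃ s, scalarGL (Fin m ⊕ Fin m) c = s := ⟨_, rfl⟩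
        rw [hs] at hc
        have hs' : ∀ u, u * s⁻¹ = s⁻¹ * u := fun u => by
          rw [← hs, ← scalarGL_inv]; exact (scalarGL_comm _ u).symm
        have e1 : z * xg = s⁻¹ * (xg * z) := by rw [hc]; group
        calc xg⁻¹ * z = xg⁻¹ * (z * xg) * xg⁻¹ := by group
          _ = (xg⁻¹ * s⁻¹) * xg * z * xg⁻¹ := by rw [e1]; group
          _ = _ := by rw [hs', scalarGL_inv, hs]; group
      refine ⟨d * c⁻¹, ?_⟩
      rw [hyv]
      calc g * xg * g⁻¹ * xg⁻¹ * z
          = g * xg * g⁻¹ * (xg⁻¹ * z) := by group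
        _ = (g * xg * g⁻¹ * scalarGL _ c⁻¹) * (z * xg⁻¹) := by rw [hc']; group
        _ = scalarGL _ c⁻¹ * (g * xg * g⁻¹ * z) * xg⁻¹ := by
          rw [← scalarGL_comm]; group
        _ = scalarGL _ (d * c⁻¹) * (z * (g * xg * g⁻¹ * xg⁻¹)) := by
          rw [hd', mul_comm d, scalarGL_mul]; group
    -- `y` fixes a subspace of codimension two
    obtain ⟨u, hu⟩ : ∃ u, (xg : Matrix (Fin m ⊕ Fin m) (Fin m ⊕ Fin m) F) *ᵥ v = u :=
      ⟨_, rfl⟩
    let L := (sympDual v).prod ((sympDual v).comp (Matrix.toLin'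
      ((xg⁻¹ : GL (Fin m ⊕ Fin m) F) : Matrix (Fin m ⊕ Fin m) (Fin m ⊕ Fin m) F)))
    have hker : ∀ w ∈ LinearMap.ker L,
        ((y : GL (Fin m ⊕ Fin m) F) : Matrix (Fin m ⊕ Fin m) (Fin m ⊕ Fin m) F) *ᵥ w = w := by
      intro w hw
      simp only [L, LinearMap.mem_ker, LinearMap.prod_apply, Function.prod_apply, Prod.mk_eq_zero,
        LinearMap.comp_apply, Matrix.toLin'_apply] at hw
      obtain ⟨hw1, hw2⟩ := hw
      change Cfsg.sympForm m F _ v = 0 at hw1 hw2
      have hfix : ∀ z, Cfsg.sympForm m F z v = 0 →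
          (g : Matrix (Fin m ⊕ Fin m) (Fin m ⊕ Fin m) F) *ᵥ z = z := fun z hz => by
        rw [← hg, sT_mulVec, hz, mul_zero, zero_smul, add_zero]
      rw [hyv]
      simp only [mul_mulVec]
      have h1 : ∀ z, Cfsg.sympForm m F z v = 0 →
          ((g⁻¹ : GL (Fin m ⊕ Fin m) F) : Matrix (Fin m ⊕ Fin m) (Fin m ⊕ Fin m) F) *ᵥ z = z :=
        fun z hz => by
          conv_lhs => rw [← hfix z hz]
          exact inv_mulVec_cancel g z
      rw [h1 _ hw2, mulVec_inv_cancel, hfix _ hw1]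
    have hdim : 2 * m - 2 ≤ finrank F (LinearMap.ker L) := by
      have h1 := L.finrank_range_add_finrank_ker
      have h2 := Submodule.finrank_le (LinearMap.range L)
      rw [Module.finrank_fintype_fun_eq_card] at h1
      simp only [finrank_prod, finrank_self, Fintype.card_sum, Fintype.card_fin] at h1 h2
      omega
    have hys : ∀ z ∈ R, (y : GL (Fin m ⊕ Fin m) F) * z = z * (y : GL (Fin m ⊕ Fin m) F) := by
      intro z hz
      obtain ⟨c, hc⟩ := hyc z hz
      suffices c = 1 by rw [hc, this, scalarGL_one, one_mul]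
      by_contra hc1
      have hdis : LinearMap.ker L ⊓ (LinearMap.ker L).map (Matrix.toLin' (z : Matrix (Fin m ⊕ Fin m) (Fin m ⊕ Fin m) F)) = ⊥ := by
        rw [eq_bot_iff]
        rintro w ⟨hw, w', hw', hww⟩
        rw [Matrix.toLin'_apply] at hww
        have h1 := congrArg (fun M : GL (Fin m ⊕ Fin m) F =>
          (M : Matrix (Fin m ⊕ Fin m) (Fin m ⊕ Fin m) F) *ᵥ w') hc
        simp only [mul_mulVec, scalarGL_mulVec, hker w' hw', hww, hker w hw] at h1
        rw [Submodule.mem_bot]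
        exact (smul_eq_zero.1 (show ((c : F) - 1) • w = 0 by
          rw [sub_smul, one_smul, ← h1, sub_self])).resolve_left
            (sub_ne_zero.2 fun h => hc1 (Units.ext h))
      have h1 := Submodule.finrank_sup_add_finrank_inf_eq (LinearMap.ker L)
        ((LinearMap.ker L).map (Matrix.toLin' (z : Matrix (Fin m ⊕ Fin m) (Fin m ⊕ Fin m) F)))
      have h2 := Submodule.finrank_le (LinearMap.ker L ⊔
        (LinearMap.ker L).map (Matrix.toLin' (z : Matrix (Fin m ⊕ Fin m) (Fin m ⊕ Fin m) F)))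
      rw [hdis, finrank_bot, ← LinearEquiv.finrank_eq (Submodule.equivMapOfInjective _
        (show Function.Injective (Matrix.toLin' (z : Matrix (Fin m ⊕ Fin m) (Fin m ⊕ Fin m) F)) from
          fun a b h => mulVec_injective z (by simpa using h)) _)] at h1
      rw [Module.finrank_fintype_fun_eq_card] at h2
      simp only [Fintype.card_sum, Fintype.card_fin] at h2
      omega
    obtain ⟨c, hc⟩ := mem_scalars.1 (habs.mem_scalars hys)
    obtain ⟨w, hw, hw0⟩ := Submodule.exists_mem_ne_zero_of_ne_bot (show LinearMap.ker L ≠ ⊥ from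
      fun h => by rw [h, finrank_bot] at hdim; omega)
    have hy1 : (y : GL (Fin m ⊕ Fin m) F) = 1 := by
      have h := hker w hw
      rw [hc, scalarGL_mulVec] at h
      rw [hc, show c = 1 from Units.ext (sub_eq_zero.1 ((smul_eq_zero.1
        (show ((c : F) - 1) • w = 0 by rw [sub_smul, one_smul, h, sub_self])).resolve_right hw0)),
        scalarGL_one]
    have h : g * xg * g⁻¹ * xg⁻¹ = 1 := by
      rw [← hyv, hy1]
    rw [hg]
    calc g * xg = (g * xg * g⁻¹ * xg⁻¹) * xg * g := by group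
      _ = xg * g := by rw [h, one_mul]
  -- so `xg` keeps all lines
  have hline : ∀ v, ∃ c : F, (xg : Matrix (Fin m ⊕ Fin m) (Fin m ⊕ Fin m) F) *ᵥ v = c • v := by
    intro v
    by_cases hv : v = 0
    · exact ⟨0, by rw [hv, Matrix.mulVec_zero, smul_zero]⟩
    obtain ⟨z, hz⟩ : ∃ z, Cfsg.sympForm m F z v ≠ 0 :=
      ((isRefl_sympForm (F := F) m).nondeg v hv).1
    have h := congrArg (fun M : GL (Fin m ⊕ Fin m) F =>
      (M : Matrix (Fin m ⊕ Fin m) (Fin m ⊕ Fin m) F) *ᵥ z) (hcomm v)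
    simp only [mul_mulVec, sT_mulVec, Matrix.mulVec_add, Matrix.mulVec_smul, one_mul,
      add_right_inj] at h
    exact ⟨(Cfsg.sympForm m F z v)⁻¹ * _, by rw [← smul_smul, h, smul_smul, inv_mul_cancel₀ hz, one_smul]⟩
  refine habs.mem_scalars fun a ha => ?_
  obtain ⟨c, hc⟩ : ∃ c : F, ∀ v, (xg : Matrix (Fin m ⊕ Fin m) (Fin m ⊕ Fin m) F) *ᵥ v = c • v := by
    choose c hc using hline
    let T := Matrix.toLin' (xg : Matrix (Fin m ⊕ Fin m) (Fin m ⊕ Fin m) F)
    obtain ⟨d, hd⟩ := LinearMap.exists_eq_smul_id_of_forall_notLinearIndependent (f := T) fun v => by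
      rw [LinearIndependent.pair_iff]
      push Not
      exact ⟨c v, -1, by simp [T, hc v], fun _ => by simp⟩
    exact ⟨d, fun v => by simpa [T] using LinearMap.congr_fun hd v⟩
  refine Units.ext (Matrix.toLin'.injective (LinearMap.ext fun v => ?_))
  simp only [Matrix.toLin'_apply, mul_mulVec, hc, Matrix.mulVec_smul]

end Proper

variable {ι : Type} [Fintype ι] [DecidableEq ι]

lemma frAlg_trans {κ κ' : Type} [Fintype κ] [DecidableEq κ] [Fintype κ'] [DecidableEq κ']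
    (e : ι ≃ κ) (π : κ ≃ κ') (P : GL ι F) (X : Matrix κ' κ' F) :
    frAlg (e.trans π) P X = frAlg e P (X.submatrix π π) := by
  rw [frAlg_apply, frAlg_apply, Matrix.submatrix_submatrix]; rfl

lemma pullForm_trans {κ κ' : Type} (e : ι ≃ κ) (π : κ ≃ κ') (P : GL ι F)
    (f : (ι → F) → (ι → F) → F) (x y : κ' → F) :
    pullForm (e.trans π) P f x y = pullForm e P f (x ∘ π) (y ∘ π) := rfl

lemma formOfGram_comp_equiv {κ κ' : Type} [Fintype κ] [Fintype κ'] (π : κ ≃ κ')
    (G : Matrix κ κ F) (x y : κ' → F) :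
    Cfsg.Geo.formOfGram id G (x ∘ π) (y ∘ π) =
      Cfsg.Geo.formOfGram id (G.submatrix π.symm π.symm) x y := by
  simp only [Cfsg.Geo.formOfGram]
  rw [← π.symm.sum_comp]
  refine Finset.sum_congr rfl fun a _ => ?_
  rw [← π.symm.sum_comp]
  refine Finset.sum_congr rfl fun b _ => ?_
  simp

lemma sim_of_pull {κ : Type} [Fintype κ] [DecidableEq κ] {f : (ι → F) → (ι → F) → F}
    {e : ι ≃ κ} {P : GL ι F} {G X : Matrix κ κ F} {c : F} (hc : c ≠ 0)
    (hpull : ∀ x y, pullForm e P f x y = c * Cfsg.Geo.formOfGram id G x y) {g : GL ι F}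
    (hgX : (g : Matrix ι ι F) = frAlg e P X)
    (hg : ∀ u v, f ((g : Matrix ι ι F) *ᵥ u) ((g : Matrix ι ι F) *ᵥ v) = f u v) :
    Xᵀ * G * X = G := by
  have h : ∀ x y, x ⬝ᵥ ((Xᵀ * G * X) *ᵥ y) = x ⬝ᵥ (G *ᵥ y) := by
    intro x y
    have h1 := pullForm_isometry e P hgX hg x y
    rw [hpull, hpull, formOfGram_eq, formOfGram_eq, Function.id_comp, Function.id_comp] at h1
    rw [← mul_left_cancel₀ hc h1, ← Matrix.mulVec_mulVec, ← Matrix.mulVec_mulVec,
      Matrix.dotProduct_mulVec x Xᵀ, Matrix.vecMul_transpose]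
  ext a b
  simpa using h (Pi.single a 1) (Pi.single b 1)

/-- A plane and a four-space as three planes. -/
def threePlanes : Fin 2 × (Fin 2 × Fin 2) ≃ (Fin 3 → Fin 2) where
  toFun x := ![x.1, x.2.1, x.2.2]
  invFun z := (z 0, (z 1, z 2))
  left_inv x := by simp
  right_inv z := by funext i; fin_cases i <;> rfl

/-- A plane tensor a plus type four-space lies in a tensor cube of planes. -/
theorem plus_tensor_wreath (h2 : (2 : F) ≠ 0) {f : (ι → F) → (ι → F) → F}
    {e : ι ≃ Fin 2 × Fin 4} {P : GL ι F} {f₁ : (Fin 2 → F) → (Fin 2 → F) → F}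
    {f₂ : (Fin 4 → F) → (Fin 4 → F) → F} (hf₁ : Cfsg.Geo.IsSymplecticForm f₁)
    (hf₂ : Cfsg.Geo.IsSymmetricForm f₂)
    (hplus : Cfsg.Geo.IsPlusTypeOn (fun v : Fin 4 → F => f₂ v v) ⊤)
    (hT : Cfsg.Geo.IsTensorFormStructure id f f₁ f₂ e P) {H : Subgroup (GL ι F)}
    (hH : Cfsg.Geo.FixesForm (Cfsg.Geo.matrixSet H) f)
    (hle : H ≤ Cfsg.Geo.tensorProductSubgroup 2 4 e P) :
    ∃ (e' : ι ≃ (Fin 3 → Fin 2)) (P' : GL ι F) (c : F), c ≠ 0 ∧
      (∀ x y, pullForm e' P' f x y =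
        c * Cfsg.Geo.formOfGram id (pureMat fun _ => omega2 F) x y) ∧
      H ≤ Cfsg.Geo.tensorWreathSubgroup 2 3 e' P' := by
  classical
  obtain ⟨c, hc, hT⟩ := hT
  have hs₁ : IsSesq (RingEquiv.refl F) f₁ := isSesq_of_bilinear hf₁.bilinear
  have hs₂ : IsSesq (RingEquiv.refl F) f₂ := isSesq_of_bilinear hf₂.bilinear
  obtain ⟨l, hl⟩ : ∃ l, f₁ (Pi.single 0 1) (Pi.single 1 1) = l := ⟨_, rfl⟩
  have hG₁ : Cfsg.Geo.gramMatrix f₁ = l • omega2 F := by
    have h10 : f₁ (Pi.single 1 1) (Pi.single 0 1) = -l := by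
      have h := hf₁.alternating (Pi.single 0 1 + Pi.single 1 1)
      rw [hf₁.bilinear.add_left, hf₁.bilinear.add_right, hf₁.bilinear.add_right, hl,
        hf₁.alternating, hf₁.alternating] at h
      linear_combination h
    ext i j
    show f₁ (Pi.single i 1) (Pi.single j 1) = _
    fin_cases i <;> fin_cases j <;> simp [omega2, hl, h10, hf₁.alternating]
  have hl0 : l ≠ 0 := fun h0 => by
    have h := hs₁.gram_isUnit hf₁.nondegenerate
    rw [hG₁, h0, zero_smul] at h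
    exact h.ne_zero rfl
  let fp : Fin 4 ≃ Fin 2 × Fin 2 := (finProdFinEquiv (m := 2) (n := 2)).symm
  obtain ⟨G, hG⟩ : ∃ G, (Cfsg.Geo.gramMatrix f₂).submatrix fp.symm fp.symm = G := ⟨_, rfl⟩
  have hGu : IsUnit G := hG ▸ (Matrix.isUnit_submatrix_equiv fp.symm fp.symm).2
    (hs₂.gram_isUnit hf₂.nondegenerate)
  have hGs : Gᵀ = G := by
    rw [← hG]; ext i j; exact hf₂.symm _ _
  obtain ⟨U, -, hUts, hU2⟩ := hplus
  obtain ⟨C, hC⟩ := exists_planePair_congr h2 hGu hGs
    (U := U.map (LinearEquiv.funCongrLeft F F fp.symm).toLinearMap) (by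
      rw [LinearEquiv.finrank_map_eq]
      rw [finrank_top, Module.finrank_fin_fun] at hU2
      omega) (by
      rintro _ ⟨u, hu, rfl⟩
      show (u ∘ fp.symm) ⬝ᵥ (G *ᵥ (u ∘ fp.symm)) = 0
      have h : f₂ u u = 0 := hUts u hu
      rw [hs₂.eq_formOfGram u u] at h
      have h' := formOfGram_comp_equiv fp (Cfsg.Geo.gramMatrix f₂) (u ∘ fp.symm) (u ∘ fp.symm)
      rw [Function.comp_assoc, Equiv.symm_comp_self, Function.comp_id, hG, formOfGram_eq,
        formOfGram_eq] at h'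
      rw [formOfGram_eq] at h
      exact h'.symm.trans h)
  let e₁ : ι ≃ Fin 2 × (Fin 2 × Fin 2) := e.trans (Equiv.prodCongr (Equiv.refl _) fp)
  have hpull₁ : ∀ x y, pullForm e₁ P f x y =
      (c * l) * Cfsg.Geo.formOfGram id (omega2 F ⊗ₖ G) x y := by
    intro x y
    rw [pullForm_trans]
    refine (hT _ _).trans ?_
    rw [hG₁, formOfGram_comp_equiv, formOfGram_eq, formOfGram_eq, mul_assoc, ← smul_eq_mul l,
      ← dotProduct_smul, ← Matrix.smul_mulVec]
    congr 3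
    rw [← hG]
    ext p r
    simp [mul_assoc]
  have hCu : (C : Matrix (Fin 2 × Fin 2) (Fin 2 × Fin 2) F).det ≠ 0 := C.det_ne_zero
  have hdet : ((1 : Matrix (Fin 2) (Fin 2) F) ⊗ₖ
      (C : Matrix (Fin 2 × Fin 2) (Fin 2 × Fin 2) F)).det ≠ 0 := by
    rw [Matrix.det_kronecker, Matrix.det_one, one_pow, one_mul]
    exact pow_ne_zero _ hCu
  obtain ⟨X, hX⟩ : ∃ X : GL (Fin 2 × (Fin 2 × Fin 2)) F,
      (X : Matrix (Fin 2 × (Fin 2 × Fin 2)) (Fin 2 × (Fin 2 × Fin 2)) F) =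
        (1 : Matrix (Fin 2) (Fin 2) F) ⊗ₖ (C : Matrix (Fin 2 × Fin 2) (Fin 2 × Fin 2) F) :=
    ⟨Matrix.GeneralLinearGroup.mkOfDetNeZero _ hdet, rfl⟩
  obtain ⟨P', hP'⟩ : ∃ P', frU e₁ P X * P = P' := ⟨_, rfl⟩
  refine ⟨e₁.trans threePlanes, P', c * l, mul_ne_zero hc hl0, fun x y => ?_, fun g hg => ?_⟩
  · rw [pullForm_trans, ← hP', pullForm_frame_change, hpull₁, hX]
    congr 1
    rw [formOfGram_eq, formOfGram_eq, Function.id_comp, Function.id_comp, Matrix.mulVec_mulVec,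
      ← Matrix.vecMul_transpose, ← Matrix.dotProduct_mulVec, Matrix.mulVec_mulVec,
      ← Matrix.kroneckerMap_transpose, Matrix.transpose_one, ← Matrix.mul_kronecker_mul,
      ← Matrix.mul_kronecker_mul, one_mul, mul_one, ← mul_assoc, hC]
    have h := formOfGram_comp_equiv threePlanes (omega2 F ⊗ₖ planePair F) x y
    rw [formOfGram_eq, formOfGram_eq, Function.id_comp, Function.id_comp] at h
    refine h.trans ?_
    congr 2
    ext p r
    simp [pureMat_apply, Fin.prod_univ_three, planePair, threePlanes]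
    ring
  have h := hle hg
  rw [Cfsg.Geo.tensorProductSubgroup, map_glReindex_conj] at h
  obtain ⟨y, ⟨a, d, hy⟩, rfl⟩ := h
  obtain ⟨d', hd'⟩ : ∃ d', (d : Matrix (Fin 4) (Fin 4) F).submatrix fp.symm fp.symm = d' := ⟨_, rfl⟩
  have hgY : ((frU e P y : GL ι F) : Matrix ι ι F) =
      frAlg e₁ P ((a : Matrix (Fin 2) (Fin 2) F) ⊗ₖ d') := by
    rw [frU_val, frAlg_trans, hy, ← hd']
    congr 1
    ext p r
    simp
  have hsim := sim_of_pull (mul_ne_zero hc hl0) hpull₁ hgY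
    (fun u v => hH _ ⟨_, hg, rfl⟩ u v)
  rw [← Matrix.kroneckerMap_transpose, ← Matrix.mul_kronecker_mul, ← Matrix.mul_kronecker_mul,
    omega2_sim] at hsim
  have hda : (a : Matrix (Fin 2) (Fin 2) F).det ≠ 0 := a.det_ne_zero
  have hdG : d'ᵀ * G * d' = (a : Matrix (Fin 2) (Fin 2) F).det⁻¹ • G := by
    ext i j
    have h := congrFun (congrFun hsim (0, i)) (1, j)
    simp [omega2] at h
    rw [Matrix.smul_apply, smul_eq_mul, ← h]
    field_simp
  obtain ⟨d'', hd''⟩ : ∃ d'', ((C⁻¹ : GL (Fin 2 × Fin 2) F) : Matrix (Fin 2 × Fin 2) (Fin 2 × Fin 2) F) *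
      d' * (C : Matrix (Fin 2 × Fin 2) (Fin 2 × Fin 2) F) = d'' := ⟨_, rfl⟩
  have hdP : d''ᵀ * planePair F * d'' = (a : Matrix (Fin 2) (Fin 2) F).det⁻¹ • planePair F := by
    have e : (C : Matrix (Fin 2 × Fin 2) (Fin 2 × Fin 2) F) * d'' =
        d' * (C : Matrix (Fin 2 × Fin 2) (Fin 2 × Fin 2) F) := by
      rw [← hd'', ← mul_assoc, ← mul_assoc, Units.mul_inv, one_mul]
    calc d''ᵀ * planePair F * d''
        = ((C : Matrix (Fin 2 × Fin 2) (Fin 2 × Fin 2) F) * d'')ᵀ * G *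
          ((C : Matrix (Fin 2 × Fin 2) (Fin 2 × Fin 2) F) * d'') := by
          rw [← hC, Matrix.transpose_mul]; simp only [mul_assoc]
      _ = (C : Matrix (Fin 2 × Fin 2) (Fin 2 × Fin 2) F)ᵀ * (d'ᵀ * G * d') *
          (C : Matrix (Fin 2 × Fin 2) (Fin 2 × Fin 2) F) := by
          rw [e, Matrix.transpose_mul]; simp only [mul_assoc]
      _ = _ := by rw [hdG, Matrix.mul_smul, Matrix.smul_mul, hC]
  obtain ⟨u, v, huv⟩ := similitude_decompose h2 (inv_ne_zero hda) hdP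
  rw [Cfsg.Geo.tensorWreathSubgroup, map_glReindex_conj]
  rw [MulEquiv.coe_toMonoidHom]
  -- the element in the new frame
  have hgZ : ∀ Z : Matrix (Fin 3 → Fin 2) (Fin 3 → Fin 2) F,
      Z.submatrix threePlanes threePlanes = (a : Matrix (Fin 2) (Fin 2) F) ⊗ₖ d'' →
      frAlg (e₁.trans threePlanes) P' Z = ((frU e P y : GL ι F) : Matrix ι ι F) := by
    intro Z hZ
    rw [frAlg_trans, hZ, hgY]
    have hx : ((frU e₁ P X : GL ι F) : Matrix ι ι F) = frAlg e₁ P _ := frU_val e₁ P X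
    rw [← hP', frAlg_apply]
    have hXi : ((X⁻¹ : GL (Fin 2 × (Fin 2 × Fin 2)) F) : Matrix _ _ F) =
        (1 : Matrix (Fin 2) (Fin 2) F) ⊗ₖ
          ((C⁻¹ : GL (Fin 2 × Fin 2) F) : Matrix (Fin 2 × Fin 2) (Fin 2 × Fin 2) F) := by
      refine Units.inv_eq_of_mul_eq_one_right ?_
      rw [hX, ← Matrix.mul_kronecker_mul, one_mul, Units.mul_inv, Matrix.one_kronecker_one]
    rw [_root_.mul_inv_rev, ← map_inv, Units.val_mul, Units.val_mul, frU_val, frU_val, hX, hXi]
    rw [show frAlg e₁ P ((1 : Matrix (Fin 2) (Fin 2) F) ⊗ₖ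
        (C : Matrix (Fin 2 × Fin 2) (Fin 2 × Fin 2) F)) * (P : Matrix ι ι F) *
        ((a : Matrix (Fin 2) (Fin 2) F) ⊗ₖ d'').submatrix e₁ e₁ *
        (((P⁻¹ : GL ι F) : Matrix ι ι F) * frAlg e₁ P ((1 : Matrix (Fin 2) (Fin 2) F) ⊗ₖ
        ((C⁻¹ : GL (Fin 2 × Fin 2) F) : Matrix (Fin 2 × Fin 2) (Fin 2 × Fin 2) F))) =
      frAlg e₁ P ((1 : Matrix (Fin 2) (Fin 2) F) ⊗ₖ (C : Matrix (Fin 2 × Fin 2) (Fin 2 × Fin 2) F)) *
        frAlg e₁ P ((a : Matrix (Fin 2) (Fin 2) F) ⊗ₖ d'') *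
        frAlg e₁ P ((1 : Matrix (Fin 2) (Fin 2) F) ⊗ₖ
          ((C⁻¹ : GL (Fin 2 × Fin 2) F) : Matrix (Fin 2 × Fin 2) (Fin 2 × Fin 2) F)) from by
        rw [frAlg_apply e₁ P ((a : Matrix (Fin 2) (Fin 2) F) ⊗ₖ d'')]
        simp only [mul_assoc],
      ← map_mul, ← map_mul, ← Matrix.mul_kronecker_mul, ← Matrix.mul_kronecker_mul, one_mul, mul_one,
      ← hd'', ← mul_assoc, ← mul_assoc, Units.mul_inv, one_mul, mul_assoc d', Units.mul_inv, mul_one]
  rcases huv with huv | huv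
  · refine ⟨pureGL ![a, u, v], Subgroup.subset_closure (Or.inl (isPureTensor_pureGL _)),
      Units.ext ?_⟩
    rw [MulEquiv.coe_toMonoidHom, frU_val]
    refine hgZ _ ?_
    ext p r
    show pureMat (fun i => ((![a, u, v] i : GL (Fin 2) F) : Matrix (Fin 2) (Fin 2) F))
      (threePlanes p) (threePlanes r) = _
    simp [pureMat_apply, Fin.prod_univ_three, threePlanes, huv, mul_assoc]
  · refine ⟨pureGL ![a, u, v] * permGL 2 F (Equiv.swap 1 2),
      Subgroup.mul_mem _ (Subgroup.subset_closure (Or.inl (isPureTensor_pureGL _)))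
        (Subgroup.subset_closure (Or.inr (isFactorPermutation_permGL _))), Units.ext ?_⟩
    rw [MulEquiv.coe_toMonoidHom, frU_val]
    refine hgZ _ ?_
    ext p r
    show (pureMat (fun i => ((![a, u, v] i : GL (Fin 2) F) : Matrix (Fin 2) (Fin 2) F)) *
      permMat 2 F (Equiv.swap 1 2) : Matrix (Fin 3 → Fin 2) (Fin 3 → Fin 2) F) (threePlanes p) (threePlanes r) = _
    have hsw : (Equiv.swap (1 : Fin 3) 2 : Fin 3 → Fin 3) ∘ Equiv.swap 1 2 = id := funext fun i => by simp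
    rw [Matrix.mul_apply, Finset.sum_eq_single (threePlanes r ∘ Equiv.swap 1 2)]
    · rw [show permMat 2 F (Equiv.swap 1 2) (threePlanes r ∘ Equiv.swap 1 2) (threePlanes r) = 1 by
        simp [permMat, Function.comp_assoc, hsw], mul_one]
      simp [pureMat_apply, Fin.prod_univ_three, threePlanes, huv, mul_assoc,
        Equiv.swap_apply_def]
    · intro w _ hw
      have : threePlanes r ≠ w ∘ Equiv.swap (1 : Fin 3) 2 := fun h => hw (by
        rw [h, Function.comp_assoc, hsw, Function.comp_id])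
      simp [permMat, this]
    · simp

section Three

/-- The quaternion set inside the two by two matrices. -/
def IsQ (a : Matrix (Fin 2) (Fin 2) F) : Prop := a.det = 1 ∧ (a * a = 1 ∨ a * a = -1)

set_option synthInstance.maxSize 4000 in
set_option synthInstance.maxHeartbeats 400000 in
lemma quat_facts_three :
    (∀ a : Matrix (Fin 2) (Fin 2) (ZMod 3), (a.det = 1 ∧ (a * a = 1 ∨ a * a = -1)) →
      ∀ b : Matrix (Fin 2) (Fin 2) (ZMod 3), (b.det = 1 ∧ (b * b = 1 ∨ b * b = -1)) →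
        (a * b * (a * b) = 1 ∨ a * b * (a * b) = -1) ∧ (a * b = b * a ∨ a * b = -(b * a))) ∧
    (∀ a : Matrix (Fin 2) (Fin 2) (ZMod 3), (a.det = 1 ∧ (a * a = 1 ∨ a * a = -1)) → a ≠ 1 →
      a ≠ -1 → ∀ b : Matrix (Fin 2) (Fin 2) (ZMod 3), (b.det = 1 ∧ (b * b = 1 ∨ b * b = -1)) →
        b ≠ 1 → b ≠ -1 → ∃ s : Matrix (Fin 2) (Fin 2) (ZMod 3), s.det ≠ 0 ∧ s * a = b * s) ∧
    (∀ a : Matrix (Fin 2) (Fin 2) (ZMod 3), (a.det = 1 ∧ (a * a = 1 ∨ a * a = -1)) → a ≠ 1 →
      a ≠ -1 → ∃ s : Matrix (Fin 2) (Fin 2) (ZMod 3), s.det ≠ 0 ∧ s * a ≠ a * s ∧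
        s * a ≠ -(a * s)) := by
  refine ⟨?_, ?_, ?_⟩ <;> decide +kernel

/-- The facts on quaternions over any field with three elements. -/
lemma quat_facts [Fintype F] (hq : Fintype.card F = 3) :
    (∀ a : Matrix (Fin 2) (Fin 2) F, IsQ a → ∀ b, IsQ b →
      IsQ (a * b) ∧ (a * b = b * a ∨ a * b = -(b * a))) ∧
    (∀ a : Matrix (Fin 2) (Fin 2) F, IsQ a → a ≠ 1 → a ≠ -1 → ∀ b, IsQ b → b ≠ 1 → b ≠ -1 →
      ∃ s : Matrix (Fin 2) (Fin 2) F, s.det ≠ 0 ∧ s * a = b * s) ∧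
    (∀ a : Matrix (Fin 2) (Fin 2) F, IsQ a → a ≠ 1 → a ≠ -1 →
      ∃ s : Matrix (Fin 2) (Fin 2) F, s.det ≠ 0 ∧ s * a ≠ a * s ∧ s * a ≠ -(a * s)) := by
  let φ : ZMod 3 ≃+* F := ZMod.ringEquivOfPrime F Nat.prime_three hq
  let Φ : Matrix (Fin 2) (Fin 2) (ZMod 3) ≃+* Matrix (Fin 2) (Fin 2) F := φ.mapMatrix
  have hdet : ∀ a, (Φ a).det = φ a.det := fun a => (RingHom.map_det φ.toRingHom a).symm
  have hQ : ∀ a, IsQ (Φ a) ↔ (a.det = 1 ∧ (a * a = 1 ∨ a * a = -1)) := by
    intro a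
    rw [IsQ, hdet, ← map_mul, map_eq_one_iff φ φ.injective, map_eq_one_iff Φ Φ.injective,
      show (-1 : Matrix (Fin 2) (Fin 2) F) = Φ (-1) by simp, Φ.injective.eq_iff]
  obtain ⟨h1, h2, h3⟩ := quat_facts_three
  refine ⟨fun a ha b hb => ?_, fun a ha ha1 ha2 b hb hb1 hb2 => ?_, fun a ha ha1 ha2 => ?_⟩
  · obtain ⟨a, rfl⟩ := Φ.surjective a
    obtain ⟨b, rfl⟩ := Φ.surjective b
    rw [hQ] at ha hb
    obtain ⟨hm, hc⟩ := h1 a ha b hb
    rw [← map_mul, ← map_mul, hQ, ← map_neg, Φ.injective.eq_iff, Φ.injective.eq_iff]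
    exact ⟨⟨by rw [Matrix.det_mul, ha.1, hb.1, one_mul], hm⟩, hc⟩
  · obtain ⟨a, rfl⟩ := Φ.surjective a
    obtain ⟨b, rfl⟩ := Φ.surjective b
    rw [hQ] at ha hb
    obtain ⟨t, ht, hts⟩ := h2 a ha (fun h => ha1 (by rw [h, map_one]))
      (fun h => ha2 (by rw [h]; simp)) b hb (fun h => hb1 (by rw [h, map_one]))
      (fun h => hb2 (by rw [h]; simp))
    exact ⟨Φ t, by rw [hdet]; exact (map_ne_zero φ).2 ht, by rw [← map_mul, ← map_mul, hts]⟩
  · obtain ⟨a, rfl⟩ := Φ.surjective a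
    rw [hQ] at ha
    obtain ⟨t, ht, hne, hne'⟩ := h3 a ha (fun h => ha1 (by rw [h, map_one]))
      (fun h => ha2 (by rw [h]; simp))
    exact ⟨Φ t, by rw [hdet]; exact (map_ne_zero φ).2 ht,
      by rw [← map_mul, ← map_mul]; exact fun h => hne (Φ.injective h),
      by rw [← map_mul, ← map_mul, ← map_neg]; exact fun h => hne' (Φ.injective h)⟩

lemma isQ_one : IsQ (1 : Matrix (Fin 2) (Fin 2) F) := ⟨Matrix.det_one, Or.inl (one_mul 1)⟩

lemma isQ_neg {a : Matrix (Fin 2) (Fin 2) F} (h : IsQ a) : IsQ (-a) :=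
  ⟨by rw [Matrix.det_neg, h.1]; simp, by rw [neg_mul_neg]; exact h.2⟩

lemma IsQ.inv {a : GL (Fin 2) F} (h : IsQ (a : Matrix (Fin 2) (Fin 2) F)) :
    IsQ ((a⁻¹ : GL (Fin 2) F) : Matrix (Fin 2) (Fin 2) F) := by
  rcases h.2 with h2 | h2
  · rw [Units.inv_eq_of_mul_eq_one_right h2]; exact h
  · rw [Units.inv_eq_of_mul_eq_one_right (show (a : Matrix (Fin 2) (Fin 2) F) * -(a : Matrix (Fin 2) (Fin 2) F) = 1 by
      rw [mul_neg, h2, neg_neg])]
    exact isQ_neg h

lemma IsQ.conj {a : Matrix (Fin 2) (Fin 2) F} (h : IsQ a) (s : GL (Fin 2) F) :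
    IsQ ((s : Matrix (Fin 2) (Fin 2) F) * a * ((s⁻¹ : GL (Fin 2) F) : Matrix (Fin 2) (Fin 2) F)) := by
  have e : ∀ b, (s : Matrix (Fin 2) (Fin 2) F) * a * ((s⁻¹ : GL (Fin 2) F) : Matrix (Fin 2) (Fin 2) F) *
      ((s : Matrix (Fin 2) (Fin 2) F) * b * ((s⁻¹ : GL (Fin 2) F) : Matrix (Fin 2) (Fin 2) F)) =
      (s : Matrix (Fin 2) (Fin 2) F) * (a * b) * ((s⁻¹ : GL (Fin 2) F) : Matrix (Fin 2) (Fin 2) F) := by
    intro b
    simp only [mul_assoc]
    rw [← mul_assoc ((s⁻¹ : GL (Fin 2) F) : Matrix (Fin 2) (Fin 2) F) (s : Matrix (Fin 2) (Fin 2) F),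
      Units.inv_mul, one_mul]
  refine ⟨by rw [Matrix.det_units_conj, h.1], ?_⟩
  rw [e a]
  rcases h.2 with h2 | h2
  · exact Or.inl (by rw [h2, mul_one, Units.mul_inv])
  · exact Or.inr (by rw [h2, mul_neg, mul_one, neg_mul, Units.mul_inv])

variable [Fintype F]

set_option maxHeartbeats 2000000 in
/-- Over three elements the tensor cube of planes normalises an extraspecial group. -/
theorem wreath_three_normaliser (hq : Fintype.card F = 3) {ε : F}
    {f : (ι → F) → (ι → F) → F} (hf : IsRefl (RingEquiv.refl F) ε f) (halt : ∀ v, f v v = 0)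
    {e : ι ≃ (Fin 3 → Fin 2)} {P : GL ι F} {c : F} (hc : c ≠ 0)
    (hpull : ∀ x y, pullForm e P f x y =
      c * Cfsg.Geo.formOfGram id (pureMat fun _ => omega2 F) x y) :
    ∃ R : Subgroup (GL ι F), Cfsg.Geo.IsSymplecticTypeGroup 2 R ∧ AbsIrr R ∧
      Cfsg.Geo.FixesForm (Cfsg.Geo.matrixSet R) f ∧ Nat.card R = 128 ∧
      Nat.card (Subgroup.center R) = 2 ∧ Cfsg.Geo.IsOfMinusType 3 R ∧
      Cfsg.Geo.tensorWreathSubgroup 2 3 e P ≤ Cfsg.Geo.subgroupNormalizer R := by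
  classical
  obtain ⟨hmul, htrans, hmoved⟩ := quat_facts hq
  have : Nonempty ι := ⟨e.symm fun _ => 0⟩
  have h2 : (2 : F) ≠ 0 := fun h => by
    have := two_eq_zero_iff.1 h
    rw [hq] at this
    exact this (by decide)
  have hq1 : ∀ A B : Fin 3 → GL (Fin 2) F, pureGL A * pureGL B = pureGL (A * B) := fun A B =>
    Units.ext (pureMat_mul _ _)
  have hone : pureGL (1 : Fin 3 → GL (Fin 2) F) = 1 := Units.ext pureMat_one
  let R : Subgroup (GL ι F) :=
    { carrier := {g | ∃ A : Fin 3 → GL (Fin 2) F, (∀ i, IsQ (A i : Matrix (Fin 2) (Fin 2) F)) ∧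
        g = frU e P (pureGL A)}
      one_mem' := ⟨1, fun _ => isQ_one, by rw [hone, map_one]⟩
      mul_mem' := by
        rintro _ _ ⟨A, hA, rfl⟩ ⟨B, hB, rfl⟩
        exact ⟨A * B, fun i => (hmul _ (hA i) _ (hB i)).1, by rw [← map_mul, hq1]⟩
      inv_mem' := by
        rintro _ ⟨A, hA, rfl⟩
        refine ⟨A⁻¹, fun i => (hA i).inv, ?_⟩
        rw [← map_inv, inv_eq_of_mul_eq_one_right (show pureGL A * pureGL A⁻¹ = 1 by
          rw [hq1, mul_inv_cancel, hone])] }
  have hRm : ∀ g : GL ι F, g ∈ R ↔ ∃ A : Fin 3 → GL (Fin 2) F,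
      (∀ i, IsQ (A i : Matrix (Fin 2) (Fin 2) F)) ∧ g = frU e P (pureGL A) := fun g => Iff.rfl
  -- conjugation by the wreath product
  have hconj : ∀ (B : Fin 3 → GL (Fin 2) F) (σ : Equiv.Perm (Fin 3)) (A : Fin 3 → GL (Fin 2) F),
      pureGL B * permGL 2 F σ * pureGL A * (pureGL B * permGL 2 F σ)⁻¹ =
        pureGL (B * (A ∘ σ.symm) * B⁻¹) := by
    intro B σ A
    have hswap : permGL 2 F σ * pureGL A = pureGL (A ∘ σ.symm) * permGL 2 F σ :=
      Units.ext (permMat_mul_pureMat σ fun i => (A i : Matrix (Fin 2) (Fin 2) F))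
    calc pureGL B * permGL 2 F σ * pureGL A * (pureGL B * permGL 2 F σ)⁻¹
        = pureGL B * (permGL 2 F σ * pureGL A) * (permGL 2 F σ)⁻¹ * (pureGL B)⁻¹ := by group
      _ = pureGL B * pureGL (A ∘ σ.symm) * (pureGL B)⁻¹ := by rw [hswap]; group
      _ = _ := by
        rw [show (pureGL B)⁻¹ = pureGL B⁻¹ from
          inv_eq_of_mul_eq_one_right (by rw [hq1, mul_inv_cancel, hone]), hq1, hq1]
  obtain ⟨W, hW⟩ : ∃ W, Cfsg.Geo.tensorWreathSubgroup 2 3 e P = W := ⟨_, rfl⟩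
  have hWm : ∀ (B : Fin 3 → GL (Fin 2) F) (σ : Equiv.Perm (Fin 3)),
      frU e P (pureGL B * permGL 2 F σ) ∈ W := fun B σ => by
    rw [← hW, Cfsg.Geo.tensorWreathSubgroup, map_glReindex_conj]
    exact Subgroup.mem_map_of_mem _ (Subgroup.mul_mem _
      (Subgroup.subset_closure (Or.inl (isPureTensor_pureGL _)))
      (Subgroup.subset_closure (Or.inr (isFactorPermutation_permGL _))))
  have hperm1 : permGL 2 F (1 : Equiv.Perm (Fin 3)) = 1 := Units.ext permMat_one
  have hWR : ∀ g ∈ W, ∀ x ∈ R, g * x * g⁻¹ ∈ R := by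
    intro g hg x hx
    rw [← hW, Cfsg.Geo.tensorWreathSubgroup, map_glReindex_conj] at hg
    obtain ⟨y, hy, rfl⟩ := hg
    obtain ⟨B, σ, rfl⟩ := exists_pure_perm hy
    obtain ⟨A, hA, rfl⟩ := hx
    exact ⟨_, fun i => (hA (σ.symm i)).conj (B i), by
      rw [MulEquiv.coe_toMonoidHom, ← map_inv, ← map_mul, ← map_mul, hconj]⟩
  -- the envelope is everything
  have hfac : ∀ (i : Fin 3) (M : Matrix (Fin 2) (Fin 2) F), frAlg e P (factor i M) ∈ envelope R := by
    intro i M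
    have hgen : ∀ a : Matrix (Fin 2) (Fin 2) F, IsQ a → frAlg e P (factor i a) ∈ envelope R := by
      intro a ha
      have hd : a.det ≠ 0 := by rw [ha.1]; exact one_ne_zero
      refine Submodule.subset_span ⟨frU e P (pureGL (Function.update 1 i
        (Matrix.GeneralLinearGroup.mkOfDetNeZero a hd))), ⟨_, fun j => ?_, rfl⟩, ?_⟩
      · by_cases hj : j = i
        · subst hj; simpa using ha
        · simpa [hj] using isQ_one
      · show ((frU e P _ : GL ι F) : Matrix ι ι F) = _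
        rw [frU_val]
        congr 1
        show pureMat _ = pureMat _
        congr 1
        funext j
        by_cases hj : j = i
        · subst hj; simp [Matrix.GeneralLinearGroup.mkOfDetNeZero]
        · simp [hj]
    obtain ⟨S, hS⟩ : ∃ S, Submodule.comap ((frAlg e P).toLinearMap.comp (factorLin i))
      (envelope R) = S := ⟨_, rfl⟩
    suffices hM : M ∈ S by rw [← hS] at hM; exact hM
    have hin : ∀ a, IsQ a → a ∈ S := fun a ha => hS ▸ hgen a ha
    have h3 : (3 : F) = 0 := by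
      have := Nat.cast_card_eq_zero F
      rw [hq] at this
      exact_mod_cast this
    have hI : IsQ (!![0, 1; -1, 0] : Matrix (Fin 2) (Fin 2) F) :=
      ⟨by simp [Matrix.det_fin_two], Or.inr (by ext a b; fin_cases a <;> fin_cases b <;> simp)⟩
    have hJ : IsQ (!![1, 1; 1, -1] : Matrix (Fin 2) (Fin 2) F) := by
      refine ⟨?_, Or.inr ?_⟩
      · simp [Matrix.det_fin_two]; linear_combination (-1 : F) * h3
      · ext a b; fin_cases a <;> fin_cases b <;> simp <;> linear_combination h3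
    have hK := (hmul _ hI _ hJ).1
    have key : M = ((M 0 0 + M 1 1) * 2) • (1 : Matrix (Fin 2) (Fin 2) F) +
        ((M 0 1 - M 1 0) * 2) • (!![0, 1; -1, 0] : Matrix (Fin 2) (Fin 2) F) +
        ((M 0 0 - M 1 1) + (M 0 1 + M 1 0)) • (!![1, 1; 1, -1] : Matrix (Fin 2) (Fin 2) F) +
        ((M 0 0 - M 1 1) - (M 0 1 + M 1 0)) •
          ((!![0, 1; -1, 0] : Matrix (Fin 2) (Fin 2) F) * !![1, 1; 1, -1]) := by
      ext a b
      fin_cases a <;> fin_cases b <;> simp
      · linear_combination (-(M 0 0)) * h3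
      · linear_combination (-(M 0 1)) * h3
      · linear_combination (-(M 1 0)) * h3
      · linear_combination (-(M 1 1)) * h3
    rw [key]
    exact S.add_mem (S.add_mem (S.add_mem (S.smul_mem _ (hin _ isQ_one)) (S.smul_mem _ (hin _ hI)))
      (S.smul_mem _ (hin _ hJ))) (S.smul_mem _ (hin _ hK))
  have henv : ∀ M : Matrix ι ι F, M ∈ envelope R := by
    intro M
    obtain ⟨X, rfl⟩ := (frAlg e P).surjective M
    rw [Matrix.matrix_eq_sum_single X]
    simp only [map_sum]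
    refine sum_mem fun p _ => sum_mem fun r _ => ?_
    rw [show Matrix.single p r (X p r) = X p r • (factor 0 (Matrix.single (p 0) (r 0) (1 : F)) *
      factor 1 (Matrix.single (p 1) (r 1) 1) * factor 2 (Matrix.single (p 2) (r 2) 1)) from ?_,
      map_smul, map_mul, map_mul]
    · exact Submodule.smul_mem _ _ (mul_mem_envelope (mul_mem_envelope (hfac _ _) (hfac _ _)) (hfac _ _))
    · rw [factor, factor, factor, pureMat_mul, pureMat_mul]
      ext x y
      rw [Matrix.smul_apply, smul_eq_mul, pureMat_apply, Fin.prod_univ_three, Matrix.single_apply]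
      simp only [Pi.mul_apply, Function.update_self, ne_eq, Fin.reduceEq, not_false_eq_true,
        Function.update_of_ne, Pi.one_apply, mul_one, one_mul, Matrix.single_apply]
      by_cases h : p = x ∧ r = y
      · rw [if_pos h, h.1, h.2]; simp
      · rw [if_neg h]
        by_cases hx : p = x
        · obtain ⟨i, hi⟩ := Function.ne_iff.1 fun hy => h ⟨hx, hy⟩
          fin_cases i <;> simp at hi <;> simp [hi]
        · obtain ⟨i, hi⟩ := Function.ne_iff.1 hx
          fin_cases i <;> simp at hi <;> simp [hi]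
  have habs : AbsIrr R := by
    refine absIrr_of_commutant (irr_iff.2 fun V hV => ?_) fun M hM => ?_
    · by_cases hb : V = ⊥
      · exact Or.inl hb
      obtain ⟨v, hv, hv0⟩ := Submodule.exists_mem_ne_zero_of_ne_bot hb
      obtain ⟨i, hi⟩ := Function.ne_iff.1 hv0
      refine Or.inr (eq_top_iff.2 fun z _ => ?_)
      have hcl : ∀ M ∈ envelope R, M *ᵥ v ∈ V := fun M hM =>
        Submodule.span_induction (fun x ⟨a, ha, hax⟩ => hax ▸ hV a ha v hv) (by simp)
          (fun x y _ _ hx hy => by rw [Matrix.add_mulVec]; exact V.add_mem hx hy)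
          (fun d x _ hx => by rw [Matrix.smul_mulVec]; exact V.smul_mem d hx) hM
      have h := hcl (Matrix.vecMulVec z (Pi.single i (v i)⁻¹)) (henv _)
      rwa [Matrix.vecMulVec_mulVec, single_dotProduct, inv_mul_cancel₀ (by simpa using hi),
        MulOpposite.op_one, one_smul] at h
    · obtain ⟨c, hc⟩ := Matrix.mem_range_scalar_of_commute_single (M := M)
        (fun i j _ => mem_commutant_comm hM (henv _))
      exact ⟨c, by rw [← hc]; simp [Matrix.smul_one_eq_diagonal]⟩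
  have hsc : ∀ a : Matrix (Fin 2) (Fin 2) F, a = 1 ∨ a = -1 → ∃ d : F, a = d • 1 := fun a h => by
    rcases h with rfl | rfl
    · exact ⟨1, (one_smul F 1).symm⟩
    · exact ⟨-1, by simp⟩
  have hscal : ∀ A : Fin 3 → GL (Fin 2) F,
      (∀ i, (A i : Matrix (Fin 2) (Fin 2) F) = 1 ∨ (A i : Matrix (Fin 2) (Fin 2) F) = -1) →
      frU e P (pureGL A) ∈ Cfsg.Geo.scalars ι F := by
    intro A hA
    choose d hd using fun i => hsc _ (hA i)
    have e1 : ((frU e P (pureGL A) : GL ι F) : Matrix ι ι F) = (∏ i, d i) • 1 := by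
      rw [frU_val]
      show frAlg e P (pureMat fun i => (A i : Matrix (Fin 2) (Fin 2) F)) = _
      rw [funext hd, pureMat_smul, map_smul,
        show pureMat (fun _ : Fin 3 => (1 : Matrix (Fin 2) (Fin 2) F)) = 1 from pureMat_one, map_one]
    rw [Cfsg.Geo.mem_scalars_iff]
    obtain ⟨d0, hd0⟩ : ∃ d0 : F, ∏ i, d i = d0 := ⟨_, rfl⟩
    rw [hd0] at e1
    refine ⟨Units.mk0 d0 fun h0 => ?_, e1⟩
    rw [h0, zero_smul] at e1
    exact (frU e P (pureGL A)).ne_zero e1
  have hcomm : ScalarCommutators R := by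
    rintro _ ⟨A, hA, rfl⟩ _ ⟨B, hB, rfl⟩
    rw [← map_inv, ← map_inv, ← map_mul, ← map_mul, ← map_mul,
      show (pureGL A)⁻¹ = pureGL A⁻¹ from inv_eq_of_mul_eq_one_right (by rw [hq1, mul_inv_cancel, hone]),
      show (pureGL B)⁻¹ = pureGL B⁻¹ from inv_eq_of_mul_eq_one_right (by rw [hq1, mul_inv_cancel, hone]),
      hq1, hq1, hq1]
    refine hscal _ fun i => ?_
    rw [show (A * B * A⁻¹ * B⁻¹) i = A i * B i * (A i)⁻¹ * (B i)⁻¹ from rfl]
    simp only [Units.val_mul]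
    rcases (hmul _ (hA i) _ (hB i)).2 with h | h
    · left
      rw [h, mul_assoc (B i : Matrix (Fin 2) (Fin 2) F), Units.mul_inv, mul_one, Units.mul_inv]
    · right
      rw [h, neg_mul, mul_assoc (B i : Matrix (Fin 2) (Fin 2) F), Units.mul_inv, mul_one, neg_mul,
        Units.mul_inv]
  have hfix : Cfsg.Geo.FixesForm (Cfsg.Geo.matrixSet R) f := by
    rintro _ ⟨g, ⟨A, hA, rfl⟩, rfl⟩ u v
    obtain ⟨x, rfl⟩ := pullForm_surj e P u
    obtain ⟨y, rfl⟩ := pullForm_surj e P v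
    simp only
    rw [frU_val, frAlg_mulVec, frAlg_mulVec]
    show pullForm e P f _ _ = pullForm e P f _ _
    rw [hpull, hpull]
    congr 1
    rw [formOfGram_eq, formOfGram_eq, Function.id_comp, Function.id_comp, Matrix.mulVec_mulVec,
      ← Matrix.vecMul_transpose, ← Matrix.dotProduct_mulVec, Matrix.mulVec_mulVec, ← mul_assoc,
      show ((pureGL A : GL (Fin 3 → Fin 2) F) : Matrix (Fin 3 → Fin 2) (Fin 3 → Fin 2) F) =
        pureMat fun i => (A i : Matrix (Fin 2) (Fin 2) F) from rfl,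
      pureMat_transpose, pureMat_mul, pureMat_mul]
    congr 2
    congr 1
    funext i
    show (A i : Matrix (Fin 2) (Fin 2) F)ᵀ * omega2 F * (A i : Matrix (Fin 2) (Fin 2) F) = _
    rw [omega2_sim, (hA i).1, one_smul]
  have hmin : ∀ M ≤ R, (∀ g ∈ W, ∀ a ∈ M, g * a * g⁻¹ ∈ M) →
      (∀ z ∈ R, z ∈ Cfsg.Geo.scalars ι F → z ∈ M) → M ≤ Cfsg.Geo.scalars ι F ∨ M = R := by
    intro M hMR hMn hMZ
    by_cases hMs : M ≤ Cfsg.Geo.scalars ι F
    · exact Or.inl hMs
    right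
    refine le_antisymm hMR ?_
    obtain ⟨x, hxM, hxs⟩ := SetLike.not_le_iff_exists.1 hMs
    obtain ⟨A, hA, rfl⟩ := hMR hxM
    obtain ⟨i, hi1, hi2⟩ : ∃ i, (A i : Matrix (Fin 2) (Fin 2) F) ≠ 1 ∧
        (A i : Matrix (Fin 2) (Fin 2) F) ≠ -1 := by
      by_contra h
      push Not at h
      exact hxs (hscal A fun i => or_iff_not_imp_left.2 (h i))
    obtain ⟨t, ht, hne, hne'⟩ := hmoved _ (hA i) hi1 hi2
    obtain ⟨T, hT⟩ : ∃ T : GL (Fin 2) F, (T : Matrix (Fin 2) (Fin 2) F) = t :=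
      ⟨Matrix.GeneralLinearGroup.mkOfDetNeZero t ht, rfl⟩
    subst hT
    -- an element of one factor
    obtain ⟨qi, hqi⟩ : ∃ qi, A i * (T * (A i)⁻¹ * T⁻¹) = qi := ⟨_, rfl⟩
    have hqM : frU e P (pureGL (Function.update 1 i qi)) ∈ M := by
      have h := M.mul_mem hxM (hMn _ (hWm (Function.update 1 i T) 1) _ (M.inv_mem hxM))
      rw [hperm1, mul_one, ← map_inv, ← map_inv, ← map_mul, ← map_mul, ← map_mul,
        show (pureGL A)⁻¹ = pureGL A⁻¹ from inv_eq_of_mul_eq_one_right (by rw [hq1, mul_inv_cancel, hone]),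
        show (pureGL (Function.update (1 : Fin 3 → GL (Fin 2) F) i T))⁻¹ =
          pureGL (Function.update (1 : Fin 3 → GL (Fin 2) F) i T)⁻¹ from
          inv_eq_of_mul_eq_one_right (by rw [hq1, mul_inv_cancel, hone]), hq1, hq1, hq1] at h
      convert h using 3
      funext j
      by_cases hj : j = i
      · subst hj; simp [← hqi]
      · simp [hj]
    have hqQ : IsQ (qi : Matrix (Fin 2) (Fin 2) F) := by
      rw [← hqi, Units.val_mul]
      refine (hmul _ (hA i) _ ?_).1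
      rw [Units.val_mul, Units.val_mul]
      exact (hA i).inv.conj T
    have hqv : (qi : Matrix (Fin 2) (Fin 2) F) * ((T : Matrix (Fin 2) (Fin 2) F) * (A i : Matrix (Fin 2) (Fin 2) F)) =
        (A i : Matrix (Fin 2) (Fin 2) F) * (T : Matrix (Fin 2) (Fin 2) F) := by
      rw [← Units.val_mul, ← Units.val_mul, ← Units.val_mul, ← hqi]
      congr 1
      group
    have hq1' : (qi : Matrix (Fin 2) (Fin 2) F) ≠ 1 := fun h => hne (by
      rw [h, one_mul] at hqv; exact hqv)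
    have hq2' : (qi : Matrix (Fin 2) (Fin 2) F) ≠ -1 := fun h => hne' (by
      rw [h, neg_one_mul] at hqv; rw [← hqv, neg_neg])
    have hsingle : ∀ (j : Fin 3) (b : GL (Fin 2) F), IsQ (b : Matrix (Fin 2) (Fin 2) F) →
        frU e P (pureGL (Function.update 1 j b)) ∈ M := by
      intro j b hb
      by_cases hb' : (b : Matrix (Fin 2) (Fin 2) F) = 1 ∨ (b : Matrix (Fin 2) (Fin 2) F) = -1
      · have hall : ∀ l, (((Function.update 1 j b : Fin 3 → GL (Fin 2) F) l : GL (Fin 2) F) :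
            Matrix (Fin 2) (Fin 2) F) = 1 ∨
            (((Function.update 1 j b : Fin 3 → GL (Fin 2) F) l : GL (Fin 2) F) :
            Matrix (Fin 2) (Fin 2) F) = -1 := fun l => by
          by_cases hl : l = j
          · subst hl; simpa using hb'
          · simp [hl]
        refine hMZ _ ⟨_, fun l => ?_, rfl⟩ (hscal _ hall)
        rcases hall l with h | h <;> rw [h]
        · exact isQ_one
        · exact isQ_neg isQ_one
      push Not at hb'
      obtain ⟨s, hs, hse⟩ := htrans _ hqQ hq1' hq2' _ hb hb'.1 hb'.2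
      obtain ⟨S, hS⟩ : ∃ S : GL (Fin 2) F, (S : Matrix (Fin 2) (Fin 2) F) = s :=
        ⟨Matrix.GeneralLinearGroup.mkOfDetNeZero s hs, rfl⟩
      subst hS
      have h := hMn _ (hWm (Function.update 1 j S) (Equiv.swap i j)) _ hqM
      rw [← map_inv, ← map_mul, ← map_mul, hconj] at h
      convert h using 3
      funext l
      by_cases hl : l = j
      · subst hl
        simp only [Pi.mul_apply, Pi.inv_apply, Function.comp_apply, Function.update_self,
          Equiv.symm_swap, Equiv.swap_apply_right]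
        rw [eq_mul_inv_iff_mul_eq]
        exact Units.ext (by rw [Units.val_mul, Units.val_mul, hse])
      · have : Equiv.swap i j l ≠ i := fun h => hl (by
          have := congrArg (Equiv.swap i j) h
          simpa using this)
        simp [hl, this]
    rintro _ ⟨B, hB, rfl⟩
    have e3 : frU e P (pureGL B) = frU e P (pureGL (Function.update 1 0 (B 0))) *
        frU e P (pureGL (Function.update 1 1 (B 1))) * frU e P (pureGL (Function.update 1 2 (B 2))) := by
      rw [← map_mul, ← map_mul, hq1, hq1]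
      congr 2
      funext l
      fin_cases l <;> simp
    rw [e3]
    exact M.mul_mem (M.mul_mem (hsingle _ _ (hB 0)) (hsingle _ _ (hB 1))) (hsingle _ _ (hB 2))
  have hι : Fintype.card ι = 2 ^ 3 := by rw [Fintype.card_congr e]; simp
  rcases symp_abelian (H := W) (by omega) hf halt habs hfix hWR hmin hcomm with
    ⟨F₁, hF₁, -⟩ | ⟨p, k, -, -, -, htype, hk, hN, hz, hminus⟩
  · exfalso
    refine hF₁ (eq_top_iff.2 fun x _ => ?_)
    obtain ⟨z, rfl⟩ := (ZMod.ringEquivOfPrime F Nat.prime_three hq).surjective x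
    obtain ⟨k, rfl⟩ := ZMod.natCast_zmod_surjective z
    rw [map_natCast]
    exact natCast_mem F₁ k
  · obtain rfl : k = 3 := Nat.pow_right_injective le_rfl (hk.symm.trans hι)
    refine ⟨R, htype, habs, hfix, hN, hz, hminus, ?_⟩
    rw [hW]
    intro g hg
    exact Subgroup.mem_normalizer_iff.2 fun a => ⟨hWR g hg a, fun h => by
      simpa [mul_assoc] using hWR g⁻¹ (W.inv_mem hg) _ h⟩

end Three

end CfsgLib.Aschbacher
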