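import Cfsg.Agent.Lib.Aschbacher.SympEight

/-!
The four dimensional symplectic group: the normaliser of a symplectic type 2-group does not contain
it; over three elements a pair of totally isotropic planes is refined by a pair of non-degenerate
planes and a field of nine elements gives an extraspecial group of order 32.
-/

set_option autoImplicit false
set_option linter.unusedVariables false

namespace CfsgLib.Aschbacher

open Matrix Module

variable {F : Type*} [Field F]

section Proper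

variable {m : ℕ}

/-- Symplectic involutions fixing pointwise a given subspace of codimension two. -/
theorem invol_eq (h2 : (2 : F) ≠ 0) {a b : GL (Fin m ⊕ Fin m) F}
    (ha : a ∈ Cfsg.spGL m F) (hb : b ∈ Cfsg.spGL m F) (ha2 : a * a = 1) (hb2 : b * b = 1)
    (ha1 : a ≠ 1) (hb1 : b ≠ 1) {W : Submodule F (Fin m ⊕ Fin m → F)}
    (hW : 2 * m - 2 ≤ finrank F W)
    (haW : ∀ w ∈ W, (a : Matrix (Fin m ⊕ Fin m) (Fin m ⊕ Fin m) F) *ᵥ w = w)
    (hbW : ∀ w ∈ W, (b : Matrix (Fin m ⊕ Fin m) (Fin m ⊕ Fin m) F) *ᵥ w = w) : a = b := by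
  have hf := isRefl_sympForm (F := F) m
  let A : GL (Fin m ⊕ Fin m) F → (Fin m ⊕ Fin m → F) →ₗ[F] (Fin m ⊕ Fin m → F) := fun c =>
    Matrix.toLin' (c : Matrix (Fin m ⊕ Fin m) (Fin m ⊕ Fin m) F)
  have hAap : ∀ c v, A c v = (c : Matrix (Fin m ⊕ Fin m) (Fin m ⊕ Fin m) F) *ᵥ v := fun c v =>
    Matrix.toLin'_apply _ _
  let N : GL (Fin m ⊕ Fin m) F → Submodule F (Fin m ⊕ Fin m → F) := fun c =>
    LinearMap.ker (A c + LinearMap.id)
  let X : GL (Fin m ⊕ Fin m) F → Submodule F (Fin m ⊕ Fin m → F) := fun c =>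
    LinearMap.ker (A c - LinearMap.id)
  have hN : ∀ c v, v ∈ N c ↔ (c : Matrix (Fin m ⊕ Fin m) (Fin m ⊕ Fin m) F) *ᵥ v = -v := fun c v => by
    simp only [N, LinearMap.mem_ker, LinearMap.add_apply, LinearMap.id_apply, hAap,
      add_eq_zero_iff_eq_neg]
  have hX : ∀ c v, v ∈ X c ↔ (c : Matrix (Fin m ⊕ Fin m) (Fin m ⊕ Fin m) F) *ᵥ v = v := fun c v => by
    simp only [X, LinearMap.mem_ker, LinearMap.sub_apply, LinearMap.id_apply, hAap, sub_eq_zero]
  have hdec : ∀ c, c * c = 1 → ∀ v, ∃ u ∈ X c, ∃ n ∈ N c, v = u + n := by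
    intro c hc v
    have hcc : (c : Matrix (Fin m ⊕ Fin m) (Fin m ⊕ Fin m) F) *ᵥ ((c : Matrix _ _ F) *ᵥ v) = v := by
      rw [← mul_mulVec, hc, Units.val_one, Matrix.one_mulVec]
    refine ⟨(2 : F)⁻¹ • (v + (c : Matrix (Fin m ⊕ Fin m) (Fin m ⊕ Fin m) F) *ᵥ v), ?_,
      (2 : F)⁻¹ • (v - (c : Matrix (Fin m ⊕ Fin m) (Fin m ⊕ Fin m) F) *ᵥ v), ?_, ?_⟩
    · rw [hX, Matrix.mulVec_smul, Matrix.mulVec_add, hcc, add_comm]
    · rw [hN, Matrix.mulVec_smul, Matrix.mulVec_sub, hcc, ← smul_neg, neg_sub]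
    · rw [← smul_add, show v + (c : Matrix (Fin m ⊕ Fin m) (Fin m ⊕ Fin m) F) *ᵥ v +
        (v - (c : Matrix (Fin m ⊕ Fin m) (Fin m ⊕ Fin m) F) *ᵥ v) = (2 : F) • v by
          rw [two_smul]; abel, smul_smul, inv_mul_cancel₀ h2, one_smul]
  have horth : ∀ c, c ∈ Cfsg.spGL m F → ∀ u ∈ X c, ∀ n ∈ N c, Cfsg.sympForm m F n u = 0 := by
    intro c hc u hu n hn
    have h := isometry_apply (fixesForm_spGL le_rfl) hc n u
    rw [(hX c u).1 hu] at h
    rw [(hN c n).1 hn, show (-n : Fin m ⊕ Fin m → F) = (-1 : F) • n by simp, hf.sesq.smul_left] at h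
    exact (mul_eq_zero.1 (show (2 : F) * Cfsg.sympForm m F n u = 0 by linear_combination -h)).resolve_left h2
  have hcard : finrank F (Fin m ⊕ Fin m → F) = 2 * m := by
    simp [Module.finrank_fintype_fun_eq_card]; ring
  -- the fixed space is `W`
  have hfixed : ∀ c, c ∈ Cfsg.spGL m F → c * c = 1 → c ≠ 1 →
      (∀ w ∈ W, (c : Matrix (Fin m ⊕ Fin m) (Fin m ⊕ Fin m) F) *ᵥ w = w) → X c = W := by
    intro c hc hc2 hc1 hcW
    have hle : W ≤ X c := fun w hw => (hX c w).2 (hcW w hw)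
    refine (Submodule.eq_of_le_of_finrank_le hle ?_).symm
    have htwo : 2 ≤ finrank F (N c) := by
      have hne : N c ≠ ⊥ := fun hb => hc1 (Units.ext (Matrix.toLin'.injective (LinearMap.ext fun v => by
        obtain ⟨u, hu, n, hn, rfl⟩ := hdec c hc2 v
        rw [hb, Submodule.mem_bot] at hn
        subst hn
        rw [add_zero, Matrix.toLin'_apply, (hX c u).1 hu, Units.val_one, Matrix.toLin'_one,
          LinearMap.id_apply])))
      obtain ⟨n, hn, hn0⟩ := Submodule.exists_mem_ne_zero_of_ne_bot hne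
      by_contra hlt
      obtain ⟨-, z, hz⟩ := hf.nondeg n hn0
      obtain ⟨u, hu, k, hk, rfl⟩ := hdec c hc2 z
      rw [hf.sesq.add_right, horth c hc u hu n hn, zero_add] at hz
      have hsp : Submodule.span F {n} = N c := Submodule.eq_of_le_of_finrank_le
        ((Submodule.span_singleton_le_iff_mem _ _).2 hn) (by rw [finrank_span_singleton hn0]; omega)
      rw [← hsp, Submodule.mem_span_singleton] at hk
      obtain ⟨s, rfl⟩ := hk
      rw [hf.bilinear.smul_right, sympForm_alt, mul_zero] at hz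
      exact hz rfl
    have hinf : X c ⊓ N c = ⊥ := by
      rw [eq_bot_iff]
      rintro v ⟨h1, h3⟩
      rw [SetLike.mem_coe, hX] at h1
      rw [SetLike.mem_coe, hN, h1] at h3
      rw [Submodule.mem_bot]
      exact (smul_eq_zero.1 (show (2 : F) • v = 0 by rw [two_smul]; exact add_eq_zero_iff_eq_neg.2 h3)).resolve_left h2
    have h4 := Submodule.finrank_sup_add_finrank_inf_eq (X c) (N c)
    rw [hinf, finrank_bot] at h4
    have h5 := Submodule.finrank_le (X c ⊔ N c)
    rw [hcard] at h5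
    omega
  have hXa := hfixed a ha ha2 ha1 haW
  have hXb := hfixed b hb hb2 hb1 hbW
  refine Units.ext (Matrix.toLin'.injective (LinearMap.ext fun v => ?_))
  obtain ⟨u, hu, n, hn, rfl⟩ := hdec a ha2 v
  have hnb : n ∈ N b := by
    obtain ⟨u', hu', n', hn', hd⟩ := hdec b hb2 n
    suffices u' = 0 by rw [hd, this, zero_add]; exact hn'
    by_contra h0
    obtain ⟨-, z, hz⟩ := hf.nondeg u' h0
    obtain ⟨p, hp, k, hk, rfl⟩ := hdec b hb2 z
    refine hz ?_
    rw [hf.sesq.add_right]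
    have h1 : Cfsg.sympForm m F u' k = 0 := by
      rw [hf.swap k u', horth b hb u' hu' k hk]; simp
    have h3 : Cfsg.sympForm m F u' p = 0 := by
      have e1 := horth a ha p (hXa ▸ hXb ▸ hp) n hn
      rw [hd, hf.sesq.add_left, horth b hb p hp n' hn', add_zero] at e1
      exact e1
    rw [h1, h3, add_zero]
  simp only [Matrix.toLin'_apply, Matrix.mulVec_add, (hX a u).1 hu,
    (hX b u).1 (hXb.symm ▸ hXa ▸ hu : u ∈ X b), (hN a n).1 hn, (hN b n).1 hnb]

set_option maxHeartbeats 800000 in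
/-- The normaliser of a symplectic type 2-group does not contain the symplectic group. -/
theorem spGL_not_le_twoGroupNormalizer (hm : 2 ≤ m) (h2 : (2 : F) ≠ 0) [Finite F]
    {R : Subgroup (GL (Fin m ⊕ Fin m) F)} (hR : IsPGroup 2 R) (habs : AbsIrr R)
    (hsim : R ≤ Cfsg.Geo.similarityGroup (Cfsg.sympForm m F))
    (hz2 : Nat.card (Subgroup.center R) = 2) :
    ¬ Cfsg.spGL m F ≤ Cfsg.Geo.subgroupNormalizer R := by
  classical
  intro hle
  have : Fact (Nat.Prime 2) := ⟨Nat.prime_two⟩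
  have : Nonempty (Fin m ⊕ Fin m) := ⟨Sum.inl ⟨0, by omega⟩⟩
  have hcen : ∀ z : R, z ∈ Subgroup.center R → (z : GL (Fin m ⊕ Fin m) F) ∈ Cfsg.Geo.scalars _ F :=
    fun z hz => habs.mem_scalars fun a ha =>
      (congrArg Subtype.val (Subgroup.mem_center_iff.1 hz ⟨a, ha⟩)).symm
  have hnt : ¬ ∀ x : R, x ∈ Subgroup.center R := fun h =>
    not_le_scalars_of_irr (by simp; omega) habs.1 fun x hx => hcen ⟨x, hx⟩ (h ⟨x, hx⟩)
  -- a non-central element of the second centre
  obtain ⟨x, hx, hxc⟩ : ∃ x : R, (∀ z : R, x * z * x⁻¹ * z⁻¹ ∈ Subgroup.center R) ∧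
      x ∉ Subgroup.center R := by
    have : Nontrivial (R ⧸ Subgroup.center R) := by
      push Not at hnt
      obtain ⟨x, hx⟩ := hnt
      exact ⟨⟨QuotientGroup.mk x, 1, fun h => hx ((QuotientGroup.eq_one_iff x).1 h)⟩⟩
    have := (hR.to_quotient (Subgroup.center R)).center_nontrivial
    obtain ⟨⟨xb, hxb⟩, hne⟩ := exists_ne (1 : Subgroup.center (R ⧸ Subgroup.center R))
    obtain ⟨x, rfl⟩ := QuotientGroup.mk_surjective xb
    refine ⟨x, fun z => ?_, fun h => hne (Subtype.ext ((QuotientGroup.eq_one_iff x).2 h))⟩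
    rw [← QuotientGroup.eq_one_iff]
    have h := Subgroup.mem_center_iff.1 hxb (QuotientGroup.mk z)
    simp only [QuotientGroup.mk_mul, QuotientGroup.mk_inv]
    rw [← h]
    group
  obtain ⟨xg, hxg⟩ : ∃ g : GL (Fin m ⊕ Fin m) F, (x : GL (Fin m ⊕ Fin m) F) = g := ⟨_, rfl⟩
  have hxs : ∀ z ∈ R, ∃ c : Fˣ, xg * z = scalarGL _ c * (z * xg) := by
    intro z hz
    obtain ⟨c, hc⟩ := mem_scalars.1 (hcen _ (hx ⟨z, hz⟩))
    exact ⟨c, by rw [← hc, ← hxg]; simp only [Subgroup.coe_mul, Subgroup.coe_inv]; group⟩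
  refine hxc (Subgroup.mem_center_iff.2 fun w => Subtype.ext ?_)
  suffices hs : xg ∈ Cfsg.Geo.scalars _ F from
    (by
      rw [Subgroup.coe_mul, Subgroup.coe_mul, hxg]; exact (scalars_comm hs (w : GL (Fin m ⊕ Fin m) F)).symm)
  -- `xg` commutes with all transvections
  have hcomm : ∀ v, sT v (1 : F) * sT v (1 : F) * xg = xg * (sT v (1 : F) * sT v (1 : F)) := by
    intro v
    obtain ⟨g, hg⟩ : ∃ g, sT v (1 : F) = g := ⟨_, rfl⟩
    have hgn : g ∈ Cfsg.Geo.subgroupNormalizer R := hg ▸ hle (sT_mem v 1)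
    have hgn' := Subgroup.mem_normalizer_iff.1 hgn
    let φ : R → R := fun z => ⟨g * z * g⁻¹, (hgn' _).1 z.2⟩
    obtain ⟨y, hy⟩ : ∃ y : R, φ x * x⁻¹ = y := ⟨_, rfl⟩
    have hyv : (y : GL (Fin m ⊕ Fin m) F) = g * xg * g⁻¹ * xg⁻¹ := by rw [← hy, ← hxg]; rfl
    have hyc : ∀ z ∈ R, ∃ c : Fˣ, (y : GL (Fin m ⊕ Fin m) F) * z = scalarGL _ c * (z * (y : GL (Fin m ⊕ Fin m) F)) := by
      intro z hz
      have hz' : g⁻¹ * z * g ∈ R := by
        rw [hgn', show g * (g⁻¹ * z * g) * g⁻¹ = z by group]; exact hz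
      obtain ⟨c, hc⟩ := hxs z hz
      obtain ⟨d, hd⟩ := hxs _ hz'
      have hd' : g * xg * g⁻¹ * z = scalarGL _ d * (z * (g * xg * g⁻¹)) := by
        calc g * xg * g⁻¹ * z = g * (xg * (g⁻¹ * z * g)) * g⁻¹ := by group
          _ = (g * scalarGL _ d) * g⁻¹ * z * (g * xg * g⁻¹) := by rw [hd]; group
          _ = _ := by rw [← scalarGL_comm]; group
      have hc' : xg⁻¹ * z = scalarGL _ c⁻¹ * (z * xg⁻¹) := by
        obtain ⟨s, hs⟩ : ∃ s, scalarGL (Fin m ⊕ Fin m) c = s := ⟨_, rfl⟩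
        rw [hs] at hc
        have hs' : ∀ u, u * s⁻¹ = s⁻¹ * u := fun u => by
          rw [← hs, ← scalarGL_inv]; exact (scalarGL_comm _ u).symm
        have e1 : z * xg = s⁻¹ * (xg * z) := by rw [hc]; group
        calc xg⁻¹ * z = xg⁻¹ * (z * xg) * xg⁻¹ := by group
          _ = (xg⁻¹ * s⁻¹) * xg * z * xg⁻¹ := by rw [e1]; group
          _ = _ := by rw [hs', scalarGL_inv, hs]; group
      refine ⟨d * c⁻¹, ?_⟩
      rw [hyv]
      calc g * xg * g⁻¹ * xg⁻¹ * z
          = g * xg * g⁻¹ * (xg⁻¹ * z) := by group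
        _ = (g * xg * g⁻¹ * scalarGL _ c⁻¹) * (z * xg⁻¹) := by rw [hc']; group
        _ = scalarGL _ c⁻¹ * (g * xg * g⁻¹ * z) * xg⁻¹ := by
          rw [← scalarGL_comm]; group
        _ = scalarGL _ (d * c⁻¹) * (z * (g * xg * g⁻¹ * xg⁻¹)) := by
          rw [hd', mul_comm d, scalarGL_mul]; group
    -- `y` fixes a subspace of codimension two
    obtain ⟨u, hu⟩ : ∃ u, (xg : Matrix (Fin m ⊕ Fin m) (Fin m ⊕ Fin m) F) *ᵥ v = u :=
      ⟨_, rfl⟩
    let L := (sympDual v).prod ((sympDual v).comp (Matrix.toLin'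
      ((xg⁻¹ : GL (Fin m ⊕ Fin m) F) : Matrix (Fin m ⊕ Fin m) (Fin m ⊕ Fin m) F)))
    have hker : ∀ w ∈ LinearMap.ker L,
        ((y : GL (Fin m ⊕ Fin m) F) : Matrix (Fin m ⊕ Fin m) (Fin m ⊕ Fin m) F) *ᵥ w = w := by
      intro w hw
      simp only [L, LinearMap.mem_ker, LinearMap.prod_apply, Function.prod_apply, Prod.mk_eq_zero,
        LinearMap.comp_apply, Matrix.toLin'_apply] at hw
      obtain ⟨hw1, hw2⟩ := hw
      change Cfsg.sympForm m F _ v = 0 at hw1 hw2
      have hfix : ∀ z, Cfsg.sympForm m F z v = 0 →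
          (g : Matrix (Fin m ⊕ Fin m) (Fin m ⊕ Fin m) F) *ᵥ z = z := fun z hz => by
        rw [← hg, sT_mulVec, hz, mul_zero, zero_smul, add_zero]
      rw [hyv]
      simp only [mul_mulVec]
      have h1 : ∀ z, Cfsg.sympForm m F z v = 0 →
          ((g⁻¹ : GL (Fin m ⊕ Fin m) F) : Matrix (Fin m ⊕ Fin m) (Fin m ⊕ Fin m) F) *ᵥ z = z :=
        fun z hz => by
          conv_lhs => rw [← hfix z hz]
          exact inv_mulVec_cancel g z
      rw [h1 _ hw2, mulVec_inv_cancel, hfix _ hw1]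
    have hdim : 2 * m - 2 ≤ finrank F (LinearMap.ker L) := by
      have h1 := L.finrank_range_add_finrank_ker
      have h3 := Submodule.finrank_le (LinearMap.range L)
      rw [Module.finrank_fintype_fun_eq_card] at h1
      simp only [finrank_prod, finrank_self, Fintype.card_sum, Fintype.card_fin] at h1 h3
      omega
    obtain ⟨w, hw, hw0⟩ := Submodule.exists_mem_ne_zero_of_ne_bot (show LinearMap.ker L ≠ ⊥ from
      fun h => by rw [h, finrank_bot] at hdim; omega)
    -- scalars in the group square to one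
    have hsc : ∀ c : Fˣ, scalarGL _ c ∈ R → c * c = 1 := by
      intro c hc
      have hmem : (⟨_, hc⟩ : R) ∈ Subgroup.center R := Subgroup.mem_center_iff.2 fun z =>
        Subtype.ext (scalarGL_comm c (z : GL (Fin m ⊕ Fin m) F)).symm
      have h := pow_card_eq_one' (x := (⟨_, hmem⟩ : Subgroup.center R))
      rw [hz2] at h
      refine scalarGL_injective (ι := Fin m ⊕ Fin m) ?_
      rw [scalarGL_mul, scalarGL_one, ← pow_two]
      exact congrArg (fun z : Subgroup.center R => ((z : R) : GL (Fin m ⊕ Fin m) F)) h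
    have hcomm' : ∀ z ∈ R, ((y : GL (Fin m ⊕ Fin m) F) * y) * z = z * ((y : GL (Fin m ⊕ Fin m) F) * y) := by
      intro z hz
      obtain ⟨c, hc⟩ := hyc z hz
      have hcR : scalarGL _ c ∈ R := by
        have : scalarGL _ c = (y : GL (Fin m ⊕ Fin m) F) * z * (y : GL (Fin m ⊕ Fin m) F)⁻¹ * z⁻¹ := by
          rw [hc]; group
        rw [this]
        exact R.mul_mem (R.mul_mem (R.mul_mem y.2 hz) (R.inv_mem y.2)) (R.inv_mem hz)
      calc (y : GL (Fin m ⊕ Fin m) F) * (y : GL (Fin m ⊕ Fin m) F) * z = (y : GL (Fin m ⊕ Fin m) F) * scalarGL _ c * (z * (y : GL (Fin m ⊕ Fin m) F)) := by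
            rw [mul_assoc, hc, mul_assoc]
        _ = scalarGL _ c * ((y : GL (Fin m ⊕ Fin m) F) * z * (y : GL (Fin m ⊕ Fin m) F)) := by
            rw [← scalarGL_comm]; group
        _ = scalarGL _ (c * c) * (z * (y : GL (Fin m ⊕ Fin m) F) * (y : GL (Fin m ⊕ Fin m) F)) := by rw [hc, scalarGL_mul]; group
        _ = _ := by rw [hsc c hcR, scalarGL_one, one_mul, mul_assoc]
    have hy2 : (y : GL (Fin m ⊕ Fin m) F) * y = 1 := by
      obtain ⟨c, hc⟩ := mem_scalars.1 (habs.mem_scalars hcomm')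
      have h := congrArg (fun M : GL (Fin m ⊕ Fin m) F => (M : Matrix (Fin m ⊕ Fin m) (Fin m ⊕ Fin m) F) *ᵥ w) hc
      simp only [mul_mulVec, hker w hw, scalarGL_mulVec] at h
      rw [hc, show c = 1 from Units.ext (sub_eq_zero.1 ((smul_eq_zero.1
        (show ((c : F) - 1) • w = 0 by rw [sub_smul, one_smul, ← h, sub_self])).resolve_right hw0)),
        scalarGL_one]
    have hyiso : (y : GL (Fin m ⊕ Fin m) F) ∈ Cfsg.spGL m F := by
      obtain ⟨s, hs⟩ := hsim (show xg ∈ R from hxg ▸ x.2)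
      have hgs : g ∈ Cfsg.spGL m F := hg ▸ sT_mem v 1
      have hginv := (Cfsg.spGL m F).inv_mem hgs
      intro a b
      rw [hyv]
      show Cfsg.sympForm m F (((g * xg * g⁻¹ * xg⁻¹ : GL (Fin m ⊕ Fin m) F) : Matrix _ _ F) *ᵥ a)
        (((g * xg * g⁻¹ * xg⁻¹ : GL (Fin m ⊕ Fin m) F) : Matrix _ _ F) *ᵥ b) = Cfsg.sympForm m F a b
      simp only [mul_mulVec]
      rw [isometry_apply (fixesForm_spGL le_rfl) hgs, hs]
      conv_rhs => rw [← mulVec_inv_cancel xg a, ← mulVec_inv_cancel xg b, hs]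
      congr 1
      exact isometry_apply (fixesForm_spGL le_rfl) hginv _ _
    -- the conjugate of `y` is `y`
    obtain ⟨y', hy'⟩ : ∃ y', g * (y : GL (Fin m ⊕ Fin m) F) * g⁻¹ = y' := ⟨_, rfl⟩
    have hgs : g ∈ Cfsg.spGL m F := hg ▸ sT_mem v 1
    have hy'y : y' = y := by
      by_cases h1 : (y : GL (Fin m ⊕ Fin m) F) = 1
      · rw [← hy', h1, mul_one, mul_inv_cancel]
      refine invol_eq h2 ?_ hyiso ?_ hy2 ?_ h1 hdim (fun z hz => ?_) hker
      · rw [← hy']; exact mul_mem (mul_mem hgs hyiso) (inv_mem hgs)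
      · rw [← hy', show g * (y : GL (Fin m ⊕ Fin m) F) * g⁻¹ * (g * y * g⁻¹) =
          g * ((y : GL (Fin m ⊕ Fin m) F) * y) * g⁻¹ by group, hy2, mul_one, mul_inv_cancel]
      · intro h
        rw [← hy', mul_inv_eq_one, mul_eq_left] at h
        exact h1 h
      · have hz' := hz
        simp only [L, LinearMap.mem_ker, LinearMap.prod_apply, Function.prod_apply, Prod.mk_eq_zero,
          LinearMap.comp_apply, Matrix.toLin'_apply] at hz'
        have hgz : (g : Matrix (Fin m ⊕ Fin m) (Fin m ⊕ Fin m) F) *ᵥ z = z := by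
          rw [← hg, sT_mulVec, show Cfsg.sympForm m F z v = 0 from hz'.1, mul_zero, zero_smul, add_zero]
        have hgz' : ((g⁻¹ : GL (Fin m ⊕ Fin m) F) : Matrix (Fin m ⊕ Fin m) (Fin m ⊕ Fin m) F) *ᵥ z = z := by
          conv_lhs => rw [← hgz]
          exact inv_mulVec_cancel g z
        rw [← hy', mul_mulVec, mul_mulVec, hgz', hker z hz, hgz]
    have h : g * g * xg * (g * g)⁻¹ * xg⁻¹ = 1 := by
      rw [show g * g * xg * (g * g)⁻¹ * xg⁻¹ = (g * (g * xg * g⁻¹ * xg⁻¹) * g⁻¹) * (g * xg * g⁻¹ * xg⁻¹) by group,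
        ← hyv, hy', hy'y, hy2]
    rw [hg]
    calc g * g * xg = (g * g * xg * (g * g)⁻¹ * xg⁻¹) * xg * (g * g) := by group
      _ = xg * (g * g) := by rw [h, one_mul]
  -- so `xg` keeps all lines
  have hline : ∀ v, ∃ c : F, (xg : Matrix (Fin m ⊕ Fin m) (Fin m ⊕ Fin m) F) *ᵥ v = c • v := by
    intro v
    by_cases hv : v = 0
    · exact ⟨0, by rw [hv, Matrix.mulVec_zero, smul_zero]⟩
    obtain ⟨z, hz⟩ : ∃ z, Cfsg.sympForm m F z v ≠ 0 :=
      ((isRefl_sympForm (F := F) m).nondeg v hv).1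
    have hf := isRefl_sympForm (F := F) m
    have h := congrArg (fun M : GL (Fin m ⊕ Fin m) F =>
      (M : Matrix (Fin m ⊕ Fin m) (Fin m ⊕ Fin m) F) *ᵥ z) (hcomm v)
    simp only [mul_mulVec, sT_mulVec, Matrix.mulVec_add, Matrix.mulVec_smul, one_mul,
      hf.sesq.add_left, hf.sesq.smul_left, sympForm_alt, mul_zero, add_zero] at h
    simp only [zero_smul, add_zero] at h
    rw [add_assoc, add_assoc, add_right_inj, ← two_smul F, ← two_smul F, smul_smul, smul_smul] at h
    exact ⟨(2 * Cfsg.sympForm m F z v)⁻¹ * _, by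
      rw [← smul_smul, h, smul_smul, inv_mul_cancel₀ (mul_ne_zero h2 hz), one_smul]⟩
  refine habs.mem_scalars fun a ha => ?_
  obtain ⟨c, hc⟩ : ∃ c : F, ∀ v, (xg : Matrix (Fin m ⊕ Fin m) (Fin m ⊕ Fin m) F) *ᵥ v = c • v := by
    choose c hc using hline
    let T := Matrix.toLin' (xg : Matrix (Fin m ⊕ Fin m) (Fin m ⊕ Fin m) F)
    obtain ⟨d, hd⟩ := LinearMap.exists_eq_smul_id_of_forall_notLinearIndependent (f := T) fun v => by
      rw [LinearIndependent.pair_iff]
      push Not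
      exact ⟨c v, -1, by simp [T, hc v], fun _ => by simp⟩
    exact ⟨d, fun v => by simpa [T] using LinearMap.congr_fun hd v⟩
  refine Units.ext (Matrix.toLin'.injective (LinearMap.ext fun v => ?_))
  simp only [Matrix.toLin'_apply, mul_mulVec, hc, Matrix.mulVec_smul]

end Proper

section Planes

variable {ι : Type} [Fintype ι] [DecidableEq ι]

/-- Over three elements a pair of totally isotropic planes is refined by two non-degenerate planes. -/
theorem ts_planes [Fintype F] (hq : Fintype.card F = 3) {ε : F} {f : (ι → F) → (ι → F) → F}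
    (hf : IsRefl (RingEquiv.refl F) ε f) (halt : ∀ v, f v v = 0)
    {D : Fin 2 → Submodule F (ι → F)} (hD : Cfsg.Geo.IsMDecomposition 2 D)
    (hts : ∀ i, Cfsg.Geo.IsTotallySingularFor f (D i)) {H : Subgroup (GL ι F)}
    (hH : Cfsg.Geo.FixesForm (Cfsg.Geo.matrixSet H) f)
    (hle : H ≤ Cfsg.Geo.decompositionStabilizer D) :
    ∃ D' : Fin 2 → Submodule F (ι → F), Cfsg.Geo.IsNondegenerateMDecomposition f 2 D' ∧
      H ≤ Cfsg.Geo.decompositionStabilizer D' := by
  classical
  have hb := hf.bilinear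
  have h2 : (2 : F) ≠ 0 := fun h => two_eq_zero_iff.1 h (by rw [hq]; decide)
  have hsq : ∀ x : F, x ≠ 0 → x * x = 1 := fun x hx => by
    have := FiniteField.pow_card_sub_one_eq_one x hx
    rwa [hq, show (3 : ℕ) - 1 = 2 from rfl, sq] at this
  have hsk : ∀ u v, f v u = - f u v := fun u v => by
    have h := halt (u + v)
    rw [hb.add_left, hb.add_right, hb.add_right, halt, halt] at h
    linear_combination h
  have hsplit : ∀ v, ∃ a ∈ D 0, ∃ b ∈ D 1, v = a + b := by
    intro v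
    have h : v ∈ D 0 ⊔ D 1 := by
      have e : iSup D = D 0 ⊔ D 1 := by
        refine le_antisymm (iSup_le fun i => ?_) (sup_le (le_iSup D 0) (le_iSup D 1))
        fin_cases i
        · exact le_sup_left
        · exact le_sup_right
      rw [← e, hD.iSup_eq_top]; exact Submodule.mem_top
    obtain ⟨a, ha, b, hb, e⟩ := Submodule.mem_sup.1 h
    exact ⟨a, ha, b, hb, e.symm⟩
  let bu := Module.finBasisOfFinrankEq F (D 0) (hD.finrank_eq 0)
  obtain ⟨u, hu⟩ : ∃ u : Fin 2 → ι → F, ∀ i, u i = (bu i : ι → F) := ⟨_, fun _ => rfl⟩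
  have hum : ∀ i, u i ∈ D 0 := fun i => hu i ▸ (bu i).2
  have huspan : ∀ a ∈ D 0, ∃ x y : F, a = x • u 0 + y • u 1 := fun a ha => by
    refine ⟨bu.repr ⟨a, ha⟩ 0, bu.repr ⟨a, ha⟩ 1, ?_⟩
    have h := congrArg Subtype.val (bu.sum_repr ⟨a, ha⟩)
    rw [Fin.sum_univ_two] at h
    rw [hu, hu]
    exact h.symm
  -- the pairing
  let Ψ : D 1 →ₗ[F] (Fin 2 → F) :=
    { toFun := fun w i => f (u i) (w : ι → F)
      map_add' := fun x y => funext fun i => hb.add_right _ _ _
      map_smul' := fun c x => funext fun i => hb.smul_right _ _ _ }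
  have hΨi : Function.Injective Ψ := by
    rw [injective_iff_map_eq_zero]
    rintro ⟨w, hw⟩ h
    by_contra hw0
    obtain ⟨⟨z, hz⟩, -⟩ := hf.nondeg w (fun e => hw0 (Subtype.ext e))
    obtain ⟨a, ha, b, hb', rfl⟩ := hsplit z
    obtain ⟨x, y, rfl⟩ := huspan a ha
    refine hz ?_
    have e0 : f (u 0) w = 0 := congrFun h 0
    have e1 : f (u 1) w = 0 := congrFun h 1
    rw [hb.add_left, hb.add_left, hb.smul_left, hb.smul_left, e0, e1, hts 1 b hb' w hw]
    ring
  have hΨs : Function.Surjective Ψ := by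
    refine (LinearMap.injective_iff_surjective_of_finrank_eq_finrank ?_).1 hΨi
    rw [hD.finrank_eq, Module.finrank_fin_fun]
  obtain ⟨w₀, hw₀⟩ := hΨs ![1, 0]
  obtain ⟨w₁, hw₁⟩ := hΨs ![0, 1]
  obtain ⟨w, hwdef⟩ : ∃ w : Fin 2 → ι → F, w = ![(w₀ : ι → F), w₁] := ⟨_, rfl⟩
  have hwm : ∀ i, w i ∈ D 1 := fun i => by
    subst hwdef
    fin_cases i
    · exact w₀.2
    · exact w₁.2
  have f00 : f (u 0) (w 0) = 1 := by rw [hwdef]; exact congrFun hw₀ 0
  have f10 : f (u 1) (w 0) = 0 := by rw [hwdef]; exact congrFun hw₀ 1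
  have f01 : f (u 0) (w 1) = 0 := by rw [hwdef]; exact congrFun hw₁ 0
  have f11 : f (u 1) (w 1) = 1 := by rw [hwdef]; exact congrFun hw₁ 1
  have hwspan : ∀ b ∈ D 1, ∃ x y : F, b = x • w 0 + y • w 1 := fun b hb' => by
    refine ⟨f (u 0) b, f (u 1) b, ?_⟩
    have h : (⟨b, hb'⟩ : D 1) = f (u 0) b • ⟨w 0, hwm 0⟩ + f (u 1) b • ⟨w 1, hwm 1⟩ := hΨi (by
      funext i
      show f (u i) b = f (u i) (f (u 0) b • w 0 + f (u 1) b • w 1)
      rw [hb.add_right, hb.smul_right, hb.smul_right]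
      fin_cases i
      · show f (u 0) b = f (u 0) b * f (u 0) (w 0) + f (u 1) b * f (u 0) (w 1)
        rw [f00, f01]; ring
      · show f (u 1) b = f (u 0) b * f (u 1) (w 0) + f (u 1) b * f (u 1) (w 1)
        rw [f10, f11]; ring)
    exact congrArg Subtype.val h
  have huu : ∀ i j, f (u i) (u j) = 0 := fun i j => hts 0 _ (hum i) _ (hum j)
  have hww : ∀ i j, f (w i) (w j) = 0 := fun i j => hts 1 _ (hwm i) _ (hwm j)
  -- the planes
  let sgn : Fin 2 → F := ![1, -1]
  let pa : F → ι → F := fun c => u 0 + c • w 1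
  let pb : F → ι → F := fun c => u 1 + (-c) • w 0
  have hpair : ∀ c d : F, f (pa c) (pa d) = 0 ∧ f (pb c) (pb d) = 0 ∧
      f (pa c) (pb d) = -d - c ∧ f (pb c) (pa d) = c + d := by
    intro c d
    simp only [pa, pb, hb.add_left, hb.add_right, hb.smul_left, hb.smul_right, huu, hww,
      hsk (u 0) (w 1), hsk (u 1) (w 0), hsk (u 0) (w 0), hsk (u 1) (w 1), f00, f10, f01, f11]
    refine ⟨?_, ?_, ?_, ?_⟩ <;> ring
  let L : Fin 2 → ((Fin 2 → F) →ₗ[F] (ι → F)) := fun i =>
    { toFun := fun x => x 0 • pa (sgn i) + x 1 • pb (sgn i)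
      map_add' := fun x y => by simp only [Pi.add_apply, add_smul]; abel
      map_smul' := fun c x => by simp only [Pi.smul_apply, smul_eq_mul, RingHom.id_apply, smul_add, smul_smul] }
  have hLval : ∀ i (x y : Fin 2 → F) j, f (L i x) (L j y) =
      (sgn i + sgn j) * (x 1 * y 0 - x 0 * y 1) := by
    intro i x y j
    obtain ⟨e1, e2, e3, e4⟩ := hpair (sgn i) (sgn j)
    show f (x 0 • pa (sgn i) + x 1 • pb (sgn i)) (y 0 • pa (sgn j) + y 1 • pb (sgn j)) = _
    rw [hb.add_left, hb.add_right, hb.add_right, hb.smul_left, hb.smul_left, hb.smul_left, hb.smul_left,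
      hb.smul_right, hb.smul_right, hb.smul_right, hb.smul_right, e1, e2, e3, e4]
    ring
  have hsgn : ∀ i, sgn i + sgn i ≠ 0 := fun i => by
    fin_cases i
    · show (1 : F) + 1 ≠ 0
      rw [one_add_one_eq_two]; exact h2
    · show (-1 : F) + -1 ≠ 0
      exact fun h => h2 (by linear_combination -h)
  have hLi : ∀ i, Function.Injective (L i) := by
    intro i
    rw [injective_iff_map_eq_zero]
    intro x hx
    have e1 := hLval i x ![1, 0] i
    have e2 := hLval i x ![0, 1] i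
    rw [hx, hf.sesq.zero_left] at e1 e2
    have g1 := (mul_eq_zero.1 e1.symm).resolve_left (hsgn i)
    have g2 := (mul_eq_zero.1 e2.symm).resolve_left (hsgn i)
    simp at g1 g2
    funext j
    fin_cases j
    · exact g2
    · exact g1
  let D' : Fin 2 → Submodule F (ι → F) := fun i => LinearMap.range (L i)
  have hnd : ∀ i, Cfsg.Geo.IsNondegenerateOn f (D' i) := by
    rintro i _ ⟨x, rfl⟩ hx0
    have hx : x 0 ≠ 0 ∨ x 1 ≠ 0 := by
      by_contra h
      push Not at h
      exact hx0 (by rw [show x = 0 from funext fun j => by fin_cases j <;> simp [h.1, h.2], map_zero])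
    obtain ⟨y, hy⟩ : ∃ y : Fin 2 → F, x 1 * y 0 - x 0 * y 1 ≠ 0 := by
      rcases hx with h | h
      · exact ⟨![0, 1], by simpa using h⟩
      · exact ⟨![1, 0], by simpa using h⟩
    refine ⟨⟨L i y, ⟨y, rfl⟩, ?_⟩, L i y, ⟨y, rfl⟩, ?_⟩ <;> rw [hLval] <;> refine mul_ne_zero (hsgn i) ?_
    · exact fun h => hy (by linear_combination -h)
    · exact hy
  have horth : ∀ i j, i ≠ j → Cfsg.Geo.AreOrthogonalFor f (D' i) (D' j) := by
    rintro i j hij _ ⟨x, rfl⟩ _ ⟨y, rfl⟩
    rw [hLval, show sgn i + sgn j = 0 by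
      fin_cases i <;> fin_cases j
      · exact absurd rfl hij
      · show (1 : F) + -1 = 0; ring
      · show (-1 : F) + 1 = 0; ring
      · exact absurd rfl hij, zero_mul]
  have hsup : iSup D' = ⊤ := by
    refine eq_top_iff.2 fun v _ => ?_
    have hcomb : ∀ (i : Fin 2) (x y : F), x • pa (sgn i) + y • pb (sgn i) ∈ iSup D' := fun i x y =>
      le_iSup D' i ⟨![x, y], by simp [L]⟩
    have hu' : ∀ i, u i ∈ iSup D' := fun i => by
      have e : u i = (2 : F)⁻¹ • ((if i = 0 then pa 1 else pb 1) + (if i = 0 then pa (-1) else pb (-1))) := by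
        fin_cases i <;>
          simp only [pa, pb, Fin.zero_eta, Fin.mk_one, if_true, one_ne_zero, if_false] <;>
          rw [show ∀ a b : ι → F, ∀ c : F, a + c • b + (a + (-c) • b) = (2 : F) • a from fun a b c => by
            rw [two_smul]; module] <;>
          rw [smul_smul, inv_mul_cancel₀ h2, one_smul]
      rw [e]
      refine Submodule.smul_mem _ _ (add_mem ?_ ?_) <;> split_ifs
      · simpa [sgn] using hcomb 0 1 0
      · simpa [sgn] using hcomb 0 0 1
      · simpa [sgn] using hcomb 1 1 0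
      · simpa [sgn] using hcomb 1 0 1
    have hw' : ∀ i, w i ∈ iSup D' := fun i => by
      fin_cases i
      · have := sub_mem (hu' 1) (by simpa [sgn] using hcomb 0 0 1)
        simpa [pb] using this
      · have := sub_mem (by simpa [sgn] using hcomb 0 1 0) (hu' 0)
        simpa [pa] using this
    obtain ⟨a, ha, b, hb', rfl⟩ := hsplit v
    obtain ⟨x, y, rfl⟩ := huspan a ha
    obtain ⟨x', y', rfl⟩ := hwspan b hb'
    exact add_mem (add_mem (Submodule.smul_mem _ _ (hu' 0)) (Submodule.smul_mem _ _ (hu' 1)))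
      (add_mem (Submodule.smul_mem _ _ (hw' 0)) (Submodule.smul_mem _ _ (hw' 1)))
  refine ⟨D', ⟨⟨le_rfl, two_pos, fun i => by
    rw [LinearMap.finrank_range_of_inj (hLi i), Module.finrank_fin_fun],
    hf.indep_of_orth hnd horth, hsup⟩, hnd, horth⟩, fun g hg => ?_⟩
  obtain ⟨σ, hσ⟩ := hle hg
  obtain ⟨T, hT⟩ : ∃ T, Matrix.toLin' (g : Matrix ι ι F) = T := ⟨_, rfl⟩
  have hiso : ∀ a b, f (T a) (T b) = f a b := fun a b => by
    rw [← hT, Matrix.toLin'_apply, Matrix.toLin'_apply]; exact isometry_apply hH hg a b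
  have himg : ∀ i, ∀ x ∈ D i, T x ∈ D (σ i) := fun i x hx => by
    rw [← hσ i, hT]; exact Submodule.mem_map_of_mem hx
  -- the determinant scales the sign
  obtain ⟨d, hd, hga, hgb⟩ : ∃ d : F, d ≠ 0 ∧ (∀ c : F, c * c = 1 → ∃ s t : F, T (pa c) = s • pa (c * d) + t • pb (c * d)) ∧
      (∀ c : F, c * c = 1 → ∃ s t : F, T (pb c) = s • pa (c * d) + t • pb (c * d)) := by
    rcases Fin.exists_fin_two.1 ⟨σ 0, rfl⟩ with h0 | h0
    · have h1 : σ 1 = 1 := by
        rcases Fin.exists_fin_two.1 ⟨σ 1, rfl⟩ with h | h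
        · exact absurd (σ.injective (h0.trans h.symm)) (by decide)
        · exact h
      obtain ⟨A00, A10, eA0⟩ := huspan _ (h0 ▸ himg 0 _ (hum 0))
      obtain ⟨A01, A11, eA1⟩ := huspan _ (h0 ▸ himg 0 _ (hum 1))
      obtain ⟨B00, B10, eB0⟩ := hwspan _ (h1 ▸ himg 1 _ (hwm 0))
      obtain ⟨B01, B11, eB1⟩ := hwspan _ (h1 ▸ himg 1 _ (hwm 1))
      have r00 := hiso (u 0) (w 0)
      have r01 := hiso (u 0) (w 1)
      have r10 := hiso (u 1) (w 0)
      have r11 := hiso (u 1) (w 1)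
      simp only [eA0, eA1, eB0, eB1, hb.add_left, hb.add_right, hb.smul_left, hb.smul_right, f00,
        f10, f01, f11] at r00 r01 r10 r11
      ring_nf at r00 r01 r10 r11
      obtain ⟨d, hd⟩ : ∃ d, A00 * A11 - A01 * A10 = d := ⟨_, rfl⟩
      have i11 : B11 * d = A00 := by subst hd; linear_combination A00 * r11 - A01 * r01
      have i01 : B01 * d = -A10 := by subst hd; linear_combination A11 * r01 - A10 * r11
      have i00 : B00 * d = A11 := by subst hd; linear_combination A11 * r00 - A10 * r10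
      have i10 : B10 * d = -A01 := by subst hd; linear_combination A00 * r10 - A01 * r00
      have hd0 : d ≠ 0 := fun h => by
        rw [h, mul_zero] at i11 i01
        rw [← i11, show A10 = 0 by linear_combination i01] at r00
        simp at r00
      have hdd := hsq d hd0
      refine ⟨d, hd0, fun c hc => ⟨A00, A10, ?_⟩, fun c hc => ⟨A01, A11, ?_⟩⟩
      · simp only [pa, pb, map_add, map_smul, eA0, eB1]
        rw [show B11 = d * A00 by linear_combination (d : F) * i11 - B11 * hdd,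
          show B01 = -(d * A10) by linear_combination (d : F) * i01 - B01 * hdd]
        module
      · simp only [pa, pb, map_add, map_smul, eA1, eB0]
        rw [show B00 = d * A11 by linear_combination (d : F) * i00 - B00 * hdd,
          show B10 = -(d * A01) by linear_combination (d : F) * i10 - B10 * hdd]
        module
    · have h1 : σ 1 = 0 := by
        rcases Fin.exists_fin_two.1 ⟨σ 1, rfl⟩ with h | h
        · exact h
        · exact absurd (σ.injective (h0.trans h.symm)) (by decide)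
      obtain ⟨A00, A10, eA0⟩ := hwspan _ (h0 ▸ himg 0 _ (hum 0))
      obtain ⟨A01, A11, eA1⟩ := hwspan _ (h0 ▸ himg 0 _ (hum 1))
      obtain ⟨B00, B10, eB0⟩ := huspan _ (h1 ▸ himg 1 _ (hwm 0))
      obtain ⟨B01, B11, eB1⟩ := huspan _ (h1 ▸ himg 1 _ (hwm 1))
      have r00 := hiso (u 0) (w 0)
      have r01 := hiso (u 0) (w 1)
      have r10 := hiso (u 1) (w 0)
      have r11 := hiso (u 1) (w 1)
      simp only [eA0, eA1, eB0, eB1, hb.add_left, hb.add_right, hb.smul_left, hb.smul_right,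
        hsk (u 0) (w 0), hsk (u 0) (w 1), hsk (u 1) (w 0), hsk (u 1) (w 1), f00, f10, f01, f11] at r00 r01 r10 r11
      ring_nf at r00 r01 r10 r11
      obtain ⟨d, hd⟩ : ∃ d, A00 * A11 - A01 * A10 = d := ⟨_, rfl⟩
      have i11 : B11 * d = -A00 := by subst hd; linear_combination (-A00) * r11 + A01 * r01
      have i01 : B01 * d = A10 := by subst hd; linear_combination (-A11) * r01 + A10 * r11
      have i00 : B00 * d = -A11 := by subst hd; linear_combination (-A11) * r00 + A10 * r10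
      have i10 : B10 * d = A01 := by subst hd; linear_combination (-A00) * r10 + A01 * r00
      have hd0 : d ≠ 0 := fun h => by
        rw [h, mul_zero] at i11 i01
        rw [show A00 = 0 by linear_combination i11, ← i01] at r00
        simp at r00
      have hdd := hsq d hd0
      refine ⟨d, hd0, fun c hc => ⟨c * B01, c * B11, ?_⟩, fun c hc => ⟨-c * B00, -c * B10, ?_⟩⟩
      · simp only [pa, pb, map_add, map_smul, eA0, eB1]
        rw [show A00 = -(c * c * (B11 * d)) by rw [hc, i11]; ring,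
          show A10 = c * c * (B01 * d) by rw [hc, i01]; ring]
        module
      · simp only [pa, pb, map_add, map_smul, eA1, eB0]
        rw [show A01 = c * c * (B10 * d) by rw [hc, i10]; ring,
          show A11 = -(c * c * (B00 * d)) by rw [hc, i00]; ring]
        module
  have hd1 : d = 1 ∨ d = -1 := mul_self_eq_one_iff.1 (hsq d hd)
  let π : Equiv.Perm (Fin 2) := if d = 1 then 1 else Equiv.swap 0 1
  have hπ : ∀ i, sgn (π i) = sgn i * d := by
    intro i
    rcases hd1 with rfl | rfl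
    · simp [π]
    · have : (-1 : F) ≠ 1 := fun h => h2 (by linear_combination -h)
      fin_cases i <;> simp [π, this, sgn]
  refine ⟨π, fun i => Submodule.eq_of_le_of_finrank_le ?_ ?_⟩
  · rintro _ ⟨_, ⟨x, rfl⟩, rfl⟩
    have hs : sgn i * sgn i = 1 := by fin_cases i <;> simp [sgn]
    obtain ⟨s, t, e1⟩ := hga _ hs
    obtain ⟨s', t', e2⟩ := hgb _ hs
    refine ⟨![x 0 * s + x 1 * s', x 0 * t + x 1 * t'], ?_⟩
    rw [hT]
    show _ = T (x 0 • pa (sgn i) + x 1 • pb (sgn i))
    simp only [L, LinearMap.coe_mk, AddHom.coe_mk, map_add, map_smul, e1, e2, ← hπ,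
      Matrix.cons_val_zero, Matrix.cons_val_one]
    module
  · have hinj : Function.Injective (Matrix.toLin' (g : Matrix ι ι F)) := fun x y h => by
      simp only [Matrix.toLin'_apply] at h
      exact mulVec_injective g h
    rw [← (Submodule.equivMapOfInjective _ hinj (D' i)).finrank_eq]
    show finrank F (LinearMap.range (L _)) ≤ finrank F (LinearMap.range (L i))
    rw [LinearMap.finrank_range_of_inj (hLi _), LinearMap.finrank_range_of_inj (hLi _)]

end Planes

end CfsgLib.Aschbacher
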