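import Cfsg.Agent.Lib.Aschbacher.SympGeneral

/-!
Small fields in the symplectic classes: planes over the field of two elements, three-dimensional
orthogonal factors over the field of three elements; and the degree of a self-adjoint field.
-/

set_option autoImplicit false
set_option maxHeartbeats 400000

namespace CfsgLib.Aschbacher

open Matrix Module

open scoped Kronecker

variable {F : Type*} [Field F] {ι : Type} [Fintype ι] [DecidableEq ι] {ε : F}
  {f : (ι → F) → (ι → F) → F}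

omit [DecidableEq ι] in
lemma IsSesq.sum_left {σ : F ≃+* F} (h : IsSesq σ f) {κ : Type} (s : Finset κ) (x : κ → ι → F)
    (v : ι → F) : f (∑ i ∈ s, x i) v = ∑ i ∈ s, f (x i) v :=
  map_sum (AddMonoidHom.mk' (fun z => f z v) fun a b => h.add_left a b v) x s

omit [DecidableEq ι] in
lemma IsSesq.sum_right {σ : F ≃+* F} (h : IsSesq σ f) {κ : Type} (s : Finset κ) (v : ι → F)
    (x : κ → ι → F) : f v (∑ i ∈ s, x i) = ∑ i ∈ s, f v (x i) :=
  map_sum (AddMonoidHom.mk' (fun z => f v z) (h.add_right v)) x s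

/-- Orthogonal planes over the field of two elements carry an invariant quadratic form. -/
theorem planes_quad [Fintype F] (hq : Fintype.card F = 2) (hf : IsRefl (RingEquiv.refl F) ε f)
    (halt : ∀ v, f v v = 0) {t : ℕ} {D : Fin t → Submodule F (ι → F)}
    (hD : Cfsg.Geo.IsNondegenerateMDecomposition f 2 D) {H : Subgroup (GL ι F)}
    (hH : Cfsg.Geo.FixesForm (Cfsg.Geo.matrixSet H) f)
    (hle : H ≤ Cfsg.Geo.decompositionStabilizer D) :
    ∃ Q : (ι → F) → F, Cfsg.Geo.IsNondegenerateQuadraticForm Q ∧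
      (∀ u v, QuadraticMap.polar Q u v = f u v) ∧ H ≤ Cfsg.Geo.quadSimilarityGroup Q := by
  classical
  have hne1 : ∀ x : F, x ≠ 0 → x = 1 := fun x hx => by
    have := FiniteField.pow_card_sub_one_eq_one x hx
    rwa [hq, Nat.succ_sub_succ_eq_sub, Nat.sub_zero, pow_one] at this
  have h2 : (2 : F) = 0 := two_eq_zero_iff.2 (by rw [hq]; decide)
  have h2' : ∀ x : ι → F, x + x = 0 := fun x => by rw [← two_smul F x, h2, zero_smul]
  have hdec : ∀ v : ι → F, ∃ x : Fin t → ι → F, (∀ i, x i ∈ D i) ∧ v = ∑ i, x i := by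
    intro v
    obtain ⟨x, hx, hsum⟩ := (Submodule.mem_iSup_iff_exists_finsupp D v).1
      (hD.decomp.iSup_eq_top ▸ Submodule.mem_top)
    refine ⟨fun i => x i, hx, ?_⟩
    rw [← hsum, Finsupp.sum_fintype _ _ fun _ => rfl]
  let ind : Fin t → (ι → F) → F := fun i v => if v ∈ perp hf.sesq (D i) then 0 else 1
  have hind : ∀ (x : Fin t → ι → F), (∀ i, x i ∈ D i) → ∀ i,
      ind i (∑ j, x j) = if x i = 0 then 0 else 1 := by
    intro x hx i
    refine if_congr ?_ rfl rfl
    rw [mem_perp]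
    have heq : ∀ w ∈ D i, f (∑ j, x j) w = f (x i) w := by
      intro w hw
      rw [hf.sesq.sum_left, Finset.sum_eq_single i (fun j _ hj => hD.orthogonal j i hj _ (hx j) _ hw)
        (by simp)]
    constructor
    · intro h
      by_contra h0
      obtain ⟨-, w, hw, hne⟩ := hD.nondegenerate i _ (hx i) h0
      exact hne (by rw [← heq w hw]; exact h w hw)
    · intro h w hw
      rw [heq w hw, h, hf.sesq.zero_left]
  let Q : (ι → F) → F := fun v => ∑ i, ind i v
  have hpol : ∀ u v, QuadraticMap.polar Q u v = f u v := by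
    intro u v
    obtain ⟨x, hx, rfl⟩ := hdec u
    obtain ⟨y, hy, rfl⟩ := hdec v
    have hxy : ∀ i, x i + y i ∈ D i := fun i => add_mem (hx i) (hy i)
    have hf1 : f (∑ i, x i) (∑ i, y i) = ∑ i, f (x i) (y i) := by
      rw [hf.sesq.sum_left]
      refine Finset.sum_congr rfl fun i _ => ?_
      rw [hf.sesq.sum_right, Finset.sum_eq_single i
        (fun j _ hj => hD.orthogonal i j (Ne.symm hj) _ (hx i) _ (hy j)) (by simp)]
    rw [hf1, QuadraticMap.polar, ← Finset.sum_add_distrib]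
    simp only [Q, hind _ hxy, hind x hx, hind y hy, ← Finset.sum_sub_distrib]
    refine Finset.sum_congr rfl fun i _ => ?_
    by_cases ha : x i = 0
    · simp [ha, hf.sesq.zero_left]
    by_cases hb : y i = 0
    · simp [hb, hf.sesq.zero_right]
    by_cases hab : x i + y i = 0
    · have hyx : y i = x i := by
        rw [eq_neg_of_add_eq_zero_right hab]
        exact neg_eq_of_add_eq_zero_right (h2' _)
      simp only [ha, if_false, hyx, halt, h2' (x i), if_true]
      linear_combination -h2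
    simp only [hab, ha, hb, if_false]
    have hfne : f (x i) (y i) ≠ 0 := by
      intro h0
      have hind2 : y i ∉ F ∙ x i := by
        intro h
        obtain ⟨c, hc⟩ := Submodule.mem_span_singleton.1 h
        rcases eq_or_ne c 0 with rfl | hc0
        · exact hb (by rw [← hc, zero_smul])
        · rw [hne1 c hc0, one_smul] at hc
          exact hab (by rw [← hc]; exact h2' _)
      obtain ⟨-, w, hw, hne⟩ := hD.nondegenerate i _ (hx i) ha
      refine hne ?_
      have hspan : (F ∙ x i) ⊔ (F ∙ y i) = D i := by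
        refine Submodule.eq_of_le_of_finrank_le (sup_le
          ((Submodule.span_singleton_le_iff_mem _ _).2 (hx i))
          ((Submodule.span_singleton_le_iff_mem _ _).2 (hy i))) ?_
        rw [hD.decomp.finrank_eq]
        have hlt : (F ∙ x i) < (F ∙ x i) ⊔ (F ∙ y i) := lt_of_le_of_ne le_sup_left fun h =>
          hind2 (h ▸ Submodule.mem_sup_right (Submodule.mem_span_singleton_self _))
        have := Submodule.finrank_lt_finrank_of_lt hlt
        rw [finrank_span_singleton ha] at this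
        omega
      rw [← hspan] at hw
      obtain ⟨a, ha', b, hb', rfl⟩ := Submodule.mem_sup.1 hw
      obtain ⟨c, rfl⟩ := Submodule.mem_span_singleton.1 ha'
      obtain ⟨d, rfl⟩ := Submodule.mem_span_singleton.1 hb'
      rw [hf.sesq.add_right, hf.bilinear.smul_right, hf.bilinear.smul_right, halt, h0, mul_zero,
        mul_zero, add_zero]
    rw [hne1 _ hfne]
    linear_combination -h2
  refine ⟨Q, quad_of_polar (fun c v => ?_) hf.bilinear hf.nondeg hpol, hpol,
    fun g hg => ⟨1, fun v => ?_⟩⟩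
  · rcases eq_or_ne c 0 with rfl | hc
    · simp only [Q, zero_smul, ind, Submodule.zero_mem, if_true, Finset.sum_const_zero]
      ring
    · rw [hne1 c hc, one_smul, one_pow, one_mul]
  obtain ⟨π, hπ⟩ := tr_le_of_le_stabilizer hle hg
  rw [Units.val_one, one_mul]
  show ∑ i, ind i _ = ∑ i, ind i v
  rw [← Equiv.sum_comp π]
  refine Finset.sum_congr rfl fun i _ => if_congr ?_ rfl rfl
  rw [mem_perp, mem_perp, ← hπ i]
  constructor
  · intro h w hw
    rw [← isometry_apply hH hg v w]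
    exact h _ (mem_tr.2 ⟨w, hw, rfl⟩)
  · intro h w hw
    obtain ⟨z, hz, rfl⟩ := mem_tr.1 hw
    rw [isometry_apply hH hg]
    exact h z hz

/-- A self-adjoint field `K` with `f (k v) v = 0` has twice its degree dividing the dimension. -/
theorem self_adjoint_field_dvd [Nonempty ι] (hf : IsRefl (RingEquiv.refl F) ε f) {r : ℕ}
    {K : Subalgebra F (Matrix ι ι F)} (hK : Cfsg.Geo.IsFieldSubalgebra r K)
    (hsa : Cfsg.Geo.IsSelfAdjointFor f K) (hzero : ∀ k ∈ K, ∀ v, f (k *ᵥ v) v = 0) :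
    2 * r ∣ Fintype.card ι := by
  suffices h : ∀ d (W : Submodule F (ι → F)), finrank F W = d → (∀ k ∈ K, ∀ w ∈ W, k *ᵥ w ∈ W) →
      Cfsg.Geo.IsNondegenerateOn f W → 2 * r ∣ d by
    refine h _ ⊤ (by simp [Module.finrank_fintype_fun_eq_card]) (fun _ _ _ _ => Submodule.mem_top) ?_
    intro w _ hw
    obtain ⟨⟨a, ha⟩, b, hb⟩ := hf.nondeg w hw
    exact ⟨⟨a, Submodule.mem_top, ha⟩, b, Submodule.mem_top, hb⟩
  intro d
  induction d using Nat.strong_induction_on with
  | _ d ih =>
    intro W hWd hinv hnd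
    by_cases hWb : W = ⊥
    · rw [← hWd, hWb, finrank_bot]; exact dvd_zero _
    obtain ⟨u, hu, hu0⟩ := Submodule.exists_mem_ne_zero_of_ne_bot hWb
    obtain ⟨-, v, hv, huv⟩ := hnd u hu hu0
    have hkk : ∀ w : ι → F, ∀ k ∈ K, ∀ l ∈ K, f (k *ᵥ w) (l *ᵥ w) = 0 := by
      intro w k hk l hl
      rw [← hsa l hl, Matrix.mulVec_mulVec]
      exact hzero _ (mul_mem hl hk) w
    let Φ : (K × K) →ₗ[F] (ι → F) :=
      { toFun := fun p => (p.1 : Matrix ι ι F) *ᵥ u + (p.2 : Matrix ι ι F) *ᵥ v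
        map_add' := fun p q => by
          simp only [Prod.fst_add, Prod.snd_add, Subalgebra.coe_add, Matrix.add_mulVec]; abel
        map_smul' := fun c p => by
          simp [Matrix.smul_mulVec, smul_add] }
    set U := LinearMap.range Φ with hU
    -- every non-zero element pairs with an element of the range
    have hpair : ∀ p : K × K, p ≠ 0 → ∃ q, f (Φ p) (Φ q) ≠ 0 := by
      intro p hp
      by_cases hl : p.2 = 0
      · have hk : (p.1 : Matrix ι ι F) ≠ 0 := fun h => hp (Prod.ext (Subtype.ext h) hl)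
        obtain ⟨k', hk', hkk'⟩ := hK.inv _ p.1.2 hk
        refine ⟨(0, ⟨k', hk'⟩), ?_⟩
        show f ((p.1 : Matrix ι ι F) *ᵥ u + (p.2 : Matrix ι ι F) *ᵥ v)
          ((0 : Matrix ι ι F) *ᵥ u + k' *ᵥ v) ≠ 0
        rw [hl, ZeroMemClass.coe_zero, Matrix.zero_mulVec, Matrix.zero_mulVec, add_zero, zero_add,
          ← hsa k' hk', Matrix.mulVec_mulVec, hK.comm k' hk' _ p.1.2, hkk', Matrix.one_mulVec]
        exact huv
      · obtain ⟨l', hl', hll'⟩ := hK.inv _ p.2.2 fun h => hl (Subtype.ext h)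
        refine ⟨(⟨l', hl'⟩, 0), ?_⟩
        show f ((p.1 : Matrix ι ι F) *ᵥ u + (p.2 : Matrix ι ι F) *ᵥ v)
          (l' *ᵥ u + (0 : Matrix ι ι F) *ᵥ v) ≠ 0
        rw [Matrix.zero_mulVec, add_zero, hf.sesq.add_left, hkk u _ p.1.2 _ hl', zero_add,
          hsa _ p.2.2, Matrix.mulVec_mulVec, hll', Matrix.one_mulVec]
        exact fun h => huv (hf.zero_iff.1 h)
    have hinj : Function.Injective Φ := by
      rw [injective_iff_map_eq_zero]
      intro p hp
      by_contra hp0
      obtain ⟨q, hq⟩ := hpair p hp0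
      exact hq (by rw [hp, hf.sesq.zero_left])
    have hUd : finrank F U = 2 * r := by
      rw [hU, LinearMap.finrank_range_of_inj hinj, finrank_prod, hK.finrank_eq]; ring
    have hUW : U ≤ W := by
      rintro _ ⟨p, rfl⟩
      exact add_mem (hinv _ p.1.2 _ hu) (hinv _ p.2.2 _ hv)
    have hUnd : U ⊓ perp hf.sesq U = ⊥ := by
      refine eq_bot_iff.2 fun x hx => (Submodule.mem_bot F).2 ?_
      obtain ⟨p, rfl⟩ := hx.1
      by_contra hp
      obtain ⟨q, hq⟩ := hpair p fun h => hp (by rw [h, map_zero])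
      exact hq (hx.2 _ ⟨q, rfl⟩)
    have hsup : U ⊔ perp hf.sesq U = ⊤ := by
      refine Submodule.eq_top_of_finrank_eq ?_
      have h1 := Submodule.finrank_sup_add_finrank_inf_eq U (perp hf.sesq U)
      rw [hUnd, finrank_bot, add_zero, hf.finrank_perp] at h1
      rw [h1, Module.finrank_fintype_fun_eq_card]
    set W' := perp hf.sesq U ⊓ W with hW'
    have hWsplit : U ⊔ W' = W := by
      rw [hW', ← sup_inf_assoc_of_le _ hUW, hsup, top_inf_eq]
    have hW'fr : finrank F W' + 2 * r = d := by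
      have h1 := Submodule.finrank_sup_add_finrank_inf_eq U W'
      rw [hWsplit, hWd, hUd, hW', ← inf_assoc, hUnd, bot_inf_eq, finrank_bot, add_zero] at h1
      rw [hW']
      omega
    have hr : 0 < r := by
      rw [← hK.finrank_eq]
      have : Nontrivial ↥K := ⟨⟨0, 1, fun h => zero_ne_one (congrArg Subtype.val h)⟩⟩
      exact Module.finrank_pos
    have h := ih (finrank F W') (by omega) W' rfl (fun k hk w hw => ⟨fun z hz => ?_, hinv k hk w hw.2⟩) ?_
    · rw [← hW'fr]; exact Nat.dvd_add h dvd_rfl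
    · obtain ⟨p, rfl⟩ := hz
      rw [hsa k hk]
      refine hw.1 _ ⟨(⟨k, hk⟩ * p.1, ⟨k, hk⟩ * p.2), ?_⟩
      show (k * (p.1 : Matrix ι ι F)) *ᵥ u + (k * (p.2 : Matrix ι ι F)) *ᵥ v = _
      rw [← Matrix.mulVec_mulVec, ← Matrix.mulVec_mulVec, ← Matrix.mulVec_add]
      rfl
    · refine hf.nondegenerateOn_iff.2 (eq_bot_iff.2 fun x hx => (Submodule.mem_bot F).2 ?_)
      by_contra hx0
      obtain ⟨-, y, hy, hxy⟩ := hnd x hx.1.2 hx0
      rw [← hWsplit] at hy
      obtain ⟨a, ha, b, hb, rfl⟩ := Submodule.mem_sup.1 hy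
      rw [hf.sesq.add_right, hx.1.1 a ha, hx.2 b hb, add_zero] at hxy
      exact hxy rfl

/-- A tensor Gram matrix on product vectors. -/
lemma formOfGram_kron_pure {κ₁ κ₂ : Type} [Fintype κ₁] [Fintype κ₂] (G₁ : Matrix κ₁ κ₁ F)
    (G₂ : Matrix κ₂ κ₂ F) (x y : κ₁ → F) (x' y' : κ₂ → F) :
    Cfsg.Geo.formOfGram id (G₁ ⊗ₖ G₂) (fun p : κ₁ × κ₂ => x p.1 * x' p.2)
        (fun p : κ₁ × κ₂ => y p.1 * y' p.2) =
      Cfsg.Geo.formOfGram id G₁ x y * Cfsg.Geo.formOfGram id G₂ x' y' := by
  simp only [Cfsg.Geo.formOfGram, id, Fintype.sum_prod_type, Matrix.kroneckerMap_apply]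
  rw [Finset.sum_mul_sum]
  refine Finset.sum_congr rfl fun p _ => Finset.sum_congr rfl fun q _ => ?_
  rw [Finset.sum_mul_sum]
  exact Finset.sum_congr rfl fun p' _ => Finset.sum_congr rfl fun q' _ => by ring

/-- A tensor of matrices on product vectors. -/
lemma kron_mulVec_pure {κ₁ κ₂ : Type} [Fintype κ₁] [Fintype κ₂] (c : Matrix κ₁ κ₁ F)
    (d : Matrix κ₂ κ₂ F) (x : κ₁ → F) (y : κ₂ → F) :
    (c ⊗ₖ d) *ᵥ (fun p : κ₁ × κ₂ => x p.1 * y p.2) =
      fun p : κ₁ × κ₂ => (c *ᵥ x) p.1 * (d *ᵥ y) p.2 := by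
  funext p
  simp only [Matrix.mulVec, dotProduct, Matrix.kroneckerMap_apply, Fintype.sum_prod_type]
  rw [Finset.sum_mul_sum]
  exact Finset.sum_congr rfl fun q _ => Finset.sum_congr rfl fun r _ => by ring

/-- A three-dimensional symmetric form over the field of three elements has an orthogonal frame
carrying all vectors of one norm. -/
lemma exists_norm_frame [Fintype F] (hq : Fintype.card F = 3) {f₂ : (Fin 3 → F) → (Fin 3 → F) → F}
    (h₂ : Cfsg.Geo.IsSymmetricForm f₂) :
    ∃ (w : Basis (Fin 3) F (Fin 3 → F)) (δ : F), δ ≠ 0 ∧ (∀ i, f₂ (w i) (w i) = δ) ∧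
      (∀ i j, i ≠ j → f₂ (w i) (w j) = 0) ∧
      ∀ x, f₂ x x = δ → ∃ i, ∃ c : F, x = c • w i := by
  classical
  have hsq : ∀ a : F, a ≠ 0 → a * a = 1 := fun a ha => by
    have := FiniteField.pow_card_sub_one_eq_one a ha
    rwa [hq, show (3 : ℕ) - 1 = 2 from rfl, sq] at this
  have h3 : (3 : F) = 0 := by
    have := FiniteField.cast_card_eq_zero F
    rw [hq] at this
    exact_mod_cast this
  have h2 : (2 : F) ≠ 0 := fun h => one_ne_zero (show (1 : F) = 0 by linear_combination h3 - h)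
  have hval : ∀ a : F, a ≠ 0 → a = 1 ∨ a = -1 := fun a ha => mul_self_eq_one_iff.1 (hsq a ha)
  let B : LinearMap.BilinForm F (Fin 3 → F) :=
    LinearMap.mk₂ F f₂ h₂.bilinear.add_left (fun c x y => by rw [h₂.bilinear.smul_left, smul_eq_mul])
      h₂.bilinear.add_right (fun c x y => by rw [h₂.bilinear.smul_right, smul_eq_mul])
  have : Invertible (2 : F) := invertibleOfNonzero h2
  have hBs : LinearMap.IsSymm B := ⟨fun x y => h₂.symm x y⟩
  obtain ⟨b₀, hb₀⟩ := LinearMap.BilinForm.exists_orthogonal_basis hBs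
  let v := b₀.reindex (finCongr (Module.finrank_fin_fun F))
  have hvo : ∀ i j, i ≠ j → f₂ (v i) (v j) = 0 := by
    intro i j hij
    simp only [v, Basis.reindex_apply]
    exact hb₀ (fun h => hij ((finCongr _).symm.injective h))
  have hvd : ∀ i, f₂ (v i) (v i) ≠ 0 := by
    intro i h0
    obtain ⟨⟨x, hx⟩, -⟩ := h₂.nondegenerate (v i) (v.ne_zero i)
    apply hx
    rw [← v.sum_repr x]
    rw [(isSesq_of_bilinear h₂.bilinear).sum_left]
    refine Finset.sum_eq_zero fun j _ => ?_
    rw [h₂.bilinear.smul_left]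
    by_cases hji : j = i
    · subst hji; rw [h0, mul_zero]
    · rw [hvo j i hji, mul_zero]
  -- a family with one norm
  obtain ⟨w, δ, hδ, hwd, hwo⟩ : ∃ (w : Fin 3 → Fin 3 → F) (δ : F), δ ≠ 0 ∧
      (∀ i, f₂ (w i) (w i) = δ) ∧ ∀ i j, i ≠ j → f₂ (w i) (w j) = 0 := by
    have key : ∀ i j k, i ≠ j → i ≠ k → j ≠ k → f₂ (v i) (v i) = f₂ (v j) (v j) →
        f₂ (v k) (v k) = -f₂ (v i) (v i) → ∃ (w : Fin 3 → Fin 3 → F) (δ : F), δ ≠ 0 ∧
          (∀ i, f₂ (w i) (w i) = δ) ∧ ∀ i j, i ≠ j → f₂ (w i) (w j) = 0 := by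
      intro i j k hij hik hjk he hk
      set a := f₂ (v i) (v i)
      have hji := h₂.symm (v j) (v i)
      have hki := h₂.symm (v k) (v i)
      have hkj := h₂.symm (v k) (v j)
      have e := hvo i j hij
      have e' := hvo i k hik
      have e'' := hvo j k hjk
      have hsub : ∀ x y z, f₂ (x - y) z = f₂ x z - f₂ y z :=
        fun x y z => (isSesq_of_bilinear h₂.bilinear).sub_left x y z
      have hsub' : ∀ x y z, f₂ z (x - y) = f₂ z x - f₂ z y :=
        fun x y z => (isSesq_of_bilinear h₂.bilinear).sub_right z x y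
      refine ⟨![v i + v j, v i - v j, v k], -a, neg_ne_zero.2 (hvd i), fun l => ?_, fun l l' h => ?_⟩
      · fin_cases l <;> simp [hsub, hsub', h₂.bilinear.add_left, h₂.bilinear.add_right, e, hji, ← he, hk] <;>
          linear_combination a * h3
      · fin_cases l <;> fin_cases l' <;>
          simp [hsub, hsub', h₂.bilinear.add_left, h₂.bilinear.add_right, e, hji, e', hki, e'', hkj,
            ← he, show f₂ (v i) (v i) = a from rfl] at h ⊢
    rcases hval _ (hvd 0) with a | a <;> rcases hval _ (hvd 1) with b | b <;>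
      rcases hval _ (hvd 2) with c | c
    · exact ⟨v, 1, one_ne_zero, Fin.forall_fin_succ.2 ⟨a, Fin.forall_fin_two.2 ⟨b, c⟩⟩, hvo⟩
    · exact key 0 1 2 (by decide) (by decide) (by decide) (a.trans b.symm) (by rw [a, c])
    · exact key 0 2 1 (by decide) (by decide) (by decide) (a.trans c.symm) (by rw [a, b])
    · exact key 1 2 0 (by decide) (by decide) (by decide) (b.trans c.symm) (by rw [a, b, neg_neg])
    · exact key 1 2 0 (by decide) (by decide) (by decide) (b.trans c.symm) (by rw [a, b])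
    · exact key 0 2 1 (by decide) (by decide) (by decide) (a.trans c.symm) (by rw [a, b, neg_neg])
    · exact key 0 1 2 (by decide) (by decide) (by decide) (a.trans b.symm) (by rw [a, c, neg_neg])
    · exact ⟨v, -1, neg_ne_zero.2 one_ne_zero,
        Fin.forall_fin_succ.2 ⟨a, Fin.forall_fin_two.2 ⟨b, c⟩⟩, hvo⟩
  have hli : LinearIndependent F w := by
    rw [Fintype.linearIndependent_iff]
    intro g hg i
    have h := congrArg (fun x => f₂ x (w i)) hg
    simp only [(isSesq_of_bilinear h₂.bilinear).sum_left,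
      (isSesq_of_bilinear h₂.bilinear).zero_left, h₂.bilinear.smul_left] at h
    rw [Finset.sum_eq_single i (fun j _ hj => by rw [hwo j i hj, mul_zero]) (by simp), hwd] at h
    exact (mul_eq_zero.1 h).resolve_right hδ
  let W : Basis (Fin 3) F (Fin 3 → F) := basisOfLinearIndependentOfCardEqFinrank hli (by simp)
  have hW : (W : Fin 3 → Fin 3 → F) = w := coe_basisOfLinearIndependentOfCardEqFinrank _ _
  refine ⟨W, δ, hδ, fun i => by rw [hW, hwd], fun i j h => by rw [hW]; exact hwo i j h,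
    fun x hx => ?_⟩
  have hexp : f₂ x x = ∑ i, W.repr x i * W.repr x i * δ := by
    conv_lhs => rw [← W.sum_repr x]
    rw [(isSesq_of_bilinear h₂.bilinear).sum_left]
    refine Finset.sum_congr rfl fun i _ => ?_
    rw [(isSesq_of_bilinear h₂.bilinear).sum_right, Finset.sum_eq_single i, h₂.bilinear.smul_left,
      h₂.bilinear.smul_right, hW, hwd]
    · ring
    · intro j _ hj
      rw [h₂.bilinear.smul_left, h₂.bilinear.smul_right, hW, hwo i j (Ne.symm hj), mul_zero,
        mul_zero]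
    · simp
  rw [hx, Fin.sum_univ_three] at hexp
  have hx' : x = W.repr x 0 • W 0 + W.repr x 1 • W 1 + W.repr x 2 • W 2 := by
    rw [← Fin.sum_univ_three (fun i => W.repr x i • W i), W.sum_repr]
  by_contra hcon
  push Not at hcon
  rcases eq_or_ne (W.repr x 0) 0 with a | a <;> rcases eq_or_ne (W.repr x 1) 0 with b | b <;>
    rcases eq_or_ne (W.repr x 2) 0 with c | c
  · simp only [a, b, c, mul_zero, zero_mul, add_zero] at hexp; exact hδ hexp
  · exact hcon 2 (W.repr x 2) (by simpa [a, b] using hx')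
  · exact hcon 1 (W.repr x 1) (by simpa [a, c] using hx')
  · rw [a, hsq _ b, hsq _ c] at hexp; exact hδ (by linear_combination -hexp)
  · exact hcon 0 (W.repr x 0) (by simpa [b, c] using hx')
  · rw [b, hsq _ a, hsq _ c] at hexp; exact hδ (by linear_combination -hexp)
  · rw [c, hsq _ a, hsq _ b] at hexp; exact hδ (by linear_combination -hexp)
  · rw [hsq _ a, hsq _ b, hsq _ c] at hexp
    exact hδ (by linear_combination hexp + δ * h3)

/-- A three-dimensional orthogonal factor over the field of three elements is imprimitive. -/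
theorem tensor_three_frame [Fintype F] (hq : Fintype.card F = 3)
    (hf : IsRefl (RingEquiv.refl F) ε f) {a : ℕ} (ha : 0 < a) {e : ι ≃ Fin a × Fin 3} {P : GL ι F}
    {f₁ : (Fin a → F) → (Fin a → F) → F} {f₂ : (Fin 3 → F) → (Fin 3 → F) → F}
    (h₁ : Cfsg.Geo.IsSymplecticForm f₁) (h₂ : Cfsg.Geo.IsSymmetricForm f₂)
    (hT : Cfsg.Geo.IsTensorFormStructure id f f₁ f₂ e P) {H : Subgroup (GL ι F)}
    (hH : Cfsg.Geo.FixesForm (Cfsg.Geo.matrixSet H) f)
    (hle : H ≤ Cfsg.Geo.tensorProductSubgroup a 3 e P) :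
    ∃ D : Fin 3 → Submodule F (ι → F), Cfsg.Geo.IsNondegenerateMDecomposition f a D ∧
      H ≤ Cfsg.Geo.decompositionStabilizer D := by
  classical
  obtain ⟨c₀, hc₀, hpull⟩ := hT
  obtain ⟨w, δ, hδ, hwd, hwo, hwset⟩ := exists_norm_frame hq h₂
  have hs₁ := isSesq_of_bilinear h₁.bilinear
  have hs₂ := isSesq_of_bilinear h₂.bilinear
  let L : Fin 3 → ((Fin a → F) →ₗ[F] (ι → F)) := fun i =>
    { toFun := fun x => (P : Matrix ι ι F) *ᵥ ((fun p : Fin a × Fin 3 => x p.1 * w i p.2) ∘ e)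
      map_add' := fun x y => by
        rw [← Matrix.mulVec_add]; congr 1; funext k; simp [add_mul]
      map_smul' := fun c x => by
        rw [RingHom.id_apply, ← Matrix.mulVec_smul]; congr 1; funext k; simp [mul_assoc] }
  have hLf : ∀ i j x y, f (L i x) (L j y) = c₀ * (f₁ x y * f₂ (w i) (w j)) := by
    intro i j x y
    refine (hpull _ _).trans (congrArg (c₀ * ·) ?_)
    rw [hs₁.eq_formOfGram x y, hs₂.eq_formOfGram (w i) (w j)]
    exact formOfGram_kron_pure _ _ _ _ _ _
  have hLinj : ∀ i, Function.Injective (L i) := by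
    intro i
    rw [injective_iff_map_eq_zero]
    intro x hx
    by_contra hx0
    obtain ⟨-, y, hy⟩ := h₁.nondegenerate x hx0
    have := hLf i i x y
    rw [hx, hf.sesq.zero_left, hwd] at this
    exact mul_ne_zero hc₀ (mul_ne_zero hy hδ) this.symm
  let D : Fin 3 → Submodule F (ι → F) := fun i => LinearMap.range (L i)
  have horth : ∀ i j, i ≠ j → Cfsg.Geo.AreOrthogonalFor f (D i) (D j) := by
    rintro i j hij _ ⟨x, rfl⟩ _ ⟨y, rfl⟩
    rw [hLf, hwo i j hij, mul_zero, mul_zero]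
  have hnd : ∀ i, Cfsg.Geo.IsNondegenerateOn f (D i) := by
    rintro i _ ⟨x, rfl⟩ hx0
    obtain ⟨⟨y, hy⟩, ⟨z, hz⟩⟩ := h₁.nondegenerate x fun h => hx0 (by rw [h, map_zero])
    refine ⟨⟨L i y, ⟨y, rfl⟩, ?_⟩, L i z, ⟨z, rfl⟩, ?_⟩ <;> rw [hLf, hwd] <;>
      exact mul_ne_zero hc₀ (mul_ne_zero ‹_› hδ)
  have hsup : iSup D = ⊤ := by
    refine eq_top_iff.2 fun v _ => ?_
    obtain ⟨x, rfl⟩ := pullForm_surj e P v
    let xi : Fin 3 → Fin a → F := fun i p => w.repr (fun q => x (p, q)) i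
    have hx : x = ∑ i, fun p : Fin a × Fin 3 => xi i p.1 * w i p.2 := by
      funext p
      have := congrFun (w.sum_repr fun q => x (p.1, q)) p.2
      simp only [Finset.sum_apply, Pi.smul_apply, smul_eq_mul] at this
      rw [Finset.sum_apply]
      exact this.symm
    have hcomp : x ∘ e = ∑ i, (fun p : Fin a × Fin 3 => xi i p.1 * w i p.2) ∘ e := by
      funext k
      conv_lhs => rw [hx]
      simp
    rw [hcomp, Matrix.mulVec_sum]
    exact sum_mem fun i _ => le_iSup D i ⟨xi i, rfl⟩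
  refine ⟨D, ⟨⟨by norm_num, ha, fun i => by
    rw [LinearMap.finrank_range_of_inj (hLinj i), Module.finrank_fin_fun],
    hf.indep_of_orth hnd horth, hsup⟩, hnd, horth⟩, fun g hg => ?_⟩
  have h := hle hg
  rw [Cfsg.Geo.tensorProductSubgroup, map_glReindex_conj] at h
  obtain ⟨X, ⟨c, d, hX⟩, hXg⟩ := h
  have hgL : ∀ i x, (g : Matrix ι ι F) *ᵥ L i x = (P : Matrix ι ι F) *ᵥ
      ((fun p : Fin a × Fin 3 => ((c : Matrix (Fin a) (Fin a) F) *ᵥ x) p.1 *
        ((d : Matrix (Fin 3) (Fin 3) F) *ᵥ w i) p.2) ∘ e) := by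
    intro i x
    have hgX : (g : Matrix ι ι F) = frAlg e P (X : Matrix (Fin a × Fin 3) (Fin a × Fin 3) F) := by
      rw [← frU_val]; exact congrArg Units.val hXg.symm
    show (g : Matrix ι ι F) *ᵥ ((P : Matrix ι ι F) *ᵥ _) = _
    rw [hgX, frAlg_mulVec, hX, kron_mulVec_pure]
  -- the factor scales the second form
  obtain ⟨x₀, hx₀, y₀, hxy⟩ : ∃ x₀, x₀ ≠ 0 ∧ ∃ y₀, f₁ x₀ y₀ ≠ 0 := by
    let x₀ : Fin a → F := Pi.single ⟨0, ha⟩ 1
    obtain ⟨-, y₀, hy⟩ := h₁.nondegenerate x₀ (by simp [x₀])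
    exact ⟨x₀, by simp [x₀], y₀, hy⟩
  set dw : Fin 3 → Fin 3 → F := fun i => (d : Matrix (Fin 3) (Fin 3) F) *ᵥ w i with hdw
  set cm : (Fin a → F) → Fin a → F := fun x => (c : Matrix (Fin a) (Fin a) F) *ᵥ x with hcm
  have hdd : ∀ i j x y, f₁ (cm x) (cm y) * f₂ (dw i) (dw j) = f₁ x y * f₂ (w i) (w j) := by
    intro i j x y
    have h1 := hLf i j x y
    rw [← isometry_apply hH hg, hgL, hgL] at h1
    refine mul_left_cancel₀ hc₀ (Eq.trans ?_ h1)
    symm
    refine (hpull _ _).trans (congrArg (c₀ * ·) ?_)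
    rw [hs₁.eq_formOfGram (cm x) (cm y), hs₂.eq_formOfGram (dw i) (dw j)]
    exact formOfGram_kron_pure _ _ _ _ _ _
  set s := f₁ (cm x₀) (cm y₀) with hs
  set s₀ := f₁ x₀ y₀ with hs₀
  have hs0 : s ≠ 0 := fun h => by
    have := hdd 0 0 x₀ y₀
    rw [← hs, ← hs₀, h, zero_mul, hwd] at this
    exact mul_ne_zero hxy hδ this.symm
  have hscale : ∀ i j, f₂ (dw i) (dw j) = (s₀ / s) * f₂ (w i) (w j) := fun i j => by
    have := hdd i j x₀ y₀
    field_simp
    linear_combination this
  have hone : s₀ / s = 1 := by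
    set G := Cfsg.Geo.gramMatrix f₂ with hG
    set dM : Matrix (Fin 3) (Fin 3) F := (d : Matrix (Fin 3) (Fin 3) F) with hdM
    have hgr : dMᵀ * G * dM = (s₀ / s) • G := by
      have h1 := hs₂.gram_comp dM
      rw [show dM.map (RingEquiv.refl F : F ≃+* F) = dM from Matrix.map_id dM] at h1
      rw [hG, ← h1]
      ext p q
      show f₂ (dM *ᵥ Pi.single p 1) (dM *ᵥ Pi.single q 1) = (s₀ / s) * f₂ (Pi.single p 1) (Pi.single q 1)
      conv_lhs => rw [← w.sum_repr (Pi.single p 1), ← w.sum_repr (Pi.single q 1)]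
      conv_rhs => rw [← w.sum_repr (Pi.single p 1), ← w.sum_repr (Pi.single q 1)]
      simp only [Matrix.mulVec_sum, Matrix.mulVec_smul, hs₂.sum_left, hs₂.sum_right,
        h₂.bilinear.smul_left, h₂.bilinear.smul_right, Finset.mul_sum]
      refine Finset.sum_congr rfl fun i _ => Finset.sum_congr rfl fun j _ => ?_
      rw [hscale]
      ring
    have hdet := congrArg Matrix.det hgr
    rw [Matrix.det_mul, Matrix.det_mul, Matrix.det_transpose, Matrix.det_smul, Fintype.card_fin]
      at hdet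
    have hG0 : G.det ≠ 0 :=
      ((Matrix.isUnit_iff_isUnit_det G).1 (hs₂.gram_isUnit h₂.nondegenerate)).ne_zero
    have hd0 : dM.det ≠ 0 := d.det_ne_zero
    have hsqv : ∀ x : F, x ≠ 0 → x * x = 1 := fun x hx => by
      have := FiniteField.pow_card_sub_one_eq_one x hx
      rwa [hq, show (3 : ℕ) - 1 = 2 from rfl, sq] at this
    have h4 : (s₀ / s) ^ 3 = 1 := mul_right_cancel₀ hG0 (by
      rw [← hdet, one_mul]; linear_combination G.det * hsqv _ hd0)
    rw [pow_succ, sq, hsqv _ (div_ne_zero hxy hs0), one_mul] at h4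
    exact h4
  have hperm : ∀ i, ∃ j, ∃ z : F, dw i = z • w j := fun i =>
    hwset _ (by rw [hscale, hone, one_mul, hwd])
  choose π z hz using hperm
  have hπinj : Function.Injective π := by
    intro i j h
    by_contra hij
    have h1 := hscale i j
    rw [hwo i j hij, mul_zero, hz i, hz j, h, h₂.bilinear.smul_left, h₂.bilinear.smul_right, hwd]
      at h1
    have hzne : ∀ i, z i ≠ 0 := fun i h0 => by
      have := hscale i i
      rw [hz i, h0, zero_smul, hs₂.zero_left, hone, one_mul, hwd] at this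
      exact hδ this.symm
    exact mul_ne_zero (hzne i) (mul_ne_zero (hzne j) hδ) h1
  refine ⟨Equiv.ofBijective π (Finite.injective_iff_bijective.1 hπinj), fun i => ?_⟩
  refine Submodule.eq_of_le_of_finrank_le ?_ ?_
  · rintro _ ⟨_, ⟨x, rfl⟩, rfl⟩
    refine ⟨z i • cm x, ?_⟩
    rw [Matrix.toLin'_apply, hgL]
    show _ *ᵥ _ = _
    congr 2
    funext p
    show (z i • cm x) p.1 * w (π i) p.2 = cm x p.1 * dw i p.2
    rw [hz i]
    simp only [Pi.smul_apply, smul_eq_mul]
    ring
  · have hinj : Function.Injective (Matrix.toLin' (g : Matrix ι ι F)) := fun x y h => by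
      simp only [Matrix.toLin'_apply] at h
      exact mulVec_injective g h
    rw [← (Submodule.equivMapOfInjective _ hinj (D i)).finrank_eq]
    show finrank F (D _) ≤ finrank F (D i)
    rw [LinearMap.finrank_range_of_inj (hLinj _), LinearMap.finrank_range_of_inj (hLinj _)]

end CfsgLib.Aschbacher
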