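import Cfsg.Agent.Lib.Aschbacher.SympProper
import Cfsg.Agent.Lib.Aschbacher.SympSmall
import Cfsg.Agent.Lib.Aschbacher.MaximalPrime

/-!
Maximal subgroups of the symplectic groups whose dimension is not a power of two.
-/

set_option autoImplicit false

namespace CfsgLib.Aschbacher

open Matrix Module

variable {F : Type*} [Field F] [Fintype F] {m : ℕ}

open Cfsg.Geo in
/-- The possible shapes of a maximal subgroup of `Sp_2m`, away from the classes six and seven. -/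
def SympMaxShape (H : Subgroup (GL (Fin m ⊕ Fin m) F)) : Prop :=
  let f := Cfsg.sympForm m F
  let I := Cfsg.spGL m F
  (∃ W : Submodule F (Fin m ⊕ Fin m → F), W ≠ ⊥ ∧ IsTotallySingularFor f W ∧
      H = subspaceStabilizer W ⊓ I) ∨
  (∃ W : Submodule F (Fin m ⊕ Fin m → F), W ≠ ⊥ ∧ Even (finrank F W) ∧ IsNondegenerateOn f W ∧
      finrank F W < m ∧ H = subspaceStabilizer W ⊓ I) ∨
  (∃ (t k : ℕ) (D : Fin t → Submodule F (Fin m ⊕ Fin m → F)),
      IsNondegenerateMDecomposition f k D ∧ 2 ≤ t ∧ 2 ≤ k ∧ Even k ∧ t * k = 2 * m ∧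
      (k = 2 → 3 ≤ Fintype.card F) ∧ H = decompositionStabilizer D ⊓ I) ∨
  (∃ D : Fin 2 → Submodule F (Fin m ⊕ Fin m → F), Odd (Fintype.card F) ∧ IsMDecomposition m D ∧
      (∀ i, IsTotallySingularFor f (D i)) ∧ H = decompositionStabilizer D ⊓ I) ∨
  (∃ (r : ℕ) (K : Subalgebra F (Matrix (Fin m ⊕ Fin m) (Fin m ⊕ Fin m) F)), r.Prime ∧ r ∣ m ∧
      IsFieldSubalgebra r K ∧ IsSelfAdjointFor f K ∧ (∀ k ∈ K, ∀ v, f (k *ᵥ v) v = 0) ∧
      H = subalgebraNormalizer K ⊓ I) ∨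
  (∃ K : Subalgebra F (Matrix (Fin m ⊕ Fin m) (Fin m ⊕ Fin m) F), Odd (Fintype.card F) ∧
      IsFieldSubalgebra 2 K ∧ IsAdjointClosedFor f K ∧ ¬ IsSelfAdjointFor f K ∧
      H = subalgebraNormalizer K ⊓ I) ∨
  (∃ (n₁ n₂ : ℕ) (e : (Fin m ⊕ Fin m) ≃ Fin n₁ × Fin n₂) (P : GL (Fin m ⊕ Fin m) F)
      (f₁ : (Fin n₁ → F) → (Fin n₁ → F) → F) (f₂ : (Fin n₂ → F) → (Fin n₂ → F) → F),
      Odd (Fintype.card F) ∧ 2 ≤ n₁ ∧ Even n₁ ∧ 3 ≤ n₂ ∧ n₁ * n₂ = 2 * m ∧
      (n₂ = 3 → 5 ≤ Fintype.card F) ∧ IsSymplecticForm f₁ ∧ IsSymmetricForm f₂ ∧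
      IsTensorFormStructure id f f₁ f₂ e P ∧ H = tensorProductSubgroup n₁ n₂ e P ⊓ I) ∨
  (∃ (F₀ : Subfield F) (r : ℕ) (P : GL (Fin m ⊕ Fin m) F) (ζ : F), r.Prime ∧
      Fintype.card F = Nat.card F₀ ^ r ∧ ζ ≠ 0 ∧ IsFormRationalStructure f F₀ ζ P ∧
      H = subfieldSubgroup F₀ P ⊓ I) ∨
  (Odd (Fintype.card F) ∧ ∃ k, 2 * m = 2 ^ k) ∨
  (Odd (Fintype.card F) ∧ ∃ k t, Even k ∧ 3 ≤ t ∧ k ^ t = 2 * m) ∨
  (¬ Odd (Fintype.card F) ∧ ∃ Q : (Fin m ⊕ Fin m → F) → F, IsNondegenerateQuadraticForm Q ∧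
      (∀ u v, QuadraticMap.polar Q u v = f u v) ∧ H = quadSimilarityGroup Q ⊓ I) ∨
  Cfsg.Geo.InSymplecticResidualClass H

/-- Maximal subgroups of `Sp_2m`. -/
theorem maximal_symp (hm : 2 ≤ m) {H : Subgroup (GL (Fin m ⊕ Fin m) F)}
    (hH : Cfsg.Geo.IsMaximalIn (Cfsg.spGL m F) H) : SympMaxShape H := by
  classical
  have : NeZero m := ⟨by omega⟩
  have hf := isRefl_sympForm (F := F) m
  have hcard : Fintype.card (Fin m ⊕ Fin m) = 2 * m := by simp; omega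
  have hfix := fixesForm_spGL hH.1.le
  have heven : ∀ W : Submodule F (Fin m ⊕ Fin m → F),
      Cfsg.Geo.IsNondegenerateOn (Cfsg.sympForm m F) W → Even (finrank F W) := fun W hW =>
    even_finrank_of_alternating hf.bilinear (sympForm_alt m) _ W rfl fun w hw hw0 => (hW w hw hw0).2
  rcases symp_aschbacher hm hH.1.le with ⟨M, hM, hle⟩ | hres
  swap
  · iterate 11 right
    exact hres
  rcases hM with ⟨W, h0, hts, rfl⟩ | ⟨W, h0, hnd, hlt, rfl⟩ | ⟨t, k, D, hD, rfl⟩ |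
    ⟨D, hodd, hD, hts, rfl⟩ | ⟨r, K, hr, hK, hsa, hz, rfl⟩ | ⟨K, hodd, hK, hadj, hns, rfl⟩ |
    ⟨n₁, n₂, e, P, f₁, f₂, hodd, hn₂, hf₁, hf₂, hT, rfl⟩ | ⟨F₀, r, P, ζ, hr, hc, hζ, hP, rfl⟩ |
    ⟨R, p, k, hk, -, -, -, hp, hpo, hq, -⟩ | ⟨k, t, e, P, f₁, hodd, -, ht, -, hf₁, -, rfl⟩ |
    ⟨Q, hev, hQ, hpol, rfl⟩
  · have h1 : W ≠ ⊤ := by
      intro h
      obtain ⟨-, x, hx⟩ := hf.nondeg (Pi.single (Sum.inl ⟨0, by omega⟩) 1) (by simp)
      exact hx (hts _ (h ▸ Submodule.mem_top) _ (h ▸ Submodule.mem_top))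
    exact Or.inl ⟨W, h0, hts, eq_inf_of_maximal hH (hle.trans inf_le_left)
      (spGL_not_le_subspaceStabilizer h0 h1)⟩
  · have h1 : W ≠ ⊤ := fun h => by
      rw [h, finrank_top, Module.finrank_fintype_fun_eq_card, hcard] at hlt
      omega
    exact Or.inr (Or.inl ⟨W, h0, heven W hnd, hnd, hlt, eq_inf_of_maximal hH
      (hle.trans inf_le_left) (spGL_not_le_subspaceStabilizer h0 h1)⟩)
  · have hprod := mDecomposition_mul_eq hD.decomp
    rw [hcard] at hprod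
    have htwo := hD.decomp.two_le
    have hk : Even k := by
      have := heven _ (hD.nondegenerate ⟨0, by omega⟩)
      rwa [hD.decomp.finrank_eq] at this
    have hk2 : 2 ≤ k := by
      obtain ⟨l, hl⟩ := hk
      have := hD.decomp.pos
      omega
    by_cases hsmall : k = 2 ∧ Fintype.card F = 2
    · obtain ⟨rfl, hq⟩ := hsmall
      obtain ⟨Q, hQ, hpol, h⟩ := planes_quad hq hf (sympForm_alt m) hD hfix (hle.trans inf_le_left)
      iterate 10 right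
      left
      exact ⟨by rw [hq]; decide, Q, hQ, hpol,
        eq_inf_of_maximal hH h (spGL_not_le_quadSimilarityGroup hm hQ.smul hpol)⟩
    have := Fintype.one_lt_card (α := F)
    exact Or.inr (Or.inr (Or.inl ⟨t, k, D, hD, htwo, hk2, hk, hprod, fun h => by omega,
      eq_inf_of_maximal hH (hle.trans inf_le_left)
        (spGL_not_le_decompositionStabilizer hk2 hD.decomp)⟩))
  · exact Or.inr (Or.inr (Or.inr (Or.inl ⟨D, hodd, hD, hts, eq_inf_of_maximal hH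
      (hle.trans inf_le_left) (spGL_not_le_decompositionStabilizer hm hD)⟩)))
  · have hdvd : r ∣ m := by
      have h := self_adjoint_field_dvd hf hK hsa hz
      rw [hcard] at h
      exact Nat.dvd_of_mul_dvd_mul_left two_pos h
    exact Or.inr (Or.inr (Or.inr (Or.inr (Or.inl ⟨r, K, hr, hdvd, hK, hsa, hz, eq_inf_of_maximal hH
      (hle.trans inf_le_left) (spGL_not_le_subalgebraNormalizer hm hK hr.one_lt)⟩))))
  · exact Or.inr (Or.inr (Or.inr (Or.inr (Or.inr (Or.inl ⟨K, hodd, hK, hadj, hns,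
      eq_inf_of_maximal hH (hle.trans inf_le_left)
        (spGL_not_le_subalgebraNormalizer hm hK one_lt_two)⟩)))))
  · have hprod : n₁ * n₂ = 2 * m := by rw [← hcard, Fintype.card_congr e]; simp
    have hn1 : 0 < n₁ := Nat.pos_of_ne_zero fun h => by rw [h, zero_mul] at hprod; omega
    have hev1 : Even n₁ := by
      refine even_finrank_of_alternating hf₁.bilinear hf₁.alternating n₁ ⊤ (by simp) fun w _ hw => ?_
      obtain ⟨-, x, hx⟩ := hf₁.nondegenerate w hw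
      exact ⟨x, Submodule.mem_top, hx⟩
    have hn12 : 2 ≤ n₁ := by obtain ⟨l, hl⟩ := hev1; omega
    by_cases hsmall : n₂ = 3 ∧ Fintype.card F = 3
    · obtain ⟨rfl, hq⟩ := hsmall
      obtain ⟨D, hD, h⟩ := tensor_three_frame hq hf hn1 hf₁ hf₂ hT hfix (hle.trans inf_le_left)
      exact Or.inr (Or.inr (Or.inl ⟨3, n₁, D, hD, by norm_num, hn12, hev1, by omega,
        fun _ => by omega, eq_inf_of_maximal hH h
          (spGL_not_le_decompositionStabilizer hn12 hD.decomp)⟩))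
    have h5 : n₂ = 3 → 5 ≤ Fintype.card F := fun h => by
      have := Fintype.one_lt_card (α := F)
      have h4 : Fintype.card F ≠ 4 := fun h4 => by rw [h4] at hodd; exact absurd hodd (by decide)
      have h2 : Fintype.card F ≠ 2 := fun h2 => by rw [h2] at hodd; exact absurd hodd (by decide)
      omega
    exact Or.inr (Or.inr (Or.inr (Or.inr (Or.inr (Or.inr (Or.inl ⟨n₁, n₂, e, P, f₁, f₂, hodd,
      hn12, hev1, hn₂, hprod, h5, hf₁, hf₂, hT, eq_inf_of_maximal hH (hle.trans inf_le_left)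
        (spGL_not_le_tensorProductSubgroup hn12 (by omega) e P)⟩))))))
  · iterate 7 right
    left
    exact ⟨F₀, r, P, ζ, hr, hc, hζ, hP, eq_inf_of_maximal hH (hle.trans inf_le_left)
      (spGL_not_le_subfieldSubgroup hm hr hc P)⟩
  · iterate 8 right
    left
    exact ⟨hq ▸ hpo, k, hk⟩
  · iterate 9 right
    left
    refine ⟨hodd, k, t, ?_, ht, ?_⟩
    · refine even_finrank_of_alternating hf₁.bilinear hf₁.alternating k ⊤ (by simp) fun w _ hw => ?_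
      obtain ⟨-, x, hx⟩ := hf₁.nondegenerate w hw
      exact ⟨x, Submodule.mem_top, hx⟩
    · rw [← hcard, Fintype.card_congr e]; simp
  · iterate 10 right
    left
    exact ⟨hev, Q, hQ, hpol, eq_inf_of_maximal hH (hle.trans inf_le_left)
      (spGL_not_le_quadSimilarityGroup hm hQ.smul hpol)⟩

lemma two_mul_ne_pow_three {m k t : ℕ} (hm : m < 4) (hm0 : 0 < m) (hk : Even k) (ht : 3 ≤ t) :
    k ^ t ≠ 2 * m := by
  intro h
  obtain ⟨l, rfl⟩ := hk
  rcases Nat.eq_zero_or_pos l with rfl | hl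
  · rw [add_zero, zero_pow (by omega)] at h; omega
  · have h1 : 2 ^ t ≤ (l + l) ^ t := Nat.pow_le_pow_left (by omega) t
    have h2 : 2 ^ 3 ≤ 2 ^ t := Nat.pow_le_pow_right two_pos ht
    omega

lemma not_dim_of_three_le {m k t : ℕ} (hm : m = 5 ∨ m = 6) (hk : Even k) (ht : 3 ≤ t) :
    k ^ t ≠ 2 * m := by
  intro h
  obtain ⟨l, rfl⟩ := hk
  obtain ⟨j, rfl⟩ := Nat.exists_eq_add_of_le ht
  have h8 : 8 ∣ (l + l) ^ (3 + j) := by
    refine dvd_trans ?_ (pow_dvd_pow _ (Nat.le_add_right 3 j))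
    exact ⟨l ^ 3, by ring⟩
  rw [h] at h8
  omega

end CfsgLib.Aschbacher
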