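import Cfsg.Agent.Lib.Aschbacher.UnitaryProper
import Cfsg.Agent.Lib.Aschbacher.HermFrame
import Cfsg.Agent.Lib.Aschbacher.HermField

/-!
The geometric classes of the unitary groups, Hermitian scalings, and the rational structures of
groups of isometries realised over a subfield.
-/

set_option autoImplicit false
set_option maxHeartbeats 400000

namespace CfsgLib.Aschbacher

open Matrix Module

variable {F : Type*} [Field F] {n q : ℕ}

lemma isRefl_of_unitary {ι : Type} [Fintype ι] [DecidableEq ι] {σ : F ≃+* F}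
    {f : (ι → F) → (ι → F) → F} (hf : Cfsg.Geo.IsUnitaryForm σ f) : IsRefl σ 1 f :=
  ⟨isSesq_of_unitary hf, fun u v => by rw [one_mul]; exact hf.herm v u, hf.involutive,
    hf.nondegenerate⟩

lemma fixesForm_GU {H : Subgroup (GL (Fin n) F)} (hH : H ≤ Cfsg.GU n F q) :
    Cfsg.Geo.FixesForm (Cfsg.Geo.matrixSet H) (Cfsg.hermForm n F q) := by
  rintro _ ⟨g, hg, rfl⟩ u v
  exact mem_GU.1 (hH hg) u v

open Cfsg.Geo in
/-- The unitary classes, recording that the sixth one needs dimension a power of its prime. -/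
def InUnitaryClass' (n : ℕ) (F : Type*) [Field F] [Fintype F] (q : ℕ)
    (M : Subgroup (GL (Fin n) F)) : Prop :=
  let f := Cfsg.hermForm n F q
  let I := Cfsg.GU n F q
  (∃ W : Submodule F (Fin n → F), W ≠ ⊥ ∧ IsTotallySingularFor f W ∧
      M = subspaceStabilizer W ⊓ I) ∨
  (∃ W : Submodule F (Fin n → F), W ≠ ⊥ ∧ IsNondegenerateOn f W ∧ 2 * finrank F W < n ∧
      M = subspaceStabilizer W ⊓ I) ∨
  (∃ (t k : ℕ) (D : Fin t → Submodule F (Fin n → F)), IsNondegenerateMDecomposition f k D ∧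
      M = decompositionStabilizer D ⊓ I) ∨
  (∃ (k : ℕ) (D : Fin 2 → Submodule F (Fin n → F)), 2 * k = n ∧ IsMDecomposition k D ∧
      (∀ i, IsTotallySingularFor f (D i)) ∧ M = decompositionStabilizer D ⊓ I) ∨
  (∃ (F₀ : Subfield F) (r : ℕ) (P : GL (Fin n) F), r.Prime ∧ Odd r ∧
      Fintype.card F = Nat.card F₀ ^ r ∧ IsFormRationalStructure f F₀ 1 P ∧
      M = subfieldSubgroup F₀ P ⊓ I) ∨
  (∃ (F₀ : Subfield F) (P : GL (Fin n) F), Odd q ∧ Fintype.card F = Nat.card F₀ ^ 2 ∧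
      IsFormRationalStructure f F₀ 1 P ∧ M = subfieldSubgroup F₀ P ⊓ I) ∨
  (∃ (F₀ : Subfield F) (P : GL (Fin n) F) (ζ : F), Even n ∧ Fintype.card F = Nat.card F₀ ^ 2 ∧
      ζ ≠ 0 ∧ ζ + ζ ^ q = 0 ∧ IsFormRationalStructure f F₀ ζ P ∧
      (∀ u : Fin n → F, (∀ i, u i ∈ F₀) →
        f ((P : Matrix (Fin n) (Fin n) F) *ᵥ u) ((P : Matrix (Fin n) (Fin n) F) *ᵥ u) = 0) ∧
      M = subfieldSubgroup F₀ P ⊓ I) ∨
  (∃ (r : ℕ) (R : Subgroup (GL (Fin n) F)) (p e k : ℕ), n = r ^ k ∧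
      (∀ a ∈ R, ∀ b ∈ R, a * b * a⁻¹ * b⁻¹ ∈ scalars (Fin n) F) ∧ IsSymplecticTypeGroup r R ∧
      ActsAbsolutelyIrreducibly (matrixSet R) ∧ R ≤ similarityGroup f ∧ r ≠ p ∧
      IsMinimalFieldFor (Nat.card (Subgroup.center R)) p e F ∧
      ((Odd r ∧ Nat.card (Subgroup.center R) = r ∧ 1 ≤ k ∧ Nat.card R = r ^ (1 + 2 * k)) ∨
       (r = 2 ∧ e = 2 ∧ Nat.card (Subgroup.center R) = 4 ∧ Nat.card R = 2 ^ (2 + 2 * k))) ∧
      M = subgroupNormalizer R ⊓ I) ∨
  (∃ (r : ℕ) (K : Subalgebra F (Matrix (Fin n) (Fin n) F)), r.Prime ∧ Odd r ∧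
      IsFieldSubalgebra r K ∧ IsAdjointClosedFor f K ∧ M = subalgebraNormalizer K ⊓ I) ∨
  (∃ (n₁ n₂ : ℕ) (e : Fin n ≃ Fin n₁ × Fin n₂) (P : GL (Fin n) F)
      (f₁ : (Fin n₁ → F) → (Fin n₁ → F) → F) (f₂ : (Fin n₂ → F) → (Fin n₂ → F) → F),
      2 ≤ n₁ ∧ n₁ < n₂ ∧ IsUnitaryFormPow q f₁ ∧ IsUnitaryFormPow q f₂ ∧
      IsTensorFormStructure (fun x : F => x ^ q) f f₁ f₂ e P ∧
      M = tensorProductSubgroup n₁ n₂ e P ⊓ I) ∨
  (∃ (k t : ℕ) (e : Fin n ≃ (Fin t → Fin k)) (P : GL (Fin n) F)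
      (f₁ : (Fin k → F) → (Fin k → F) → F),
      3 ≤ k ∧ 2 ≤ t ∧ ¬ (q = 2 ∧ k = 3) ∧ IsUnitaryFormPow q f₁ ∧
      IsTensorPowerFormStructure (fun x : F => x ^ q) f f₁ e P ∧
      M = tensorWreathSubgroup k t e P ⊓ I)

variable [Fintype F]

lemma InUnitaryClass'.toClass {M : Subgroup (GL (Fin n) F)}
    (h : InUnitaryClass' n F q M) : Cfsg.Geo.InUnitaryClass n F q M := by
  rcases h with h | h | h | h | h | h | h | ⟨r, R, p, e, k, -, -, h⟩ | h | h | h
  · exact Or.inl (Or.inl h)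
  · exact Or.inl (Or.inr (Or.inl h))
  · exact Or.inl (Or.inr (Or.inr (Or.inl h)))
  · exact Or.inl (Or.inr (Or.inr (Or.inr (Or.inl h))))
  · exact Or.inl (Or.inr (Or.inr (Or.inr (Or.inr (Or.inl h)))))
  · exact Or.inl (Or.inr (Or.inr (Or.inr (Or.inr (Or.inr (Or.inl h))))))
  · exact Or.inl (Or.inr (Or.inr (Or.inr (Or.inr (Or.inr (Or.inr (Or.inl h)))))))
  · exact Or.inl (Or.inr (Or.inr (Or.inr (Or.inr (Or.inr (Or.inr (Or.inr ⟨r, R, p, e, k, h⟩)))))))
  · exact Or.inr (Or.inl h)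
  · exact Or.inr (Or.inr (Or.inl h))
  · exact Or.inr (Or.inr (Or.inr h))

/-- A geometric member of the unitary classes containing `H`. -/
def InUnitClassOver (q : ℕ) (H : Subgroup (GL (Fin n) F)) : Prop :=
  ∃ M : Subgroup (GL (Fin n) F), InUnitaryClass' n F q M ∧ H ≤ M

omit [Fintype F] in
/-- A scalar of norm one is a quotient of conjugates, inside a subfield moved by `σ`. -/
lemma exists_hermitian_scale {σ : F ≃+* F} (hinv : ∀ a, σ (σ a) = a) {K : Subfield F}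
    (hK : ∀ x ∈ K, σ x ∈ K) (hne : ∃ x ∈ K, σ x ≠ x) {γ : F} (hγ : γ ∈ K) (hγ1 : γ * σ γ = 1) :
    ∃ μ ∈ K, μ ≠ 0 ∧ σ μ = γ * μ := by
  obtain ⟨x, hx, hxne⟩ : ∃ x ∈ K, x + σ (γ * x) ≠ 0 := by
    by_contra hcon
    push Not at hcon
    obtain ⟨x, hx, hxne⟩ := hne
    have h1 := hcon 1 K.one_mem
    rw [mul_one] at h1
    have h2 := hcon x hx
    rw [map_mul] at h2
    exact hxne (by linear_combination σ x * h1 - h2)
  refine ⟨x + σ (γ * x), K.add_mem hx (hK _ (K.mul_mem hγ hx)), hxne, ?_⟩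
  rw [map_add, hinv, mul_add, map_mul]
  linear_combination -(σ x) * hγ1

omit [Fintype F] in
lemma exists_hermitian_scale_top {σ : F ≃+* F} (hinv : ∀ a, σ (σ a) = a)
    (hne : σ ≠ RingEquiv.refl F) {γ : F} (hγ1 : γ * σ γ = 1) :
    ∃ μ : F, μ ≠ 0 ∧ σ μ = γ * μ := by
  obtain ⟨x, hx⟩ : ∃ x, σ x ≠ x := by
    by_contra h
    push Not at h
    exact hne (RingEquiv.ext h)
  obtain ⟨μ, -, h⟩ := exists_hermitian_scale hinv (K := ⊤) (fun _ _ => Subfield.mem_top _)
    ⟨x, Subfield.mem_top _, hx⟩ (Subfield.mem_top γ) hγ1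
  exact ⟨μ, h⟩

/-- The involution moves every subfield of odd index. -/
lemma exists_moved_of_odd (hF : Fintype.card F = q ^ 2) {σ : F ≃+* F} (hσ : ∀ a, σ a = a ^ q)
    {F₁ : Subfield F} {r : ℕ} (hr : Odd r) (hc : Fintype.card F = Nat.card F₁ ^ r) :
    ∃ x ∈ F₁, σ x ≠ x := by
  classical
  by_contra hcon
  push Not at hcon
  obtain ⟨p, h, hp, hchar, hh, rfl⟩ := exists_prime_pow hF
  obtain ⟨a, -, ha⟩ : ∃ a, a ≤ 2 * h ∧ Nat.card F₁ = p ^ a := (Nat.dvd_prime_pow hp).1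
    ⟨Nat.card F₁ ^ (r - 1), by
      rw [← pow_succ', Nat.sub_add_cancel hr.pos, ← hc, hF, ← pow_mul, mul_comm]⟩
  have hra : a * r = 2 * h := by
    rw [hF, ha, ← pow_mul, ← pow_mul] at hc
    have := Nat.pow_right_injective hp.two_le hc
    omega
  have ha0 : 0 < a := Nat.pos_of_ne_zero fun h0 => by rw [h0, zero_mul] at hra; omega
  haveI : Fintype F₁ := Fintype.ofFinite _
  obtain ⟨g, hg⟩ := IsCyclic.exists_ofOrder_eq_natCard (α := (F₁)ˣ)
  rw [Nat.card_units, ha] at hg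
  have h1 : g ^ (p ^ h - 1) = 1 := by
    refine mul_right_cancel (b := g) ?_
    rw [← pow_succ, Nat.sub_add_cancel (Nat.one_le_pow _ _ hp.pos), one_mul]
    exact Units.ext (Subtype.ext (by simpa [hσ] using hcon ((g : F₁) : F) (g : F₁).2))
  have h2 : p ^ a - 1 ∣ p ^ h - 1 := hg ▸ orderOf_dvd_of_pow_eq_one h1
  have h3 := Nat.gcd_eq_left h2
  rw [Nat.pow_sub_one_gcd_pow_sub_one] at h3
  have h4 : Nat.gcd a h = a := by
    refine Nat.pow_right_injective hp.two_le ?_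
    show p ^ Nat.gcd a h = p ^ a
    have := Nat.one_le_pow (Nat.gcd a h) p hp.pos
    have := Nat.one_le_pow a p hp.pos
    omega
  obtain ⟨k, hk⟩ := Nat.gcd_eq_left_iff_dvd.1 h4
  have h5 : r = 2 * k := Nat.eq_of_mul_eq_mul_left ha0 (by rw [hra, hk]; ring)
  exact Nat.not_even_iff_odd.2 hr ⟨k, by omega⟩

/-- A subfield of index two is fixed by the involution. -/
lemma fixed_of_index_two (hF : Fintype.card F = q ^ 2) {σ : F ≃+* F} (hσ : ∀ a, σ a = a ^ q)
    {F₁ : Subfield F} (hc : Fintype.card F = Nat.card F₁ ^ 2) {x : F} (hx : x ∈ F₁) : σ x = x := by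
  haveI : Fintype F₁ := Fintype.ofFinite _
  have hq : q = Nat.card F₁ := Nat.pow_left_injective two_ne_zero (hF.symm.trans hc)
  rw [hσ, hq, Nat.card_eq_fintype_card]
  exact congrArg Subtype.val (FiniteField.pow_card (⟨x, hx⟩ : F₁))

omit [Fintype F] in
lemma formOfGram_smul {ι : Type} [Fintype ι] [DecidableEq ι] (s : F → F) (c : F)
    (G : Matrix ι ι F) (u v : ι → F) :
    Cfsg.Geo.formOfGram s (c • G) u v = c * Cfsg.Geo.formOfGram s G u v := by
  rw [formOfGram_eq, formOfGram_eq, Matrix.smul_mulVec, dotProduct_smul, smul_eq_mul]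

omit [Fintype F] in
lemma formOfGram_mem {ι : Type} [Fintype ι] [DecidableEq ι] {K : Subfield F} {s : F → F}
    (hs : ∀ x ∈ K, s x ∈ K) {G : Matrix ι ι F} (hG : ∀ a b, G a b ∈ K) {u v : ι → F}
    (hu : ∀ i, u i ∈ K) (hv : ∀ i, v i ∈ K) : Cfsg.Geo.formOfGram s G u v ∈ K :=
  K.sum_mem fun a _ => K.sum_mem fun b _ => K.mul_mem (K.mul_mem (hu a) (hG a b)) (hs _ (hv b))

variable {σ : F ≃+* F}

lemma exists_norm_of_fixed (hF : Fintype.card F = q ^ 2) (hσ : ∀ a, σ a = a ^ q) {c : F}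
    (hc0 : c ≠ 0) (hfix : σ c = c) : ∃ d : Fˣ, (d : F) * σ d = c := by
  obtain ⟨d, hd0, hd⟩ := exists_mul_conj_eq hF hc0 (by rw [← hσ, hfix])
  exact ⟨Units.mk0 d hd0, by rw [hσ]; exact hd⟩

/-- An irreducible group of isometries inside a subfield group whose structure carries a multiple
of the form lies in class five. -/
theorem unit_rational (hF : Fintype.card F = q ^ 2) (hσ : ∀ a, σ a = a ^ q)
    (hf : Cfsg.Geo.IsUnitaryForm σ (Cfsg.hermForm n F q)) (hn : 2 ≤ n)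
    {H : Subgroup (GL (Fin n) F)} (hH : H ≤ Cfsg.GU n F q) (hirr : Irr H)
    {F₁ : Subfield F} {r : ℕ} (hr : r.Prime) (hc : Fintype.card F = Nat.card F₁ ^ r)
    {P : GL (Fin n) F} {c : F} (hc0 : c ≠ 0)
    (hG : ∀ a b, c * Cfsg.hermForm n F q ((P : Matrix (Fin n) (Fin n) F) *ᵥ Pi.single a 1)
      ((P : Matrix (Fin n) (Fin n) F) *ᵥ Pi.single b 1) ∈ F₁)
    (hle : H ≤ Cfsg.Geo.subfieldSubgroup F₁ P) : InUnitClassOver q H := by
  classical
  set f := Cfsg.hermForm n F q with hfdef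
  have hs := isSesq_of_unitary hf
  set f' : (Fin n → F) → (Fin n → F) → F :=
    fun u v => f ((P : Matrix (Fin n) (Fin n) F) *ᵥ u) ((P : Matrix (Fin n) (Fin n) F) *ᵥ v)
    with hf'
  have hs' : IsSesq σ f' := isSesq_comp hs _
  set G := Cfsg.Geo.gramMatrix f' with hGdef
  set G₀ := c • G with hG₀
  have hG₀mem : ∀ a b, G₀ a b ∈ F₁ := hG
  have hval : ∀ u v, c * f' u v = Cfsg.Geo.formOfGram σ G₀ u v := fun u v => by
    rw [hG₀, formOfGram_smul, hGdef, ← hs'.eq_formOfGram]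
  have hσF₁ : ∀ x ∈ F₁, σ x ∈ F₁ := fun x hx => by rw [hσ]; exact pow_mem hx q
  have hherm : ∀ a b, G b a = σ (G a b) := fun a b => hf.herm _ _
  obtain ⟨a₀, b₀, hg0⟩ : ∃ a b, G a b ≠ 0 := by
    by_contra h
    push Not at h
    have hnd : Cfsg.Geo.IsNondegenerateForm f' := ((isRefl_of_unitary hf).pull (Equiv.refl _) P).nondeg
    have : Nonempty (Fin n) := ⟨⟨0, by omega⟩⟩
    exact (hs'.gram_isUnit hnd).ne_zero (Matrix.ext h)
  have hscale : ∀ (e : Fˣ) u v,
      f (((scalarGL (Fin n) e * P : GL (Fin n) F) : Matrix (Fin n) (Fin n) F) *ᵥ u)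
        (((scalarGL (Fin n) e * P : GL (Fin n) F) : Matrix (Fin n) (Fin n) F) *ᵥ v) =
      (e : F) * σ e * f' u v := fun e u v => by
    rw [mul_mulVec, mul_mulVec, scalarGL_mulVec, scalarGL_mulVec, hs.smul_left, hs.smul_right,
      mul_assoc]
  rcases hr.eq_two_or_odd' with hr2 | hodd
  swap
  · -- odd index
    have hσc0 : σ c ≠ 0 := by simpa using hc0
    have hγ : c / σ c ∈ F₁ := by
      have h1 : c / σ c = G₀ b₀ a₀ / σ (G₀ a₀ b₀) := by
        simp only [hG₀, Matrix.smul_apply, smul_eq_mul, map_mul, hherm a₀ b₀]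
        rw [mul_div_mul_right _ _ (by simpa using hg0)]
      rw [h1]
      exact F₁.div_mem (hG₀mem _ _) (hσF₁ _ (hG₀mem _ _))
    obtain ⟨μ, hμ, hμ0, hμσ⟩ := exists_hermitian_scale hf.involutive hσF₁
      (exists_moved_of_odd hF hσ hodd hc) hγ
      (by rw [map_div₀, hf.involutive]; field_simp)
    obtain ⟨d, hd⟩ := exists_norm_of_fixed hF hσ (mul_ne_zero hμ0 hc0)
      (by rw [map_mul, hμσ, mul_comm (c / σ c), mul_assoc, div_mul_cancel₀ _ hσc0])
    refine ⟨Cfsg.Geo.subfieldSubgroup F₁ P ⊓ Cfsg.GU n F q,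
      Or.inr (Or.inr (Or.inr (Or.inr (Or.inl
        ⟨F₁, r, scalarGL (Fin n) d * P, hr, hodd, hc, fun u v hu hv => ?_,
          by rw [subfieldSubgroup_scalar_mul]⟩)))), le_inf hle hH⟩
    rw [one_mul, ← hfdef, hscale, hd, mul_assoc, hval]
    exact F₁.mul_mem hμ (formOfGram_mem hσF₁ hG₀mem hu hv)
  subst hr2
  have hfix : ∀ x ∈ F₁, σ x = x := fun x hx => fixed_of_index_two hF hσ hc hx
  have hswap : ∀ a b, G₀ b a = c / σ c * G₀ a b := by
    intro a b
    have h1 := hfix _ (hG₀mem a b)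
    simp only [hG₀, Matrix.smul_apply, smul_eq_mul, map_mul] at h1 ⊢
    have hσc0 : σ c ≠ 0 := by simpa using hc0
    rw [hherm a b]
    field_simp
    linear_combination h1
  set γ := c / σ c with hγdef
  have hσc : c = γ * σ c := (div_mul_cancel₀ c (by simpa using hc0)).symm
  have hγ2 : γ = 1 ∨ γ = -1 := by
    refine mul_self_eq_one_iff.1 ?_
    have h1 := hswap b₀ a₀
    rw [hswap a₀ b₀] at h1
    have hne : G₀ a₀ b₀ ≠ 0 := mul_ne_zero hc0 hg0
    refine mul_right_cancel₀ hne ?_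
    rw [one_mul]; linear_combination -h1
  have hrat : ∀ u v : Fin n → F, (∀ i, u i ∈ F₁) → (∀ i, v i ∈ F₁) →
      c * f' u v = u ⬝ᵥ (G₀ *ᵥ v) := fun u v _ hv => by
    rw [hval, formOfGram_eq, show (σ : F → F) ∘ v = v from funext fun i => hfix _ (hv i)]
  have halternating : (∀ a, G₀ a a = 0) → (∀ a b, G₀ b a = -G₀ a b) → c + c ^ q = 0 →
      InUnitClassOver q H := by
    intro hd hsk hcq
    have halt : ∀ v, v ⬝ᵥ (G₀ *ᵥ v) = 0 := by
      intro v
      simp only [dotProduct, Matrix.mulVec, Finset.mul_sum]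
      rw [← Finset.sum_product']
      refine Finset.sum_involution (fun x _ => (x.2, x.1)) ?_ ?_ (fun _ _ => Finset.mem_univ _)
        (fun _ _ => rfl)
      · intro x _
        linear_combination v x.1 * v x.2 * hsk x.1 x.2
      · rintro ⟨a, b⟩ _ hne heq
        simp only [Prod.mk.injEq] at heq
        apply hne
        rw [heq.1, hd, zero_mul, mul_zero]
    have hev : Even n := by
      let g : (Fin n → F) → (Fin n → F) → F := fun u v => u ⬝ᵥ (G₀ *ᵥ v)
      have hnd : Cfsg.Geo.IsNondegenerateForm f' :=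
        ((isRefl_of_unitary hf).pull (Equiv.refl _) P).nondeg
      have : Nonempty (Fin n) := ⟨⟨0, by omega⟩⟩
      obtain ⟨Gu, hGu⟩ := (hs'.gram_isUnit hnd)
      refine even_finrank_of_alternating (f := g)
        ⟨fun x y v => add_dotProduct _ _ _, fun e x v => smul_dotProduct _ _ _,
          fun v x y => by simp only [g, Matrix.mulVec_add, dotProduct_add],
          fun e v x => by simp only [g, Matrix.mulVec_smul, dotProduct_smul, smul_eq_mul]⟩
        halt n ⊤ (by simp) fun w _ hw => ?_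
      have h1 : w ᵥ* G₀ ≠ 0 := by
        intro h0
        apply hw
        rw [hG₀, Matrix.vecMul_smul] at h0
        exact Matrix.vecMul_injective_iff_isUnit.2 ⟨Gu, hGu⟩
          (by simpa using (smul_eq_zero.1 h0).resolve_left hc0)
      obtain ⟨j, hj⟩ := Function.ne_iff.1 h1
      refine ⟨Pi.single j 1, Submodule.mem_top, ?_⟩
      simpa [g, Matrix.dotProduct_mulVec] using hj
    refine ⟨Cfsg.Geo.subfieldSubgroup F₁ P ⊓ Cfsg.GU n F q,
      Or.inr (Or.inr (Or.inr (Or.inr (Or.inr (Or.inr (Or.inl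
        ⟨F₁, P, c, hev, hc, hc0, hcq, fun u v hu hv => ?_, fun u hu => ?_, rfl⟩)))))),
      le_inf hle hH⟩
    · show c * f' u v ∈ F₁
      rw [hval]
      exact formOfGram_mem hσF₁ hG₀mem hu hv
    · show f' u u = 0
      have h := hrat u u hu hu
      rw [halt] at h
      exact (mul_eq_zero.1 h).resolve_left hc0
  by_cases hγ : γ = 1
  swap
  · have hγn := hγ2.resolve_left hγ
    have h2 : (2 : F) ≠ 0 := fun h2 => hγ (by rw [hγn]; linear_combination -h2)
    refine halternating (fun a => ?_) (fun a b => by rw [hswap, hγn, neg_one_mul]) ?_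
    · have h := hswap a a
      rw [hγn] at h
      exact (mul_eq_zero.1 (show (2 : F) * G₀ a a = 0 by linear_combination h)).resolve_left h2
    · rw [← hσ]; rw [hγn] at hσc; linear_combination hσc
  have hcfix : σ c = c := by rw [hγ, one_mul] at hσc; exact hσc.symm
  by_cases hq : Odd q
  · obtain ⟨d, hd⟩ := exists_norm_of_fixed hF hσ hc0 hcfix
    refine ⟨Cfsg.Geo.subfieldSubgroup F₁ P ⊓ Cfsg.GU n F q,
      Or.inr (Or.inr (Or.inr (Or.inr (Or.inr (Or.inl
        ⟨F₁, scalarGL (Fin n) d * P, hq, hc, fun u v hu hv => ?_,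
          by rw [subfieldSubgroup_scalar_mul]⟩))))), le_inf hle hH⟩
    rw [one_mul, ← hfdef, hscale, hd, hval]
    exact formOfGram_mem hσF₁ hG₀mem hu hv
  have h2 : (2 : F) = 0 := two_eq_zero_iff.2 fun ho => hq (by
    rw [hF] at ho; exact Nat.Odd.of_mul_left (by rwa [pow_two] at ho))
  by_cases hd : ∀ a, G₀ a a = 0
  · exact halternating hd (fun a b => by rw [hswap, hγ, one_mul]; linear_combination G₀ a b * h2)
      (by rw [← hσ, hcfix]; linear_combination c * h2)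
  -- the diagonal gives an invariant hyperplane
  exfalso
  push Not at hd
  obtain ⟨i₀, hi₀⟩ := hd
  haveI : CharP F 2 := (CharP.charP_iff_prime_eq_zero Nat.prime_two).2 (by exact_mod_cast h2)
  have hsqrt : ∀ x : F, ∃ y, y * y = x := fun x => by
    obtain ⟨y, hy⟩ := FiniteField.isSquare_of_char_two (ringChar.eq F 2) x
    exact ⟨y, hy.symm⟩
  choose l hl using fun a => hsqrt (G₀ a a)
  have hquad : ∀ v, v ⬝ᵥ (G₀ *ᵥ v) = (l ⬝ᵥ v) * (l ⬝ᵥ v) := by
    intro v
    let φ : (Fin n → F) →+ F := AddMonoidHom.mk' (fun y => y ⬝ᵥ (G₀ *ᵥ y) + (l ⬝ᵥ y) * (l ⬝ᵥ y))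
      fun y z => by
        have hsw : y ⬝ᵥ (G₀ *ᵥ z) = z ⬝ᵥ (G₀ *ᵥ y) := by
          rw [dotProduct_comm, ← Matrix.vecMul_transpose, ← Matrix.dotProduct_mulVec,
            show G₀ᵀ = G₀ from Matrix.ext fun a b => by
              rw [Matrix.transpose_apply, hswap a b, hγ, one_mul]]
        simp only [Matrix.mulVec_add, add_dotProduct, dotProduct_add, hsw]
        linear_combination (z ⬝ᵥ (G₀ *ᵥ y) + (l ⬝ᵥ y) * (l ⬝ᵥ z)) * h2
    have hφ : φ v = 0 := by
      rw [pi_eq_sum_univ' v, map_sum]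
      refine Finset.sum_eq_zero fun a _ => ?_
      show (v a • (Pi.single a 1 : Fin n → F)) ⬝ᵥ (G₀ *ᵥ (v a • (Pi.single a 1 : Fin n → F))) +
        (l ⬝ᵥ (v a • (Pi.single a 1 : Fin n → F))) * (l ⬝ᵥ (v a • (Pi.single a 1 : Fin n → F))) = 0
      simp only [Matrix.mulVec_smul, smul_dotProduct, dotProduct_smul, Matrix.mulVec_single_one,
        single_dotProduct, dotProduct_single_one, one_mul, Matrix.col_apply, smul_eq_mul]
      linear_combination (v a * v a) * hl a + (v a * v a) * G₀ a a * h2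
    have h := hφ
    change v ⬝ᵥ (G₀ *ᵥ v) + (l ⬝ᵥ v) * (l ⬝ᵥ v) = 0 at h
    linear_combination h - (l ⬝ᵥ v) * (l ⬝ᵥ v) * h2
  let W : Submodule F (Fin n → F) :=
    { carrier := {x | l ⬝ᵥ (((P⁻¹ : GL (Fin n) F) : Matrix (Fin n) (Fin n) F) *ᵥ x) = 0}
      add_mem' := fun {x y} hx hy => by
        simp only [Set.mem_setOf_eq] at hx hy ⊢
        rw [Matrix.mulVec_add, dotProduct_add, hx, hy, add_zero]
      zero_mem' := by simp
      smul_mem' := fun e x hx => by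
        simp only [Set.mem_setOf_eq] at hx ⊢
        rw [Matrix.mulVec_smul, dotProduct_smul, hx, smul_zero] }
  have hinv : Inv H W := by
    intro g hg x (hx : l ⬝ᵥ (((P⁻¹ : GL (Fin n) F) : Matrix (Fin n) (Fin n) F) *ᵥ x) = 0)
    show l ⬝ᵥ _ = 0
    obtain ⟨e, M, hgM⟩ := subfield_decomp (hle hg)
    set X : GL (Fin n) F := Matrix.GeneralLinearGroup.map F₁.subtype M with hX
    have hXmem : ∀ i j, (X : Matrix (Fin n) (Fin n) F) i j ∈ F₁ :=
      fun i j => ((M : Matrix (Fin n) (Fin n) F₁) i j).2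
    have hgP : ∀ y, (g : Matrix (Fin n) (Fin n) F) *ᵥ ((P : Matrix (Fin n) (Fin n) F) *ᵥ y) =
        (e : F) • ((P : Matrix (Fin n) (Fin n) F) *ᵥ ((X : Matrix (Fin n) (Fin n) F) *ᵥ y)) := by
      intro y
      rw [hgM, mul_mulVec, scalarGL_mulVec, mul_mulVec, mul_mulVec, inv_mulVec_cancel]
    have hnorm : ∀ a b, (e : F) * σ e * f' ((X : Matrix (Fin n) (Fin n) F) *ᵥ Pi.single a 1)
        ((X : Matrix (Fin n) (Fin n) F) *ᵥ Pi.single b 1) = f' (Pi.single a 1) (Pi.single b 1) := by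
      intro a b
      have h := mem_GU.1 (hH hg) ((P : Matrix (Fin n) (Fin n) F) *ᵥ Pi.single a 1)
        ((P : Matrix (Fin n) (Fin n) F) *ᵥ Pi.single b 1)
      rw [hgP, hgP, ← hfdef, hs.smul_left, hs.smul_right, ← mul_assoc] at h
      exact h
    have hsing : ∀ a i, (Pi.single a (1 : F) : Fin n → F) i ∈ F₁ := fun a i => by
      rw [Pi.single_apply]; split
      · exact F₁.one_mem
      · exact F₁.zero_mem
    obtain ⟨ρ, hρ⟩ := hsqrt ((e : F) * σ e)
    have hlX : ∀ a, ρ * (l ⬝ᵥ ((X : Matrix (Fin n) (Fin n) F) *ᵥ Pi.single a 1)) = l a := by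
      intro a
      have hmemX : ∀ i, ((X : Matrix (Fin n) (Fin n) F) *ᵥ Pi.single a 1) i ∈ F₁ := fun i => by
        rw [Matrix.mulVec_single_one]; exact hXmem i a
      have h : c * _ = c * _ := congrArg (fun z => c * z) (hnorm a a)
      rw [show c * ((e : F) * σ e * f' ((X : Matrix (Fin n) (Fin n) F) *ᵥ Pi.single a 1)
        ((X : Matrix (Fin n) (Fin n) F) *ᵥ Pi.single a 1)) = (e : F) * σ e *
          (c * f' ((X : Matrix (Fin n) (Fin n) F) *ᵥ Pi.single a 1)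
            ((X : Matrix (Fin n) (Fin n) F) *ᵥ Pi.single a 1)) by ring,
        hrat _ _ hmemX hmemX, hrat _ _ (hsing a) (hsing a), hquad, hquad, dotProduct_single_one,
        ← hρ] at h
      exact (mul_self_eq_mul_self_iff.1 (by rw [← h]; ring)).elim id fun h' => h'.trans (CharTwo.neg_eq _)
    have hlin : ∀ y, ρ * (l ⬝ᵥ ((X : Matrix (Fin n) (Fin n) F) *ᵥ y)) = l ⬝ᵥ y := by
      intro y
      have : (ρ • (l ᵥ* (X : Matrix (Fin n) (Fin n) F))) = l := funext fun a => by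
        rw [Pi.smul_apply, smul_eq_mul, ← dotProduct_single_one (l ᵥ* _), ← Matrix.dotProduct_mulVec]
        exact hlX a
      conv_rhs => rw [← this]
      rw [smul_dotProduct, smul_eq_mul, Matrix.dotProduct_mulVec]
    have hρ0 : ρ ≠ 0 := fun h0 => by
      have hee : (e : F) * σ e ≠ 0 := mul_ne_zero e.ne_zero (by simp)
      rw [h0, zero_mul] at hρ
      exact hee hρ.symm
    obtain ⟨y, rfl⟩ : ∃ y, (P : Matrix (Fin n) (Fin n) F) *ᵥ y = x :=
      ⟨_, mulVec_inv_cancel P x⟩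
    rw [inv_mulVec_cancel] at hx
    rw [hgP, Matrix.mulVec_smul, inv_mulVec_cancel, dotProduct_smul]
    have := hlin y
    rw [hx] at this
    rw [(mul_eq_zero.1 this).resolve_left hρ0, smul_zero]
  have hli₀ : l i₀ ≠ 0 := fun h0 => hi₀ (by rw [← hl i₀, h0, zero_mul])
  rcases irr_iff.1 hirr W hinv with h | h
  · obtain ⟨j, hj⟩ : ∃ j : Fin n, j ≠ i₀ := by
      have : Nontrivial (Fin n) := Fin.nontrivial_iff_two_le.2 hn
      exact exists_ne i₀
    let y : Fin n → F := Pi.single j (l i₀) - Pi.single i₀ (l j)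
    have hy : (P : Matrix (Fin n) (Fin n) F) *ᵥ y ∈ W := by
      show l ⬝ᵥ _ = 0
      rw [inv_mulVec_cancel]
      simp [y, dotProduct_sub, mul_comm]
    rw [h, Submodule.mem_bot] at hy
    have hy0 : y = 0 := mulVec_injective P (by simpa using hy)
    have := congrFun hy0 j
    simp [y, hj] at this
    exact hli₀ this
  · have hmem : (P : Matrix (Fin n) (Fin n) F) *ᵥ Pi.single i₀ 1 ∈ W := h ▸ Submodule.mem_top
    change l ⬝ᵥ _ = 0 at hmem
    rw [inv_mulVec_cancel, dotProduct_single_one] at hmem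
    exact hli₀ hmem

/-- A normalised absolutely irreducible group of similitudes realised over a proper subfield, with
multipliers in it, gives class five. -/
theorem unit_subfield (hF : Fintype.card F = q ^ 2) (hσ : ∀ a, σ a = a ^ q)
    (hf : Cfsg.Geo.IsUnitaryForm σ (Cfsg.hermForm n F q)) (hn : 2 ≤ n)
    {H P : Subgroup (GL (Fin n) F)} (hH : H ≤ Cfsg.GU n F q) (hirr : Irr H) (hP : AbsIrr P)
    (hPn : ∀ g ∈ H, ∀ a ∈ P, g * a * g⁻¹ ∈ P) {F₀ : Subfield F} (hF₀ : F₀ ≠ ⊤)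
    (hsim : ∀ a ∈ P, ∃ μ ∈ F₀, ∀ u v,
      Cfsg.hermForm n F q ((a : Matrix (Fin n) (Fin n) F) *ᵥ u)
        ((a : Matrix (Fin n) (Fin n) F) *ᵥ v) = μ * Cfsg.hermForm n F q u v)
    (hreal : Cfsg.Geo.RealisableOver F₀ (Cfsg.Geo.matrixSet P)) : InUnitClassOver q H := by
  classical
  have : Nonempty (Fin n) := ⟨⟨0, by omega⟩⟩
  obtain ⟨F₁, r, hle', hr, hc⟩ := exists_subfield_prime hF₀
  obtain ⟨B, hB⟩ := realisableOver_mono hle' hreal
  have hs := isSesq_of_unitary hf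
  set f' := pullForm (Equiv.refl _) (B⁻¹ : GL (Fin n) F) (Cfsg.hermForm n F q) with hf'
  have hr' : IsRefl σ 1 f' := (isRefl_of_unitary hf).pull _ _
  set G := Cfsg.Geo.gramMatrix f' with hG
  obtain ⟨Gu, hGu⟩ : IsUnit G := hG ▸ hr'.sesq.gram_isUnit hr'.nondeg
  obtain ⟨i, j, hij⟩ : ∃ i j, G i j ≠ 0 := by
    by_contra h
    push Not at h
    exact Gu.ne_zero (hGu.trans (Matrix.ext h))
  obtain ⟨π, hπ⟩ : ∃ π : F →ₗ[F₁] F₁, π (G i j) ≠ 0 := by
    by_contra h
    push Not at h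
    exact hij ((Module.forall_dual_apply_eq_zero_iff F₁ _).1 h)
  have hσF₁ : ∀ x ∈ F₁, σ x ∈ F₁ := fun x hx => by rw [hσ]; exact pow_mem hx q
  set G₀ : Matrix (Fin n) (Fin n) F := fun a b => (π (G a b) : F) with hG₀
  have hinv : ∀ s ∈ Cfsg.Geo.matrixSet P,
      Commute (((Gu⁻¹ : (Matrix (Fin n) (Fin n) F)ˣ) : Matrix (Fin n) (Fin n) F) * G₀)
        (((B : Matrix (Fin n) (Fin n) F) * s *
          ((B⁻¹ : GL (Fin n) F) : Matrix (Fin n) (Fin n) F)).map σ) := by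
    rintro _ ⟨g, hg, rfl⟩
    obtain ⟨μ, hμ, hgμ⟩ := hsim g hg
    set X : GL (Fin n) F := B * g * B⁻¹ with hX
    have hXval : (B : Matrix (Fin n) (Fin n) F) * (g : Matrix (Fin n) (Fin n) F) *
      ((B⁻¹ : GL (Fin n) F) : Matrix (Fin n) (Fin n) F) = (X : Matrix (Fin n) (Fin n) F) := rfl
    rw [hXval]
    have hXe : ∀ a b, (X : Matrix (Fin n) (Fin n) F) a b ∈ F₁ := hB _ ⟨g, hg, rfl⟩
    set Xm := (X : Matrix (Fin n) (Fin n) F) with hXm
    have h1 : Xmᵀ * G * Xm.map σ = μ • G := by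
      rw [hG, ← hr'.sesq.gram_comp]
      ext p q'
      show f' (Xm *ᵥ Pi.single p 1) (Xm *ᵥ Pi.single q' 1) = μ * f' (Pi.single p 1) (Pi.single q' 1)
      simp only [hf', pullForm, Equiv.coe_refl, Function.comp_id]
      rw [← hgμ]
      congr 1 <;>
      · rw [hXm, hX, ← mul_mulVec, ← mul_mulVec]
        congr 1
        simp [mul_assoc]
    have h2 : Xmᵀ * G₀ * Xm.map σ = μ • G₀ := by
      ext a b
      have h2 := congrArg (fun M : Matrix (Fin n) (Fin n) F => (π (M a b) : F)) h1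
      have hμs : (π ((μ • G) a b) : F) = μ * π (G a b) := by
        rw [Matrix.smul_apply, smul_eq_mul,
          show μ * G a b = (⟨μ, hle' hμ⟩ : F₁) • G a b from rfl, map_smul]
        rfl
      simp only [hμs, Matrix.mul_apply, Matrix.transpose_apply, map_sum, Finset.sum_mul,
        AddSubmonoidClass.coe_finsetSum] at h2
      simp only [Matrix.mul_apply, Matrix.transpose_apply, Finset.sum_mul, Matrix.smul_apply,
        smul_eq_mul]
      refine Eq.trans ?_ h2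
      refine Finset.sum_congr rfl fun c _ => Finset.sum_congr rfl fun d _ => ?_
      have h3 : Xm d a * G d c * (Xm.map σ) c b =
          (⟨Xm d a, hXe d a⟩ * ⟨(Xm.map σ) c b, hσF₁ _ (hXe c b)⟩ : F₁) • G d c := by
        show _ = ((Xm d a * (Xm.map σ) c b : F)) * G d c
        ring
      rw [h3, map_smul, hG₀]
      simp only [smul_eq_mul, Subfield.coe_mul]
      ring
    have hμ0 : μ ≠ 0 := by
      intro h0
      have hu : IsUnit (Xmᵀ * G * Xm.map σ) :=
        (((Matrix.isUnit_transpose _).2 X.isUnit).mul ⟨Gu, hGu⟩).mul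
          (X.isUnit.map σ.toRingHom.mapMatrix)
      rw [h1, h0, zero_smul] at hu
      exact hu.ne_zero rfl
    show _ * _ = _ * _
    obtain ⟨Yu, hYu⟩ : IsUnit Xmᵀ := (Matrix.isUnit_transpose _).2 X.isUnit
    have e1 : G * Xm.map σ = μ • (((Yu⁻¹ : (Matrix (Fin n) (Fin n) F)ˣ) : Matrix _ _ F) * G) := by
      rw [← Matrix.mul_smul, ← h1, ← hYu, ← mul_assoc, ← mul_assoc, Units.inv_mul, one_mul]
    have e2 : G₀ * Xm.map σ = μ • (((Yu⁻¹ : (Matrix (Fin n) (Fin n) F)ˣ) : Matrix _ _ F) * G₀) := by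
      rw [← Matrix.mul_smul, ← h2, ← hYu, ← mul_assoc, ← mul_assoc, Units.inv_mul, one_mul]
    rw [mul_assoc, e2, Matrix.mul_smul]
    refine (smul_right_injective _ (one_ne_zero' F) ?_)
    simp only [one_smul]
    have e3 : Xm.map σ * ((Gu⁻¹ : (Matrix (Fin n) (Fin n) F)ˣ) : Matrix _ _ F) =
        μ • (((Gu⁻¹ : (Matrix (Fin n) (Fin n) F)ˣ) : Matrix _ _ F) *
          ((Yu⁻¹ : (Matrix (Fin n) (Fin n) F)ˣ) : Matrix _ _ F)) := by
      have := congrArg (fun M => ((Gu⁻¹ : (Matrix (Fin n) (Fin n) F)ˣ) : Matrix _ _ F) * M *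
        ((Gu⁻¹ : (Matrix (Fin n) (Fin n) F)ˣ) : Matrix _ _ F)) e1
      simpa [← hGu, mul_assoc, Matrix.mul_smul, Matrix.smul_mul] using this
    rw [← mul_assoc, ← mul_assoc, e3, Matrix.smul_mul]
  obtain ⟨d, hd⟩ := hP.2 (((B⁻¹ : GL (Fin n) F) : Matrix (Fin n) (Fin n) F) *
    ((((Gu⁻¹ : (Matrix (Fin n) (Fin n) F)ˣ) : Matrix (Fin n) (Fin n) F) * G₀).map σ) *
    (B : Matrix (Fin n) (Fin n) F)) fun s hs' => by
      have h := congrArg (fun M : Matrix (Fin n) (Fin n) F =>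
        ((B⁻¹ : GL (Fin n) F) : Matrix (Fin n) (Fin n) F) * M.map σ *
          (B : Matrix (Fin n) (Fin n) F)) (hinv s hs').eq
      simp only [Matrix.map_mul] at h
      have hmm : ∀ M : Matrix (Fin n) (Fin n) F, (M.map σ).map σ = M := fun M => by
        ext; simp [hf.involutive]
      simp only [hmm] at h
      simpa [mul_assoc] using h
  have hGeq : G₀ = σ d • G := by
    have h1 := congrArg (fun M : Matrix (Fin n) (Fin n) F => (B : Matrix (Fin n) (Fin n) F) * M *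
        ((B⁻¹ : GL (Fin n) F) : Matrix (Fin n) (Fin n) F)) hd
    simp only [mul_assoc, Units.mul_inv, mul_one, Units.mul_inv_cancel_left, Matrix.smul_mul,
      Matrix.mul_smul, one_mul] at h1
    have h2 := congrArg (fun M : Matrix (Fin n) (Fin n) F => G * M.map σ) h1
    have hmm : ∀ M : Matrix (Fin n) (Fin n) F, (M.map σ).map σ = M := fun M => by
      ext; simp [hf.involutive]
    have hd1 : (d • (1 : Matrix (Fin n) (Fin n) F)).map σ = σ d • 1 := by
      ext a b; by_cases hab : a = b <;> simp [hab]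
    simp only [hmm, hd1, Matrix.mul_smul, mul_one, ← mul_assoc] at h2
    rwa [← hGu, Units.mul_inv, one_mul, hGu] at h2
  refine unit_rational hF hσ hf hn hH hirr hr hc (P := B⁻¹) (c := σ d) (fun h0 => ?_) (fun a b => ?_)
    (le_subfieldSubgroup_of_entries hPn (envelope_eq_top hP) hB)
  · have := congrFun (congrFun hGeq i) j
    rw [h0, zero_smul] at this
    exact hπ (Subtype.ext this)
  · have := congrFun (congrFun hGeq a) b
    show σ d * G a b ∈ F₁
    rw [show σ d * G a b = (σ d • G) a b from rfl, ← this]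
    exact (π (G a b)).2

end CfsgLib.Aschbacher
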