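import Cfsg.Agent.Lib.Aschbacher.UnitaryMaximalGeneral
import Cfsg.Agent.Lib.Aschbacher.SL4F5
import Cfsg.Agent.Lib.Aschbacher.FieldNine

/-!
The four dimensional unitary group: normalisers of groups of symplectic type are proper; over nine
elements a frame gives a group of symplectic type; over four and nine elements a pair of totally
isotropic planes gives a symplectic structure over the fixed field.
-/

set_option autoImplicit false
set_option maxHeartbeats 800000

namespace CfsgLib.Aschbacher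

open Matrix Module

variable {F : Type*} [Field F] [Fintype F] {n q : ℕ}

/-- The normalisers of irreducible groups with scalar commutators are proper, also in dimension four. -/
theorem not_SU4_le_normalizer (hF : Fintype.card F = q ^ 2) (hn : 4 ≤ n)
    {R : Subgroup (GL (Fin n) F)} (hR : AbsIrr R) (h2 : ScalarCommutators R)
    (hsim : R ≤ Cfsg.Geo.similarityGroup (Cfsg.hermForm n F q)) :
    ¬ SUgl n F q ≤ Cfsg.Geo.subgroupNormalizer R := by
  classical
  intro hle
  have : Nonempty (Fin n) := ⟨⟨0, by omega⟩⟩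
  obtain ⟨σ, hσ, hf⟩ := exists_unitary_hermForm (n := n) hF
  have hs := isSesq_of_unitary hf
  obtain ⟨c, hc0, hiso⟩ := exists_isotropic (n := n) hF
    (show (⟨0, by omega⟩ : Fin n) ≠ ⟨1, by omega⟩ by simp [Fin.ext_iff])
  set u := (Pi.single ⟨0, by omega⟩ 1 + c • Pi.single ⟨1, by omega⟩ 1 : Fin n → F)
  have hu0 : u ≠ 0 := fun h => by simpa [u, Fin.ext_iff] using congrFun h ⟨0, by omega⟩
  obtain ⟨l, hl0, hl⟩ := exists_trace_zero hf
  obtain ⟨T, hT, hTv⟩ := exists_transvection hσ hf hiso hl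
  have hline : ∀ x ∈ R, (x : Matrix (Fin n) (Fin n) F) *ᵥ u ∈ Submodule.span F {u} := by
    intro x hx
    set y := x * T * x⁻¹ * T⁻¹ with hy
    have hyR : y ∈ R := by
      have h1 : T * x⁻¹ * T⁻¹ ∈ R := (Subgroup.mem_normalizer_iff.1 (hle hT) x⁻¹).1 (R.inv_mem hx)
      have h2 := R.mul_mem hx h1
      convert h2 using 1
      simp only [hy, mul_assoc]
    let φ : (Fin n → F) →ₗ[F] F :=
      { toFun := fun v => Cfsg.hermForm n F q v u
        map_add' := fun a b => hs.add_left a b u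
        map_smul' := fun c a => hs.smul_left c a u }
    let S : Submodule F (Fin n → F) := LinearMap.ker
      (φ.prod (φ.comp (Matrix.toLin' ((x⁻¹ : GL (Fin n) F) : Matrix (Fin n) (Fin n) F))))
    have hS : n - 2 ≤ finrank F S := by
      have h1 := (φ.prod (φ.comp (Matrix.toLin'
        ((x⁻¹ : GL (Fin n) F) : Matrix (Fin n) (Fin n) F)))).finrank_range_add_finrank_ker
      have h2 := Submodule.finrank_le (LinearMap.range (φ.prod (φ.comp (Matrix.toLin'
        ((x⁻¹ : GL (Fin n) F) : Matrix (Fin n) (Fin n) F)))))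
      rw [Module.finrank_fintype_fun_eq_card, Fintype.card_fin] at h1
      rw [finrank_prod, finrank_self] at h2
      show n - 2 ≤ finrank F (LinearMap.ker _)
      omega
    have hTfix : ∀ v, Cfsg.hermForm n F q v u = 0 → (T : Matrix (Fin n) (Fin n) F) *ᵥ v = v :=
      fun v hv => by rw [hTv, hv, mul_zero, zero_smul, add_zero]
    have hfix : ∀ v ∈ S, (y : Matrix (Fin n) (Fin n) F) *ᵥ v = v := by
      intro v hv
      simp only [S, LinearMap.mem_ker, LinearMap.prod_apply, Function.prod_apply, Prod.mk_eq_zero,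
        LinearMap.comp_apply, Matrix.toLin'_apply] at hv
      have hTi : ((T⁻¹ : GL (Fin n) F) : Matrix (Fin n) (Fin n) F) *ᵥ v = v := by
        conv_lhs => rw [← hTfix v hv.1]
        rw [inv_mulVec_cancel]
      rw [hy, mul_mulVec, mul_mulVec, mul_mulVec, hTi, hTfix _ hv.2, mulVec_inv_cancel]
    have hy1 : y = 1 := by
      have hTG : T ∈ Cfsg.GU n F q := hT.1
      obtain ⟨p, h, hpp, hp, hh, rfl⟩ := exists_prime_pow hF
      have : Fact p.Prime := ⟨hpp⟩
      have hTp : T ^ p = 1 := by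
        have hk : ∀ (k : ℕ) v, ((T ^ k : GL (Fin n) F) : Matrix (Fin n) (Fin n) F) *ᵥ v =
            v + ((k : F) * (l * Cfsg.hermForm n F (p ^ h) v u)) • u := by
          intro k
          induction k with
          | zero => intro v; simp
          | succ k ih =>
            intro v
            rw [pow_succ, mul_mulVec, ih, hTv, hs.add_left, hs.smul_left, hiso, mul_zero, add_zero,
              add_assoc, ← add_smul]
            congr 2
            push_cast
            ring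
        refine Units.ext (Matrix.toLin'.injective (LinearMap.ext fun v => ?_))
        rw [Matrix.toLin'_apply, hk, CharP.cast_eq_zero, zero_mul, zero_smul, add_zero]
        simp
      have hyGU : y ∈ Cfsg.GU n F (p ^ h) := by
        obtain ⟨s, hs'⟩ := hsim hx
        have hTi : T⁻¹ ∈ Cfsg.GU n F (p ^ h) := inv_mem hTG
        refine mem_GU.2 fun a b => ?_
        rw [hy]
        simp only [mul_mulVec]
        rw [hs', mem_GU.1 hTG]
        conv_rhs => rw [← mem_GU.1 hTi a b,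
          ← mulVec_inv_cancel x (((T⁻¹ : GL (Fin n) F) : Matrix (Fin n) (Fin n) F) *ᵥ a),
          ← mulVec_inv_cancel x (((T⁻¹ : GL (Fin n) F) : Matrix (Fin n) (Fin n) F) *ᵥ b), hs']
      have hsc : y ∈ Cfsg.Geo.scalars (Fin n) F := by
        refine hR.mem_scalars fun z hz => ?_
        obtain ⟨d, hd⟩ := h2.exists_comm hz hyR
        by_cases hd1 : (d : F) = 1
        · rw [hd, show d = 1 from Units.ext hd1, scalarGL_one, one_mul]
        exfalso
        let S' : Submodule F (Fin n → F) := S.map (Matrix.toLin' (z : Matrix (Fin n) (Fin n) F))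
        have hdis : S ⊓ S' = ⊥ := by
          refine eq_bot_iff.2 ?_
          rintro v ⟨hv, w, hw, rfl⟩
          have h1 := hfix _ hv
          rw [Matrix.toLin'_apply] at h1 ⊢
          have h3 := congrArg (fun g : GL (Fin n) F => (g : Matrix (Fin n) (Fin n) F) *ᵥ w) hd
          simp only [mul_mulVec, scalarGL_mulVec] at h3
          rw [hfix w hw, h1] at h3
          have h4 : ((d : F) - 1) • ((z : Matrix (Fin n) (Fin n) F) *ᵥ w) = 0 := by
            rw [sub_smul, one_smul, ← h3, sub_self]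
          exact (Submodule.mem_bot F).2 ((smul_eq_zero.1 h4).resolve_left (sub_ne_zero.2 hd1))
        have h1 : finrank F S' = finrank F S :=
          (Submodule.equivMapOfInjective _ (fun a b h => mulVec_injective z (by simpa using h)) S).finrank_eq.symm
        have htop : S ⊔ S' = ⊤ := by
          refine Submodule.eq_top_of_finrank_eq ?_
          have h3 := Submodule.finrank_sup_add_finrank_inf_eq S S'
          rw [hdis, finrank_bot, h1] at h3
          have h4 := Submodule.finrank_le (S ⊔ S')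
          rw [Module.finrank_fintype_fun_eq_card, Fintype.card_fin] at h4 ⊢
          omega
        -- the other eigenspace is orthogonal to the fixed space
        have hyiso : ∀ a b, a ∈ S → b ∈ S' → (d : F) ≠ 0 → (d : F) ≠ 1 →
            Cfsg.hermForm n F (p ^ h) b a = 0 := by
          intro a b ha hb _ _
          have hyG : y ∈ Cfsg.GU n F (p ^ h) := hyGU
          obtain ⟨w, hw, rfl⟩ := hb
          have h3 := congrArg (fun g : GL (Fin n) F => (g : Matrix (Fin n) (Fin n) F) *ᵥ w) hd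
          simp only [mul_mulVec, scalarGL_mulVec, hfix w hw] at h3
          have h4 := mem_GU.1 hyG (Matrix.toLin' (z : Matrix (Fin n) (Fin n) F) w) a
          have h5 : (y : Matrix (Fin n) (Fin n) F) *ᵥ ((z : Matrix (Fin n) (Fin n) F) *ᵥ w) =
              (d : F)⁻¹ • ((z : Matrix (Fin n) (Fin n) F) *ᵥ w) := by
            conv_rhs => rw [h3, smul_smul, inv_mul_cancel₀ d.ne_zero, one_smul]
          rw [Matrix.toLin'_apply] at h4 ⊢
          rw [h5, hfix a ha, hs.smul_left] at h4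
          have hne : (d : F)⁻¹ - 1 ≠ 0 := sub_ne_zero.2 fun he => hd1 (inv_eq_one.1 he)
          exact (mul_eq_zero.1 (show ((d : F)⁻¹ - 1) * Cfsg.hermForm n F (p ^ h)
            ((z : Matrix (Fin n) (Fin n) F) *ᵥ w) a = 0 by linear_combination h4)).resolve_left hne
        have hdvec : ∀ w ∈ S', (y : Matrix (Fin n) (Fin n) F) *ᵥ w = (d : F)⁻¹ • w := by
          rintro _ ⟨w, hw, rfl⟩
          have h3 := congrArg (fun g : GL (Fin n) F => (g : Matrix (Fin n) (Fin n) F) *ᵥ w) hd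
          simp only [mul_mulVec, scalarGL_mulVec, hfix w hw] at h3
          rw [Matrix.toLin'_apply]
          conv_rhs => rw [h3, smul_smul, inv_mul_cancel₀ d.ne_zero, one_smul]
        have hfixS : ∀ v ∈ S, (T : Matrix (Fin n) (Fin n) F) *ᵥ v = v := by
          intro v hv
          simp only [S, LinearMap.mem_ker, LinearMap.prod_apply, Function.prod_apply, Prod.mk_eq_zero,
            LinearMap.comp_apply, Matrix.toLin'_apply] at hv
          exact hTfix v hv.1
        have hyu : ∀ a b, a ∈ S → b ∈ S' → Cfsg.hermForm n F (p ^ h) b a = 0 := by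
          intro a b ha hb
          have h3 := hyiso a b ha hb
          exact h3 d.ne_zero hd1
        have hTS' : ∀ w ∈ S', (T : Matrix (Fin n) (Fin n) F) *ᵥ w ∈ S' := by
          intro w hw
          obtain ⟨a, ha, b, hb, hab⟩ := Submodule.mem_sup.1
            (htop ▸ Submodule.mem_top : (T : Matrix (Fin n) (Fin n) F) *ᵥ w ∈ S ⊔ S')
          suffices a = 0 by rw [← hab, this, zero_add]; exact hb
          by_contra ha0
          obtain ⟨⟨z', hz'⟩, -⟩ := hf.nondegenerate a ha0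
          obtain ⟨a', ha', b', hb', rfl⟩ := Submodule.mem_sup.1 (htop ▸ Submodule.mem_top : z' ∈ S ⊔ S')
          refine hz' ?_
          rw [hs.add_left, hyu a b' ha hb', add_zero]
          refine (isRefl_of_unitary hf).zero_iff.1 ?_
          have h5 : Cfsg.hermForm n F (p ^ h) ((T : Matrix (Fin n) (Fin n) F) *ᵥ w) a' = 0 := by
            rw [← hfixS a' ha', mem_GU.1 hTG]
            exact hyu a' w ha' hw
          rwa [← hab, hs.add_left, hyu a' b ha' hb, add_zero] at h5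
        have hcomT : T * y = y * T := by
          refine Units.ext (Matrix.toLin'.injective (LinearMap.ext fun v => ?_))
          obtain ⟨a, ha, b, hb, rfl⟩ := Submodule.mem_sup.1 (htop ▸ Submodule.mem_top : v ∈ S ⊔ S')
          simp only [Units.val_mul, Matrix.toLin'_apply, ← Matrix.mulVec_mulVec, Matrix.mulVec_add,
            hfix a ha, hfixS a ha, hdvec b hb, hdvec _ (hTS' b hb), Matrix.mulVec_smul]
        -- so `y` is unipotent
        have hyp : y ^ p = 1 := by
          have hc : Commute (x * T * x⁻¹) T⁻¹ := by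
            refine Commute.inv_right ?_
            have h' : T * (x * T * x⁻¹ * T⁻¹) = x * T * x⁻¹ * T⁻¹ * T := hcomT
            rw [inv_mul_cancel_right, ← mul_assoc, mul_inv_eq_iff_eq_mul] at h'
            exact h'.symm
          rw [hy, hc.mul_pow, conj_pow, hTp, mul_one, mul_inv_cancel, one_mul, inv_pow, hTp, inv_one]
        obtain ⟨w, hw, hw0⟩ := Submodule.exists_mem_ne_zero_of_ne_bot (show S' ≠ ⊥ from fun h => by
          rw [h, finrank_bot] at h1; omega)
        have hpow : ∀ k : ℕ, ((y ^ k : GL (Fin n) F) : Matrix (Fin n) (Fin n) F) *ᵥ w = ((d : F)⁻¹) ^ k • w := by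
          intro k
          induction k with
          | zero => simp
          | succ k ih => rw [pow_succ, mul_mulVec, hdvec w hw, Matrix.mulVec_smul, ih, smul_smul, pow_succ']
        have h5 := hpow p
        rw [hyp, Units.val_one, Matrix.one_mulVec] at h5
        have h6 : ((d : F)⁻¹ - 1) ^ p = 0 := by
          rw [sub_pow_char, one_pow]
          have h7 : (((d : F)⁻¹) ^ p - 1) • w = 0 := by rw [sub_smul, one_smul, ← h5, sub_self]
          exact (smul_eq_zero.1 h7).resolve_right hw0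
        exact hd1 (inv_eq_one.1 (sub_eq_zero.1 (eq_zero_of_pow_eq_zero h6)))
      obtain ⟨d, hd⟩ := mem_scalars.1 hsc
      have hSne : S ≠ ⊥ := fun h => by rw [h, finrank_bot] at hS; omega
      obtain ⟨v, hv, hv0⟩ := Submodule.exists_mem_ne_zero_of_ne_bot hSne
      have h1 := hfix v hv
      rw [hd, scalarGL_mulVec] at h1
      have hd1 : (d : F) = 1 := by
        by_contra hne
        refine hv0 ((smul_eq_zero.1 (?_ : ((d : F) - 1) • v = 0)).resolve_left (sub_ne_zero.2 hne))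
        rw [sub_smul, one_smul, h1, sub_self]
      rw [hd, show d = 1 from Units.ext hd1, scalarGL_one]
    obtain ⟨⟨v, hv⟩, -⟩ := hf.nondegenerate u hu0
    have hcomm : x * T = T * x := by
      have : x * T * x⁻¹ * T⁻¹ = 1 := hy1
      rwa [mul_inv_eq_one, mul_inv_eq_iff_eq_mul] at this
    have h3 := congrArg (fun g : GL (Fin n) F => (g : Matrix (Fin n) (Fin n) F) *ᵥ v) hcomm
    simp only [mul_mulVec, hTv, Matrix.mulVec_add, Matrix.mulVec_smul, add_right_inj] at h3
    refine Submodule.mem_span_singleton.2 ⟨(l * Cfsg.hermForm n F q v u)⁻¹ *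
      (l * Cfsg.hermForm n F q ((x : Matrix (Fin n) (Fin n) F) *ᵥ v) u), ?_⟩
    rw [← smul_smul, ← h3, smul_smul, inv_mul_cancel₀ (mul_ne_zero hl0 hv), one_smul]
  rcases irr_iff.1 hR.1 (Submodule.span F {u}) (fun a ha w hw => by
    obtain ⟨d, rfl⟩ := Submodule.mem_span_singleton.1 hw
    rw [Matrix.mulVec_smul]
    exact Submodule.smul_mem _ _ (hline a ha)) with h | h
  · exact hu0 (Submodule.span_singleton_eq_bot.1 h)
  · have h1 := congrArg (fun V : Submodule F (Fin n → F) => finrank F V) h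
    rw [finrank_span_singleton hu0, finrank_top, Module.finrank_fin_fun] at h1
    omega

lemma absIrr_conj {ι : Type} [Fintype ι] [DecidableEq ι] [Nonempty ι] {A : Subgroup (GL ι F)}
    (hA : AbsIrr A) (B : GL ι F) : AbsIrr (A.map (MulAut.conj B).toMonoidHom) := by
  refine absIrr_of_commutant (irr_iff.2 fun W hW => ?_) fun M hM => ?_
  · rcases irr_iff.1 hA.1 (W.comap (Matrix.toLin' (B : Matrix ι ι F))) (fun a ha w hw => by
      rw [Submodule.mem_comap, Matrix.toLin'_apply] at hw ⊢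
      have := hW _ (Subgroup.mem_map_of_mem (MulAut.conj B).toMonoidHom ha) _ hw
      rwa [MulEquiv.coe_toMonoidHom, MulAut.conj_apply, mul_mulVec, mul_mulVec, inv_mulVec_cancel] at this)
      with h | h
    · left
      refine eq_bot_iff.2 fun w hw => ?_
      have : ((B⁻¹ : GL ι F) : Matrix ι ι F) *ᵥ w ∈ W.comap (Matrix.toLin' (B : Matrix ι ι F)) := by
        rw [Submodule.mem_comap, Matrix.toLin'_apply, mulVec_inv_cancel]; exact hw
      rw [h, Submodule.mem_bot] at this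
      rw [Submodule.mem_bot, ← mulVec_inv_cancel B w, this, Matrix.mulVec_zero]
    · right
      refine eq_top_iff.2 fun w _ => ?_
      have : ((B⁻¹ : GL ι F) : Matrix ι ι F) *ᵥ w ∈ W.comap (Matrix.toLin' (B : Matrix ι ι F)) :=
        h ▸ Submodule.mem_top
      rwa [Submodule.mem_comap, Matrix.toLin'_apply, mulVec_inv_cancel] at this
  · have hM' : ((B⁻¹ : GL ι F) : Matrix ι ι F) * M * (B : Matrix ι ι F) ∈ commutant A := by
      refine mem_commutant.2 fun a ha => ?_
      have h := mem_commutant.1 hM _ (Subgroup.mem_map_of_mem (MulAut.conj B).toMonoidHom ha)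
      simp only [MulEquiv.coe_toMonoidHom, MulAut.conj_apply, Units.val_mul] at h
      have h' := congrArg (fun X => ((B⁻¹ : GL ι F) : Matrix ι ι F) * X * (B : Matrix ι ι F)) h
      simp only [mul_assoc, Units.inv_mul, mul_one, Units.inv_mul_cancel_left] at h' ⊢
      exact h'
    obtain ⟨c, hc⟩ := hA.2 _ (by rintro _ ⟨a, ha, rfl⟩; exact (mem_commutant.1 hM' a ha).symm)
    refine ⟨c, ?_⟩
    calc M = (B : Matrix ι ι F) * (((B⁻¹ : GL ι F) : Matrix ι ι F) * M * (B : Matrix ι ι F)) *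
          ((B⁻¹ : GL ι F) : Matrix ι ι F) := by
            simp only [mul_assoc, Units.mul_inv, mul_one, Units.mul_inv_cancel_left]
      _ = _ := by rw [hc]; simp

namespace FrameNine

open SL4F5

variable (F) in
/-- The group `4 ∘ 2^(1+4)` of monomial matrices. -/
def R₀ : Subgroup (GL (Fin 4) F) where
  carrier := {g | ∃ (π : Equiv.Perm (Fin 4)) (d : Fin 4 → F), IsV4 π ∧ Mono g π d ∧
    (∀ i, d i ^ 4 = 1) ∧ (∀ i j, d i ^ 2 = d j ^ 2) ∧ ∏ i, d i = 1}
  one_mem' := ⟨1, fun _ => 1, ⟨one_mul 1, Or.inl rfl⟩, Mono.one, fun _ => one_pow _,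
    fun _ _ => rfl, by simp⟩
  mul_mem' := by
    rintro g h ⟨π, a, hπ, hg, ha4, ha, ha'⟩ ⟨ρ, b, hρ, hh, hb4, hb, hb'⟩
    refine ⟨π * ρ, _, isV4_mul π ρ hπ hρ, hg.mul hh, fun i => ?_, fun i j => ?_, ?_⟩
    · rw [mul_pow, ha4, hb4, one_mul]
    · rw [mul_pow, mul_pow, ha (ρ i) (ρ j), hb i j]
    · rw [Finset.prod_mul_distrib, Equiv.prod_comp, ha', hb', one_mul]
  inv_mem' := by
    rintro g ⟨π, a, hπ, hg, ha4, ha, ha'⟩
    have hne : ∀ i, a i ≠ 0 := fun i h =>
      one_ne_zero (ha'.symm.trans (Finset.prod_eq_zero (Finset.mem_univ i) h))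
    refine ⟨π⁻¹, _, ?_, hg.inv hne, fun i => ?_, fun i j => ?_, ?_⟩
    · have : π⁻¹ = π := inv_eq_of_mul_eq_one_right hπ.1
      rwa [this]
    · rw [inv_pow, ha4, inv_one]
    · rw [inv_pow, inv_pow, ha]
    · rw [Equiv.prod_comp π⁻¹ (fun i => (a i)⁻¹), Finset.prod_inv_distrib, ha', inv_one]

omit [Fintype F] in
lemma shift {d : Fin 4 → F} (h4 : ∀ i, d i ^ 4 = 1) (h2 : ∀ i j, d i ^ 2 = d j ^ 2)
    (hp : ∏ i, d i = 1) {π : Equiv.Perm (Fin 4)} (hπ : IsV4 π) :
    ∃ c : F, c * c = 1 ∧ ∀ i, d (π i) = c * d i := by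
  rw [Fin.prod_univ_four] at hp
  have key : ∀ k a b : Fin 4, d 0 * d k * d a * d b = 1 → ∃ c, c * c = 1 ∧ d k = c * d 0 ∧
      d 0 = c * d k ∧ d b = c * d a ∧ d a = c * d b := fun k a b h =>
    ⟨d 0 ^ 3 * d k, by linear_combination d 0 ^ 6 * h2 k 0 + (d 0 ^ 4 + 1) * h4 0,
      by linear_combination (-d k) * h4 0,
      by linear_combination (-d 0 ^ 3) * h2 k 0 - d 0 * h4 0,
      by linear_combination (d 0 * d k * d a) * h2 b 0 - d b * h,
      by linear_combination (d 0 * d k * d b) * h2 a 0 - d a * h⟩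
  rcases isV4_cases π hπ with rfl | rfl | rfl | rfl
  · exact ⟨1, one_mul 1, fun i => by simp⟩
  · obtain ⟨c, hc, e1, e2, e3, e4⟩ := key 2 1 3 (by linear_combination hp)
    exact ⟨c, hc, fun i => by fin_cases i <;> simp [Equiv.Perm.mul_apply, Equiv.swap_apply_def] <;>
      assumption⟩
  · obtain ⟨c, hc, e1, e2, e3, e4⟩ := key 1 2 3 (by linear_combination hp)
    exact ⟨c, hc, fun i => by fin_cases i <;> simp [Equiv.Perm.mul_apply, Equiv.swap_apply_def] <;>
      assumption⟩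
  · obtain ⟨c, hc, e1, e2, e3, e4⟩ := key 3 1 2 (by linear_combination hp)
    exact ⟨c, hc, fun i => by fin_cases i <;> simp [Equiv.Perm.mul_apply, Equiv.swap_apply_def] <;>
      assumption⟩

omit [Fintype F] in
lemma mono_smul {c : F} {g : GL (Fin 4) F} {π : Equiv.Perm (Fin 4)} {a b : Fin 4 → F}
    {M : Matrix (Fin 4) (Fin 4) F} (hg : Mono g π a)
    (hM : ∀ v i, (M *ᵥ v) (π i) = b i * v i) (h : ∀ i, a i = c * b i) :
    (g : Matrix (Fin 4) (Fin 4) F) = c • M := by
  refine Matrix.toLin'.injective (LinearMap.ext fun v => funext fun k => ?_)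
  obtain ⟨i, rfl⟩ := π.surjective k
  rw [Matrix.toLin'_apply, Matrix.toLin'_apply, hg, Matrix.smul_mulVec, Pi.smul_apply, hM, h,
    smul_eq_mul, mul_assoc]

omit [Fintype F] in
lemma comm_pm {r s : GL (Fin 4) F} (hr : r ∈ R₀ F) (hs : s ∈ R₀ F) :
    ∃ c : F, c * c = 1 ∧ (r : Matrix (Fin 4) (Fin 4) F) * s = c • ((s : Matrix (Fin 4) (Fin 4) F) * r) := by
  obtain ⟨π, d, hπ, hr, hd4, hd2, hdp⟩ := hr
  obtain ⟨ρ, e, hρ, hs, he4, he2, hep⟩ := hs
  obtain ⟨c, hc, hcd⟩ := shift hd4 hd2 hdp hρ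
  obtain ⟨c', hc', hce⟩ := shift he4 he2 hep hπ
  have hcomm : ρ * π = π * ρ := (by decide +kernel : ∀ π ρ, IsV4 π → IsV4 ρ → ρ * π = π * ρ) π ρ hπ hρ
  refine ⟨c * c', by linear_combination (c' * c') * hc + hc', ?_⟩
  rw [← Units.val_mul, ← Units.val_mul]
  have h' := hs.mul hr
  rw [hcomm] at h'
  exact mono_smul (hr.mul hs) h' fun i => by
    rw [hcd, hce]; linear_combination (-(c * d i * e i)) * hc'

omit [Fintype F] in
lemma sq_pm {r : GL (Fin 4) F} (hr : r ∈ R₀ F) :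
    ∃ c : F, c * c = 1 ∧ (r : Matrix (Fin 4) (Fin 4) F) * r = c • 1 := by
  obtain ⟨π, d, hπ, hr, hd4, hd2, hdp⟩ := hr
  obtain ⟨c, hc, hcd⟩ := shift hd4 hd2 hdp hπ
  refine ⟨c * d 0 ^ 2, by linear_combination (d 0 ^ 4) * hc + hd4 0, ?_⟩
  rw [← Units.val_mul]
  have h := hr.mul hr
  rw [hπ.1] at h
  refine mono_smul h (M := 1) (b := fun _ => 1) (fun v i => by simp) fun i => ?_
  rw [hcd, mul_one]; linear_combination c * hd2 i 0

omit [Fintype F] in
lemma diag_mem {c : F} (hc : c ^ 4 = 1) : ∃ x ∈ R₀ F, (x : Matrix (Fin 4) (Fin 4) F) = c • 1 := by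
  have h0 : c ≠ 0 := fun h => by rw [h] at hc; simp at hc
  refine ⟨scalarGL (Fin 4) (Units.mk0 c h0), ⟨1, fun _ => c, ⟨one_mul 1, Or.inl rfl⟩, fun v i => ?_,
    fun _ => hc, fun _ _ => rfl, by simpa using hc⟩, by rw [scalarGL_val]; simp⟩
  rw [scalarGL_mulVec]; simp

omit [Fintype F] in
lemma mono_mem {π : Equiv.Perm (Fin 4)} {d : Fin 4 → F} (hπ : IsV4 π) (hd4 : ∀ i, d i ^ 4 = 1)
    (hd2 : ∀ i j, d i ^ 2 = d j ^ 2) (hdp : ∏ i, d i = 1) : ∃ x ∈ R₀ F, Mono x π d := by
  have hm : IsUnit ((Matrix.diagonal d).submatrix π.symm id) := by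
    rw [Matrix.isUnit_iff_isUnit_det, Matrix.det_permute, Matrix.det_diagonal, hdp, mul_one]
    rcases Int.units_eq_one_or (Equiv.Perm.sign π.symm) with h | h <;> rw [h] <;> simp
  have hmono : Mono hm.unit π d := by
    intro v i
    show (((Matrix.diagonal d).submatrix π.symm id) *ᵥ v) (π i) = d i * v i
    simp [Matrix.mulVec, dotProduct, Matrix.diagonal_apply]
  exact ⟨hm.unit, ⟨π, d, hπ, hmono, hd4, hd2, hdp⟩, hmono⟩

omit [Fintype F] in
lemma absIrr_R₀ (h2 : (2 : F) ≠ 0) : AbsIrr (R₀ F) := by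
  have hsd : ∀ (d : Fin 4 → F), (∀ i, d i ^ 2 = 1) → ∏ i, d i = 1 → ∃ x ∈ R₀ F, Mono x 1 d :=
    fun d hd hd' => mono_mem ⟨one_mul 1, Or.inl rfl⟩
      (fun i => by rw [show d i ^ 4 = (d i ^ 2) ^ 2 by ring, hd, one_pow])
      (fun i j => by rw [hd, hd]) hd'
  have hperm : ∀ π, IsV4 π → ∃ x ∈ R₀ F, Mono x π fun _ => (1 : F) := fun π hπ =>
    mono_mem hπ (fun _ => one_pow _) (fun _ _ => rfl) (by simp)
  obtain ⟨zA, hzA, mA⟩ := hsd ![1, 1, -1, -1] (fun i => by fin_cases i <;> simp) (by simp [Fin.prod_univ_four])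
  obtain ⟨zB, hzB, mB⟩ := hsd ![1, -1, 1, -1] (fun i => by fin_cases i <;> simp) (by simp [Fin.prod_univ_four])
  obtain ⟨zC, hzC, mC⟩ := hsd ![1, -1, -1, 1] (fun i => by fin_cases i <;> simp) (by simp [Fin.prod_univ_four])
  refine absIrr_of_commutant (irr_iff.2 fun W hW => ?_) fun M hM => ?_
  · by_cases hbot : W = ⊥
    · exact Or.inl hbot
    right
    obtain ⟨v, hv, hv0⟩ := Submodule.exists_mem_ne_zero_of_ne_bot hbot
    obtain ⟨k, hk⟩ := Function.ne_iff.1 hv0
    obtain ⟨π, hπ, hπk⟩ := (by decide +kernel : ∀ k, ∃ π, IsV4 π ∧ π k = 0) k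
    obtain ⟨x, hx, mx⟩ := hperm π hπ
    obtain ⟨u, hu, hu0⟩ : ∃ u ∈ W, u 0 ≠ 0 := by
      refine ⟨_, hW x hx v hv, ?_⟩
      rw [← hπk, mx]; simpa using hk
    have he0 : (Pi.single 0 1 : Fin 4 → F) ∈ W := by
      have hs := W.smul_mem ((2 * 2 * u 0)⁻¹) (W.add_mem (W.add_mem (W.add_mem hu (hW zA hzA u hu))
        (hW zB hzB u hu)) (hW zC hzC u hu))
      convert hs using 1
      funext i
      have hA := mA u i; have hB := mB u i; have hC := mC u i
      simp only [Equiv.Perm.one_apply] at hA hB hC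
      simp only [Pi.smul_apply, Pi.add_apply, hA, hB, hC]
      fin_cases i <;> simp
      field_simp
      ring
    rw [eq_top_iff]
    intro w _
    rw [pi_eq_sum_univ' w]
    refine W.sum_mem fun i _ => W.smul_mem _ ?_
    obtain ⟨π, hπ, hπi⟩ := (by decide +kernel : ∀ k, ∃ π, IsV4 π ∧ π 0 = k) i
    obtain ⟨x, hx, mx⟩ := hperm π hπ
    convert hW x hx _ he0 using 1
    funext j
    obtain ⟨j, rfl⟩ := π.surjective j
    rw [mx]
    simp only [Pi.single_apply, one_mul, ← hπi, π.injective.eq_iff]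
  · have hentry : ∀ (x : GL (Fin 4) F) (π : Equiv.Perm (Fin 4)) (d : Fin 4 → F), x ∈ R₀ F →
        Mono x π d → ∀ i j, d i * M i j = M (π i) (π j) * d j := by
      intro x π d hx mx i j
      have h := mem_commutant.1 hM x hx
      have hxe : ∀ a b, (x : Matrix (Fin 4) (Fin 4) F) (π a) b = if a = b then d a else 0 := by
        intro a b
        have h3 := mx (Pi.single b 1) a
        rw [Matrix.mulVec_single_one, Matrix.col_apply] at h3
        rw [h3]
        simp [Pi.single_apply]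
      have h1 := congrFun (congrFun h (π i)) (j)
      rw [Matrix.mul_apply, Matrix.mul_apply, Finset.sum_eq_single i, Finset.sum_eq_single (π j), hxe,
        hxe, if_pos rfl, if_pos rfl] at h1
      · exact h1
      · intro b _ hb
        obtain ⟨a, rfl⟩ := π.surjective b
        rw [hxe, if_neg fun e => hb (by rw [e]), mul_zero]
      · simp
      · intro b _ hb
        rw [hxe, if_neg (Ne.symm hb), zero_mul]
      · simp
    have hdiag : ∀ i j, i ≠ j → M i j = 0 := by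
      intro i j hij
      have hA := hentry zA 1 _ hzA mA i j
      have hB := hentry zB 1 _ hzB mB i j
      simp only [Equiv.Perm.one_apply] at hA hB
      fin_cases i <;> fin_cases j <;> simp at hij hA hB ⊢ <;>
        first
          | exact (mul_eq_zero.1 (show (2 : F) * _ = 0 by linear_combination hA)).resolve_left h2
          | exact (mul_eq_zero.1 (show (2 : F) * _ = 0 by linear_combination -hA)).resolve_left h2
          | exact (mul_eq_zero.1 (show (2 : F) * _ = 0 by linear_combination hB)).resolve_left h2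
          | exact (mul_eq_zero.1 (show (2 : F) * _ = 0 by linear_combination -hB)).resolve_left h2
    refine ⟨M 0 0, Matrix.ext fun i j => ?_⟩
    by_cases hij : i = j
    · subst hij
      obtain ⟨π, hπ, hπi⟩ := (by decide +kernel : ∀ k, ∃ π, IsV4 π ∧ π 0 = k) i
      obtain ⟨x, hx, mx⟩ := hperm π hπ
      have h := hentry x π _ hx mx 0 0
      rw [hπi] at h
      simp at h ⊢
      exact h.symm
    · simp [hdiag i j hij, hij]

omit [Fintype F] in
lemma mono_normalises {h : GL (Fin 4) F} {ρ : Equiv.Perm (Fin 4)} {a : Fin 4 → F}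
    (hh : Mono h ρ a) (ha : ∀ i, a i ^ 4 = 1) (hprod : (∏ i, a i) ^ 2 = 1) :
    ∀ r ∈ R₀ F, h * r * h⁻¹ ∈ R₀ F := by
  have ha0 : ∀ i, a i ≠ 0 := fun i h => by have := ha i; rw [h] at this; simp at this
  have hs : ∀ k, a k ^ 2 = 1 ∨ a k ^ 2 = -1 := fun k =>
    mul_self_eq_one_iff.1 (by rw [← pow_add]; exact ha k)
  rintro r ⟨π, d, hπ, hr, hd4, hd, hd'⟩
  have hm := (hh.mul hr).mul (hh.inv ha0)
  refine ⟨ρ * π * ρ⁻¹, _, isV4_conj hπ ρ, hm, fun i => ?_, ?_, ?_⟩
  · rw [mul_pow, mul_pow, inv_pow, ha, hd4, ha]; simp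
  · intro i j
    have key : ∀ k, (a (π k)) ^ 2 * (a k)⁻¹ ^ 2 = (a (π 0)) ^ 2 * (a 0)⁻¹ ^ 2 := by
      rw [Fin.prod_univ_four, mul_pow, mul_pow, mul_pow] at hprod
      intro k
      rcases isV4_cases π hπ with rfl | rfl | rfl | rfl
      · simp [ha0]
      all_goals
        simp only [inv_pow]
        rcases hs 0 with h0 | h0 <;> rcases hs 1 with h1 | h1 <;> rcases hs 2 with h2 | h2 <;>
          rcases hs 3 with h3 | h3 <;> rw [h0, h1, h2, h3] at hprod <;>
          fin_cases k <;> simp [Equiv.Perm.mul_apply, Equiv.swap_apply_def, h0, h1, h2, h3] at hprod ⊢ <;>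
          first | assumption | exact hprod.symm
    simp only [mul_pow, hd (ρ⁻¹ i) (ρ⁻¹ j)]
    linear_combination (d (ρ⁻¹ j) ^ 2) * key (ρ⁻¹ i) - (d (ρ⁻¹ j) ^ 2) * key (ρ⁻¹ j)
  · simp only [Finset.prod_mul_distrib]
    rw [Equiv.prod_comp ρ⁻¹ (fun i => a (π i)), Equiv.prod_comp π a, Equiv.prod_comp ρ⁻¹ d,
      Equiv.prod_comp ρ⁻¹ (fun i => (a i)⁻¹), hd', Finset.prod_inv_distrib, mul_one,
      mul_inv_cancel₀ (Finset.prod_ne_zero_iff.2 fun i _ => ha0 i)]

/-- A group of monomial type is minimal under its normaliser. -/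
lemma minimal_R₀ (h2 : (2 : F) ≠ 0) {i : F} (hi : i * i = -1) {M : Subgroup (GL (Fin 4) F)}
    (hMR : M ≤ R₀ F) (hMn : ∀ g ∈ Cfsg.Geo.subgroupNormalizer (R₀ F), ∀ a ∈ M, g * a * g⁻¹ ∈ M)
    (hMZ : ∀ z ∈ R₀ F, z ∈ Cfsg.Geo.scalars (Fin 4) F → z ∈ M) :
    M ≤ Cfsg.Geo.scalars (Fin 4) F ∨ M = R₀ F := by
  classical
  by_cases hMs : M ≤ Cfsg.Geo.scalars (Fin 4) F
  · exact Or.inl hMs
  right
  have hscal : ∀ c : F, c ^ 4 = 1 → ∀ x : GL (Fin 4) F,
      (x : Matrix (Fin 4) (Fin 4) F) = c • 1 → x ∈ M := by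
    intro c hc x hx
    obtain ⟨y, hy, hyv⟩ := diag_mem hc
    obtain rfl : x = y := Units.ext (hx.trans hyv.symm)
    have hc0 : c ≠ 0 := fun h => by rw [h] at hc; simp at hc
    exact hMZ x hy (mem_scalars.2 ⟨Units.mk0 c hc0, Units.ext (by rw [hx, scalarGL_val]; simp)⟩)
  obtain ⟨zi, hzi, hziv⟩ := diag_mem (show i ^ 4 = 1 by linear_combination (i * i - 1) * hi)
  obtain ⟨zm, hzm, hzmv⟩ := diag_mem (show (-1 : F) ^ 4 = 1 by ring)
  have hziM : zi ∈ M := hscal i (by linear_combination (i * i - 1) * hi) zi hziv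
  have hzmM : zm ∈ M := hscal (-1) (by ring) zm hzmv
  have pm : ∀ {r s : GL (Fin 4) F}, r ∈ R₀ F → s ∈ R₀ F →
      (r : Matrix (Fin 4) (Fin 4) F) * s = (s : Matrix (Fin 4) (Fin 4) F) * r ∨
      (r : Matrix (Fin 4) (Fin 4) F) * s = -((s : Matrix (Fin 4) (Fin 4) F) * r) := by
    intro r s hr hs
    obtain ⟨c, hc, h⟩ := comm_pm hr hs
    rcases mul_self_eq_one_iff.1 hc with rfl | rfl
    · exact Or.inl (h.trans (one_smul _ _))
    · exact Or.inr (h.trans (neg_one_smul _ _))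
  -- anticommuting elements of square minus one
  have step : ∀ a ∈ M, ∀ s ∈ R₀ F, (s : Matrix (Fin 4) (Fin 4) F) * s = -1 →
      (a : Matrix (Fin 4) (Fin 4) F) * s = -((s : Matrix (Fin 4) (Fin 4) F) * a) → s ∈ M := by
    intro a ha s hs hss has
    have h2' : (2 : F)⁻¹ + (2 : F)⁻¹ = 1 := by rw [← two_mul, mul_inv_cancel₀ h2]
    let w : GL (Fin 4) F := ⟨(s : Matrix (Fin 4) (Fin 4) F) + 1,
      (2 : F)⁻¹ • (1 - (s : Matrix (Fin 4) (Fin 4) F)),
      by rw [Matrix.mul_smul, add_mul, mul_sub, mul_sub, hss, mul_one, one_mul, one_mul,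
          show (s : Matrix (Fin 4) (Fin 4) F) - -1 + (1 - (s : Matrix (Fin 4) (Fin 4) F)) = (2 : F) • 1 by
            rw [two_smul]; abel, smul_smul, inv_mul_cancel₀ h2, one_smul],
      by rw [Matrix.smul_mul, sub_mul, one_mul, mul_add, hss, mul_one,
          show (s : Matrix (Fin 4) (Fin 4) F) + 1 - (-1 + (s : Matrix (Fin 4) (Fin 4) F)) = (2 : F) • 1 by
            rw [two_smul]; abel, smul_smul, inv_mul_cancel₀ h2, one_smul]⟩
    have hwi : ((w⁻¹ : GL (Fin 4) F) : Matrix (Fin 4) (Fin 4) F) =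
        (2 : F)⁻¹ • (1 - (s : Matrix (Fin 4) (Fin 4) F)) := rfl
    have hwc : ∀ y : GL (Fin 4) F, (y : Matrix (Fin 4) (Fin 4) F) * s = (s : Matrix (Fin 4) (Fin 4) F) * y →
        w * y * w⁻¹ = y := by
      intro y hy
      rw [mul_inv_eq_iff_eq_mul]
      refine Units.ext ?_
      show ((s : Matrix (Fin 4) (Fin 4) F) + 1) * y = (y : Matrix (Fin 4) (Fin 4) F) * (s + 1)
      rw [add_mul, mul_add, hy, one_mul, mul_one]
    have hwa : ∀ y : GL (Fin 4) F, (y : Matrix (Fin 4) (Fin 4) F) * s = -((s : Matrix (Fin 4) (Fin 4) F) * y) →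
        w * y * w⁻¹ = zm * (y * s) := by
      intro y hy
      refine Units.ext ?_
      simp only [Units.val_mul, hwi, hzmv]
      show ((s : Matrix (Fin 4) (Fin 4) F) + 1) * y * ((2 : F)⁻¹ • (1 - (s : Matrix (Fin 4) (Fin 4) F))) =
        ((-1 : F) • 1) * ((y : Matrix (Fin 4) (Fin 4) F) * s)
      rw [Matrix.mul_smul, Matrix.smul_mul, one_mul, add_mul, one_mul,
        show (s : Matrix (Fin 4) (Fin 4) F) * y = -((y : Matrix (Fin 4) (Fin 4) F) * s) by rw [hy, neg_neg],
        add_mul, neg_mul, mul_sub, mul_sub, mul_one, mul_one, mul_assoc (y : Matrix (Fin 4) (Fin 4) F), hss,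
        mul_neg, mul_one]
      calc (2 : F)⁻¹ • (-((y : Matrix (Fin 4) (Fin 4) F) * s - -(y : Matrix (Fin 4) (Fin 4) F)) +
            ((y : Matrix (Fin 4) (Fin 4) F) - y * s))
          = (2 : F)⁻¹ • ((2 : F) • ((-1 : F) • ((y : Matrix (Fin 4) (Fin 4) F) * s))) := by
            congr 1; rw [two_smul, neg_one_smul]; abel
        _ = _ := by rw [smul_smul, inv_mul_cancel₀ h2, one_smul]
    have hwN : w ∈ Cfsg.Geo.subgroupNormalizer (R₀ F) := by
      refine FieldNine.mem_normalizer_of_conj fun y hy => ?_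
      rcases pm hy hs with h | h
      · rw [hwc y h]; exact hy
      · rw [hwa y h]; exact mul_mem hzm (mul_mem hy hs)
    have h := hMn w hwN a ha
    rw [hwa a has] at h
    have h' := M.mul_mem (M.inv_mem (M.mul_mem hzmM ha)) h
    rwa [show (zm * a)⁻¹ * (zm * (a * s)) = s by group] at h'
  have step' : ∀ a ∈ M, ∀ y ∈ R₀ F,
      (a : Matrix (Fin 4) (Fin 4) F) * y = -((y : Matrix (Fin 4) (Fin 4) F) * a) → y ∈ M := by
    intro a ha y hy hay
    obtain ⟨c, hc, hyy⟩ := sq_pm hy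
    rcases mul_self_eq_one_iff.1 hc with rfl | rfl
    · have h := step a ha (zi * y) (mul_mem hzi hy)
        (by rw [Units.val_mul, hziv, Matrix.smul_mul, one_mul, Matrix.smul_mul, Matrix.mul_smul, hyy,
          smul_smul, one_smul, hi, neg_one_smul])
        (by rw [Units.val_mul, hziv, Matrix.smul_mul, one_mul, Matrix.mul_smul, Matrix.smul_mul, hay, smul_neg])
      rw [show y = zi⁻¹ * (zi * y) by group]
      exact mul_mem (inv_mem hziM) h
    · exact step a ha y hy (by rw [hyy, neg_one_smul]) hay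
  obtain ⟨x, hxM, hxs⟩ := SetLike.not_le_iff_exists.1 hMs
  obtain ⟨z, hz, hxz⟩ : ∃ z ∈ R₀ F,
      (x : Matrix (Fin 4) (Fin 4) F) * z = -((z : Matrix (Fin 4) (Fin 4) F) * x) := by
    by_contra h
    push Not at h
    refine hxs ((absIrr_R₀ h2).mem_scalars fun a ha => ?_)
    exact Units.ext (by simpa using ((pm (hMR hxM) ha).resolve_right (h a ha)))
  refine le_antisymm hMR fun y hy => ?_
  rcases pm (hMR hxM) hy with h | h
  · have hyz : y * z ∈ M := step' x hxM _ (mul_mem hy hz) (by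
      rw [Units.val_mul, ← mul_assoc, h, mul_assoc, hxz, mul_neg, mul_assoc])
    rw [show y = y * z * z⁻¹ by group]
    exact mul_mem hyz (inv_mem (step' x hxM z hz hxz))
  · exact step' x hxM y hy h

end FrameNine

open SL4F5 FrameNine in
/-- Over nine elements the stabiliser of a frame lies in the normaliser of a group of symplectic
type of order 64. -/
theorem frame_nine (hF : Fintype.card F = 3 ^ 2) {D : Fin 4 → Submodule F (Fin 4 → F)}
    (hD : Cfsg.Geo.IsNondegenerateMDecomposition (Cfsg.hermForm 4 F 3) 1 D)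
    {H : Subgroup (GL (Fin 4) F)} (hH : H ≤ SUgl 4 F 3)
    (hle : H ≤ Cfsg.Geo.decompositionStabilizer D) :
    ∃ R : Subgroup (GL (Fin 4) F), Cfsg.Geo.IsSymplecticTypeGroup 2 R ∧ AbsIrr R ∧ ScalarCommutators R ∧
      R ≤ Cfsg.Geo.similarityGroup (Cfsg.hermForm 4 F 3) ∧ Nat.card R = 64 ∧
      Nat.card (Subgroup.center R) = 4 ∧ H ≤ Cfsg.Geo.subgroupNormalizer R := by
  classical
  obtain ⟨σ, hσ, hf⟩ := exists_unitary_hermForm (n := 4) hF
  have hs := isSesq_of_unitary hf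
  have h2 : (2 : F) ≠ 0 := fun h => two_eq_zero_iff.1 h (by rw [hF]; decide)
  have hu8 : ∀ c : Fˣ, c ^ 8 = 1 := fun c => by
    have := pow_card_eq_one (x := c)
    rwa [Fintype.card_units, hF] at this
  obtain ⟨d₀, -, hd₀⟩ := exists_mul_conj_eq hF (neg_ne_zero.2 one_ne_zero : (-1 : F) ≠ 0) (by ring)
  obtain ⟨i, hi⟩ : ∃ i : F, i * i = -1 := ⟨d₀ * d₀, by linear_combination hd₀⟩
  -- an orthonormal basis adapted to the frame
  have hne : ∀ j, ∃ b ∈ D j, Cfsg.hermForm 4 F 3 b b = 1 := fun j => by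
    obtain ⟨b, hb, hb0⟩ := Submodule.exists_mem_ne_zero_of_ne_bot (p := D j) fun h => by
      have := hD.decomp.finrank_eq j
      rw [h, finrank_bot] at this
      omega
    obtain ⟨-, c, hc, hbc⟩ := hD.nondegenerate j b hb hb0
    obtain ⟨t, rfl⟩ : ∃ t : F, t • b = c := by
      obtain ⟨t, ht⟩ := (finrank_eq_one_iff_of_nonzero' (⟨b, hb⟩ : D j) (by simpa using hb0)).1
        (hD.decomp.finrank_eq j) ⟨c, hc⟩
      exact ⟨t, congrArg Subtype.val ht⟩
    rw [hs.smul_right] at hbc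
    have hbb := right_ne_zero_of_mul hbc
    obtain ⟨e, he0, he⟩ := exists_mul_conj_eq hF (inv_ne_zero hbb) (by
      rw [inv_pow, ← hσ, ← hf.herm b b])
    refine ⟨e • b, Submodule.smul_mem _ _ hb, ?_⟩
    rw [hs.smul_left, hs.smul_right, hσ, ← mul_assoc, he, inv_mul_cancel₀ hbb]
  choose b hb hbb using hne
  have hgram : ∀ j k, Cfsg.hermForm 4 F 3 (b j) (b k) = if j = k then 1 else 0 := fun j k => by
    by_cases h : j = k
    · subst h; rw [if_pos rfl, hbb]
    · rw [if_neg h]; exact hD.orthogonal j k h _ (hb j) _ (hb k)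
  let Bm : Matrix (Fin 4) (Fin 4) F := Matrix.of fun k j => b j k
  have hBm : ∀ x, Bm *ᵥ x = ∑ j, x j • b j := fun x => by
    funext k
    simp [Bm, Matrix.mulVec, dotProduct, Finset.sum_apply, mul_comm]
  have hform : ∀ x y, Cfsg.hermForm 4 F 3 (Bm *ᵥ x) (Bm *ᵥ y) = Cfsg.hermForm 4 F 3 x y := by
    intro x y
    rw [hBm, hBm, hs.sum_left]
    conv_rhs => simp only [Cfsg.hermForm]
    refine Finset.sum_congr rfl fun j _ => ?_
    rw [hs.smul_left, hs.sum_right, Finset.sum_eq_single j]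
    · rw [hs.smul_right, hgram, if_pos rfl, hσ, mul_one]
    · intro k _ hk; rw [hs.smul_right, hgram, if_neg (Ne.symm hk), mul_zero]
    · simp
  have hunit : IsUnit Bm := by
    rw [← Matrix.mulVec_injective_iff_isUnit]
    intro u v huv
    by_contra hne
    obtain ⟨⟨x, hx⟩, -⟩ := hf.nondegenerate _ (sub_ne_zero.2 hne)
    refine hx ?_
    rw [← hform, Matrix.mulVec_sub, huv, sub_self, hs.zero_right]
  obtain ⟨B, hB⟩ := hunit
  have hBG : B ∈ Cfsg.GU 4 F 3 := mem_GU.2 fun u v => by rw [hB]; exact hform u v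
  have hcol : ∀ j, (B : Matrix (Fin 4) (Fin 4) F) *ᵥ Pi.single j 1 = b j := fun j => by
    rw [hB, Matrix.mulVec_single_one]; rfl
  -- elements of the stabiliser are monomial
  have hmono : ∀ g ∈ H, B⁻¹ * g * B ∈ Cfsg.Geo.subgroupNormalizer (R₀ F) := by
    intro g hg
    obtain ⟨π, hπ⟩ := hle hg
    have hcoef : ∀ j, ∃ a : F, a • b (π j) = (g : Matrix (Fin 4) (Fin 4) F) *ᵥ b j := fun j => by
      have hmem : (g : Matrix (Fin 4) (Fin 4) F) *ᵥ b j ∈ D (π j) := by
        rw [← hπ j]; exact ⟨b j, hb j, Matrix.toLin'_apply _ _⟩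
      have hne : b (π j) ≠ 0 := fun h => by
        have := hbb (π j); rw [h, hs.zero_left] at this; exact zero_ne_one this
      obtain ⟨c, hc⟩ := (finrank_eq_one_iff_of_nonzero' (⟨b (π j), hb _⟩ : D (π j))
        (by simpa using hne)).1 (hD.decomp.finrank_eq _) ⟨_, hmem⟩
      exact ⟨c, congrArg Subtype.val hc⟩
    choose a ha using hcoef
    have ha4 : ∀ j, a j ^ 4 = 1 := fun j => by
      have h := mem_GU.1 (hH hg).1 (b j) (b j)
      rw [← ha, hs.smul_left, hs.smul_right, hbb, hbb, hσ, mul_one, ← pow_succ'] at h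
      exact h
    have hm : Mono (B⁻¹ * g * B) π a := by
      intro v j
      have hc : ∀ k, ((B⁻¹ * g * B : GL (Fin 4) F) : Matrix (Fin 4) (Fin 4) F) *ᵥ Pi.single k 1 =
          a k • (Pi.single (π k) 1 : Fin 4 → F) := fun k => by
        rw [mul_mulVec, mul_mulVec, hcol, ← ha, Matrix.mulVec_smul, ← hcol, inv_mulVec_cancel]
      conv_lhs => rw [pi_eq_sum_univ' v]
      rw [Matrix.mulVec_sum, Finset.sum_apply, Finset.sum_eq_single j]
      · rw [Matrix.mulVec_smul, hc]; simp [mul_comm]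
      · intro k _ hk; rw [Matrix.mulVec_smul, hc]; simp [hk.symm]
      · simp
    have hprod : (∏ j, a j) ^ 2 = 1 := by
      have h1 := hm.det
      rw [Units.val_mul, Units.val_mul, Matrix.det_units_conj', det_eq_one_of_mem (hH hg).2] at h1
      rcases Int.units_eq_one_or (Equiv.Perm.sign π.symm) with hs | hs <;> rw [hs] at h1 <;>
        simp at h1 <;> first | linear_combination -(∏ j, a j + 1) * h1 | linear_combination -(1 - ∏ j, a j) * h1
    exact le_subgroupNormalizer (R := R₀ F) (H := Subgroup.closure {B⁻¹ * g * B}) (fun x hx => by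
      refine Subgroup.closure_induction (p := fun x _ => ∀ r ∈ R₀ F, x * r * x⁻¹ ∈ R₀ F)
        (fun x hx => by rw [Set.mem_singleton_iff.1 hx]; exact mono_normalises hm ha4 hprod)
        (fun r hr => by simpa using hr)
        (fun x y _ _ hx hy r hr => by
          rw [show x * y * r * (x * y)⁻¹ = x * (y * r * y⁻¹) * x⁻¹ by group]; exact hx _ (hy r hr))
        (fun x _ hx r hr => by
          have hfin := FieldNine.mem_normalizer_of_conj hx
          exact (Subgroup.mem_normalizer_iff.1 (inv_mem hfin) r).1 hr) hx)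
      (Subgroup.subset_closure rfl)
  -- the conjugated group
  let φ : GL (Fin 4) F →* GL (Fin 4) F := (MulAut.conj B).toMonoidHom
  have hφ : ∀ x, φ x = B * x * B⁻¹ := fun _ => rfl
  let N := (R₀ F).map φ
  let G := (Cfsg.Geo.subgroupNormalizer (R₀ F)).map φ
  have hnorm : ∀ g ∈ G, ∀ a ∈ N, g * a * g⁻¹ ∈ N := by
    rintro _ ⟨g, hg, rfl⟩ _ ⟨a, ha, rfl⟩
    exact ⟨g * a * g⁻¹, (Subgroup.mem_normalizer_iff.1 hg a).1 ha, by simp only [map_mul, map_inv]⟩
  have hsc : ∀ z, z ∈ Cfsg.Geo.scalars (Fin 4) F → φ z = z := fun z hz => by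
    obtain ⟨c, rfl⟩ := mem_scalars.1 hz
    rw [hφ, ← scalarGL_comm, mul_inv_cancel_right]
  have hmin : ∀ M ≤ N, (∀ g ∈ G, ∀ a ∈ M, g * a * g⁻¹ ∈ M) →
      (∀ z ∈ N, z ∈ Cfsg.Geo.scalars (Fin 4) F → z ∈ M) →
      M ≤ Cfsg.Geo.scalars (Fin 4) F ∨ M = N := by
    intro M hMN hMn hMZ
    have hle' : M.comap φ ≤ R₀ F := fun x hx => by
      obtain ⟨y, hy, hxy⟩ := hMN hx
      exact (MulAut.conj B).injective hxy ▸ hy
    rcases minimal_R₀ h2 hi hle' (fun g hg a ha => by
        rw [Subgroup.mem_comap, map_mul, map_mul, map_inv]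
        exact hMn _ (Subgroup.mem_map_of_mem φ hg) _ ha)
      (fun z hz hzs => by
        rw [Subgroup.mem_comap, hsc z hzs]
        exact hMZ z (hsc z hzs ▸ Subgroup.mem_map_of_mem φ hz) hzs) with h | h
    · left
      intro x hx
      obtain ⟨y, -, rfl⟩ := hMN hx
      have := h (show y ∈ M.comap φ from hx)
      rwa [hsc y this]
    · right
      refine le_antisymm hMN ?_
      rintro _ ⟨y, hy, rfl⟩
      exact (show y ∈ M.comap φ from h.symm ▸ hy)
  have hsc2 : ScalarCommutators N := by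
    rintro _ ⟨x, hx, rfl⟩ _ ⟨y, hy, rfl⟩
    obtain ⟨c, hc, h⟩ := comm_pm hx hy
    have hc0 : c ≠ 0 := fun h => by rw [h] at hc; simp at hc
    refine mem_scalars.2 ⟨Units.mk0 c hc0, ?_⟩
    have : x * y = scalarGL (Fin 4) (Units.mk0 c hc0) * (y * x) := Units.ext (by
      rw [Units.val_mul, Units.val_mul, Units.val_mul, scalarGL_val, h]; simp)
    rw [← map_inv, ← map_inv, ← map_mul, ← map_mul, ← map_mul,
      show x * y * x⁻¹ * y⁻¹ = scalarGL (Fin 4) (Units.mk0 c hc0) by rw [this]; group,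
      hsc _ (mem_scalars.2 ⟨_, rfl⟩)]
  obtain ⟨r, hr, ⟨ζ, hζ⟩, -, hmk⟩ := exists_heis_of_abelian (by norm_num)
    (absIrr_conj (absIrr_R₀ h2) B) hnorm hmin hsc2
  obtain rfl : r = 2 := by
    have h8 : r ∣ 8 := hζ ▸ orderOf_dvd_of_pow_eq_one (hu8 ζ)
    exact (Nat.prime_dvd_prime_iff_eq hr Nat.prime_two).1 (hr.dvd_of_dvd_pow (n := 3) h8)
  have hi0 : i ≠ 0 := fun h => by rw [h] at hi; simp at hi
  have hω : IsPrimitiveRoot (Units.mk0 i hi0) (2 * Nat.gcd 2 2) := by
    have h4 : orderOf (Units.mk0 i hi0) = 4 := by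
      refine orderOf_eq_prime_pow (p := 2) (n := 1) ?_ ?_
      · intro h
        have := congrArg Units.val h
        simp only [pow_one, sq, Units.val_mul, Units.val_mk0, Units.val_one, hi] at this
        exact h2 (by linear_combination -this)
      · refine Units.ext ?_
        simp only [Units.val_pow_eq_pow_val, Units.val_mk0, Units.val_one]
        norm_num
        linear_combination (i * i - 1) * hi
    rw [show 2 * Nat.gcd 2 2 = 4 from rfl, ← h4]
    exact IsPrimitiveRoot.orderOf _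
  obtain ⟨R, Dd, hR, hab, hRN⟩ := hmk _ hω
  obtain ⟨m, -, hm, htype, hcz, hcard⟩ := Dd.type_data (by norm_num) hR hab
  refine ⟨R, htype, Dd.absIrr, Dd.comm, fun a ha => ?_, hcard.trans rfl, hcz.trans rfl, ?_⟩
  · obtain ⟨y, hy, z, hz, rfl⟩ := Subgroup.mem_sup_of_normal_right.1 (hRN ha)
    obtain ⟨c, rfl⟩ := mem_scalars.1 hz
    obtain ⟨x, ⟨π, d, hπ, hx, hd4, -, -⟩, rfl⟩ := hy
    have hxG : x ∈ Cfsg.GU 4 F 3 := mem_GU.2 fun u v => by
      simp only [Cfsg.hermForm]
      rw [← Equiv.sum_comp π]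
      refine Finset.sum_congr rfl fun j _ => ?_
      rw [hx, hx]
      linear_combination (u j * v j ^ 3) * hd4 j
    refine ⟨Units.mk0 ((c : F) * σ c) (mul_ne_zero c.ne_zero (by simpa using c.ne_zero)), fun u v => ?_⟩
    obtain ⟨y, hy⟩ : ∃ y, B * x * B⁻¹ = y := ⟨_, rfl⟩
    have hyG : y ∈ Cfsg.GU 4 F 3 := hy ▸ mul_mem (mul_mem hBG hxG) (inv_mem hBG)
    rw [hφ, hy, mul_mulVec, mul_mulVec, scalarGL_mulVec, scalarGL_mulVec, Matrix.mulVec_smul, Matrix.mulVec_smul,
      hs.smul_left, hs.smul_right, mem_GU.1 hyG, Units.val_mk0, mul_assoc]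
  · refine le_trans ?_ (le_subgroupNormalizer hR)
    intro g hg
    exact ⟨_, hmono g hg, by show B * (B⁻¹ * g * B) * B⁻¹ = g; group⟩

/-- Over four and nine elements the stabiliser of two totally isotropic planes preserves a
symplectic structure over the fixed field. -/
theorem pair_symplectic (hF : Fintype.card F = q ^ 2) (hq : q ≤ 3)
    {D : Fin 2 → Submodule F (Fin 4 → F)} (hD : Cfsg.Geo.IsMDecomposition 2 D)
    (hts : ∀ i, Cfsg.Geo.IsTotallySingularFor (Cfsg.hermForm 4 F q) (D i))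
    {H : Subgroup (GL (Fin 4) F)} (hH : H ≤ SUgl 4 F q)
    (hle : H ≤ Cfsg.Geo.decompositionStabilizer D) :
    ∃ (F₀ : Subfield F) (P : GL (Fin 4) F) (ζ : F), Fintype.card F = Nat.card F₀ ^ 2 ∧ ζ ≠ 0 ∧
      ζ + ζ ^ q = 0 ∧ Cfsg.Geo.IsFormRationalStructure (Cfsg.hermForm 4 F q) F₀ ζ P ∧
      (∀ u : Fin 4 → F, (∀ i, u i ∈ F₀) → Cfsg.hermForm 4 F q
        ((P : Matrix (Fin 4) (Fin 4) F) *ᵥ u) ((P : Matrix (Fin 4) (Fin 4) F) *ᵥ u) = 0) ∧
      H ≤ Cfsg.Geo.subfieldSubgroup F₀ P := by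
  classical
  obtain ⟨σ, hσ, hf⟩ := exists_unitary_hermForm (n := 4) hF
  have hs := isSesq_of_unitary hf
  have hr := isRefl_of_unitary hf
  have hinv := hf.involutive
  obtain ⟨p, h, hpp, hp, hh, hqp⟩ := exists_prime_pow hF
  have : Fact p.Prime := ⟨hpp⟩
  have hF' : Fintype.card F = p ^ (2 * h) := by rw [hF, hqp, ← pow_mul, mul_comm]
  obtain ⟨F₀, hK, hmem⟩ := exists_subfield_of_dvd (F := F) hF' (dvd_mul_left h 2)
  have hmemσ : ∀ x, x ∈ F₀ ↔ σ x = x := fun x => by rw [hmem, hσ, hqp]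
  obtain ⟨l, hl0, hl⟩ := exists_trace_zero hf
  obtain ⟨μ, hμ⟩ : ∃ μ, σ μ ≠ μ := by
    by_contra h
    push Not at h
    exact hf.ne_refl (RingEquiv.ext h)
  have hμ' : μ - σ μ ≠ 0 := sub_ne_zero.2 (Ne.symm hμ)
  -- dual bases
  obtain ⟨b0⟩ : Nonempty (Basis (Fin 2) F (D 0)) := ⟨Module.finBasisOfFinrankEq F (D 0) (hD.finrank_eq 0)⟩
  have hsup : D 0 ⊔ D 1 = ⊤ := by
    refine eq_top_iff.2 (hD.iSup_eq_top ▸ iSup_le fun i => ?_)
    fin_cases i
    · exact le_sup_left
    · exact le_sup_right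
  let L : D 1 →ₗ[F] (Fin 2 → F) :=
    { toFun := fun w i => Cfsg.hermForm 4 F q (w : Fin 4 → F) (b0 i)
      map_add' := fun x y => funext fun i => by simp [hs.add_left]
      map_smul' := fun c x => funext fun i => by simp [hs.smul_left] }
  have hLi : Function.Injective L := by
    rw [← LinearMap.ker_eq_bot, eq_bot_iff]
    intro w hw
    rw [Submodule.mem_bot]
    by_contra hw0
    obtain ⟨⟨x, hx⟩, -⟩ := hf.nondegenerate (w : Fin 4 → F) (by simpa using hw0)
    obtain ⟨a, ha, b, hb, rfl⟩ := Submodule.mem_sup.1 (hsup ▸ Submodule.mem_top : x ∈ D 0 ⊔ D 1)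
    refine hx ?_
    rw [hs.add_left, hts 1 b hb w w.2, add_zero]
    have hwi : ∀ i, Cfsg.hermForm 4 F q (w : Fin 4 → F) (b0 i) = 0 := fun i => congrFun (LinearMap.mem_ker.1 hw) i
    have := congrArg Subtype.val (b0.sum_repr ⟨a, ha⟩)
    rw [Fin.sum_univ_two] at this
    simp only [Submodule.coe_add, Submodule.coe_smul] at this
    rw [← this, hs.add_left, hs.smul_left, hs.smul_left, hr.zero_iff.1 (hwi 0), hr.zero_iff.1 (hwi 1)]
    ring
  have hLs : Function.Surjective L := by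
    refine (LinearMap.injective_iff_surjective_of_finrank_eq_finrank ?_).1 hLi
    rw [hD.finrank_eq, Module.finrank_fin_fun]
  obtain ⟨u₀, hu₀, e₀⟩ : ∃ u ∈ D 0, u = (b0 0 : Fin 4 → F) := ⟨_, (b0 0).2, rfl⟩
  obtain ⟨u₁, hu₁, e₁⟩ : ∃ u ∈ D 0, u = (b0 1 : Fin 4 → F) := ⟨_, (b0 1).2, rfl⟩
  obtain ⟨⟨w₀, hw₀⟩, hL₀⟩ := hLs ![1, 0]
  obtain ⟨⟨w₁, hw₁⟩, hL₁⟩ := hLs ![0, 1]
  have g00 : Cfsg.hermForm 4 F q w₀ u₀ = 1 := e₀ ▸ congrFun hL₀ 0
  have g01 : Cfsg.hermForm 4 F q w₀ u₁ = 0 := e₁ ▸ congrFun hL₀ 1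
  have g10 : Cfsg.hermForm 4 F q w₁ u₀ = 0 := e₀ ▸ congrFun hL₁ 0
  have g11 : Cfsg.hermForm 4 F q w₁ u₁ = 1 := e₁ ▸ congrFun hL₁ 1
  have f00 : Cfsg.hermForm 4 F q u₀ w₀ = 1 := by rw [hf.herm, g00, map_one]
  have f10 : Cfsg.hermForm 4 F q u₁ w₀ = 0 := by rw [hf.herm, g01, map_zero]
  have f01 : Cfsg.hermForm 4 F q u₀ w₁ = 0 := by rw [hf.herm, g10, map_zero]
  have f11 : Cfsg.hermForm 4 F q u₁ w₁ = 1 := by rw [hf.herm, g11, map_one]
  have huu : ∀ x ∈ D 0, ∀ y ∈ D 0, Cfsg.hermForm 4 F q x y = 0 := hts 0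
  have hww : ∀ x ∈ D 1, ∀ y ∈ D 1, Cfsg.hermForm 4 F q x y = 0 := hts 1
  let C : F → F → F → F → (Fin 4 → F) := fun a b c d => a • u₀ + b • u₁ + c • w₀ + d • w₁
  have hC : ∀ a b c d a' b' c' d', Cfsg.hermForm 4 F q (C a b c d) (C a' b' c' d') =
      a * σ c' + b * σ d' + c * σ a' + d * σ b' := fun a b c d a' b' c' d' => by
    simp only [C, hs.add_left, hs.add_right, hs.smul_left, hs.smul_right,
      huu u₀ hu₀ u₀ hu₀, huu u₀ hu₀ u₁ hu₁, huu u₁ hu₁ u₀ hu₀, huu u₁ hu₁ u₁ hu₁,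
      hww w₀ hw₀ w₀ hw₀, hww w₀ hw₀ w₁ hw₁, hww w₁ hw₁ w₀ hw₀, hww w₁ hw₁ w₁ hw₁,
      f00, f01, f10, f11, g00, g01, g10, g11]
    ring
  have hC0 : ∀ a b c d, C a b c d = 0 → a = 0 ∧ b = 0 ∧ c = 0 ∧ d = 0 := by
    intro a b c d h
    have e1 := hC a b c d 0 0 1 0
    have e2 := hC a b c d 0 0 0 1
    have e3 := hC a b c d 1 0 0 0
    have e4 := hC a b c d 0 1 0 0
    rw [h, hs.zero_left] at e1 e2 e3 e4
    simp only [map_zero, map_one] at e1 e2 e3 e4
    exact ⟨by linear_combination -e1, by linear_combination -e2, by linear_combination -e3,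
      by linear_combination -e4⟩
  have hspan0 : ∀ x ∈ D 0, ∃ a b : F, x = a • u₀ + b • u₁ := fun x hx => by
    refine ⟨b0.repr ⟨x, hx⟩ 0, b0.repr ⟨x, hx⟩ 1, ?_⟩
    have := congrArg Subtype.val (b0.sum_repr ⟨x, hx⟩)
    rw [Fin.sum_univ_two] at this
    simp only [Submodule.coe_add, Submodule.coe_smul] at this
    rw [e₀, e₁]; exact this.symm
  have hspan1 : ∀ x ∈ D 1, ∃ a b : F, x = a • w₀ + b • w₁ := fun x hx => by
    refine ⟨L ⟨x, hx⟩ 0, L ⟨x, hx⟩ 1, ?_⟩
    have h1 : (⟨x, hx⟩ : D 1) = (L ⟨x, hx⟩ 0) • ⟨w₀, hw₀⟩ + (L ⟨x, hx⟩ 1) • ⟨w₁, hw₁⟩ := hLi (by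
      rw [map_add, map_smul, map_smul, hL₀, hL₁]
      funext i; fin_cases i <;> simp)
    exact congrArg Subtype.val h1
  -- the rational structure
  let T : F → F → (Fin 4 → F) := fun a b => C a b (σ b) (-σ a)
  have hfT : ∀ a b a' b', Cfsg.hermForm 4 F q (T a b) (T a' b') =
      (a * b' - b * a') - σ (a * b' - b * a') := fun a b a' b' => by
    show Cfsg.hermForm 4 F q (C _ _ _ _) (C _ _ _ _) = _
    rw [hC]
    simp only [map_sub, map_mul, map_neg, hinv a', hinv b']
    ring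
  let Pm : Matrix (Fin 4) (Fin 4) F := Matrix.of fun k j => (![T 1 0, T μ 0, T 0 1, T 0 μ] j) k
  have hPm : ∀ x, Pm *ᵥ x = C (x 0 + μ * x 1) (x 2 + μ * x 3) (x 2 + σ μ * x 3) (-(x 0 + σ μ * x 1)) := by
    intro x
    funext k
    simp [Pm, Matrix.mulVec, dotProduct, Fin.sum_univ_four, T, C]
    ring
  have hrat : ∀ x, (∀ i, x i ∈ F₀) → Pm *ᵥ x = T (x 0 + μ * x 1) (x 2 + μ * x 3) := fun x hx => by
    have hfx : ∀ i, σ (x i) = x i := fun i => (hmemσ _).1 (hx i)
    rw [hPm]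
    simp only [T, map_add, map_mul, hfx]
  have hunit : IsUnit Pm := by
    rw [← Matrix.mulVec_injective_iff_isUnit]
    intro x y hxy
    have h0 : Pm *ᵥ (x - y) = 0 := by rw [Matrix.mulVec_sub, hxy, sub_self]
    rw [hPm] at h0
    obtain ⟨e1, e2, e3, e4⟩ := hC0 _ _ _ _ h0
    have k1 : (x - y) 1 = 0 := (mul_eq_zero.1 (show (μ - σ μ) * (x - y) 1 = 0 by linear_combination e1 + e4)).resolve_left hμ'
    have k3 : (x - y) 3 = 0 := (mul_eq_zero.1 (show (μ - σ μ) * (x - y) 3 = 0 by linear_combination e2 - e3)).resolve_left hμ'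
    have k0 : (x - y) 0 = 0 := by rw [k1, mul_zero, add_zero] at e1; exact e1
    have k2 : (x - y) 2 = 0 := by rw [k3, mul_zero, add_zero] at e2; exact e2
    refine sub_eq_zero.1 (funext fun i => ?_)
    fin_cases i
    · exact k0
    · exact k1
    · exact k2
    · exact k3
  obtain ⟨P, hP⟩ := hunit
  refine ⟨F₀, P, l, ?_, hl0, by rw [← hσ]; exact hl, fun u v hu hv => ?_, fun u hu => ?_, fun g hg => ?_⟩
  · rw [hF, hK, hqp]
  · rw [hP, hrat u hu, hrat v hv, hfT, hmemσ, map_mul, map_sub, hinv,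
      show σ l = -l by linear_combination hl]
    ring
  · rw [hP, hrat u hu, hfT, mul_comm (u 2 + μ * u 3), sub_self, map_zero, sub_zero]
  -- it suffices to map the structure to a multiple
  suffices key : ∃ s : F, s ≠ 0 ∧ ∀ a b, ∃ a' b', (g : Matrix (Fin 4) (Fin 4) F) *ᵥ T a b = s • T a' b' by
    obtain ⟨s, hs0, hkey⟩ := key
    have hcoord : ∀ a b, ∃ x : Fin 4 → F, (∀ i, x i ∈ F₀) ∧ Pm *ᵥ x = T a b := by
      intro a b
      obtain ⟨c, hc⟩ : ∃ c, (a - σ a) / (μ - σ μ) = c := ⟨_, rfl⟩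
      obtain ⟨d, hd⟩ : ∃ d, (b - σ b) / (μ - σ μ) = d := ⟨_, rfl⟩
      have hden : σ μ - μ ≠ 0 := sub_ne_zero.2 hμ
      have hcc : σ c = c := by
        rw [← hc, map_div₀, map_sub, map_sub, hinv, hinv, div_eq_div_iff hden hμ']; ring
      have hdd : σ d = d := by
        rw [← hd, map_div₀, map_sub, map_sub, hinv, hinv, div_eq_div_iff hden hμ']; ring
      have hc' : c * (μ - σ μ) = a - σ a := by rw [← hc, div_mul_cancel₀ _ hμ']
      have hd' : d * (μ - σ μ) = b - σ b := by rw [← hd, div_mul_cancel₀ _ hμ']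
      have hx : ∀ i, ![a - μ * c, c, b - μ * d, d] i ∈ F₀ := fun i => by
        rw [hmemσ]
        fin_cases i <;> simp [hcc, hdd, map_sub, map_mul]
        · linear_combination hc'
        · linear_combination hd'
      exact ⟨_, hx, by rw [hrat _ hx]; simp⟩
    have hcols : ∀ j, ∃ a b, (P : Matrix (Fin 4) (Fin 4) F) *ᵥ Pi.single j 1 = T a b := fun j => by
      have hx : ∀ i, (Pi.single j 1 : Fin 4 → F) i ∈ F₀ := fun i => by
        by_cases h : i = j
        · subst h; rw [Pi.single_eq_same]; exact F₀.one_mem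
        · rw [Pi.single_eq_of_ne h]; exact F₀.zero_mem
      exact ⟨_, _, (congrArg (· *ᵥ _) hP).trans (hrat _ hx)⟩
    let z : GL (Fin 4) F := scalarGL (Fin 4) (Units.mk0 s hs0)
    have hMrat : ∀ i j, ((z⁻¹ * (P⁻¹ * g * P) : GL (Fin 4) F) : Matrix (Fin 4) (Fin 4) F) i j ∈ F₀ := by
      intro i j
      obtain ⟨a, b, hab⟩ := hcols j
      obtain ⟨a', b', hab'⟩ := hkey a b
      obtain ⟨x, hx, hxT⟩ := hcoord a' b'
      have h1 : ((z⁻¹ * (P⁻¹ * g * P) : GL (Fin 4) F) : Matrix (Fin 4) (Fin 4) F) *ᵥ Pi.single j 1 = x := by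
        refine mulVec_injective z ?_
        show (z : Matrix (Fin 4) (Fin 4) F) *ᵥ _ = (z : Matrix (Fin 4) (Fin 4) F) *ᵥ x
        rw [mul_mulVec, mulVec_inv_cancel, mul_mulVec, mul_mulVec, hab, hab', ← hxT, ← hP,
          Matrix.mulVec_smul, inv_mulVec_cancel, scalarGL_mulVec, Units.val_mk0]
      have h2 := congrFun h1 i
      rw [Matrix.mulVec_single_one, Matrix.col_apply] at h2
      rw [h2]; exact hx i
    refine ⟨P⁻¹ * g * P, ?_, by show P * (P⁻¹ * g * P) * P⁻¹ = g; group⟩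
    rw [show P⁻¹ * g * P = z * (z⁻¹ * (P⁻¹ * g * P)) by group]
    exact Subgroup.mul_mem _ (Subgroup.mem_sup_right (mem_scalars.2 ⟨_, rfl⟩))
      (Subgroup.mem_sup_left (mem_range_map _ hMrat))
  obtain ⟨π, hπ⟩ := hle hg
  have himg : ∀ i, ∀ x ∈ D i, (g : Matrix (Fin 4) (Fin 4) F) *ᵥ x ∈ D (π i) := fun i x hx => by
    rw [← hπ i]; exact ⟨x, hx, Matrix.toLin'_apply _ _⟩
  have hiso := mem_GU.1 (hH hg).1
  have hdet : (g : Matrix (Fin 4) (Fin 4) F).det = 1 := det_eq_one_of_mem (hH hg).2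
  let Qm : Matrix (Fin 4) (Fin 4) F := Matrix.of fun k j => (![u₀, u₁, w₀, w₁] j) k
  have hQm : ∀ x, Qm *ᵥ x = C (x 0) (x 1) (x 2) (x 3) := fun x => by
    funext k
    simp [Qm, Matrix.mulVec, dotProduct, Fin.sum_univ_four, C]
    ring
  have hQ0 : Qm.det ≠ 0 := by
    refine IsUnit.ne_zero ((Matrix.isUnit_iff_isUnit_det _).1 ?_)
    rw [← Matrix.mulVec_injective_iff_isUnit]
    intro x y hxy
    have h0 : Qm *ᵥ (x - y) = 0 := by rw [Matrix.mulVec_sub, hxy, sub_self]
    rw [hQm] at h0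
    obtain ⟨e1, e2, e3, e4⟩ := hC0 _ _ _ _ h0
    refine sub_eq_zero.1 (funext fun i => ?_)
    fin_cases i
    · exact e1
    · exact e2
    · exact e3
    · exact e4
  have hdetM : ∀ M : Matrix (Fin 4) (Fin 4) F, (∀ j, (g : Matrix (Fin 4) (Fin 4) F) *ᵥ (![u₀, u₁, w₀, w₁] j) =
      C (M 0 j) (M 1 j) (M 2 j) (M 3 j)) → M.det = 1 := by
    intro M hM
    have h1 : (g : Matrix (Fin 4) (Fin 4) F) * Qm = Qm * M := by
      refine Matrix.toLin'.injective (LinearMap.ext fun x => ?_)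
      rw [Matrix.toLin'_apply, Matrix.toLin'_apply, ← Matrix.mulVec_mulVec, ← Matrix.mulVec_mulVec, hQm, hQm]
      have e0 := hM 0; have e1 := hM 1; have e2 := hM 2; have e3 := hM 3
      simp [C] at e0 e1 e2 e3
      simp only [C, Matrix.mulVec_add, Matrix.mulVec_smul, e0, e1, e2, e3]
      simp [Matrix.mulVec, dotProduct, Fin.sum_univ_four]
      module
    have h2 := congrArg Matrix.det h1
    rw [Matrix.det_mul, Matrix.det_mul, hdet, one_mul] at h2
    exact mul_left_cancel₀ hQ0 (h2.symm.trans (mul_one _).symm)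
  -- solving for the second block
  have solve : ∀ A00 A01 A10 A11 B00 B01 B10 B11 : F, A00 * σ B00 + A10 * σ B10 = 1 →
      A00 * σ B01 + A10 * σ B11 = 0 → A01 * σ B00 + A11 * σ B10 = 0 → A01 * σ B01 + A11 * σ B11 = 1 →
      (A00 * A11 - A01 * A10) * (B00 * B11 - B01 * B10) = 1 →
      ∃ δ : F, (δ = 1 ∨ δ = -1) ∧ σ B00 = δ * A11 ∧ σ B10 = -(δ * A01) ∧
        σ B01 = -(δ * A10) ∧ σ B11 = δ * A00 := by
    intro A00 A01 A10 A11 B00 B01 B10 B11 h1 h2 h3 h4 h5
    obtain ⟨δ, hδ⟩ : ∃ δ, A00 * A11 - A01 * A10 = δ := ⟨_, rfl⟩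
    rw [hδ] at h5
    have h6 : δ * σ (B00 * B11 - B01 * B10) = 1 := by
      subst hδ; rw [map_sub, map_mul, map_mul]
      linear_combination (A01 * σ B01 + A11 * σ B11) * h1 + h4 - (A01 * σ B00 + A11 * σ B10) * h2
    have hδ0 : δ ≠ 0 := left_ne_zero_of_mul_eq_one h5
    have hfix : σ δ = δ := by
      have h7 := congrArg σ h5
      rw [map_mul, map_one] at h7
      exact mul_right_cancel₀ (right_ne_zero_of_mul_eq_one h6) (h7.trans h6.symm)
    have hδ1 : δ = 1 ∨ δ = -1 := by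
      rw [hσ] at hfix
      have h1q := one_lt_q hF
      rcases (by omega : q = 2 ∨ q = 3) with rfl | rfl
      · left; exact mul_left_cancel₀ hδ0 (by linear_combination hfix)
      · exact mul_self_eq_one_iff.1 (mul_left_cancel₀ hδ0 (by linear_combination hfix))
    have hδδ : δ * δ = 1 := by rcases hδ1 with rfl | rfl <;> ring
    refine ⟨δ, hδ1, ?_, ?_, ?_, ?_⟩
    · subst hδ; linear_combination (A00 * A11 - A01 * A10) * (A11 * h1 - A10 * h3) - σ B00 * hδδ
    · subst hδ; linear_combination (A00 * A11 - A01 * A10) * (A00 * h3 - A01 * h1) - σ B10 * hδδ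
    · subst hδ; linear_combination (A00 * A11 - A01 * A10) * (A11 * h2 - A10 * h4) - σ B01 * hδδ
    · subst hδ; linear_combination (A00 * A11 - A01 * A10) * (A00 * h4 - A01 * h2) - σ B11 * hδδ
  have hσl : σ l = -l := by linear_combination hl
  rcases Fin.exists_fin_two.1 ⟨π 0, rfl⟩ with h0 | h0
  · have h1 : π 1 = 1 := by
      rcases Fin.exists_fin_two.1 ⟨π 1, rfl⟩ with h | h
      · exact absurd (π.injective (h0.trans h.symm)) (by decide)
      · exact h
    obtain ⟨A00, A10, eA0⟩ := hspan0 _ (h0 ▸ himg 0 _ hu₀)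
    obtain ⟨A01, A11, eA1⟩ := hspan0 _ (h0 ▸ himg 0 _ hu₁)
    obtain ⟨B00, B10, eB0⟩ := hspan1 _ (h1 ▸ himg 1 _ hw₀)
    obtain ⟨B01, B11, eB1⟩ := hspan1 _ (h1 ▸ himg 1 _ hw₁)
    have hd := hdetM !![A00, A01, 0, 0; A10, A11, 0, 0; 0, 0, B00, B01; 0, 0, B10, B11] (fun j => by
      fin_cases j <;> simp [C, eA0, eA1, eB0, eB1])
    simp [Matrix.det_succ_row_zero, Fin.sum_univ_succ, Fin.succAbove] at hd
    have r00 := hiso u₀ w₀; have r01 := hiso u₀ w₁; have r10 := hiso u₁ w₀; have r11 := hiso u₁ w₁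
    simp only [eA0, eA1, eB0, eB1, hs.add_left, hs.add_right, hs.smul_left, hs.smul_right,
      f00, f01, f10, f11, mul_zero, mul_one, zero_add, add_zero] at r00 r01 r10 r11
    obtain ⟨δ, hδ, s00, s10, s01, s11⟩ := solve A00 A01 A10 A11 B00 B01 B10 B11 r00 r01 r10 r11
      (by linear_combination hd)
    refine ⟨if δ = 1 then 1 else l, by split <;> simp [hl0], fun a b => ?_⟩
    obtain ⟨α, hα⟩ : ∃ α, A00 * a + A01 * b = α := ⟨_, rfl⟩
    obtain ⟨β, hβ⟩ : ∃ β, A10 * a + A11 * b = β := ⟨_, rfl⟩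
    have hfix : σ δ = δ := by rcases hδ with rfl | rfl <;> simp
    have hgT : (g : Matrix (Fin 4) (Fin 4) F) *ᵥ T a b = C α β (δ * σ β) (-(δ * σ α)) := by
      have k1 : σ b * B00 - σ a * B01 = δ * σ β := by
        apply σ.injective
        rw [map_sub, map_mul, map_mul, map_mul, hinv, hinv, hinv, hfix, s00, s01, ← hβ]; ring
      have k2 : σ b * B10 - σ a * B11 = -(δ * σ α) := by
        apply σ.injective
        rw [map_sub, map_mul, map_mul, map_neg, map_mul, hinv, hinv, hinv, hfix, s10, s11, ← hα]; ring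
      simp only [T, C, Matrix.mulVec_add, Matrix.mulVec_smul, eA0, eA1, eB0, eB1]
      subst hα hβ
      rw [← k1, ← k2]
      module
    by_cases h : δ = 1
    · refine ⟨α, β, ?_⟩
      rw [hgT, h]; simp [T]
    · refine ⟨α / l, β / l, ?_⟩
      obtain rfl := hδ.resolve_left h
      rw [hgT, if_neg h]
      simp only [T, C, map_div₀, hσl, smul_add, smul_smul]
      have k : ∀ x : F, l * (x / l) = x := fun x => mul_div_cancel₀ x hl0
      have k' : ∀ x : F, l * (x / -l) = -x := fun x => by rw [div_neg, mul_neg, k]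
      simp only [mul_neg, k, k']
      module
  · have h1 : π 1 = 0 := by
      rcases Fin.exists_fin_two.1 ⟨π 1, rfl⟩ with h | h
      · exact h
      · exact absurd (π.injective (h0.trans h.symm)) (by decide)
    obtain ⟨A00, A10, eA0⟩ := hspan1 _ (h0 ▸ himg 0 _ hu₀)
    obtain ⟨A01, A11, eA1⟩ := hspan1 _ (h0 ▸ himg 0 _ hu₁)
    obtain ⟨B00, B10, eB0⟩ := hspan0 _ (h1 ▸ himg 1 _ hw₀)
    obtain ⟨B01, B11, eB1⟩ := hspan0 _ (h1 ▸ himg 1 _ hw₁)
    have hd := hdetM !![0, 0, B00, B01; 0, 0, B10, B11; A00, A01, 0, 0; A10, A11, 0, 0] (fun j => by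
      fin_cases j <;> simp [C, eA0, eA1, eB0, eB1])
    simp [Matrix.det_succ_row_zero, Fin.sum_univ_succ, Fin.succAbove] at hd
    have r00 := hiso u₀ w₀; have r01 := hiso u₀ w₁; have r10 := hiso u₁ w₀; have r11 := hiso u₁ w₁
    simp only [eA0, eA1, eB0, eB1, hs.add_left, hs.add_right, hs.smul_left, hs.smul_right,
      g00, g01, g10, g11, f00, f01, f10, f11, mul_zero, mul_one, zero_add, add_zero] at r00 r01 r10 r11
    obtain ⟨δ, hδ, s00, s10, s01, s11⟩ := solve A00 A01 A10 A11 B00 B01 B10 B11 r00 r01 r10 r11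
      (by linear_combination hd)
    refine ⟨if δ = -1 then 1 else l, by split <;> simp [hl0], fun a b => ?_⟩
    obtain ⟨α, hα⟩ : ∃ α, A00 * a + A01 * b = α := ⟨_, rfl⟩
    obtain ⟨β, hβ⟩ : ∃ β, A10 * a + A11 * b = β := ⟨_, rfl⟩
    have hfix : σ δ = δ := by rcases hδ with rfl | rfl <;> simp
    have hgT : (g : Matrix (Fin 4) (Fin 4) F) *ᵥ T a b = C (δ * σ β) (-(δ * σ α)) α β := by
      have k1 : σ b * B00 - σ a * B01 = δ * σ β := by
        apply σ.injective
        rw [map_sub, map_mul, map_mul, map_mul, hinv, hinv, hinv, hfix, s00, s01, ← hβ]; ring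
      have k2 : σ b * B10 - σ a * B11 = -(δ * σ α) := by
        apply σ.injective
        rw [map_sub, map_mul, map_mul, map_neg, map_mul, hinv, hinv, hinv, hfix, s10, s11, ← hα]; ring
      simp only [T, C, Matrix.mulVec_add, Matrix.mulVec_smul, eA0, eA1, eB0, eB1]
      subst hα hβ
      rw [← k1, ← k2]
      module
    by_cases h : δ = -1
    · refine ⟨-σ β, σ α, ?_⟩
      rw [hgT, h]; simp [T, hinv]
    · refine ⟨σ β / l, -(σ α) / l, ?_⟩
      obtain rfl := hδ.resolve_right h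
      rw [hgT, if_neg h]
      simp only [T, C, map_div₀, map_neg, hσl, hinv, smul_add, smul_smul]
      have k : ∀ x : F, l * (x / l) = x := fun x => mul_div_cancel₀ x hl0
      have k' : ∀ x : F, l * (x / -l) = -x := fun x => by rw [div_neg, mul_neg, k]
      simp only [mul_neg, k, k', neg_neg, one_mul]

end CfsgLib.Aschbacher
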