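import Cfsg.Agent.Lib.Aschbacher.SympFamily
import Cfsg.Agent.Lib.Aschbacher.UnitaryClasses

/-!
A reflexive sesquilinear form in a frame of equal tensor factors permuted by isometries is a tensor
power.
-/

set_option autoImplicit false
set_option maxHeartbeats 800000

namespace CfsgLib.Aschbacher

open Matrix Module

variable {F : Type*} [Field F] {ι : Type} [Fintype ι] [DecidableEq ι] {t m : ℕ}

lemma pureMat_map (σ : F ≃+* F) (A : Fin t → Matrix (Fin m) (Fin m) F) :
    (pureMat A).map σ = pureMat fun i => (A i).map σ := by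
  ext x y; simp [pureMat_apply]

lemma permMat_map (σ : F ≃+* F) (π : Equiv.Perm (Fin t)) :
    (permMat m F π).map σ = permMat m F π := by
  ext x y; simp [permMat, apply_ite σ]

lemma factor_map (σ : F ≃+* F) (i : Fin t) (Y : Matrix (Fin m) (Fin m) F) :
    (factor i Y).map σ = factor i (Y.map σ) := by
  simp only [factor, pureMat_map]
  congr 1
  funext j
  by_cases hj : j = i
  · subst hj; simp
  · simp [hj]

/-- A sesquilinear form in a frame of `t` equal factors with tensor Gram matrix, congruent factors. -/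
theorem herm_power_frame_form [Nonempty ι] [NeZero t] [NeZero m] {ε : F} {f : (ι → F) → (ι → F) → F}
    {σ : F ≃+* F} (hf : IsRefl σ ε f) {E : Fin t → Fin m → Fin m → Matrix ι ι F}
    {e : ι ≃ (Fin t → Fin m)} {P : GL ι F}
    (hEfac : ∀ i k l, E i k l = frAlg e P (factor i (Matrix.single k l (1 : F))))
    (hperm : ∀ (g : GL ι F) (π : Equiv.Perm (Fin t)),
      (∀ i k l, (g : Matrix ι ι F) * E i k l * ((g⁻¹ : GL ι F) : Matrix ι ι F) ∈
        Submodule.span F (Set.range fun p : Fin m × Fin m => E (π i) p.1 p.2)) →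
      ∃ A : Fin t → GL (Fin m) F, g = frU e P (pureGL A * permGL m F π))
    (hadj : ∀ i k l, hf.adj (E i k l) ∈
      Submodule.span F (Set.range fun p : Fin m × Fin m => E i p.1 p.2))
    {H : Subgroup (GL ι F)} (hH : Cfsg.Geo.FixesForm (Cfsg.Geo.matrixSet H) f)
    (hHp : ∀ g ∈ H, ∃ π : Equiv.Perm (Fin t), ∀ i k l,
      (g : Matrix ι ι F) * E i k l * ((g⁻¹ : GL ι F) : Matrix ι ι F) ∈
        Submodule.span F (Set.range fun p : Fin m × Fin m => E (π i) p.1 p.2))
    (htrans : ∀ j, ∃ g ∈ H, ∃ π : Equiv.Perm (Fin t), π 0 = j ∧ ∀ i k l,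
      (g : Matrix ι ι F) * E i k l * ((g⁻¹ : GL ι F) : Matrix ι ι F) ∈
        Submodule.span F (Set.range fun p : Fin m × Fin m => E (π i) p.1 p.2)) :
    ∃ (P' : GL ι F) (G : Matrix (Fin m) (Fin m) F) (α c : F), c ≠ 0 ∧ IsUnit G ∧
      Gᵀ = α • G.map σ ∧
      (∀ x y, pullForm e P' f x y =
        c * Cfsg.Geo.formOfGram σ (pureMat fun _ => G) x y) ∧
      H ≤ Cfsg.Geo.tensorWreathSubgroup m t e P' ∧
      (∀ g ∈ H, ∃ (A : Fin t → GL (Fin m) F) (π : Equiv.Perm (Fin t)),
        g = frU e P' (pureGL A * permGL m F π)) ∧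
      ∀ (i : Fin t) (A : GL (Fin m) F), ∃ A' : GL (Fin m) F,
        frU e P (pureGL (Function.update 1 i A)) = frU e P' (pureGL (Function.update 1 i A')) := by
  classical
  set f' := pullForm e P f with hf'
  have hf'r : IsRefl σ ε f' := hf.pull e P
  set J := Cfsg.Geo.gramMatrix f' with hJ
  obtain ⟨Ju, hJu⟩ := hf'r.sesq.gram_isUnit hf'r.nondeg
  rw [← hJ] at hJu
  -- the Gram matrix is pure
  obtain ⟨B, hB⟩ := exists_pure_mul_perm_of_permuting (g := Ju⁻¹) (σ := 1) fun i k l => by
    obtain ⟨Y, hY⟩ := span_factor (hEfac i) (hadj i l k)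
    have hadj' : hf'r.adj (factor i (Matrix.single l k (1 : F))) = factor i Y :=
      (frAlg e P).injective ((hf.adj_pull e P _).trans (by rw [← hEfac, hY]))
    refine ⟨Y.map σ, ?_⟩
    have h1 := hf'r.gram_adj (factor i (Matrix.single l k (1 : F)))
    have h3 : (factor i (Matrix.single l k (1 : F)))ᵀ = factor i (Matrix.single k l (1 : F)) := by
      simp only [factor, pureMat_transpose]
      congr 1
      funext j
      by_cases hj : j = i
      · subst hj; simp
      · simp [hj]
    rw [hadj', h3, ← hJ, ← hJu, factor_map] at h1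
    rw [inv_inv, mul_assoc, h1, ← mul_assoc, Units.inv_mul, one_mul]
    rfl
  have hone : permGL m F (1 : Equiv.Perm (Fin t)) = 1 := Units.ext permMat_one
  rw [hone, mul_one] at hB
  let Gs : Fin t → GL (Fin m) F := fun i => (B i)⁻¹
  have hJG : J = pureMat fun i => (Gs i : Matrix (Fin m) (Fin m) F) := by
    have h1 : Ju = pureGL Gs := by
      rw [← _root_.inv_inj, hB]
      refine (inv_eq_of_mul_eq_one_right (Units.ext ?_)).symm
      show pureMat _ * pureMat _ = 1
      rw [pureMat_mul]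
      convert pureMat_one (t := t) (m := m) (F := F) using 2
      funext i
      simp [Gs]
    rw [← hJu, h1]; rfl
  have hpureperm : ∀ (A : Fin t → GL (Fin m) F) (π : Equiv.Perm (Fin t)) (g : GL ι F),
      g = frU e P (pureGL A * permGL m F π) → g ∈ H → ∀ i, ∃ z : F, z ≠ 0 ∧
        (A (π i) : Matrix (Fin m) (Fin m) F)ᵀ * (Gs (π i) : Matrix (Fin m) (Fin m) F) *
          (A (π i) : Matrix (Fin m) (Fin m) F).map σ = z • (Gs i : Matrix (Fin m) (Fin m) F) := by
    intro A π g hg hgH i
    have hgX : (g : Matrix ι ι F) = frAlg e P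
        (pureMat (fun i => (A i : Matrix (Fin m) (Fin m) F)) * permMat m F π) := by
      rw [hg, frU_val]; rfl
    set X := pureMat (fun i => (A i : Matrix (Fin m) (Fin m) F)) * permMat m F π with hX
    have hgram : Xᵀ * J * X.map σ = J := by
      have := hf'r.sesq.gram_comp X
      rw [hJ, ← this]
      ext p q
      exact pullForm_isometry e P hgX (isometry_apply hH hgH) _ _
    have hpt : (permMat m F π)ᵀ = permMat m F π⁻¹ := by
      ext x y
      simp only [permMat, Matrix.transpose_apply, Matrix.of_apply]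
      refine if_congr ⟨fun h => ?_, fun h => ?_⟩ rfl rfl
      · subst h; funext i; simp
      · subst h; funext i; simp
    rw [hX, Matrix.transpose_mul, pureMat_transpose, hpt, hJG, Matrix.map_mul, pureMat_map,
      permMat_map] at hgram
    have h2 : permMat m F π⁻¹ * pureMat (fun i => (A i : Matrix (Fin m) (Fin m) F)ᵀ *
        (Gs i : Matrix (Fin m) (Fin m) F) * (A i : Matrix (Fin m) (Fin m) F).map σ) * permMat m F π =
        pureMat fun i => (Gs i : Matrix (Fin m) (Fin m) F) := by
      conv_rhs => rw [← hgram]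
      rw [show pureMat (fun i => (A i : Matrix (Fin m) (Fin m) F)ᵀ *
          (Gs i : Matrix (Fin m) (Fin m) F) * (A i : Matrix (Fin m) (Fin m) F).map σ) =
        pureMat (fun i => (A i : Matrix (Fin m) (Fin m) F)ᵀ) *
          pureMat (fun i => (Gs i : Matrix (Fin m) (Fin m) F)) *
          pureMat (fun i => (A i : Matrix (Fin m) (Fin m) F).map σ) from by
        rw [pureMat_mul, pureMat_mul]; rfl]
      simp only [mul_assoc]
    rw [permMat_mul_pureMat, mul_assoc, permMat_mul, inv_mul_cancel, permMat_one, mul_one] at h2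
    have hne : ∀ j, (A (π⁻¹.symm j) : Matrix (Fin m) (Fin m) F)ᵀ *
        (Gs (π⁻¹.symm j) : Matrix (Fin m) (Fin m) F) * (A (π⁻¹.symm j) : Matrix (Fin m) (Fin m) F).map σ ≠ 0 := by
      intro j
      exact ((((Matrix.isUnit_transpose _).2 (A _).isUnit).mul (Gs _).isUnit).mul
        ((A _).isUnit.map σ.toRingHom.mapMatrix)).ne_zero
    obtain ⟨z, hz⟩ := pureMat_eq_imp hne h2 i
    have hsymm : π⁻¹.symm i = π i := by
      rw [Equiv.symm_apply_eq]; simp
    rw [hsymm] at hz
    refine ⟨z, fun h0 => ?_, hz⟩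
    rw [h0, zero_smul] at hz
    exact ((((Matrix.isUnit_transpose _).2 (A (π i)).isUnit).mul (Gs (π i)).isUnit).mul
      ((A (π i)).isUnit.map σ.toRingHom.mapMatrix)).ne_zero hz
  -- congruences to the first factor
  have hcong : ∀ j, ∃ (C : GL (Fin m) F) (z : F), z ≠ 0 ∧ (C : Matrix (Fin m) (Fin m) F)ᵀ *
      (Gs j : Matrix (Fin m) (Fin m) F) * (C : Matrix (Fin m) (Fin m) F).map σ =
        z • (Gs 0 : Matrix (Fin m) (Fin m) F) := by
    intro j
    obtain ⟨g, hg, π, hπ0, hπ⟩ := htrans j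
    obtain ⟨A, hA⟩ := hperm g π hπ
    obtain ⟨z, hz, h⟩ := hpureperm A π g hA hg 0
    rw [hπ0] at h
    exact ⟨A j, z, hz, h⟩
  choose C z hz0 hC using hcong
  set G := (Gs 0 : Matrix (Fin m) (Fin m) F) with hG
  let P' : GL ι F := frU e P (pureGL C) * P
  have hfr' : ∀ x : GL (Fin t → Fin m) F,
      frU e P' x = frU e P (pureGL C * x * (pureGL C)⁻¹) := by
    intro x
    rw [map_mul, map_mul, map_inv]
    show MulAut.conj P' (Cfsg.Geo.glReindex e.symm x) =
      frU e P (pureGL C) * MulAut.conj P (Cfsg.Geo.glReindex e.symm x) * (frU e P (pureGL C))⁻¹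
    simp [P', mul_assoc]
  have hHwreath : ∀ g ∈ H, ∃ (A : Fin t → GL (Fin m) F) (π : Equiv.Perm (Fin t)),
      g = frU e P' (pureGL A * permGL m F π) := by
    intro g hg
    obtain ⟨π, hπ⟩ := hHp g hg
    obtain ⟨A, rfl⟩ := hperm g π hπ
    refine ⟨C⁻¹ * A * (C ∘ π.symm), π, ?_⟩
    rw [hfr']
    congr 1
    have hswap : permGL m F π * pureGL C = pureGL (C ∘ π.symm) * permGL m F π :=
      Units.ext (permMat_mul_pureMat π fun i => (C i : Matrix (Fin m) (Fin m) F))
    have hpm : ∀ A B : Fin t → GL (Fin m) F, pureGL A * pureGL B = pureGL (A * B) := fun A B =>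
      Units.ext (pureMat_mul _ _)
    have hone' : pureGL (1 : Fin t → GL (Fin m) F) = 1 := Units.ext pureMat_one
    rw [← hpm, ← hpm]
    calc pureGL A * permGL m F π = (pureGL C * pureGL C⁻¹) * pureGL A *
          (permGL m F π * pureGL C) * (pureGL C)⁻¹ := by
          rw [hpm C C⁻¹, mul_inv_cancel, hone']; group
      _ = _ := by rw [hswap]; group
  refine ⟨P', G, ?_⟩
  have hpull : ∀ x y, pullForm e P' f x y =
      (∏ i, z i) * Cfsg.Geo.formOfGram σ (pureMat fun _ => G) x y := by
    intro x y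
    have h1 : ∀ x : (Fin t → Fin m) → F, (P' : Matrix ι ι F) *ᵥ (x ∘ e) =
        (P : Matrix ι ι F) *ᵥ ((pureMat (fun i => (C i : Matrix (Fin m) (Fin m) F)) *ᵥ x) ∘ e) := by
      intro x
      rw [← frAlg_mulVec, show pureMat (fun i => (C i : Matrix (Fin m) (Fin m) F)) =
        ((pureGL C : GL (Fin t → Fin m) F) : Matrix (Fin t → Fin m) (Fin t → Fin m) F) from rfl,
        ← frU_val, ← mul_mulVec]
    show f _ _ = _
    rw [h1 x, h1 y]
    show f' _ _ = _
    rw [hf'r.sesq.eq_dot, formOfGram_eq, comp_mulVec, pureMat_map, ← hJ, hJG, Matrix.mulVec_mulVec,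
      ← Matrix.vecMul_transpose, ← Matrix.dotProduct_mulVec, Matrix.mulVec_mulVec, pureMat_transpose,
      pureMat_mul, pureMat_mul,
      show ((fun i => (C i : Matrix (Fin m) (Fin m) F)ᵀ) *
        ((fun i => (Gs i : Matrix (Fin m) (Fin m) F)) *
          fun i => (C i : Matrix (Fin m) (Fin m) F).map σ)) =
        fun i => z i • G from funext fun i => (mul_assoc _ _ _).symm.trans (hC i),
      pureMat_smul, Matrix.smul_mulVec, dotProduct_smul, smul_eq_mul]
  -- symmetry
  have hf''r := hf.pull e P'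
  have hJ' : Cfsg.Geo.gramMatrix (pullForm e P' f) = (∏ i, z i) • pureMat fun _ : Fin t => G := by
    ext p q
    show pullForm e P' f _ _ = _
    rw [hpull, Matrix.smul_apply, smul_eq_mul]
    congr 1
    exact congrFun (congrFun (gramMatrix_formOfGram (σ := σ)
      (pureMat fun _ : Fin t => G)) p) q
  have hzprod : (∏ i, z i) ≠ 0 := Finset.prod_ne_zero_iff.2 fun i _ => hz0 i
  have hsw := hf''r.gram_swap
  set c := ∏ i, z i with hc
  have hcG : ((c • pureMat fun _ : Fin t => G).map σ) =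
      σ c • pureMat fun _ : Fin t => G.map σ := by
    rw [← pureMat_map]; ext x y; simp
  rw [hJ', hcG, Matrix.transpose_smul, smul_smul, pureMat_transpose] at hsw
  have hGu : IsUnit G := (Gs 0).isUnit
  obtain ⟨α, hα⟩ : ∃ α : F, Gᵀ = α • G.map σ := by
    have hne : ∀ _ : Fin t, Gᵀ ≠ 0 := fun _ => ((Matrix.isUnit_transpose _).2 hGu).ne_zero
    have h1 := congrArg (fun M : Matrix (Fin t → Fin m) (Fin t → Fin m) F => c⁻¹ • M) hsw
    simp only [smul_smul, inv_mul_cancel₀ hzprod, one_smul] at h1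
    have hupd : (c⁻¹ * (ε * σ c)) • pureMat (fun _ : Fin t => G.map σ) =
        pureMat (Function.update (fun _ : Fin t => G.map σ) 0 ((c⁻¹ * (ε * σ c)) • G.map σ)) := by
      rw [show Function.update (fun _ : Fin t => G.map σ) 0 ((c⁻¹ * (ε * σ c)) • G.map σ) =
        fun i => (if i = 0 then (c⁻¹ * (ε * σ c)) else 1) • G.map σ from funext fun i => by
          by_cases hi : i = 0
          · subst hi; simp
          · simp [hi],
        pureMat_smul, Finset.prod_ite_eq' Finset.univ (0 : Fin t) fun _ => (c⁻¹ * (ε * σ c)),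
        if_pos (Finset.mem_univ _)]
    rw [hupd] at h1
    obtain ⟨d, hd⟩ := pureMat_eq_imp hne h1 0
    rw [Function.update_self, smul_smul] at hd
    exact ⟨_, hd⟩
  refine ⟨α, c, hzprod, hGu, hα, hpull, fun g hg => ?_, hHwreath, fun i A => ?_⟩
  · obtain ⟨A, π, rfl⟩ := hHwreath g hg
    rw [Cfsg.Geo.tensorWreathSubgroup, map_glReindex_conj]
    exact ⟨_, Subgroup.mul_mem _ (Subgroup.subset_closure (Or.inl (isPureTensor_pureGL _)))
      (Subgroup.subset_closure (Or.inr (isFactorPermutation_permGL _))), rfl⟩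
  · refine ⟨(C i)⁻¹ * A * C i, ?_⟩
    rw [hfr']
    congr 1
    refine Units.ext ?_
    show pureMat _ = pureMat _ * pureMat _ * pureMat (fun j => ((C j)⁻¹ : GL (Fin m) F).1)
    rw [pureMat_mul, pureMat_mul]
    congr 1
    funext j
    by_cases hj : j = i
    · subst hj; simp [mul_assoc]
    · simp [hj]

end CfsgLib.Aschbacher
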