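import Cfsg.Agent.Lib.Aschbacher.UnitaryClasses
import Cfsg.Agent.Lib.CharTheory.Burnside

/-!
The group of isometries of the Hermitian plane over four elements: it permutes four orthogonal
frames, it is soluble, and it normalises an extraspecial group of order 27.
-/

set_option autoImplicit false
set_option maxHeartbeats 400000

namespace CfsgLib.Aschbacher

open Matrix Module

variable {F : Type*} [Field F] [Fintype F]

lemma two_zero_of_four (hF : Fintype.card F = 2 ^ 2) : (2 : F) = 0 :=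
  two_eq_zero_iff.2 (by rw [hF]; decide)

lemma cube_of_four (hF : Fintype.card F = 2 ^ 2) {x : F} (hx : x ≠ 0) : x ^ 3 = 1 := by
  have h := FiniteField.pow_card_sub_one_eq_one x hx
  rwa [hF] at h

/-- Three non-zero elements of the field of four elements with sum zero have product one. -/
lemma prod_of_sum_four (hF : Fintype.card F = 2 ^ 2) {a b c : F} (ha : a ≠ 0) (hb : b ≠ 0)
    (hc : c ≠ 0) (h : a + b + c = 0) : a * b * c = 1 := by
  have h2 := two_zero_of_four hF
  have hc' : c = a + b := by linear_combination h - (a + b) * h2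
  subst hc'
  have ha3 := cube_of_four hF ha
  have hb3 := cube_of_four hF hb
  have hc3 := cube_of_four hF hc
  linear_combination hc3 - ha3 - hb3 + (-(a ^ 2 * b) - a * b ^ 2 - 1) * h2

/-- Three non-zero elements of the field of four elements with product one are equal or have sum
zero. -/
lemma sum_of_prod_four (hF : Fintype.card F = 2 ^ 2) {a b c : F} (ha : a ≠ 0) (hb : b ≠ 0)
    (h : a * b * c = 1) : (a = b ∧ b = c) ∨ a + b + c = 0 := by
  have h2 := two_zero_of_four hF
  have hc : c = a ^ 2 * b ^ 2 := by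
    refine mul_left_cancel₀ (mul_ne_zero ha hb) ?_
    rw [h]
    linear_combination -(b ^ 3) * cube_of_four hF ha - cube_of_four hF hb
  by_cases hab : a = b
  · subst hab
    refine Or.inl ⟨rfl, ?_⟩
    rw [hc]; linear_combination -a * cube_of_four hF ha
  · refine Or.inr (mul_left_cancel₀ (sub_ne_zero.2 hab) ?_)
    rw [hc]
    linear_combination (b ^ 2) * cube_of_four hF ha + (-(a ^ 2)) * cube_of_four hF hb
      + (a ^ 2 - b ^ 2) * h2 - (a ^ 2 - b ^ 2) * h2

/-- The class of a vector: the product of its coordinates. -/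
def cls (u : Fin 3 → F) : F := u 0 * u 1 * u 2

omit [Fintype F] in
lemma cls_smul (c : F) (u : Fin 3 → F) : cls (c • u) = c ^ 3 * cls u := by
  simp only [cls, Pi.smul_apply, smul_eq_mul]; ring

omit [Fintype F] in
lemma herm3_eq (u v : Fin 3 → F) :
    Cfsg.hermForm 3 F 2 u v = u 0 * v 0 ^ 2 + u 1 * v 1 ^ 2 + u 2 * v 2 ^ 2 := by
  simp [Cfsg.hermForm, Fin.sum_univ_three]

/-- An anisotropic vector has one or three non-zero coordinates. -/
lemma aniso_support (hF : Fintype.card F = 2 ^ 2) {u : Fin 3 → F}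
    (hu : Cfsg.hermForm 3 F 2 u u ≠ 0) :
    (∀ i, u i ≠ 0) ∨ ∃ i, u i ≠ 0 ∧ ∀ j, j ≠ i → u j = 0 := by
  have h2 := two_zero_of_four hF
  rw [herm3_eq] at hu
  have h3 : ∀ i, u i ≠ 0 → u i * u i ^ 2 = 1 := fun i hi => by
    rw [← cube_of_four hF hi]; ring
  by_cases a : u 0 = 0 <;> by_cases b : u 1 = 0 <;> by_cases c : u 2 = 0
  · simp [a, b, c] at hu
  · exact Or.inr ⟨2, c, fun j hj => by fin_cases j <;> first | exact a | exact b | exact absurd rfl hj⟩
  · exact Or.inr ⟨1, b, fun j hj => by fin_cases j <;> first | exact a | exact c | exact absurd rfl hj⟩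
  · refine absurd ?_ hu
    rw [h3 1 b, h3 2 c, a]; linear_combination h2
  · exact Or.inr ⟨0, a, fun j hj => by fin_cases j <;> first | exact b | exact c | exact absurd rfl hj⟩
  · refine absurd ?_ hu
    rw [h3 0 a, h3 2 c, b]; linear_combination h2
  · refine absurd ?_ hu
    rw [h3 0 a, h3 1 b, c]; linear_combination h2
  · exact Or.inl fun i => by fin_cases i <;> assumption

omit [Fintype F] in
lemma cls_single {u : Fin 3 → F} {i : Fin 3} (h : ∀ j, j ≠ i → u j = 0) : cls u = 0 := by
  fin_cases i <;> simp [cls, h 0, h 1, h 2]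

omit [Fintype F] in
lemma cls_ne_zero {u : Fin 3 → F} (h : ∀ i, u i ≠ 0) : cls u ≠ 0 :=
  mul_ne_zero (mul_ne_zero (h 0) (h 1)) (h 2)

lemma orth_cls (hF : Fintype.card F = 2 ^ 2) {u v : Fin 3 → F}
    (hu : Cfsg.hermForm 3 F 2 u u ≠ 0) (hv : Cfsg.hermForm 3 F 2 v v ≠ 0)
    (h : Cfsg.hermForm 3 F 2 u v = 0) : cls u = cls v := by
  rw [herm3_eq] at h
  rcases aniso_support hF hu with hu' | ⟨i, hi, hu'⟩ <;>
    rcases aniso_support hF hv with hv' | ⟨j, hj, hv'⟩
  · have h1 : ∀ i, u i * v i ^ 2 ≠ 0 := fun i => mul_ne_zero (hu' i) (pow_ne_zero _ (hv' i))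
    have hp := prod_of_sum_four hF (h1 0) (h1 1) (h1 2) h
    have hv3 := cube_of_four hF (cls_ne_zero hv')
    simp only [cls] at hv3 ⊢
    linear_combination (v 0 * v 1 * v 2) * hp - (u 0 * u 1 * u 2) * hv3
  · exfalso
    fin_cases j <;> simp [hv' 0, hv' 1, hv' 2] at h <;> simp_all
  · exfalso
    fin_cases i <;> simp [hu' 0, hu' 1, hu' 2] at h <;> simp_all
  · rw [cls_single hu', cls_single hv']

/-- Anisotropic vectors of one class are proportional or orthogonal. -/
lemma cls_dichotomy (hF : Fintype.card F = 2 ^ 2) {u v : Fin 3 → F}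
    (hu : Cfsg.hermForm 3 F 2 u u ≠ 0) (hv : Cfsg.hermForm 3 F 2 v v ≠ 0)
    (h : cls u = cls v) : (∃ c : F, c ≠ 0 ∧ v = c • u) ∨ Cfsg.hermForm 3 F 2 u v = 0 := by
  rcases aniso_support hF hu with hu' | ⟨i, hi, hu'⟩ <;>
    rcases aniso_support hF hv with hv' | ⟨j, hj, hv'⟩
  · have h1 : ∀ i, u i * v i ^ 2 ≠ 0 := fun i => mul_ne_zero (hu' i) (pow_ne_zero _ (hv' i))
    have hp : u 0 * v 0 ^ 2 * (u 1 * v 1 ^ 2) * (u 2 * v 2 ^ 2) = 1 := by
      have hv3 := cube_of_four hF (cls_ne_zero hv')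
      simp only [cls] at hv3 h
      linear_combination (v 0 * v 1 * v 2) ^ 2 * h + hv3
    rcases sum_of_prod_four hF (h1 0) (h1 1) hp with ⟨e1, e2⟩ | hs
    · left
      refine ⟨(u 0 * v 0 ^ 2) ^ 2, pow_ne_zero _ (h1 0), funext fun k => ?_⟩
      have hk : u k * v k ^ 2 = u 0 * v 0 ^ 2 := by
        fin_cases k
        · rfl
        · exact e1.symm
        · exact (e1.trans e2).symm
      show v k = (u 0 * v 0 ^ 2) ^ 2 * u k
      rw [← hk]
      linear_combination -(v k) * (v k ^ 3) * cube_of_four hF (hu' k)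
        - (v k) * cube_of_four hF (hv' k)
    · exact Or.inr (by rw [herm3_eq]; exact hs)
  · exact absurd h (by rw [cls_single hv']; exact cls_ne_zero hu')
  · exact absurd h.symm (by rw [cls_single hu']; exact cls_ne_zero hv')
  · by_cases hij : i = j
    · subst hij
      refine Or.inl ⟨v i / u i, div_ne_zero hj hi, funext fun k => ?_⟩
      by_cases hk : k = i
      · subst hk; simp [div_mul_cancel₀ _ hi]
      · simp [hu' k hk, hv' k hk]
    · right
      rw [herm3_eq]
      have h0 : ∀ k, u k * v k ^ 2 = 0 := fun k => by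
        by_cases hk : k = i
        · subst hk; simp [hv' k hij]
        · simp [hu' k hk]
      rw [h0, h0, h0]; simp

/-- The isometries of the plane. -/
abbrev U3 (F : Type*) [Field F] : Subgroup (GL (Fin 3) F) := Cfsg.GU 3 F 2

omit [Fintype F] in
lemma aniso_image {g : GL (Fin 3) F} (hg : g ∈ U3 F) {u : Fin 3 → F}
    (hu : Cfsg.hermForm 3 F 2 u u ≠ 0) :
    Cfsg.hermForm 3 F 2 ((g : Matrix (Fin 3) (Fin 3) F) *ᵥ u)
      ((g : Matrix (Fin 3) (Fin 3) F) *ᵥ u) ≠ 0 := by
  rwa [mem_GU.1 hg]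

lemma cls_image (hF : Fintype.card F = 2 ^ 2) {g : GL (Fin 3) F} (hg : g ∈ U3 F)
    {u v : Fin 3 → F} (hu : Cfsg.hermForm 3 F 2 u u ≠ 0) (hv : Cfsg.hermForm 3 F 2 v v ≠ 0)
    (h : cls u = cls v) :
    cls ((g : Matrix (Fin 3) (Fin 3) F) *ᵥ u) = cls ((g : Matrix (Fin 3) (Fin 3) F) *ᵥ v) := by
  rcases cls_dichotomy hF hu hv h with ⟨c, hc, rfl⟩ | horth
  · rw [Matrix.mulVec_smul, cls_smul, cube_of_four hF hc, one_mul]
  · exact orth_cls hF (aniso_image hg hu) (aniso_image hg hv) (by rw [mem_GU.1 hg]; exact horth)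

open scoped Classical in
/-- A vector of given class. -/
noncomputable def rep (c : F) : Fin 3 → F := if c = 0 then ![1, 0, 0] else ![c, 1, 1]

lemma rep_spec (hF : Fintype.card F = 2 ^ 2) (c : F) :
    Cfsg.hermForm 3 F 2 (rep c) (rep c) ≠ 0 ∧ cls (rep c) = c := by
  classical
  rw [rep]
  split <;> rename_i hc
  · subst hc; simp [herm3_eq, cls]
  · refine ⟨?_, by simp [cls]⟩
    have h3 : c * c ^ 2 = 1 := by rw [← cube_of_four hF hc]; ring
    simp only [herm3_eq, Matrix.cons_val_zero, Matrix.cons_val_one, Matrix.cons_val_two,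
      Matrix.tail_cons, Matrix.head_cons, one_pow, mul_one, h3]
    rw [show (1 : F) + 1 + 1 = 1 by linear_combination two_zero_of_four hF]
    exact one_ne_zero

/-- The action on classes. -/
noncomputable def clsMap (g : GL (Fin 3) F) (c : F) : F :=
  cls ((g : Matrix (Fin 3) (Fin 3) F) *ᵥ rep c)

lemma clsMap_apply (hF : Fintype.card F = 2 ^ 2) {g : GL (Fin 3) F} (hg : g ∈ U3 F)
    {u : Fin 3 → F} (hu : Cfsg.hermForm 3 F 2 u u ≠ 0) :
    clsMap g (cls u) = cls ((g : Matrix (Fin 3) (Fin 3) F) *ᵥ u) :=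
  cls_image hF hg (rep_spec hF _).1 hu (rep_spec hF _).2

lemma clsMap_one (hF : Fintype.card F = 2 ^ 2) (c : F) : clsMap (1 : GL (Fin 3) F) c = c := by
  rw [clsMap, Units.val_one, Matrix.one_mulVec]; exact (rep_spec hF c).2

lemma clsMap_mul (hF : Fintype.card F = 2 ^ 2) {g h : GL (Fin 3) F} (hg : g ∈ U3 F)
    (hh : h ∈ U3 F) (c : F) : clsMap (g * h) c = clsMap g (clsMap h c) := by
  rw [clsMap, mul_mulVec, ← clsMap_apply hF hg (aniso_image hh (rep_spec hF c).1)]
  rfl

/-- The permutation of classes. -/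
noncomputable def clsHom (hF : Fintype.card F = 2 ^ 2) : U3 F →* Equiv.Perm F where
  toFun g :=
    { toFun := clsMap (g : GL (Fin 3) F)
      invFun := clsMap ((g⁻¹ : U3 F) : GL (Fin 3) F)
      left_inv := fun c => by
        rw [← clsMap_mul hF (g⁻¹).2 g.2, ← Subgroup.coe_mul, inv_mul_cancel, Subgroup.coe_one,
          clsMap_one hF]
      right_inv := fun c => by
        rw [← clsMap_mul hF g.2 (g⁻¹).2, ← Subgroup.coe_mul, mul_inv_cancel, Subgroup.coe_one,
          clsMap_one hF] }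
  map_one' := Equiv.ext (clsMap_one hF)
  map_mul' g h := Equiv.ext (clsMap_mul hF g.2 h.2)

/-- A monomial matrix with a cyclic support. -/
def mono (s : Fin 3) (ε : Fin 3 → F) : Matrix (Fin 3) (Fin 3) F :=
  Matrix.of fun i j => if i = j + s then ε j else 0

omit [Fintype F] in
lemma fin_three_cases : ∀ s : Fin 3, s = 0 ∨ s = 1 ∨ s = 2 := by decide

omit [Fintype F] in
lemma mono_mulVec (s : Fin 3) (ε u : Fin 3 → F) (j : Fin 3) :
    (mono s ε *ᵥ u) (j + s) = ε j * u j := by
  simp [mono, Matrix.mulVec, dotProduct]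

omit [Fintype F] in
lemma mono_mul (s t : Fin 3) (ε δ : Fin 3 → F) :
    mono s ε * mono t δ = mono (t + s) fun j => ε (j + t) * δ j := by
  ext i j
  simp only [mono, Matrix.mul_apply, Matrix.of_apply, mul_ite, mul_zero]
  rw [Finset.sum_ite_eq' Finset.univ (j + t)]
  simp [add_assoc]

omit [Fintype F] in
lemma mono_inj {s t : Fin 3} {ε δ : Fin 3 → F} (hε : ∀ j, ε j ≠ 0)
    (h : mono s ε = mono t δ) : s = t ∧ ε = δ := by
  have h0 := congrFun (congrFun h (0 + s)) 0
  simp only [mono, Matrix.of_apply, if_true] at h0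
  have hst : s = t := by
    by_contra hne
    rw [if_neg (fun h' => hne (add_left_cancel h'))] at h0
    exact hε 0 h0
  subst hst
  refine ⟨rfl, funext fun j => ?_⟩
  simpa [mono] using congrFun (congrFun h (j + s)) j

omit [Fintype F] in
lemma mono_cube_eq (s : Fin 3) (ε : Fin 3 → F) (h3 : ∀ j, ε j ^ 3 = 1)
    (hp : ε 0 * ε 1 * ε 2 = 1) : mono s ε * mono s ε * mono s ε = 1 := by
  rw [mono_mul, mono_mul]
  ext i j
  simp only [mono, Matrix.of_apply, Matrix.one_apply]
  have h0 := h3 0; have h1 := h3 1; have h2 := h3 2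
  fin_cases s <;> fin_cases i <;> fin_cases j <;> simp <;>
    first | linear_combination h0 | linear_combination h1 | linear_combination h2 |
      linear_combination hp

/-- The extraspecial group of order 27. -/
noncomputable def E27 (hF : Fintype.card F = 2 ^ 2) : Subgroup (GL (Fin 3) F) where
  carrier := {g | ∃ s ε, ε 0 * ε 1 * ε 2 = 1 ∧ (g : Matrix (Fin 3) (Fin 3) F) = mono s ε}
  mul_mem' {g h} hg hh := by
    obtain ⟨s, ε, hε, hg⟩ := hg
    obtain ⟨t, δ, hδ, hh⟩ := hh
    refine ⟨t + s, fun j => ε (j + t) * δ j, ?_, by rw [Units.val_mul, hg, hh, mono_mul]⟩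
    have hrot : ε (0 + t) * ε (1 + t) * ε (2 + t) = 1 := by
      rw [← hε]
      fin_cases t <;> simp <;> ring
    linear_combination (δ 0 * δ 1 * δ 2) * hrot + hδ
  one_mem' := ⟨0, fun _ => 1, by simp, by
    ext i j; simp [mono, Matrix.one_apply]⟩
  inv_mem' {g} hg := by
    obtain ⟨s, ε, hε, hg⟩ := hg
    have hne : ∀ j, ε j ≠ 0 := fun j h => by
      fin_cases j <;> simp_all
    have h3 := mono_cube_eq s ε (fun j => cube_of_four hF (hne j)) hε
    refine ⟨s + s, fun j => ε (j + s) * ε j, ?_, ?_⟩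
    · have hrot : ε (0 + s) * ε (1 + s) * ε (2 + s) = 1 := by
        rw [← hε]
        fin_cases s <;> simp <;> ring
      linear_combination (ε 0 * ε 1 * ε 2) * hrot + hε
    · have hinv : g⁻¹ = g * g := inv_eq_of_mul_eq_one_right (Units.ext (by
        rw [Units.val_mul, Units.val_mul, hg, ← mul_assoc, h3, Units.val_one]))
      rw [hinv, Units.val_mul, hg, mono_mul]

lemma mem_E27 {hF : Fintype.card F = 2 ^ 2} {g : GL (Fin 3) F} :
    g ∈ E27 hF ↔ ∃ s ε, ε 0 * ε 1 * ε 2 = 1 ∧
      (g : Matrix (Fin 3) (Fin 3) F) = mono s ε := Iff.rfl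

omit [Fintype F] in
lemma mono_support_ne {ε : Fin 3 → F} (h : ε 0 * ε 1 * ε 2 = 1) (j : Fin 3) : ε j ≠ 0 := by
  intro h0
  fin_cases j <;> simp_all

lemma E27_cube (hF : Fintype.card F = 2 ^ 2) {g : GL (Fin 3) F} (hg : g ∈ E27 hF) :
    g ^ 3 = 1 := by
  obtain ⟨s, ε, hε, hg⟩ := hg
  refine Units.ext ?_
  rw [pow_succ, pow_succ, pow_one, Units.val_mul, Units.val_mul, hg,
    mono_cube_eq s ε (fun j => cube_of_four hF (mono_support_ne hε j)) hε, Units.val_one]

lemma E27_le_U3 (hF : Fintype.card F = 2 ^ 2) : E27 hF ≤ U3 F := by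
  rintro g ⟨s, ε, hε, hg⟩
  refine mem_GU.2 fun u v => ?_
  rw [hg]
  simp only [Cfsg.hermForm]
  rw [← Equiv.sum_comp (Equiv.addRight s)]
  refine Finset.sum_congr rfl fun j _ => ?_
  simp only [Equiv.coe_addRight, mono_mulVec]
  linear_combination (u j * v j ^ 2) * cube_of_four hF (mono_support_ne hε j)

/-- An element fixing the zero class is monomial. -/
lemma exists_support_of_fix (hF : Fintype.card F = 2 ^ 2) {g : GL (Fin 3) F} (hg : g ∈ U3 F)
    (hfix : clsMap g 0 = 0) :
    ∃ (p : Equiv.Perm (Fin 3)) (ε : Fin 3 → F), (∀ j, ε j ≠ 0) ∧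
      ∀ i j, (g : Matrix (Fin 3) (Fin 3) F) i j = if i = p j then ε j else 0 := by
  classical
  have hs : ∀ j : Fin 3, ∃ i, (g : Matrix (Fin 3) (Fin 3) F) i j ≠ 0 ∧
      ∀ k, k ≠ i → (g : Matrix (Fin 3) (Fin 3) F) k j = 0 := by
    intro j
    have hej : Cfsg.hermForm 3 F 2 (Pi.single j 1) (Pi.single j 1) ≠ 0 := by
      fin_cases j <;> simp [herm3_eq]
    have h0 : cls (Pi.single j (1 : F) : Fin 3 → F) = 0 :=
      cls_single (i := j) fun k hk => Pi.single_eq_of_ne hk _
    have h1 := clsMap_apply hF hg hej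
    rw [h0, hfix] at h1
    rcases aniso_support hF (aniso_image hg hej) with h | ⟨i, hi, h⟩
    · exact absurd h1.symm (cls_ne_zero h)
    · rw [Matrix.mulVec_single_one] at hi h
      exact ⟨i, hi, h⟩
  choose p hp hp' using hs
  have hinj : Function.Injective p := by
    intro j k hjk
    by_contra hne
    have horth := mem_GU.1 hg (Pi.single j 1) (Pi.single k 1)
    rw [Matrix.mulVec_single_one, Matrix.mulVec_single_one] at horth
    simp only [Cfsg.hermForm] at horth
    rw [Finset.sum_eq_single (p j) (fun i _ hi => by simp [Matrix.col, hp' j i hi]) (by simp)]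
      at horth
    rw [Finset.sum_eq_zero (s := Finset.univ) (f := fun i => (Pi.single j 1 : Fin 3 → F) i *
      (Pi.single k 1 : Fin 3 → F) i ^ 2) (fun i _ => by
        by_cases hi : i = j
        · subst hi; simp [hne]
        · simp [hi])] at horth
    rcases mul_eq_zero.1 horth with h | h
    · exact hp j h
    · rw [hjk] at h; exact hp k (pow_eq_zero_iff two_ne_zero |>.1 h)
  refine ⟨Equiv.ofBijective p (Finite.injective_iff_bijective.1 hinj),
    fun j => (g : Matrix (Fin 3) (Fin 3) F) (p j) j, hp, fun i j => ?_⟩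
  simp only [Equiv.ofBijective_apply]
  split <;> rename_i h
  · rw [h]
  · exact hp' j i h

/-- A perfect group of isometries of the plane is trivial. -/
theorem perfect_U3_eq_bot (hF : Fintype.card F = 2 ^ 2) {P : Subgroup (GL (Fin 3) F)}
    (hP : P ≤ U3 F) (hperf : ⁅P, P⁆ = P) : P = ⊥ := by
  classical
  have key : ∀ {G : Type} [Group G] [Group.IsSolvable G] (φ : P →* G), ∀ x, φ x = 1 := by
    intro G _ _ φ x
    have htop : ⁅(⊤ : Subgroup P), (⊤ : Subgroup P)⁆ = ⊤ := by
      apply Subgroup.map_injective P.subtype_injective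
      rw [Subgroup.map_commutator, ← MonoidHom.range_eq_map, Subgroup.range_subtype, hperf]
    have : Group.IsSolvable φ.range := inferInstance
    by_contra hx
    have : Nontrivial φ.range := ⟨⟨⟨φ x, x, rfl⟩, 1, fun h => hx (congrArg Subtype.val h)⟩⟩
    refine (Group.IsSolvable.commutator_lt_top_of_nontrivial φ.range).ne ?_
    apply Subgroup.map_injective φ.range.subtype_injective
    rw [commutator_def, Subgroup.map_commutator, ← MonoidHom.range_eq_map, Subgroup.range_subtype]
    conv_rhs => rw [MonoidHom.range_eq_map, ← htop, Subgroup.map_commutator, ← MonoidHom.range_eq_map]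
  have hcard : Fintype.card F = 4 := hF
  let e : F ≃ Fin 4 := Fintype.equivFinOfCardEq hcard
  have : Group.IsSolvable (Equiv.Perm (Fin 4)) :=
    CfsgLib.CharTheory.isSolvable_of_card_two_primes Nat.prime_two Nat.prime_three
      (a := 3) (b := 1) (by rw [Nat.card_perm, Nat.card_eq_fintype_card, Fintype.card_fin]; rfl)
  have : Group.IsSolvable (Equiv.Perm (Fin 3)) :=
    CfsgLib.CharTheory.isSolvable_of_card_two_primes Nat.prime_two Nat.prime_three
      (a := 1) (b := 1) (by rw [Nat.card_perm, Nat.card_eq_fintype_card, Fintype.card_fin]; rfl)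
  have hfix : ∀ x : P, clsMap (x : GL (Fin 3) F) 0 = 0 := by
    intro x
    have h := key ((e.permCongrHom.toMonoidHom).comp ((clsHom hF).comp (Subgroup.inclusion hP))) x
    have h' : clsHom hF (Subgroup.inclusion hP x) = 1 := e.permCongrHom.injective (by
      rw [map_one]; exact h)
    exact Equiv.congr_fun h' 0
  choose p ε hε hpe using fun x : P => exists_support_of_fix hF (hP x.2) (hfix x)
  have hsupp : ∀ (x : P) (i j : Fin 3), ((x : GL (Fin 3) F) : Matrix (Fin 3) (Fin 3) F) i j ≠ 0 → p x j = i := by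
    intro x i j h
    rw [hpe] at h
    by_contra hne
    exact h (if_neg (Ne.symm hne))
  let ψ : P →* Equiv.Perm (Fin 3) :=
    { toFun := p
      map_one' := Equiv.ext fun j => hsupp 1 _ j (by simp)
      map_mul' := fun x y => Equiv.ext fun j => hsupp (x * y) _ j (by
        rw [show ((x * y : P) : GL (Fin 3) F) = x * y from rfl, Units.val_mul, Matrix.mul_apply,
          Finset.sum_eq_single (p y j) (fun k _ hk => by rw [hpe y, if_neg hk, mul_zero]) (by simp)]
        rw [hpe, hpe, Equiv.Perm.mul_apply, if_pos rfl, if_pos rfl]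
        exact mul_ne_zero (hε x _) (hε y j)) }
  have hdiag : ∀ x : P, ((x : GL (Fin 3) F) : Matrix (Fin 3) (Fin 3) F) = Matrix.diagonal (ε x) := by
    intro x
    have h : p x = 1 := key ψ x
    ext i j
    rw [hpe, h, Equiv.Perm.one_apply]
    by_cases hij : i = j
    · subst hij; simp
    · simp [hij]
  have hab : ∀ x y : GL (Fin 3) F, x ∈ P → y ∈ P → x * y = y * x := by
    intro x y hx hy
    refine Units.ext ?_
    rw [Units.val_mul, Units.val_mul, hdiag ⟨x, hx⟩, hdiag ⟨y, hy⟩,
      Matrix.diagonal_mul_diagonal, Matrix.diagonal_mul_diagonal]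
    simp_rw [mul_comm]
  refine (Subgroup.eq_bot_iff_forall P).2 fun x hx => ?_
  rw [← hperf] at hx
  have hle : ⁅P, P⁆ ≤ ⊥ := Subgroup.commutator_le.2 fun a ha b hb => by
    rw [Subgroup.mem_bot, commutatorElement_eq_one_iff_mul_comm]
    exact hab a b ha hb
  exact hle hx

/-- The isometries normalise the extraspecial group. -/
theorem E27_normal (hF : Fintype.card F = 2 ^ 2) {g x : GL (Fin 3) F} (hg : g ∈ U3 F)
    (hx : x ∈ E27 hF) : g * x * g⁻¹ ∈ E27 hF := by
  classical
  have hxU := E27_le_U3 hF hx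
  set y := g * x * g⁻¹ with hy
  have hyU : y ∈ U3 F := (U3 F).mul_mem ((U3 F).mul_mem hg hxU) ((U3 F).inv_mem hg)
  have hx1 : ∀ c, clsMap x c = c := by
    intro c
    obtain ⟨s, ε, hε, hxm⟩ := hx
    conv_rhs => rw [← (rep_spec hF c).2]
    rw [clsMap, hxm]
    set u := rep c
    have h := mono_mulVec s ε u
    have h0 := h 0; have h1 := h 1; have h2 := h 2
    simp only [cls]
    rcases fin_three_cases s with rfl | rfl | rfl <;> simp at h0 h1 h2 <;> rw [h0, h1, h2] <;>
      linear_combination (u 0 * u 1 * u 2) * hε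
  have hy1 : ∀ c, clsMap y c = c := fun c => by
    rw [hy, clsMap_mul hF ((U3 F).mul_mem hg hxU) ((U3 F).inv_mem hg), clsMap_mul hF hg hxU, hx1,
      ← clsMap_mul hF hg ((U3 F).inv_mem hg), mul_inv_cancel, clsMap_one hF]
  have hy3 : y ^ 3 = 1 := by rw [hy, conj_pow, E27_cube hF hx]; group
  obtain ⟨p, ε, hε, hpe⟩ := exists_support_of_fix hF hyU (hy1 0)
  have hp3 : ∀ j, p (p (p j)) = j := by
    intro j
    have h := congrArg (fun z : GL (Fin 3) F => (z : Matrix (Fin 3) (Fin 3) F) (p (p (p j))) j) hy3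
    simp only [pow_succ, pow_zero, one_mul, Units.val_mul, Units.val_one] at h
    rw [Matrix.mul_apply, Finset.sum_eq_single (p j) (fun k _ hk => by
      rw [hpe k j, if_neg hk, mul_zero]) (by simp), Matrix.mul_apply,
      Finset.sum_eq_single (p (p j)) (fun k _ hk => by rw [hpe k (p j), if_neg hk, mul_zero])
        (by simp)] at h
    by_contra hne
    rw [Matrix.one_apply_ne hne, hpe, if_pos rfl, hpe, if_pos rfl, hpe, if_pos rfl] at h
    exact mul_ne_zero (mul_ne_zero (hε _) (hε _)) (hε _) h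
  obtain ⟨s, hs⟩ : ∃ s, ∀ j, p j = j + s :=
    (by decide : ∀ p : Equiv.Perm (Fin 3), (∀ j, p (p (p j)) = j) → ∃ s, ∀ j, p j = j + s) p hp3
  have hym : (y : Matrix (Fin 3) (Fin 3) F) = mono s ε := by
    ext i j; rw [hpe, hs]; rfl
  refine ⟨s, ε, ?_, hym⟩
  have h := clsMap_apply hF hyU (u := fun _ => (1 : F)) (by
    rw [herm3_eq]
    simp only [one_pow, mul_one]
    rw [show (1 : F) + 1 + 1 = 1 by linear_combination two_zero_of_four hF]
    exact one_ne_zero)
  rw [hy1, hym] at h
  have hv := mono_mulVec s ε (fun _ => (1 : F))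
  have h0 := hv 0; have h1 := hv 1; have h2 := hv 2
  simp only [cls] at h
  rcases fin_three_cases s with rfl | rfl | rfl <;> simp at h0 h1 h2 <;> rw [h0, h1, h2] at h <;>
    linear_combination -h

lemma exists_cube_root (hF : Fintype.card F = 2 ^ 2) : ∃ w : F, w ≠ 0 ∧ w ≠ 1 := by
  by_contra h
  push Not at h
  classical
  have hle : (Finset.univ : Finset F) ⊆ {0, 1} := fun x _ => by
    by_cases hx : x = 0
    · simp [hx]
    · simp [h x hx]
  have := (Finset.card_le_card hle).trans Finset.card_le_two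
  rw [Finset.card_univ, hF] at this
  omega

/-- Every non-scalar element fails to commute with one of its conjugates. -/
theorem E27_conj_noncomm (hF : Fintype.card F = 2 ^ 2) {x : GL (Fin 3) F} (hx : x ∈ E27 hF)
    (hns : x ∉ Cfsg.Geo.scalars (Fin 3) F) :
    ∃ g ∈ U3 F, x * (g * x * g⁻¹) ≠ (g * x * g⁻¹) * x := by
  classical
  obtain ⟨w, hw0, hw1⟩ := exists_cube_root hF
  have hw3 := cube_of_four hF hw0
  have h2 := two_zero_of_four hF
  have hww : 1 + w + w ^ 2 = 0 := by
    refine mul_left_cancel₀ (sub_ne_zero.2 hw1) ?_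
    linear_combination hw3
  obtain ⟨s, ε, hε, hxm⟩ := hx
  have hne := mono_support_ne hε
  have hconst : s = 0 → ¬ ∀ j, ε j = ε 0 := by
    rintro rfl hc
    refine hns (mem_scalars.2 ⟨Units.mk0 _ (hne 0), Units.ext ?_⟩)
    rw [hxm, scalarGL_val]
    ext i j
    simp [mono, Matrix.one_apply, hc j]
  by_cases hs : s = 0
  swap
  · let d : Fin 3 → F := ![1, w, 1]
    have hd : ∀ j, d j ≠ 0 := fun j => by fin_cases j <;> simp [d, hw0]
    let g : GL (Fin 3) F := Matrix.GeneralLinearGroup.mkOfDetNeZero (mono 0 d) (by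
      rw [show mono 0 d = Matrix.diagonal d by
        ext i j; by_cases hij : i = j
        · subst hij; simp [mono]
        · simp [mono, hij], Matrix.det_diagonal]
      exact Finset.prod_ne_zero_iff.2 fun j _ => hd j)
    have hgm : (g : Matrix (Fin 3) (Fin 3) F) = mono 0 d := rfl
    have hg : g ∈ U3 F := by
      refine mem_GU.2 fun u v => ?_
      rw [hgm]
      have h := mono_mulVec 0 d
      simp only [add_zero] at h
      simp only [Cfsg.hermForm, h]
      refine Finset.sum_congr rfl fun j _ => ?_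
      linear_combination (u j * v j ^ 2) * cube_of_four hF (hd j)
    refine ⟨g, hg, fun hcomm => ?_⟩
    obtain ⟨t, δ, hδ, hym⟩ := E27_normal hF hg ⟨s, ε, hε, hxm⟩
    have h1 : mono t δ * mono 0 d = mono 0 d * mono s ε := by
      rw [← hym, ← hgm, ← hxm, ← Units.val_mul, ← Units.val_mul, inv_mul_cancel_right]
    rw [mono_mul, mono_mul] at h1
    obtain ⟨hts, h1'⟩ := mono_inj (fun j => mul_ne_zero (mono_support_ne hδ _) (hd j)) h1
    simp only [zero_add, add_zero] at hts h1'
    subst hts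
    have h2' := congrArg (fun z : GL (Fin 3) F => (z : Matrix (Fin 3) (Fin 3) F)) hcomm
    rw [Units.val_mul x, Units.val_mul _ x, hym, hxm, mono_mul, mono_mul] at h2'
    obtain ⟨-, h2''⟩ := mono_inj (fun j => mul_ne_zero (hne _) (mono_support_ne hδ _)) h2'
    have e1 : ∀ j, δ j * d j = d (j + t) * ε j := fun j => congrFun h1' j
    have e2 : ∀ j, ε (j + t) * δ j = δ (j + t) * ε j := fun j => congrFun h2'' j
    have e3 : ∀ j, d (j + t) * d (j + t) = d (j + t + t) * d j := by
      intro j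
      have hεε : ε (j + t) * ε j ≠ 0 := mul_ne_zero (hne _) (hne _)
      refine mul_left_cancel₀ hεε ?_
      linear_combination d (j + t) * d j * e2 j - d (j + t) * ε (j + t) * e1 j
        + d j * ε j * e1 (j + t)
    have a0 := e3 0; have a1 := e3 1
    rcases fin_three_cases t with rfl | rfl | rfl
    · exact hs rfl
    · simp [d] at a0; exact hw1 (by linear_combination hw3 - w * a0)
    · simp [d] at a0; exact hw1 a0.symm
  subst hs
  -- the diagonal case
  let W : Matrix (Fin 3) (Fin 3) F := !![1, 1, 1; 1, w, w ^ 2; 1, w ^ 2, w]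
  have hdet : W.det ≠ 0 := by
    rw [Matrix.det_fin_three]
    simp [W]
    intro h
    refine hw1 (mul_left_cancel₀ hw0 ?_)
    linear_combination h + w * hw3 - (w ^ 2 - w) * h2
  let g : GL (Fin 3) F := Matrix.GeneralLinearGroup.mkOfDetNeZero W hdet
  have hgm : (g : Matrix (Fin 3) (Fin 3) F) = W := rfl
  have hg : g ∈ U3 F := by
    refine mem_GU.2 fun u v => ?_
    rw [hgm]
    have hsq : ∀ a b c : F, (a + b + c) ^ 2 = a ^ 2 + b ^ 2 + c ^ 2 := fun a b c => by
      linear_combination (a * b + a * c + b * c) * h2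
    simp [W, herm3_eq, dotProduct, Fin.sum_univ_three, hsq]
    linear_combination (u 0 * v 0 ^ 2 + u 1 * v 1 ^ 2 + u 2 * v 2 ^ 2) * h2
      + (u 1 * v 1 ^ 2 + u 2 * v 2 ^ 2) * (w ^ 3 + 2) * hw3
      + (u 0 * v 1 ^ 2 + u 0 * v 2 ^ 2) * (hww + w * hw3)
      + (u 1 * v 0 ^ 2 + u 2 * v 0 ^ 2) * hww
      + (u 1 * v 2 ^ 2 + u 2 * v 1 ^ 2) * (hww + (w ^ 2 + w) * hw3)
  refine ⟨g, hg, fun hcomm => ?_⟩
  obtain ⟨t, δ, hδ, hym⟩ := E27_normal hF hg ⟨0, ε, hε, hxm⟩
  have h1 : mono t δ * W = W * mono 0 ε := by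
    rw [← hym, ← hgm, ← hxm, ← Units.val_mul, ← Units.val_mul, inv_mul_cancel_right]
  by_cases ht : t = 0
  · subst ht
    refine hconst rfl fun j => ?_
    have hrow : ∀ k, δ 0 * W 0 k = W 0 k * ε k := fun k => by
      have h := congrFun (congrFun h1 0) k
      simpa [Matrix.mul_apply, mono] using h
    have a := hrow j; have b := hrow 0
    fin_cases j <;> simp [W] at a b ⊢ <;> rw [← a, ← b]
  · refine hconst rfl fun j => ?_
    have h2' := congrArg (fun z : GL (Fin 3) F => (z : Matrix (Fin 3) (Fin 3) F)) hcomm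
    rw [Units.val_mul x, Units.val_mul _ x, hym, hxm, mono_mul, mono_mul] at h2'
    obtain ⟨-, h2''⟩ := mono_inj (fun j => mul_ne_zero (hne _) (mono_support_ne hδ _)) h2'
    have e2 : ∀ j, ε (j + t) = ε j := fun j => by
      have := congrFun h2'' j
      simp only [add_zero] at this
      exact mul_right_cancel₀ (mono_support_ne hδ j) (by linear_combination this)
    have a0 := e2 0; have a1 := e2 1; have a2 := e2 2
    rcases fin_three_cases t with rfl | rfl | rfl
    · exact absurd rfl ht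
    · have b0 : ε 1 = ε 0 := a0
      have b1 : ε 2 = ε 1 := a1
      rcases fin_three_cases j with rfl | rfl | rfl
      exacts [rfl, b0, b1.trans b0]
    · have b0 : ε 2 = ε 0 := a0
      have b1 : ε 0 = ε 1 := a1
      rcases fin_three_cases j with rfl | rfl | rfl
      exacts [rfl, b1.symm, b0]

end CfsgLib.Aschbacher
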