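import Cfsg.Agent.Lib.Aschbacher.UnitaryUnits
import Cfsg.Agent.Lib.Aschbacher.UnitaryFrame
import Cfsg.Agent.Lib.Aschbacher.UnitaryThree
import Cfsg.Agent.Lib.Aschbacher.ClassTwoTheorem
import Cfsg.Agent.Lib.Aschbacher.Factors

/-!
Aschbacher's theorem for the unitary groups over finite fields, in any dimension.
-/

set_option autoImplicit false
set_option maxHeartbeats 800000

namespace CfsgLib.Aschbacher

open Matrix Module

open scoped commutatorElement

variable {F : Type*} [Field F] [Fintype F] {n q : ℕ} {σ : F ≃+* F}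
  {H : Subgroup (GL (Fin n) F)}

/-- Class six, or a subfield. -/
theorem unit_abelian (hF : Fintype.card F = q ^ 2) (hσ : ∀ a, σ a = a ^ q)
    (hf : Cfsg.Geo.IsUnitaryForm σ (Cfsg.hermForm n F q)) (hn : 3 ≤ n)
    (hH : H ≤ Cfsg.GU n F q) (hirr : Irr H) {N : Subgroup (GL (Fin n) F)} (hNH : N ≤ H)
    (hN : AbsIrr N) (hnorm : ∀ g ∈ H, ∀ a ∈ N, g * a * g⁻¹ ∈ N)
    (hmin : ∀ M ≤ N, (∀ g ∈ H, ∀ a ∈ M, g * a * g⁻¹ ∈ M) →
      (∀ z ∈ N, z ∈ Cfsg.Geo.scalars (Fin n) F → z ∈ M) →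
      M ≤ Cfsg.Geo.scalars (Fin n) F ∨ M = N)
    (h2 : ScalarCommutators N) : InUnitClassOver q H := by
  classical
  have : NeZero n := ⟨by omega⟩
  obtain ⟨p, h, hpp, hp, hh, rfl⟩ := exists_prime_pow hF
  have : Fact p.Prime := ⟨hpp⟩
  have hF' : Fintype.card F = p ^ (2 * h) := by rw [hF, ← pow_mul, mul_comm]
  obtain ⟨r, hr, ⟨ζ, hζ⟩, -, hmk⟩ := exists_heis_of_abelian (by omega) hN hnorm hmin h2
  obtain ⟨g, hg⟩ := IsCyclic.exists_ofOrder_eq_natCard (α := Fˣ)
  rw [Nat.card_units, Nat.card_eq_fintype_card, hF'] at hg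
  have hζd : r ∣ p ^ (2 * h) - 1 := by
    have h' : orderOf ζ ∣ Fintype.card Fˣ := orderOf_dvd_card
    rwa [hζ, Fintype.card_units, hF'] at h'
  have hrp : r ≠ p := by
    rintro rfl
    have h3 := Nat.dvd_sub (dvd_pow_self r (by omega : 2 * h ≠ 0)) hζd
    rw [Nat.sub_sub_self (Nat.one_le_pow _ _ hpp.pos)] at h3
    exact hr.one_lt.ne' (Nat.dvd_one.1 h3)
  have hfour : r = 2 → ∀ j, 4 ∣ p ^ (2 * j) - 1 := by
    rintro rfl j
    obtain ⟨k, hk⟩ := hpp.odd_of_ne_two (Ne.symm hrp)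
    have h8 : p ^ 2 % 4 = 1 := by rw [hk]; ring_nf; omega
    have h9 : p ^ (2 * j) % 4 = 1 := by rw [pow_mul, Nat.pow_mod, h8, one_pow]; rfl
    have := Nat.one_le_pow (2 * j) p hpp.pos
    omega
  obtain ⟨ω, hω⟩ : ∃ ω : Fˣ, IsPrimitiveRoot ω (r * Nat.gcd 2 r) := by
    rcases hr.eq_two_or_odd' with h2' | hodd
    · obtain ⟨k, hk⟩ := hfour h2' h
      have hg4 : Nat.gcd 2 r = 2 := by rw [h2']; rfl
      have hpos : 0 < p ^ (2 * h) - 1 := by
        have : 1 < p ^ (2 * h) := Nat.one_lt_pow (by omega) hpp.one_lt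
        omega
      refine ⟨g ^ k, ?_⟩
      rw [h2', show (2 * Nat.gcd 2 2 : ℕ) = 4 from rfl]
      exact (hg ▸ IsPrimitiveRoot.orderOf g).pow hpos (by rw [hk, mul_comm])
    · exact ⟨ζ, by
        rw [Nat.Coprime.gcd_eq_one (Nat.coprime_two_left.2 hodd), mul_one, ← hζ]
        exact IsPrimitiveRoot.orderOf ζ⟩
  obtain ⟨R, D, hR, hab, hRN⟩ := hmk ω hω
  set E := r * Nat.gcd 2 r with hE
  have hEpos : 0 < E := Nat.mul_pos hr.pos (Nat.gcd_pos_of_pos_left _ (by decide))
  have : NeZero E := ⟨hEpos.ne'⟩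
  have hωF : IsPrimitiveRoot (ω : F) E := IsPrimitiveRoot.coe_units_iff.2 hω
  have hs := isSesq_of_unitary hf
  -- the multipliers
  have hmult : ∀ a ∈ R, ∃ k : ℕ, ∀ u v,
      Cfsg.hermForm n F (p ^ h) ((a : Matrix (Fin n) (Fin n) F) *ᵥ u)
        ((a : Matrix (Fin n) (Fin n) F) *ᵥ v) = (ω : F) ^ k * Cfsg.hermForm n F (p ^ h) u v := by
    intro a ha
    obtain ⟨y, hy, z, hz, hyz⟩ := Subgroup.mem_sup_of_normal_right.1 (hRN ha)
    obtain ⟨b, rfl⟩ := mem_scalars.1 hz
    set μ := (b : F) * σ b with hμ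
    have hsim : ∀ u v, Cfsg.hermForm n F (p ^ h) ((a : Matrix (Fin n) (Fin n) F) *ᵥ u)
        ((a : Matrix (Fin n) (Fin n) F) *ᵥ v) = μ * Cfsg.hermForm n F (p ^ h) u v := by
      intro u v
      rw [← hyz, mul_mulVec, mul_mulVec, scalarGL_mulVec, scalarGL_mulVec, Matrix.mulVec_smul,
        Matrix.mulVec_smul, hs.smul_left, hs.smul_right, mem_GU.1 (hH (hNH hy)), mul_assoc]
    have hpow : ∀ (j : ℕ) (u v : Fin n → F),
        Cfsg.hermForm n F (p ^ h) (((a ^ j : GL (Fin n) F) : Matrix (Fin n) (Fin n) F) *ᵥ u)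
          (((a ^ j : GL (Fin n) F) : Matrix (Fin n) (Fin n) F) *ᵥ v) =
        μ ^ j * Cfsg.hermForm n F (p ^ h) u v := by
      intro j
      induction j with
      | zero => intro u v; simp
      | succ j ih => intro u v; rw [pow_succ, mul_mulVec, mul_mulVec, ih, hsim, pow_succ, ← mul_assoc, ← mul_assoc]
    obtain ⟨-, x, hx⟩ := hf.nondegenerate (Pi.single 0 1) (by simp)
    have h1 := hpow E (Pi.single 0 1) x
    rw [D.pow_exponent ha, Units.val_one, Matrix.one_mulVec, Matrix.one_mulVec] at h1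
    have hμE : μ ^ E = 1 := mul_right_cancel₀ hx (h1.symm.trans (one_mul _).symm)
    obtain ⟨k, -, hk⟩ := hωF.eq_pow_of_pow_eq_one hμE
    exact ⟨k, fun u v => by rw [hk]; exact hsim u v⟩
  by_cases hminimal : ∀ d, 0 < d → d < 2 * h → ¬ E ∣ p ^ d - 1
  swap
  · -- a subfield contains the roots of unity
    push Not at hminimal
    obtain ⟨d, hd0, hdlt, hdn⟩ := hminimal
    have hEd : E ∣ p ^ (2 * h) - 1 := by
      rw [← hω.pow_eq_one_iff_dvd, ← hF', ← Fintype.card_units, pow_card_eq_one]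
    have hgcd : E ∣ p ^ Nat.gcd d (2 * h) - 1 := by
      rw [← Nat.pow_sub_one_gcd_pow_sub_one]
      exact Nat.dvd_gcd hdn hEd
    have hlt : Nat.gcd d (2 * h) < 2 * h := lt_of_le_of_lt (Nat.gcd_le_left _ hd0) hdlt
    obtain ⟨K, hK, hmem⟩ := exists_subfield_of_dvd (F := F) hF' (Nat.gcd_dvd_right d (2 * h))
    have hωK : (ω : F) ∈ K := by
      refine (hmem _).2 ?_
      obtain ⟨k, hk⟩ := hgcd
      have hone : (ω : F) ^ (p ^ Nat.gcd d (2 * h) - 1) = 1 := by
        rw [hk, pow_mul, hωF.pow_eq_one, one_pow]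
      rw [← Nat.sub_add_cancel (Nat.one_le_pow (Nat.gcd d (2 * h)) p hpp.pos), pow_succ, hone,
        one_mul]
    refine unit_subfield hF hσ hf (by omega) hH hirr D.absIrr hR (F₀ := K) (fun htop => ?_)
      (fun a ha => ?_) (D.realisable hωK)
    · have h1 : Nat.card K = Fintype.card F := by
        rw [htop, ← Nat.card_eq_fintype_card]
        exact Nat.card_congr Subfield.topEquiv.toEquiv
      rw [hK, hF'] at h1
      have := Nat.pow_right_injective hpp.two_le h1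
      omega
    · obtain ⟨k, hk⟩ := hmult a ha
      exact ⟨_, K.toSubring.pow_mem hωK k, hk⟩
  obtain ⟨m, hm1, hm, htype, hcz, hcard⟩ := D.type_data (by omega) hR hab
  have hh1 : r = 2 → h = 1 := by
    intro h2'
    by_contra hne
    refine hminimal 2 two_pos (by omega) ?_
    rw [hE, h2']
    exact hfour h2' 1
  refine ⟨Cfsg.Geo.subgroupNormalizer R ⊓ Cfsg.GU n F (p ^ h), ?_,
    le_inf (le_subgroupNormalizer hR) hH⟩
  iterate 7 right
  left
  refine ⟨r, R, p, 2 * h, m, hm, D.comm, htype, D.absIrr, fun a ha => ?_, hrp, ⟨hpp, hp, hF', ?_, ?_⟩, ?_,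
    rfl⟩
  · obtain ⟨k, hk⟩ := hmult a ha
    exact ⟨ω ^ k, fun u v => by rw [Units.val_pow_eq_pow_val]; exact hk u v⟩
  · rw [hcz, ← hω.pow_eq_one_iff_dvd, ← hF', ← Fintype.card_units, pow_card_eq_one]
  · rw [hcz]; exact hminimal
  · rcases hr.eq_two_or_odd' with h2' | hodd
    · refine Or.inr ⟨h2', by rw [hh1 h2'], by rw [hcz, h2']; rfl, ?_⟩
      rw [hcard, hm, h2']
      rw [show (2 * Nat.gcd 2 2 : ℕ) = 2 ^ 2 from rfl, ← pow_mul, ← pow_add]
      ring_nf
    · have hg1 : Nat.gcd 2 r = 1 := Nat.Coprime.gcd_eq_one (Nat.coprime_two_left.2 hodd)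
      refine Or.inl ⟨hodd, by rw [hcz, hg1, mul_one], hm1, ?_⟩
      rw [hcard, hg1, mul_one, hm, ← pow_mul, ← pow_succ]
      ring_nf

/-- A residual core in the unitary group. -/
theorem unit_core (hF : Fintype.card F = q ^ 2) (hσ : ∀ a, σ a = a ^ q)
    (hf : Cfsg.Geo.IsUnitaryForm σ (Cfsg.hermForm n F q)) (hn : 3 ≤ n)
    (hH : H ≤ Cfsg.GU n F q) (hirr : Irr H) {P : Subgroup (GL (Fin n) F)} (hle : P ≤ H)
    (hP : AbsIrr P) (hperf : ⁅P, P⁆ = P) (hPn : ∀ g ∈ H, ∀ a ∈ P, g * a * g⁻¹ ∈ P)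
    (hsimp : IsSimpleGroup (P ⧸ (Cfsg.Geo.scalars (Fin n) F).subgroupOf P))
    (hna : ¬ IsMulCommutative (P ⧸ (Cfsg.Geo.scalars (Fin n) F).subgroupOf P)) :
    InUnitClassOver q H ∨ Cfsg.Geo.InUnitaryResidualClass H := by
  classical
  have : Nonempty (Fin n) := ⟨⟨0, by omega⟩⟩
  have hfix := fixesForm_mono hle (fixesForm_GU hH)
  by_cases hreal : ∃ F₀ : Subfield F, F₀ ≠ ⊤ ∧
      Cfsg.Geo.RealisableOver F₀ (Cfsg.Geo.matrixSet P)
  · obtain ⟨F₀, hF₀, hreal⟩ := hreal
    exact Or.inl (unit_subfield hF hσ hf (by omega) hH hirr hP hPn hF₀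
      (fun a ha => ⟨1, F₀.one_mem, fun u v => by rw [one_mul]; exact isometry_apply hfix ha u v⟩)
      hreal)
  refine Or.inr ⟨P, ⟨hle, hPn, hperf, hsimp, hna, fun h _ hc =>
    hP.mem_scalars (commutator_mem_scalars_comm hperf hc), hP,
    fun F₀ hF₀ hr => hreal ⟨F₀, hF₀, hr⟩⟩, ?_, ?_⟩
  · rintro ⟨Q, hQ, hQfix⟩
    exact hreal (realisableOver_of_two_forms hF hσ hf hP hfix hQ.polar_bilinear hQ.nondegenerate
      (fixesForm_polar hQfix))
  · rintro ⟨g, hg, hgfix⟩
    exact hreal (realisableOver_of_two_forms hF hσ hf hP hfix hg.bilinear hg.nondegenerate hgfix)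

/-- A Hermitian multiple. -/
lemma exists_hermitian_multiple (hf : Cfsg.Geo.IsUnitaryForm σ (Cfsg.hermForm n F q)) {c : ℕ}
    [NeZero c] {G : Matrix (Fin c) (Fin c) F} {γ : F} (hG : IsUnit G) (hGt : Gᵀ = γ • G.map σ) :
    ∃ l : F, l ≠ 0 ∧ IsUnit (l • G) ∧ (l • G)ᵀ = (l • G).map σ := by
  obtain ⟨i, j, hij⟩ : ∃ i j, G i j ≠ 0 := by
    by_contra hc
    push Not at hc
    exact hG.ne_zero (Matrix.ext hc)
  have h1 : G j i = γ * σ (G i j) := congrFun (congrFun hGt i) j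
  have h2 : G i j = γ * σ (G j i) := congrFun (congrFun hGt j) i
  rw [h1, map_mul, hf.involutive] at h2
  obtain ⟨l, hl0, hl⟩ := exists_hermitian_scale_top hf.involutive hf.ne_refl
    (γ := γ) (mul_right_cancel₀ hij (by rw [one_mul, mul_assoc]; exact h2.symm))
  refine ⟨l, hl0, ?_, ?_⟩
  · have hsm : l • G = Units.mk0 l hl0 • G := rfl
    rw [hsm]; exact hG.smul _
  · ext a b
    have h3 : G b a = γ * σ (G a b) := congrFun (congrFun hGt a) b
    simp only [Matrix.transpose_apply, Matrix.smul_apply, Matrix.map_apply, smul_eq_mul, map_mul,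
      hl, h3]
    ring

omit [Fintype F] in
lemma isRefl_formOfGram_index {κ : Type} [Fintype κ] [DecidableEq κ] {G : Matrix κ κ F} {α : F} (hG : IsUnit G)
    (hα : α ≠ 0) (hsym : Gᵀ = α • G) :
    IsRefl (RingEquiv.refl F) α (Cfsg.Geo.formOfGram id G) := by
  have hsw : ∀ u v, Cfsg.Geo.formOfGram id G v u = α * Cfsg.Geo.formOfGram id G u v := by
    intro u v
    rw [formOfGram_eq, formOfGram_eq, Function.id_comp, Function.id_comp, dotProduct_comm,
      ← Matrix.vecMul_transpose, ← Matrix.dotProduct_mulVec, hsym, Matrix.smul_mulVec,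
      dotProduct_smul, smul_eq_mul]
  refine ⟨⟨fun x y v => ?_, fun c x v => ?_, fun v x y => ?_, fun c v x => ?_⟩, hsw,
    fun _ => rfl, fun v hv => ?_⟩
  · simp [formOfGram_eq, add_dotProduct]
  · simp [formOfGram_eq, smul_dotProduct]
  · simp [formOfGram_eq, Matrix.mulVec_add, dotProduct_add]
  · simp [formOfGram_eq, Matrix.mulVec_smul]
  · obtain ⟨i, hi⟩ : ∃ i, (G *ᵥ v) i ≠ 0 := by
      by_contra h
      push Not at h
      refine hv (Matrix.mulVec_injective_iff_isUnit.2 hG (?_ : G *ᵥ v = G *ᵥ 0))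
      rw [Matrix.mulVec_zero]
      exact funext h
    have h1 : Cfsg.Geo.formOfGram id G (Pi.single i 1) v ≠ 0 := by simpa [formOfGram_eq] using hi
    exact ⟨⟨_, h1⟩, ⟨Pi.single i 1, by rw [hsw]; exact mul_ne_zero hα h1⟩⟩

omit [Fintype F] in
/-- The tensor power of the alternating form is reflexive. -/
lemma isRefl_pow_form {t : ℕ} [NeZero t] :
    IsRefl (RingEquiv.refl F) ((-1 : F) ^ t) (Cfsg.Geo.formOfGram id (omegaPow F t)) := by
  have hsym := omegaPow_transpose (F := F) (t := t)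
  have hα : ((-1 : F) ^ t) ≠ 0 := pow_ne_zero _ (neg_ne_zero.2 one_ne_zero)
  exact isRefl_formOfGram_index omegaPow_isUnit hα hsym

/-- Two-dimensional factors: the group is realised over the fixed field. -/
theorem unit_factors_two (hF : Fintype.card F = q ^ 2) (hσ : ∀ a, σ a = a ^ q)
    (hf : Cfsg.Geo.IsUnitaryForm σ (Cfsg.hermForm n F q)) (hn : 3 ≤ n)
    (hH : H ≤ Cfsg.GU n F q) (hirr : Irr H) {M : Subgroup (GL (Fin n) F)} (hMH : M ≤ H)
    (hM : AbsIrr M) (hMn : ∀ g ∈ H, ∀ a ∈ M, g * a * g⁻¹ ∈ M) (hperf : M ≤ ⁅M, M⁆)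
    {t : ℕ} [NeZero t] {e : Fin n ≃ (Fin t → Fin 2)} {P : GL (Fin n) F}
    (hwr : ∀ g ∈ H, ∃ (A : Fin t → GL (Fin 2) F) (π : Equiv.Perm (Fin t)),
      g = frU e P (pureGL A * permGL 2 F π)) : InUnitClassOver q H := by
  classical
  have : Nonempty (Fin n) := ⟨⟨0, by omega⟩⟩
  set J := omegaPow F t
  have hr0 := isRefl_pow_form (F := F) (t := t)
  let π₀ : (Fin n → F) → (Fin t → Fin 2) → F := fun u =>
    (((P⁻¹ : GL (Fin n) F) : Matrix (Fin n) (Fin n) F) *ᵥ u) ∘ e.symm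
  let g : (Fin n → F) → (Fin n → F) → F := fun u v =>
    Cfsg.Geo.formOfGram id J (π₀ u) (π₀ v)
  have hπP : ∀ x, π₀ ((P : Matrix (Fin n) (Fin n) F) *ᵥ (x ∘ e)) = x := fun x => by
    simp only [π₀, inv_mulVec_cancel, Function.comp_assoc, e.self_comp_symm, Function.comp_id]
  have hπadd : ∀ u v, π₀ (u + v) = π₀ u + π₀ v := fun u v => by
    funext i; simp [π₀, Matrix.mulVec_add]
  have hπsmul : ∀ (c : F) u, π₀ (c • u) = c • π₀ u := fun c u => by
    funext i; simp [π₀, Matrix.mulVec_smul]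
  have hbil : Cfsg.Geo.IsBilinearForm g := by
    refine ⟨fun x y v => ?_, fun c x v => ?_, fun v x y => ?_, fun c v x => ?_⟩ <;>
      simp only [g, hπadd, hπsmul]
    · exact hr0.sesq.add_left _ _ _
    · exact hr0.sesq.smul_left _ _ _
    · exact hr0.sesq.add_right _ _ _
    · exact hr0.bilinear.smul_right _ _ _
  have hnd : Cfsg.Geo.IsNondegenerateForm g := by
    intro v hv
    obtain ⟨x, rfl⟩ := pullForm_surj e P v
    have hx : x ≠ 0 := fun h0 => hv (by
      rw [h0, show (0 : (Fin t → Fin 2) → F) ∘ e = 0 from rfl, Matrix.mulVec_zero])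
    obtain ⟨⟨a, ha⟩, ⟨b, hb⟩⟩ := hr0.nondeg x hx
    exact ⟨⟨(P : Matrix (Fin n) (Fin n) F) *ᵥ (a ∘ e), by simpa only [g, hπP] using ha⟩,
      ⟨(P : Matrix (Fin n) (Fin n) F) *ᵥ (b ∘ e), by simpa only [g, hπP] using hb⟩⟩
  have hsim : ∀ a ∈ H, a ∈ Cfsg.Geo.similarityGroup g := by
    intro a ha
    obtain ⟨A, π, rfl⟩ := hwr a ha
    obtain ⟨c, hc⟩ := tensorWreathStandard_le_sim (F := F) (t := t)
      (Subgroup.mul_mem _ (Subgroup.subset_closure (Or.inl (isPureTensor_pureGL A)))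
        (Subgroup.subset_closure (Or.inr (isFactorPermutation_permGL π))))
    refine ⟨c, fun u v => ?_⟩
    obtain ⟨x, rfl⟩ := pullForm_surj e P u
    obtain ⟨y, rfl⟩ := pullForm_surj e P v
    rw [frU_val, frAlg_mulVec, frAlg_mulVec]
    simp only [g, hπP, formOfGram_eq, Function.id_comp]
    rw [Matrix.mulVec_mulVec, ← Matrix.vecMul_transpose, ← Matrix.dotProduct_mulVec,
      Matrix.mulVec_mulVec, ← mul_assoc, hc, Matrix.smul_mulVec, dotProduct_smul, smul_eq_mul]
  let K : Subgroup (GL (Fin n) F) :=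
    { carrier := {a | ∀ u v, g ((a : Matrix (Fin n) (Fin n) F) *ᵥ u)
        ((a : Matrix (Fin n) (Fin n) F) *ᵥ v) = g u v}
      one_mem' := fun u v => by simp
      mul_mem' := fun {a b} ha hb u v => by rw [mul_mulVec, mul_mulVec, ha, hb]
      inv_mem' := fun {a} ha u v => by
        conv_rhs => rw [← mulVec_inv_cancel a u, ← mulVec_inv_cancel a v, ha] }
  have hK : M ≤ K := by
    refine hperf.trans (Subgroup.commutator_le.2 fun a ha b hb u v => ?_)
    obtain ⟨c, hc⟩ := hsim a (hMH ha)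
    obtain ⟨d, hd⟩ := hsim b (hMH hb)
    have hci : ∀ (a : GL (Fin n) F) (c : Fˣ),
        (∀ u v, g ((a : Matrix (Fin n) (Fin n) F) *ᵥ u) ((a : Matrix (Fin n) (Fin n) F) *ᵥ v) =
          (c : F) * g u v) →
        ∀ u v, g (((a⁻¹ : GL (Fin n) F) : Matrix (Fin n) (Fin n) F) *ᵥ u)
          (((a⁻¹ : GL (Fin n) F) : Matrix (Fin n) (Fin n) F) *ᵥ v) = ((c⁻¹ : Fˣ) : F) * g u v := by
      intro a c hc u v
      conv_rhs => rw [← mulVec_inv_cancel a u, ← mulVec_inv_cancel a v, hc, ← mul_assoc,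
        Units.inv_mul, one_mul]
    rw [commutatorElement_def, mul_mulVec, mul_mulVec, mul_mulVec, mul_mulVec, mul_mulVec,
      mul_mulVec, hc, hd, hci a c hc, hci b d hd]
    simp only [← mul_assoc]
    rw [show (c : F) * d * ((c⁻¹ : Fˣ) : F) * ((d⁻¹ : Fˣ) : F) = 1 by
      rw [← Units.val_mul, ← Units.val_mul, ← Units.val_mul, show c * d * c⁻¹ * d⁻¹ = 1 by
        rw [mul_comm c d, mul_inv_cancel_right, mul_inv_cancel], Units.val_one], one_mul]
  obtain ⟨F₀, hF₀, hreal⟩ := realisableOver_of_two_forms hF hσ hf hM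
    (fixesForm_mono hMH (fixesForm_GU hH)) hbil hnd
    (g := g) (by rintro _ ⟨a, ha, rfl⟩ u v; exact hK ha u v)
  exact unit_subfield hF hσ hf (by omega) hH hirr hM hMn hF₀
    (fun a ha => ⟨1, F₀.one_mem, fun u v => by
      rw [one_mul]; exact isometry_apply (fixesForm_GU hH) (hMH ha) u v⟩) hreal

/-- Commuting conjugates: class seven, or a subfield. -/
theorem unit_factors (hF : Fintype.card F = q ^ 2) (hσ : ∀ a, σ a = a ^ q)
    (hf : Cfsg.Geo.IsUnitaryForm σ (Cfsg.hermForm n F q)) (hn : 3 ≤ n)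
    (hH : H ≤ Cfsg.GU n F q) (hirr : Irr H) {N Q : Subgroup (GL (Fin n) F)} (hN : AbsIrr N)
    (hNH : N ≤ H) (hnorm : ∀ g ∈ H, ∀ a ∈ N, g * a * g⁻¹ ∈ N)
    (hQs : ¬ Q ≤ Cfsg.Geo.scalars (Fin n) F) (hperf : ⁅Q, Q⁆ = Q) (hQN : Q ≤ N)
    (hne : ∃ c ∈ H, Q.map (MulAut.conj c).toMonoidHom ≠ Q)
    (hcomm : ∀ c ∈ H, ∀ d ∈ H,
      Q.map (MulAut.conj c).toMonoidHom ≠ Q.map (MulAut.conj d).toMonoidHom →
        ∀ x ∈ Q.map (MulAut.conj c).toMonoidHom, ∀ y ∈ Q.map (MulAut.conj d).toMonoidHom,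
          x * y = y * x)
    (hgen : N ≤ Subgroup.closure
      (⋃ c ∈ H, (Q.map (MulAut.conj c).toMonoidHom : Set (GL (Fin n) F))) ⊔
        Cfsg.Geo.scalars (Fin n) F) : InUnitClassOver q H := by
  classical
  have : Nonempty (Fin n) := ⟨⟨0, by omega⟩⟩
  have hfix := fixesForm_GU hH
  have hr := isRefl_of_unitary hf
  obtain ⟨t, m, E, X, ht, hm, hE, hc, hscal, hX, hmem, hspan, hperm, htrans⟩ :=
    exists_family_of_factors hN hQs hne hcomm hgen
  obtain ⟨e, P, hEfac, hfr⟩ := exists_frame_of_family (by omega) (by omega) hE hc hscal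
  have : NeZero t := ⟨by omega⟩
  have : NeZero m := ⟨by omega⟩
  have hXH : ∀ i, X i ≤ H := by
    intro i
    obtain ⟨c, hcH, hXc⟩ := hX i
    rw [hXc]
    rintro _ ⟨x, hx, rfl⟩
    exact hNH (hnorm c hcH x (hQN hx))
  have hHp : ∀ g ∈ H, ∃ π : Equiv.Perm (Fin t), ∀ i k l,
      (g : Matrix (Fin n) (Fin n) F) * E i k l * ((g⁻¹ : GL (Fin n) F) : Matrix (Fin n) (Fin n) F) ∈
        Submodule.span F (Set.range fun p : Fin m × Fin m => E (π i) p.1 p.2) :=
    fun g hg => (hperm g hg).imp fun π hπ i k l => hspan _ (hπ i k l)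
  by_cases hm2 : m = 2
  · subst hm2
    let M : Subgroup (GL (Fin n) F) := Subgroup.closure
      (⋃ c ∈ H, (Q.map (MulAut.conj c).toMonoidHom : Set (GL (Fin n) F)))
    have hconjN : ∀ c ∈ H, Q.map (MulAut.conj c).toMonoidHom ≤ N := by
      rintro c hc' _ ⟨x, hx, rfl⟩
      exact hnorm c hc' x (hQN hx)
    have hsub : ∀ c ∈ H, Q.map (MulAut.conj c).toMonoidHom ≤ M := fun c hc' x hx =>
      Subgroup.subset_closure (Set.mem_iUnion₂.2 ⟨c, hc', hx⟩)
    have hMN : M ≤ N := (Subgroup.closure_le _).2 (Set.iUnion₂_subset hconjN)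
    have hMn : ∀ g ∈ H, ∀ a ∈ M, g * a * g⁻¹ ∈ M := by
      intro g hg a ha
      have hle : M ≤ M.comap (MulAut.conj g).toMonoidHom := by
        refine (Subgroup.closure_le _).2 (Set.iUnion₂_subset fun c hc' => ?_)
        rintro _ ⟨x, hx, rfl⟩
        refine hsub (g * c) (H.mul_mem hg hc') ⟨x, hx, ?_⟩
        simp [mul_assoc]
      exact hle ha
    have hMabs : AbsIrr M := by
      refine ⟨irr_iff.2 fun W hW => irr_iff.1 hN.1 W fun a ha w hw => ?_, fun A hA => hN.2 A ?_⟩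
      · obtain ⟨y, hy, z, hz, rfl⟩ := Subgroup.mem_sup_of_normal_right.1 (hgen ha)
        obtain ⟨c, rfl⟩ := mem_scalars.1 hz
        rw [mul_mulVec, scalarGL_mulVec, Matrix.mulVec_smul]
        exact W.smul_mem _ (hW y hy w hw)
      · rintro _ ⟨a, ha, rfl⟩
        obtain ⟨y, hy, z, hz, rfl⟩ := Subgroup.mem_sup_of_normal_right.1 (hgen ha)
        obtain ⟨c, rfl⟩ := mem_scalars.1 hz
        have h1 := hA _ ⟨y, hy, rfl⟩
        simp only [Units.val_mul, scalarGL_val, Matrix.mul_smul, Matrix.smul_mul, mul_one, h1]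
    have hMperf : M ≤ ⁅M, M⁆ := (Subgroup.closure_le _).2 (Set.iUnion₂_subset fun c hc' => by
      refine SetLike.coe_subset_coe.2 ?_
      rw [← hperf, Subgroup.map_commutator]
      exact Subgroup.commutator_mono (hsub c hc') (hsub c hc'))
    exact unit_factors_two hF hσ hf hn hH hirr (hMN.trans hNH) hMabs hMn hMperf (e := e) (P := P)
      fun g hg => by
        obtain ⟨π, hπ⟩ := hHp g hg
        obtain ⟨A, hA⟩ := hfr g π hπ
        exact ⟨A, π, hA⟩
  have hm3 : 3 ≤ m := by omega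
  obtain ⟨P', G, α, c₀, hc₀, hGu, hGt, hpull, hle, -, hfac⟩ :=
    herm_power_frame_form hr hEfac hfr (fun i k l => hspan i
      (hr.adj_mem_envelope (fixesForm_mono (hXH i) hfix) (hmem i k l))) hfix hHp
      (fun j => by
        obtain ⟨g, hg, hgj⟩ := htrans 0 j
        obtain ⟨π, hπ⟩ := hperm g hg
        refine ⟨g, hg, π, ?_, fun i k l => hspan _ (hπ i k l)⟩
        by_contra hne'
        let a : Fin m := ⟨0, by omega⟩
        let b : Fin m := ⟨1, by omega⟩
        have hab : a ≠ b := by simp [a, b, Fin.ext_iff]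
        obtain ⟨c1, hc1⟩ := (Submodule.mem_span_range_iff_exists_fun F).1 (hspan _ (hπ 0 a b))
        obtain ⟨c2, hc2⟩ := (Submodule.mem_span_range_iff_exists_fun F).1 (hspan _ (hgj b a))
        have hcc : Commute (∑ p, c1 p • E (π 0) p.1 p.2) (∑ p, c2 p • E j p.1 p.2) :=
          Commute.sum_left _ _ _ fun p _ => Commute.sum_right _ _ _ fun r _ =>
            ((hc _ _ hne' _ _ _ _).smul_left _).smul_right _
        rw [hc1, hc2] at hcc
        have h3 : E 0 a b * E 0 b a = E 0 b a * E 0 a b := by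
          have h4 := congrArg (fun M => ((g⁻¹ : GL (Fin n) F) : Matrix (Fin n) (Fin n) F) * M *
            (g : Matrix (Fin n) (Fin n) F)) hcc.eq
          simpa [mul_assoc] using h4
        rw [(hE 0).mul_same, (hE 0).mul_same] at h3
        have h5 := congrArg (fun M => E 0 a a * M) h3
        simp only [(hE 0).mul_same, (hE 0).mul_ne hab] at h5
        have h7 : ∀ k, E 0 k k = 0 := fun k => by
          rw [← (hE 0).mul_same k a k, ← (hE 0).mul_same k a a, h5, mul_zero, zero_mul]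
        refine one_ne_zero (show (1 : Matrix (Fin n) (Fin n) F) = 0 from ?_)
        rw [← (hE 0).sum]
        exact Finset.sum_eq_zero fun k _ => h7 k)
  obtain ⟨l, hl0, hu', hh'⟩ := exists_hermitian_multiple hf hGu hGt
  set c₁ := c₀ * (∏ _i : Fin t, l)⁻¹ with hc₁
  have hc₁0 : c₁ ≠ 0 :=
    mul_ne_zero hc₀ (inv_ne_zero (Finset.prod_ne_zero_iff.2 fun _ _ => hl0))
  have hpull' : ∀ x y, pullForm e P' (Cfsg.hermForm n F q) x y =
      c₁ * Cfsg.Geo.formOfGram σ (pureMat fun _ : Fin t => l • G) x y := by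
    intro x y
    rw [hpull, pureMat_smul, formOfGram_smul, hc₁, mul_assoc, ← mul_assoc (∏ _i : Fin t, l)⁻¹,
      inv_mul_cancel₀ (Finset.prod_ne_zero_iff.2 fun _ _ => hl0), one_mul]
  have h23 : ¬ (q = 2 ∧ m = 3) := by
    rintro ⟨rfl, rfl⟩
    obtain ⟨C, hC⟩ := exists_orthonormal hf.ne_refl hf.involutive hu' hh'
    let ρ : GL (Fin 3) F →* GL (Fin n) F :=
      (frU e P').toMonoidHom.comp
        { toFun := fun Y => pureGL (Function.update 1 0 (C * Y * C⁻¹))
          map_one' := Units.ext (by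
            show pureMat _ = (1 : Matrix (Fin t → Fin 3) (Fin t → Fin 3) F)
            convert pureMat_one (t := t) (m := 3) (F := F) using 2
            funext i
            by_cases hi : i = 0
            · subst hi; simp
            · simp [hi])
          map_mul' := fun Y Z => Units.ext (by
            show pureMat _ = pureMat _ * pureMat _
            rw [pureMat_mul]
            congr 1
            funext i
            by_cases hi : i = 0
            · subst hi; simp [mul_assoc]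
            · simp [hi]) }
    have hρ : ∀ Y : GL (Fin 3) F, (ρ Y : Matrix (Fin n) (Fin n) F) =
        frAlg e P' (factor 0 (((C * Y * C⁻¹ : GL (Fin 3) F) : Matrix (Fin 3) (Fin 3) F))) := by
      intro Y
      show ((frU e P' (pureGL _) : GL (Fin n) F) : Matrix (Fin n) (Fin n) F) = _
      rw [frU_val]
      congr 1
      show pureMat _ = pureMat _
      congr 1
      funext i
      by_cases hi : i = 0
      · subst hi; simp
      · simp [hi]
    have hρinj : Function.Injective ρ := by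
      intro Y Z h
      have h' : C * Y * C⁻¹ = C * Z * C⁻¹ := Units.ext (factor_injective (0 : Fin t)
        ((frAlg e P').injective (by rw [← hρ, ← hρ, h])))
      exact mul_left_cancel (mul_right_cancel h')
    have hrange : X 0 ≤ ρ.range := by
      intro x hx
      obtain ⟨Y, hY⟩ := span_factor (hEfac 0) (hspan 0 (mem_envelope hx))
      obtain ⟨Y', hY'⟩ := span_factor (hEfac 0) (hspan 0 (mem_envelope ((X 0).inv_mem hx)))
      have h1 : Y * Y' = 1 := factor_injective (0 : Fin t) ((frAlg e P).injective (by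
        rw [← factor_mul, map_mul, ← hY, ← hY', Units.mul_inv, factor_one, map_one]))
      obtain ⟨A', hA'⟩ := hfac 0 ⟨Y, Y', h1, mul_eq_one_comm.1 h1⟩
      refine ⟨C⁻¹ * A' * C, ?_⟩
      show frU e P' (pureGL (Function.update 1 0 (C * (C⁻¹ * A' * C) * C⁻¹))) = x
      rw [show C * (C⁻¹ * A' * C) * C⁻¹ = A' by group, ← hA']
      refine Units.ext ?_
      rw [frU_val, hY]
      congr 1
      show pureMat _ = pureMat _
      congr 1
      funext i
      by_cases hi : i = 0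
      · subst hi; simp
      · simp [hi]
    have hU : (X 0).comap ρ ≤ U3 F := by
      intro Y hY
      have hiso := isometry_gram (σ := σ) (G := c₁ • pureMat fun _ : Fin t => l • G) (e := e)
        (P := P') (f := Cfsg.hermForm n F 2) (fun x z => by rw [hpull', formOfGram_smul])
        (g := ρ Y) (hρ Y) (isometry_apply hfix (hXH 0 hY))
      rw [Matrix.mul_smul, Matrix.smul_mul] at hiso
      have hiso' := smul_right_injective _ hc₁0 hiso
      rw [factor_map, factor, pureMat_transpose, factor, pureMat_mul, pureMat_mul] at hiso'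
      set B := ((C * Y * C⁻¹ : GL (Fin 3) F) : Matrix (Fin 3) (Fin 3) F) with hB
      have hupd : ((fun i => (Function.update (1 : Fin t → Matrix (Fin 3) (Fin 3) F) 0 B i)ᵀ) *
          fun _ => l • G) * Function.update (1 : Fin t → Matrix (Fin 3) (Fin 3) F) 0 (B.map σ) =
          Function.update (fun _ : Fin t => l • G) 0 (Bᵀ * (l • G) * B.map σ) := by
        funext i
        by_cases hi : i = 0
        · subst hi; simp
        · simp [hi]
      rw [hupd] at hiso'
      obtain ⟨z, hz⟩ := pureMat_eq_imp (fun i => by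
        by_cases hi : i = 0
        · subst hi
          rw [Function.update_self, hB]
          exact ((((Matrix.isUnit_transpose _).2 (C * Y * C⁻¹).isUnit).mul hu').mul
            ((C * Y * C⁻¹).isUnit.map σ.toRingHom.mapMatrix)).ne_zero
        · rw [Function.update_of_ne hi]; exact hu'.ne_zero) hiso' 0
      rw [Function.update_self] at hz
      have hz1 : z = 1 := by
        rw [hz, show Function.update (fun _ : Fin t => l • G) 0 (z • (l • G)) =
          fun i => (if i = 0 then z else 1) • (l • G) from funext fun i => by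
            by_cases hi : i = 0
            · subst hi; simp
            · simp [hi],
          pureMat_smul, Finset.prod_ite_eq' Finset.univ (0 : Fin t) fun _ => z,
          if_pos (Finset.mem_univ _)] at hiso'
        exact smul_cancel_matrix (pureMat_ne_zero fun _ => hu'.ne_zero)
          (hiso'.trans (one_smul F _).symm)
      rw [hz1, one_smul] at hz
      set Cm := (C : Matrix (Fin 3) (Fin 3) F)
      set Ym := (Y : Matrix (Fin 3) (Fin 3) F)
      have hBC : B * Cm = Cm * Ym := by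
        rw [hB, ← Units.val_mul, inv_mul_cancel_right, Units.val_mul]
      have hY1 : Ymᵀ * Ym.map σ = 1 := by
        calc Ymᵀ * Ym.map σ = Ymᵀ * (Cmᵀ * (l • G) * Cm.map σ) * Ym.map σ := by rw [hC, mul_one]
          _ = (Cm * Ym)ᵀ * (l • G) * (Cm * Ym).map σ := by
            rw [Matrix.transpose_mul, Matrix.map_mul]; simp only [mul_assoc]
          _ = Cmᵀ * (Bᵀ * (l • G) * B.map σ) * Cm.map σ := by
            rw [← hBC, Matrix.transpose_mul, Matrix.map_mul]; simp only [mul_assoc]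
          _ = 1 := by rw [hz, hC]
      show Y ∈ Cfsg.GU 3 F 2
      refine mem_GU.2 fun u v => ?_
      show ∑ i, (Ym *ᵥ u) i * (Ym *ᵥ v) i ^ 2 = ∑ i, u i * v i ^ 2
      simp only [← hσ]
      show (Ym *ᵥ u) ⬝ᵥ ((σ : F → F) ∘ (Ym *ᵥ v)) = u ⬝ᵥ ((σ : F → F) ∘ v)
      rw [comp_mulVec, ← Matrix.vecMul_transpose, ← Matrix.dotProduct_mulVec, Matrix.mulVec_mulVec,
        hY1, Matrix.one_mulVec]
    obtain ⟨c', hc'H, hXc⟩ := hX 0
    have hmap : ((X 0).comap ρ).map ρ = X 0 := Subgroup.map_comap_eq_self hrange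
    have hcperf : ⁅(X 0).comap ρ, (X 0).comap ρ⁆ = (X 0).comap ρ := by
      apply Subgroup.map_injective hρinj
      rw [Subgroup.map_commutator, hmap, hXc, ← Subgroup.map_commutator, hperf]
    apply hQs
    intro x hx
    have hbot := perfect_U3_eq_bot hF hU hcperf
    rw [hbot, Subgroup.map_bot, hXc] at hmap
    have h1 : MulAut.conj c' x ∈ (⊥ : Subgroup (GL (Fin n) F)) :=
      hmap ▸ Subgroup.mem_map_of_mem _ hx
    rw [(MulAut.conj c').injective ((Subgroup.mem_bot.1 h1).trans (map_one _).symm)]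
    exact Subgroup.one_mem _
  have hfun : (fun x : F => x ^ q) = (σ : F → F) := funext fun x => (hσ x).symm
  refine ⟨Cfsg.Geo.tensorWreathSubgroup m t e P' ⊓ Cfsg.GU n F q, ?_, le_inf hle hH⟩
  iterate 10 right
  refine ⟨m, t, e, P', _, hm3, ht, h23, unitaryFormPow_formOfGram hσ hf.involutive hu' hh',
    ⟨c₁, hc₁0, fun x y => ?_⟩, rfl⟩
  rw [hfun, gramMatrix_formOfGram]
  exact hpull' x y

/-- **Aschbacher's theorem** for the unitary groups. -/
theorem unit_aschbacher (hF : Fintype.card F = q ^ 2) (hn : 3 ≤ n) (hH : H ≤ Cfsg.GU n F q) :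
    InUnitClassOver q H ∨ Cfsg.Geo.InUnitaryResidualClass H := by
  classical
  obtain ⟨σ, hσ, hf⟩ := exists_unitary_hermForm (n := n) hF
  have : NeZero n := ⟨by omega⟩
  have : Nonempty (Fin n) := ⟨⟨0, by omega⟩⟩
  have hr := isRefl_of_unitary hf
  have hfix := fixesForm_GU hH
  have hcard : 1 < Fintype.card (Fin n) := by rw [Fintype.card_fin]; omega
  by_cases hirr : Irr H
  swap
  · left
    rcases reducible_form hr hfix hirr with ⟨W, hWb, -, hts, hle⟩ | ⟨W, hWb, -, hnd, hlt, hle⟩ |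
      ⟨k, D, -, hD, hle⟩
    · exact ⟨_, Or.inl ⟨W, hWb, hts, rfl⟩, le_inf hle hH⟩
    · rw [Fintype.card_fin] at hlt
      exact ⟨_, Or.inr (Or.inl ⟨W, hWb, hnd, by omega, rfl⟩), le_inf hle hH⟩
    · exact ⟨_, Or.inr (Or.inr (Or.inl ⟨2, k, D, hD, rfl⟩)), le_inf hle hH⟩
  rcases unit_trichotomy hF hσ hf hH hirr (A := H) le_rfl
      (fun g hg a ha => H.mul_mem (H.mul_mem hg ha) (H.inv_mem hg)) with h | hs | -
  · exact Or.inl h
  · exact absurd hs (not_le_scalars_of_irr hcard hirr)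
  obtain ⟨N, ⟨hNH, hNn, hNZ, hNs⟩, hNmin⟩ := (Set.toFinite {N : Subgroup (GL (Fin n) F) |
    N ≤ H ∧ (∀ g ∈ H, ∀ a ∈ N, g * a * g⁻¹ ∈ N) ∧ H ⊓ Cfsg.Geo.scalars (Fin n) F ≤ N ∧
      ¬ N ≤ Cfsg.Geo.scalars (Fin n) F}).exists_minimal
    ⟨H, le_rfl, fun g hg a ha => H.mul_mem (H.mul_mem hg ha) (H.inv_mem hg), inf_le_left,
      not_le_scalars_of_irr hcard hirr⟩
  have hmin : ∀ M ≤ N, (∀ g ∈ H, ∀ a ∈ M, g * a * g⁻¹ ∈ M) →
      (∀ z ∈ N, z ∈ Cfsg.Geo.scalars (Fin n) F → z ∈ M) →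
      M ≤ Cfsg.Geo.scalars (Fin n) F ∨ M = N := by
    intro M hMN hMn hMZ
    by_cases hMs : M ≤ Cfsg.Geo.scalars (Fin n) F
    · exact Or.inl hMs
    · exact Or.inr (le_antisymm hMN (hNmin ⟨hMN.trans hNH, hMn,
        fun z hz => hMZ z (hNZ hz) hz.2, hMs⟩ hMN))
  rcases unit_trichotomy hF hσ hf hH hirr hNH hNn with h | hs | hNabs
  · exact Or.inl h
  · exact absurd hs hNs
  by_cases h2 : ∀ a ∈ N, ∀ b ∈ N, a * b * a⁻¹ * b⁻¹ ∈ Cfsg.Geo.scalars (Fin n) F
  · exact Or.inl (unit_abelian hF hσ hf hn hH hirr hNH hNabs hNn hmin h2)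
  rcases core_or_factors hNabs hNH hNn hmin h2 with
    ⟨hPabs, hperf, hPn, hsimp, hna⟩ | ⟨Q, hQs, hQperf, hQN, hne, hcomm, hgen⟩
  · exact unit_core hF hσ hf hn hH hirr ((Subgroup.commutator_le.2 fun a ha b hb =>
        N.mul_mem (N.mul_mem (N.mul_mem ha hb) (N.inv_mem ha)) (N.inv_mem hb)).trans hNH)
      hPabs hperf hPn hsimp hna
  · exact Or.inl (unit_factors hF hσ hf hn hH hirr hNabs hNH hNn hQs hQperf hQN hne hcomm hgen)

end CfsgLib.Aschbacher
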