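import Cfsg.Agent.Lib.Aschbacher.UnitaryProper
import Cfsg.Agent.Lib.Aschbacher.MaximalPrime

/-!
The shape of the maximal subgroups of `SU_n`, `n` an odd prime.
-/

set_option autoImplicit false

namespace CfsgLib.Aschbacher

open Matrix Module

variable {F : Type*} [Field F] [Fintype F] {n q : ℕ}

/-- Maximal subgroups of `SU_n`, `n` an odd prime. -/
theorem maximal_prime_unitary [Fact n.Prime] (hodd : Odd n) (hF : Fintype.card F = q ^ 2)
    (hsmall : 5 ≤ n ∨ 3 ≤ q) {H : Subgroup (GL (Fin n) F)}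
    (hH : Cfsg.Geo.IsMaximalIn (SUgl n F q) H) :
    (∃ W : Submodule F (Fin n → F), W ≠ ⊥ ∧
        Cfsg.Geo.IsTotallySingularFor (Cfsg.hermForm n F q) W ∧
        H = Cfsg.Geo.subspaceStabilizer W ⊓ SUgl n F q) ∨
    (∃ W : Submodule F (Fin n → F), W ≠ ⊥ ∧ Cfsg.Geo.IsNondegenerateOn (Cfsg.hermForm n F q) W ∧
        2 * finrank F W < n ∧ H = Cfsg.Geo.subspaceStabilizer W ⊓ SUgl n F q) ∨
    (∃ D : Fin n → Submodule F (Fin n → F),
        Cfsg.Geo.IsNondegenerateMDecomposition (Cfsg.hermForm n F q) 1 D ∧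
        H = Cfsg.Geo.decompositionStabilizer D ⊓ SUgl n F q) ∨
    (∃ K, Cfsg.Geo.IsFieldSubalgebra n K ∧
        Cfsg.Geo.IsAdjointClosedFor (Cfsg.hermForm n F q) K ∧
        H = Cfsg.Geo.subalgebraNormalizer K ⊓ SUgl n F q) ∨
    (∃ (F₀ : Subfield F) (r : ℕ) (B : GL (Fin n) F), r.Prime ∧
        Fintype.card F = Nat.card F₀ ^ r ∧ Odd r ∧
        Cfsg.Geo.IsFormRationalStructure (Cfsg.hermForm n F q) F₀ 1 B ∧
        H = Cfsg.Geo.subfieldSubgroup F₀ B ⊓ SUgl n F q) ∨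
    (Odd q ∧ ∃ (F₀ : Subfield F) (B : GL (Fin n) F), Fintype.card F = Nat.card F₀ ^ 2 ∧
        Cfsg.Geo.IsFormRationalStructure (Cfsg.hermForm n F q) F₀ 1 B ∧
        H = Cfsg.Geo.subfieldSubgroup F₀ B ⊓ SUgl n F q) ∨
    (∃ (p h : ℕ) (R : Subgroup (GL (Fin n) F)), p.Prime ∧ CharP F p ∧ q = p ^ h ∧ 0 < h ∧
        2 * h ∣ n - 1 ∧ n ∣ p ^ h + 1 ∧ (∀ d, 0 < d → d < 2 * h → ¬ n ∣ p ^ d - 1) ∧
        Cfsg.Geo.IsSymplecticTypeGroup n R ∧ AbsIrr R ∧ R ≤ Cfsg.GU n F q ∧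
        Nat.card R = n ^ 3 ∧ Nat.card (Subgroup.center R) = n ∧
        H = Cfsg.Geo.subgroupNormalizer R ⊓ SUgl n F q) ∨
    Cfsg.Geo.InUnitaryResidualClass H := by
  have hp : n.Prime := Fact.out
  have hn3 : 3 ≤ n := by
    obtain ⟨k, rfl⟩ := hodd
    have := hp.two_le
    omega
  obtain ⟨σ, hσ, hf⟩ := exists_unitary_hermForm (n := n) hF
  have hHf : Cfsg.Geo.FixesForm (Cfsg.Geo.matrixSet H) (Cfsg.hermForm n F q) := by
    rintro _ ⟨g, hg, rfl⟩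
    exact mem_GU.1 (hH.1.le hg).1
  rcases unitary_prime_aschbacher hodd hF hσ hf (fun g hg => (hH.1.le hg).2) hHf with
    ⟨W, h0, hts, h1, hle⟩ | ⟨W, h0, hnd, hdim, h1, hle⟩ | ⟨D, hD, hle⟩ | ⟨K, hK, hKa, hle⟩ |
    ⟨F₀, r, B, hr, hc, hq, hB, hle⟩ |
    ⟨p, h, R, hpp, hpc, hqp, hh, hdvd, hn1, hmin, hst, hRabs, hRH, hcard, hcz, h2, hle⟩ | hres
  · exact Or.inl ⟨W, h0, hts, eq_inf_of_maximal hH hle (not_SU_le_subspaceStabilizer hF hn3 h0 h1)⟩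
  · exact Or.inr (Or.inl ⟨W, h0, hnd, hdim,
      eq_inf_of_maximal hH hle (not_SU_le_subspaceStabilizer hF hn3 h0 h1)⟩)
  · exact Or.inr (Or.inr (Or.inl ⟨D, hD, eq_inf_of_maximal hH hle
      (not_SU_le_decompositionStabilizer hF hn3 (hsmall.imp_left fun h => by omega) hD.decomp)⟩))
  · exact Or.inr (Or.inr (Or.inr (Or.inl ⟨K, hK, hKa, eq_inf_of_maximal hH hle
      (not_SU_le_subalgebraNormalizer hF hn3 hK hp.one_lt)⟩)))
  · have heq := eq_inf_of_maximal hH hle (not_SU_le_subfieldSubgroup hF hn3 hodd hr hc B)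
    rcases hr.eq_two_or_odd' with h2 | hodd'
    · subst h2
      exact Or.inr (Or.inr (Or.inr (Or.inr (Or.inr (Or.inl ⟨hq rfl, F₀, B, hc, hB, heq⟩)))))
    · exact Or.inr (Or.inr (Or.inr (Or.inr (Or.inl ⟨F₀, r, B, hr, hc, hodd', hB, heq⟩))))
  · have hsm : 5 ≤ n ∨ (p ≠ 2 ∧ p ≠ 3) := by
      by_cases h5 : 5 ≤ n
      · exact Or.inl h5
      · obtain ⟨k, hk⟩ := hodd
        obtain rfl : n = 3 := by omega
        refine Or.inr ⟨?_, ?_⟩ <;> rintro rfl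
        · obtain rfl : h = 1 := by have := Nat.le_of_dvd (by norm_num) hdvd; omega
          omega
        · have : 3 ∣ 3 ^ h := dvd_pow_self 3 hh.ne'
          omega
    exact Or.inr (Or.inr (Or.inr (Or.inr (Or.inr (Or.inr (Or.inl ⟨p, h, R, hpp, hpc, hqp, hh, hdvd,
      hn1, hmin, hst, hRabs, fun g hg => (hH.1.le (hRH hg)).1, hcard, hcz,
      eq_inf_of_maximal hH hle
        (not_SU_le_normalizer_extraspecial hF hodd (p := p) hsm hRabs hcard h2)⟩))))))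
  · exact Or.inr (Or.inr (Or.inr (Or.inr (Or.inr (Or.inr (Or.inr hres))))))

/-- An isometry group member is a similarity. -/
lemma le_similarity_of_le_GU {R : Subgroup (GL (Fin n) F)} (hR : R ≤ Cfsg.GU n F q) :
    R ≤ Cfsg.Geo.similarityGroup (Cfsg.hermForm n F q) :=
  fun g hg => ⟨1, fun u v => by rw [Units.val_one, one_mul]; exact mem_GU.1 (hR hg) u v⟩

end CfsgLib.Aschbacher
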