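import Cfsg.Agent.Lib.Aschbacher.UnitaryProper
import Cfsg.Agent.Lib.Aschbacher.UnitaryPair
import Cfsg.Agent.Lib.Aschbacher.UnitaryUnits
import Cfsg.Agent.Lib.Aschbacher.ProperGeneral

/-!
The special unitary group in any dimension at least three lies in no member of the geometric
classes: everything is decided by its transvections.
-/

set_option autoImplicit false
set_option maxHeartbeats 800000

namespace CfsgLib.Aschbacher

open Matrix Module

open scoped Kronecker

variable {F : Type*} [Field F] [Fintype F] {n q : ℕ} {σ : F ≃+* F}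

/-- A subspace respected by every isotropic vector is trivial. -/
theorem isotropic_split (hF : Fintype.card F = q ^ 2) (hσ : ∀ a, σ a = a ^ q)
    (hf : Cfsg.Geo.IsUnitaryForm σ (Cfsg.hermForm n F q)) (hn : 2 ≤ n)
    {W : Submodule F (Fin n → F)}
    (hW : ∀ u, Cfsg.hermForm n F q u u = 0 →
      u ∈ W ∨ ∀ w ∈ W, Cfsg.hermForm n F q w u = 0) : W = ⊥ ∨ W = ⊤ := by
  classical
  have hs := isSesq_of_unitary hf
  have hr := isRefl_of_unitary hf
  set f := Cfsg.hermForm n F q with hfdef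
  have hmp : ∀ u, (∀ w ∈ W, f w u = 0) ↔ u ∈ perp hs W := fun u => by
    rw [mem_perp]
    exact forall₂_congr fun w _ => hr.zero_iff
  have hall : (∀ u, f u u = 0 → u ∈ W) ∨ (∀ u, f u u = 0 → u ∈ perp hs W) := by
    by_contra h
    push Not at h
    obtain ⟨⟨a, ha, haW⟩, ⟨b, hb, hbW⟩⟩ := h
    have haP : a ∈ perp hs W := (hmp a).1 ((hW a ha).resolve_left haW)
    have hbW' : b ∈ W := (hW b hb).resolve_right fun h => hbW ((hmp b).1 h)
    have hba : f b a = 0 := (hW a ha).resolve_left haW b hbW'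
    have hab : f a b = 0 := hr.zero_iff.1 hba
    rcases hW (a + b) (by rw [hs.add_left, hs.add_right, hs.add_right, ha, hb, hab, hba]; simp)
      with h | h
    · exact haW (by simpa using W.sub_mem h hbW')
    · exact hbW (by simpa using (perp hs W).sub_mem ((hmp _).1 h) haP)
  have hspan : ∀ V : Submodule F (Fin n → F), (∀ u, f u u = 0 → u ∈ V) → V = ⊤ := by
    intro V hV
    refine eq_top_iff.2 fun x _ => ?_
    rw [pi_eq_sum_univ' x]
    refine sum_mem fun i _ => V.smul_mem _ ?_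
    obtain ⟨j, hj⟩ : ∃ j : Fin n, i ≠ j := by
      have : Nontrivial (Fin n) := Fin.nontrivial_iff_two_le.2 hn
      obtain ⟨j, hj⟩ := exists_ne i
      exact ⟨j, hj.symm⟩
    obtain ⟨c, hc0, hc⟩ := exists_isotropic (n := n) hF hj
    obtain ⟨w, hw⟩ := exists_omega hF
    have hq := one_lt_q hF
    have hw1 : (w : F) ≠ 1 := fun h => by
      rw [show w = 1 from Units.ext h, orderOf_one] at hw; omega
    have hd : f (Pi.single i 1 + ((w : F) * c) • Pi.single j 1)
        (Pi.single i 1 + ((w : F) * c) • Pi.single j 1) = 0 := by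
      have hww : (w : F) * σ w = 1 := by
        rw [hσ]; exact mul_pow_q_eq_one (hw ▸ pow_orderOf_eq_one w)
      have h := hc
      simp only [← hfdef, hs.add_left, hs.add_right, hs.smul_left, hs.smul_right, map_mul] at h ⊢
      have h0 : f (Pi.single i 1) (Pi.single j 1) = 0 := by
        refine Finset.sum_eq_zero fun k _ => ?_
        by_cases hk : k = i
        · subst hk; simp [hj, zero_pow (show q ≠ 0 by omega)]
        · simp [hk]
      rw [h0, hr.zero_iff.1 h0] at h ⊢
      linear_combination h + c * σ c * f (Pi.single j 1) (Pi.single j 1) * hww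
    have h1 := V.sub_mem (V.smul_mem (w : F) (hV _ hc)) (hV _ hd)
    rw [smul_add, smul_smul, add_sub_add_right_eq_sub,
      show (w : F) • (Pi.single i (1 : F) : Fin n → F) - Pi.single i 1 =
        ((w : F) - 1) • Pi.single i 1 from by rw [sub_smul, one_smul]] at h1
    exact (V.smul_mem_iff (sub_ne_zero.2 hw1)).1 h1
  rcases hall with h | h
  · exact Or.inr (hspan W h)
  · refine Or.inl (eq_bot_iff.2 fun w hw => ?_)
    by_contra hw0
    obtain ⟨-, x, hx⟩ := hf.nondegenerate w hw0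
    exact hx ((hmp x).2 (hspan _ h ▸ Submodule.mem_top) w hw)

/-- No decomposition into subspaces of dimension at least two is preserved. -/
theorem not_SU_le_decomposition (hF : Fintype.card F = q ^ 2) (hn : 2 ≤ n) {t k : ℕ} (hk : 2 ≤ k)
    {D : Fin t → Submodule F (Fin n → F)} (hD : Cfsg.Geo.IsMDecomposition k D) :
    ¬ SUgl n F q ≤ Cfsg.Geo.decompositionStabilizer D := by
  intro hle
  obtain ⟨σ, hσ, hf⟩ := exists_unitary_hermForm (n := n) hF
  have hs := isSesq_of_unitary hf
  let i₀ : Fin t := ⟨0, by have := hD.two_le; omega⟩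
  let i₁ : Fin t := ⟨1, by have := hD.two_le; omega⟩
  have h01 : i₀ ≠ i₁ := by simp [i₀, i₁, Fin.ext_iff]
  have hne : ∀ i, D i ≠ ⊥ := fun i h => by
    have := hD.finrank_eq i
    rw [h, finrank_bot] at this
    omega
  obtain ⟨l, hl0, hl⟩ := exists_trace_zero hf
  have key := isotropic_split hF hσ hf hn (W := D i₀) fun u hu => by
    obtain ⟨T, hT, hTv⟩ := exists_transvection hσ hf hu hl
    obtain ⟨π, hπ⟩ := hle hT
    by_contra hcon
    push Not at hcon
    obtain ⟨hu', w, hw, hwu⟩ := hcon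
    let φ : (D i₀) →ₗ[F] F :=
      { toFun := fun v => Cfsg.hermForm n F q (v : Fin n → F) u
        map_add' := fun a b => hs.add_left _ _ u
        map_smul' := fun c a => hs.smul_left c _ u }
    have hker : LinearMap.ker φ ≠ ⊥ := by
      intro h
      have h1 := φ.finrank_range_add_finrank_ker
      have h2 := Submodule.finrank_le (LinearMap.range φ)
      rw [h, finrank_bot, hD.finrank_eq] at h1
      rw [finrank_self] at h2
      omega
    obtain ⟨x, hx, hx0⟩ := Submodule.exists_mem_ne_zero_of_ne_bot hker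
    have hfix : (x : Fin n → F) ∈ D (π i₀) := by
      rw [← hπ i₀]
      refine ⟨x, x.2, ?_⟩
      rw [Matrix.toLin'_apply, hTv, show Cfsg.hermForm n F q (x : Fin n → F) u = 0 from hx,
        mul_zero, zero_smul, add_zero]
    have hi : π i₀ = i₀ := by
      by_contra h
      exact hx0 (Subtype.ext (Submodule.disjoint_def.1 (hD.indep.pairwiseDisjoint h) x hfix x.2))
    have h : (T : Matrix (Fin n) (Fin n) F) *ᵥ w ∈ D i₀ := by
      have h' := hπ i₀
      rw [hi] at h'
      exact h'.le ⟨w, hw, Matrix.toLin'_apply _ _⟩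
    rw [hTv] at h
    have h2 := (D i₀).sub_mem h hw
    rw [add_sub_cancel_left] at h2
    exact hu' (((D i₀).smul_mem_iff (mul_ne_zero hl0 hwu)).1 h2)
  rcases key with h | h
  · exact hne i₀ h
  · have h2 := hD.indep.pairwiseDisjoint h01.symm
    simp only [Function.onFun, h, disjoint_top] at h2
    exact hne i₁ h2

/-- An element of a subfield group with quadratic minimal polynomial `(X - 1) ^ 2` has entries in
the subfield. -/
lemma entries_of_unipotent {F₀ : Subfield F} {N M : Matrix (Fin n) (Fin n) F} {c : F} (hc : c ≠ 0)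
    (hM : ∀ i j, M i j ∈ F₀) (hN : N = c • M) (hsq : (N - 1) * (N - 1) = 0)
    (hns : ∀ a : F, N ≠ a • (1 : Matrix (Fin n) (Fin n) F)) : ∀ i j, N i j ∈ F₀ := by
  suffices hcF : c ∈ F₀ by
    intro i j
    rw [hN, Matrix.smul_apply, smul_eq_mul]
    exact F₀.mul_mem hcF (hM i j)
  obtain ⟨τ, -, hfix⟩ := exists_frobenius_subfield F₀
  set γ := c⁻¹ with hγ
  have hγc : γ * c = 1 := inv_mul_cancel₀ hc
  have hquad : M * M - (2 * γ) • M + (γ * γ) • 1 = 0 := by
    have h1 : (γ * γ) • ((N - 1) * (N - 1)) = 0 := by rw [hsq, smul_zero]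
    rw [hN] at h1
    simp only [mul_sub, sub_mul, Matrix.smul_mul, Matrix.mul_smul, mul_one, one_mul, smul_sub,
      smul_smul] at h1
    have e1 : γ * γ * (c * c) = 1 := by linear_combination (γ * c + 1) * hγc
    have e2 : γ * γ * c = γ := by linear_combination γ * hγc
    rw [e1, e2, one_smul] at h1
    rw [← h1, two_mul, add_smul]
    abel
  have hMfix : ∀ i j, τ (M i j) = M i j := fun i j => (hfix _).2 (hM i j)
  have hdiff : ∀ i j, (γ - τ γ) *
      ((γ + τ γ) * (1 : Matrix (Fin n) (Fin n) F) i j - 2 * M i j) = 0 := by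
    intro i j
    have h1 := congrFun (congrFun hquad i) j
    simp only [Matrix.add_apply, Matrix.sub_apply, Matrix.smul_apply, smul_eq_mul, Matrix.mul_apply,
      Matrix.zero_apply] at h1
    have h2 := congrArg τ h1
    simp only [map_add, map_sub, map_mul, map_sum, map_zero, map_ofNat, hMfix] at h2
    have hone : τ ((1 : Matrix (Fin n) (Fin n) F) i j) = (1 : Matrix (Fin n) (Fin n) F) i j := by
      rw [Matrix.one_apply]; split <;> simp
    rw [hone] at h2
    linear_combination h1 - h2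
  have hγfix : τ γ = γ := by
    by_contra hne
    have h3 : ∀ i j, (γ + τ γ) * (1 : Matrix (Fin n) (Fin n) F) i j = 2 * M i j := fun i j =>
      sub_eq_zero.1 ((mul_eq_zero.1 (hdiff i j)).resolve_left (sub_ne_zero.2 (Ne.symm hne)))
    by_cases h2 : (2 : F) = 0
    · rcases Nat.eq_zero_or_pos n with rfl | hn
      · exact hns 0 (Matrix.ext fun i => i.elim0)
      have h4 := h3 ⟨0, hn⟩ ⟨0, hn⟩
      rw [Matrix.one_apply_eq, mul_one, h2, zero_mul] at h4
      exact hne (by linear_combination h4 - γ * h2)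
    · refine hns (c * ((γ + τ γ) / 2)) (Matrix.ext fun i j => ?_)
      rw [hN, Matrix.smul_apply, Matrix.smul_apply, smul_eq_mul, smul_eq_mul, mul_assoc]
      congr 1
      field_simp
      linear_combination -(h3 i j)
  have := F₀.inv_mem ((hfix _).1 hγfix)
  rwa [hγ, inv_inv] at this

/-- The subfield groups are proper. -/
theorem not_SU_le_subfield (hF : Fintype.card F = q ^ 2) (hn : 3 ≤ n) {F₀ : Subfield F} {r : ℕ}
    (hr : r.Prime) (hc : Fintype.card F = Nat.card F₀ ^ r) (P : GL (Fin n) F) :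
    ¬ SUgl n F q ≤ Cfsg.Geo.subfieldSubgroup F₀ P := by
  classical
  intro hle
  obtain ⟨σ, hσ, hf⟩ := exists_unitary_hermForm (n := n) hF
  have hs := isSesq_of_unitary hf
  have hq := one_lt_q hF
  let i : Fin n := ⟨0, by omega⟩
  let j : Fin n := ⟨1, by omega⟩
  let k : Fin n := ⟨2, by omega⟩
  have hij : i ≠ j := by simp [i, j, Fin.ext_iff]
  have hjk : j ≠ k := by simp [j, k, Fin.ext_iff]
  have hik : i ≠ k := by simp [i, k, Fin.ext_iff]
  obtain ⟨c, hc0, hiso⟩ := exists_isotropic (n := n) hF hij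
  set u := (Pi.single i 1 + c • Pi.single j 1 : Fin n → F) with hu
  have hu0 : u ≠ 0 := fun h => by simpa [hu, hij] using congrFun h i
  -- conjugated transvections have entries in the subfield
  have hmem : ∀ l, l ≠ 0 → l + σ l = 0 → ∀ a b,
      l * ((((P⁻¹ : GL (Fin n) F) : Matrix (Fin n) (Fin n) F) *ᵥ u) a *
        Cfsg.hermForm n F q ((P : Matrix (Fin n) (Fin n) F) *ᵥ Pi.single b 1) u) ∈ F₀ := by
    intro l hl0 hl a b
    obtain ⟨T, hT, hTv⟩ := exists_transvection hσ hf hiso hl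
    obtain ⟨d, M, hTM⟩ := subfield_decomp (hle hT)
    set N := ((P⁻¹ * T * P : GL (Fin n) F) : Matrix (Fin n) (Fin n) F) with hNdef
    have hN : N = (d : F) • ((Matrix.GeneralLinearGroup.map F₀.subtype M : GL (Fin n) F) :
        Matrix (Fin n) (Fin n) F) := by
      rw [hNdef, show P⁻¹ * T * P = scalarGL (Fin n) d * Matrix.GeneralLinearGroup.map F₀.subtype M from by
        rw [hTM, ← mul_assoc P⁻¹, ← scalarGL_comm d P⁻¹]; group, Units.val_mul, scalarGL_val,
        Matrix.smul_mul, one_mul]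
    have hNv : ∀ v, N *ᵥ v = v + (l * Cfsg.hermForm n F q ((P : Matrix (Fin n) (Fin n) F) *ᵥ v) u) •
        (((P⁻¹ : GL (Fin n) F) : Matrix (Fin n) (Fin n) F) *ᵥ u) := by
      intro v
      rw [hNdef, mul_mulVec, mul_mulVec, hTv, Matrix.mulVec_add, inv_mulVec_cancel,
        Matrix.mulVec_smul]
    have hsq : (N - 1) * (N - 1) = 0 := by
      refine Matrix.toLin'.injective (LinearMap.ext fun v => ?_)
      rw [Matrix.toLin'_apply, ← Matrix.mulVec_mulVec, map_zero, LinearMap.zero_apply]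
      simp only [Matrix.sub_mulVec, Matrix.one_mulVec, hNv, add_sub_cancel_left, Matrix.mulVec_smul,
        mulVec_inv_cancel, hiso, mul_zero, zero_smul, smul_zero]
    have hns : ∀ a : F, N ≠ a • (1 : Matrix (Fin n) (Fin n) F) := by
      intro a hNa
      obtain ⟨⟨y, hy⟩, -⟩ := hf.nondegenerate u hu0
      have h1 := hNv (((P⁻¹ : GL (Fin n) F) : Matrix (Fin n) (Fin n) F) *ᵥ u)
      rw [hNa, Matrix.smul_mulVec, Matrix.one_mulVec, mulVec_inv_cancel, hiso, mul_zero, zero_smul,
        add_zero] at h1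
      have ha : a = 1 := by
        by_contra hne
        have h2 : (a - 1) • (((P⁻¹ : GL (Fin n) F) : Matrix (Fin n) (Fin n) F) *ᵥ u) = 0 := by
          rw [sub_smul, one_smul, h1, sub_self]
        have h3 := (smul_eq_zero.1 h2).resolve_left (sub_ne_zero.2 hne)
        exact hu0 (mulVec_injective _ (h3.trans (Matrix.mulVec_zero _).symm))
      have h3 := hNv (((P⁻¹ : GL (Fin n) F) : Matrix (Fin n) (Fin n) F) *ᵥ y)
      rw [hNa, ha, one_smul, Matrix.one_mulVec, mulVec_inv_cancel] at h3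
      have h4 := (smul_eq_zero.1 (add_eq_left.1 h3.symm)).resolve_left (mul_ne_zero hl0 hy)
      exact hu0 (mulVec_injective _ (h4.trans (Matrix.mulVec_zero _).symm))
    have hent := entries_of_unipotent d.ne_zero
      (fun i j => ((M : Matrix (Fin n) (Fin n) F₀) i j).2) hN hsq hns a b
    have h1 := congrFun (hNv (Pi.single b 1)) a
    rw [Matrix.mulVec_single_one, Matrix.col_apply, Pi.add_apply, Pi.smul_apply, smul_eq_mul] at h1
    rw [h1] at hent
    have h2 : (Pi.single b (1 : F) : Fin n → F) a ∈ F₀ := by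
      rw [Pi.single_apply]; split
      · exact F₀.one_mem
      · exact F₀.zero_mem
    have h3 := F₀.sub_mem hent h2
    convert h3 using 1
    ring
  -- hence the fixed field of the involution lies in the subfield
  obtain ⟨l, hl0, hl⟩ := exists_trace_zero hf
  obtain ⟨a, b, hab⟩ : ∃ a b, (((P⁻¹ : GL (Fin n) F) : Matrix (Fin n) (Fin n) F) *ᵥ u) a *
      Cfsg.hermForm n F q ((P : Matrix (Fin n) (Fin n) F) *ᵥ Pi.single b 1) u ≠ 0 := by
    obtain ⟨⟨y, hy⟩, -⟩ := hf.nondegenerate u hu0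
    obtain ⟨a, ha⟩ := Function.ne_iff.1 (show ((P⁻¹ : GL (Fin n) F) : Matrix (Fin n) (Fin n) F) *ᵥ u ≠ 0
      from fun h => hu0 (mulVec_injective _ (h.trans (Matrix.mulVec_zero _).symm)))
    refine ⟨a, ?_⟩
    by_contra h
    push Not at h
    apply hy
    obtain ⟨x, rfl⟩ : ∃ x, (P : Matrix (Fin n) (Fin n) F) *ᵥ x = y := ⟨_, mulVec_inv_cancel P y⟩
    rw [pi_eq_sum_univ' x, Matrix.mulVec_sum]
    let L : (Fin n → F) →+ F :=
      AddMonoidHom.mk' (fun v => Cfsg.hermForm n F q v u) fun p q => hs.add_left p q u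
    refine (map_sum L _ _).trans (Finset.sum_eq_zero fun c _ => ?_)
    show Cfsg.hermForm n F q _ u = 0
    rw [Matrix.mulVec_smul, hs.smul_left,
      (mul_eq_zero.1 (h c)).resolve_left (by simpa using ha), mul_zero]
  have hfixF : ∀ g : F, σ g = g → g ∈ F₀ := by
    intro g hg
    rcases eq_or_ne g 0 with rfl | hg0
    · exact F₀.zero_mem
    have h1 := hmem (g * l) (mul_ne_zero hg0 hl0)
      (by rw [map_mul, hg]; linear_combination g * hl) a b
    have h2 := hmem l hl0 hl a b
    have h3 := F₀.div_mem h1 h2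
    rwa [mul_assoc g, mul_div_cancel_right₀ _ (mul_ne_zero hl0 hab)] at h3
  have hQ1 : 1 < Nat.card F₀ := Finite.one_lt_card
  have hqQ : q ≤ Nat.card F₀ := by
    obtain ⟨gg, hgg⟩ := IsCyclic.exists_ofOrder_eq_natCard (α := Fˣ)
    have h1 : orderOf (gg ^ (q + 1)) = q - 1 := by
      have h' : orderOf gg = (q - 1) * (q + 1) := by
        rw [hgg, Nat.card_units, Nat.card_eq_fintype_card, hF, mul_comm, ← Nat.sq_sub_sq, one_pow]
      rw [orderOf_pow_of_dvd (by omega) (by rw [h']; exact dvd_mul_left _ _), h',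
        Nat.mul_div_cancel _ (by omega)]
    have hmemF : ((gg ^ (q + 1) : Fˣ) : F) ∈ F₀ := by
      refine hfixF _ ?_
      rw [hσ, ← Units.val_pow_eq_pow_val]
      congr 1
      have h2 : (gg ^ (q + 1)) ^ (q - 1) = 1 := h1 ▸ pow_orderOf_eq_one _
      calc (gg ^ (q + 1)) ^ q = (gg ^ (q + 1)) ^ ((q - 1) + 1) := by rw [Nat.sub_add_cancel hq.le]
        _ = gg ^ (q + 1) := by rw [pow_succ, h2, one_mul]
    let z : F₀ := ⟨_, hmemF⟩
    have hz : z ≠ 0 := fun h => Units.ne_zero (gg ^ (q + 1)) (congrArg Subtype.val h)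
    have h2 : orderOf (Units.mk0 z hz) = q - 1 := by
      rw [← h1, ← orderOf_injective (Units.map F₀.subtype.toMonoidHom)
        (Units.map_injective Subtype.val_injective) (Units.mk0 z hz)]
      congr 1
      exact Units.ext rfl
    have h3 := Nat.le_of_dvd Nat.card_pos (h2 ▸ orderOf_dvd_natCard (Units.mk0 z hz))
    rw [Nat.card_units] at h3
    omega
  have hr2 : r = 2 := by
    by_contra hne
    have h3 : 3 ≤ r := by have := hr.two_le; omega
    have h4 : q ^ 2 < Nat.card F₀ ^ r :=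
      calc q ^ 2 ≤ Nat.card F₀ ^ 2 := Nat.pow_le_pow_left hqQ 2
        _ < Nat.card F₀ ^ r := Nat.pow_lt_pow_right hQ1 (by omega)
    omega
  subst hr2
  -- index two: a trace outside the subfield
  obtain ⟨w, hw⟩ := exists_omega hF
  have hwq : w ^ (q + 1) = 1 := hw ▸ pow_orderOf_eq_one w
  obtain ⟨τ, hτ, hτfix⟩ := exists_frobenius_subfield F₀
  have hsum : ∀ d : Fin n → Fˣ, (∀ l, l ≠ i → l ≠ j → l ≠ k → d l = 1) →
      ∑ l, (d l : F) = (n : F) + (((d i : F) - 1) + ((d j : F) - 1) + ((d k : F) - 1)) := by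
    intro d hd
    have h1 : ∑ l, (d l : F) = ∑ l, (((d l : F) - 1) + 1) := by simp
    rw [h1, Finset.sum_add_distrib, Finset.sum_const, Finset.card_univ, Fintype.card_fin,
      nsmul_one, add_comm]
    congr 1
    rw [← Finset.sum_subset (Finset.subset_univ {i, j, k}) (fun l _ hl => by
      simp only [Finset.mem_insert, Finset.mem_singleton, not_or] at hl
      rw [hd l hl.1 hl.2.1 hl.2.2, Units.val_one, sub_self])]
    rw [Finset.sum_insert (by simp [hij, hik]), Finset.sum_insert (by simp [hjk]),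
      Finset.sum_singleton, add_assoc]
  let d : Fin n → Fˣ := fun l => if l = i then w else if l = k then w⁻¹ else 1
  have hd : diagU d ∈ SUgl n F q := by
    refine diagU_mem (fun l => ?_) ?_
    · simp only [d]; split_ifs <;> simp [hwq]
    · rw [prod_three hij hjk hik (fun l h1 h2 h3 => by simp [d, h1, h3])]
      simp [d, hij.symm, hik.symm, hjk]
  let π := cyc i j k
  have hπ : (permU π : GL (Fin n) F) ∈ SUgl n F q := permU_mem (sign_cyc hij hjk)
  let e : Fin n → Fˣ := fun l => d l * (d (π l))⁻¹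
  have hE : (permU π : GL (Fin n) F) * diagU d⁻¹ * (permU π)⁻¹ = diagU fun l => (d (π l))⁻¹ := by
    rw [mul_inv_eq_iff_eq_mul]
    refine Units.ext (Matrix.toLin'.injective (LinearMap.ext fun v => funext fun l => ?_))
    simp only [Units.val_mul, Matrix.toLin'_apply, ← Matrix.mulVec_mulVec, permU_mulVec,
      Function.comp_apply, diagU_mulVec, Pi.inv_apply]
  obtain ⟨c₁, M₁, h1⟩ := subfield_decomp (hle hd)
  obtain ⟨c₂, M₂, h2⟩ := subfield_decomp (hle hπ)
  have hcom : diagU e = P * Matrix.GeneralLinearGroup.map F₀.subtype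
      (M₁ * M₂ * M₁⁻¹ * M₂⁻¹) * P⁻¹ := by
    have he : diagU e = diagU d * ((permU π : GL (Fin n) F) * diagU d⁻¹ * (permU π)⁻¹) := by
      rw [hE, diagU_mul]; rfl
    rw [he, ← diagU_inv, h1, h2, ← mul_assoc, ← mul_assoc, commutator_scalar]
    simp only [map_mul, map_inv]
    group
  have ht : (∑ l, (e l : F)) ∈ F₀ := by
    rw [← trace_diagU, hcom, trace_conj]
    exact trace_map_mem _
  obtain ⟨c1, c2, c3⟩ := cyc_apply hij hjk hik
  have hei : e i = w := by simp [e, d, π, c1, hij.symm, hjk]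
  have hej : e j = w := by simp [e, d, π, c2, hij.symm, hjk, hik.symm]
  have hek : e k = w⁻¹ * w⁻¹ := by simp [e, d, π, c3, hik.symm]
  rw [hsum e (fun l h1 h2 h3 => by simp [e, d, π, cyc_apply_other h1 h2 h3, h1, h3]), hei, hej,
    hek] at ht
  have hq0 : Nat.card F₀ = q := by
    rw [hF] at hc
    exact (Nat.pow_left_injective two_ne_zero hc).symm
  have hfix := (hτfix _).2 ht
  have hτw : τ (w : F) = (w : F)⁻¹ := by
    rw [hτ, hq0]
    exact eq_inv_of_mul_eq_one_right (mul_pow_q_eq_one hwq)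
  rw [map_add, map_natCast, map_add, map_add, map_sub, map_sub, Units.val_mul,
    Units.val_inv_eq_inv_val, map_mul, map_inv₀, map_one, hτw] at hfix
  set z := (w : F) with hz
  have hz0 : z ≠ 0 := w.ne_zero
  have key : (z - 1) ^ 3 * (z + 1) = 0 := by
    have h5 := add_left_cancel hfix
    simp only [inv_inv] at h5
    field_simp at h5
    linear_combination h5
  rcases mul_eq_zero.1 key with h | h
  · have hw1 : w = 1 := Units.ext (sub_eq_zero.1 (pow_eq_zero_iff three_ne_zero |>.1 h))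
    rw [hw1, orderOf_one] at hw; omega
  · have h2 : w ^ 2 = 1 := Units.ext (by
      rw [Units.val_pow_eq_pow_val, ← hz, eq_neg_of_add_eq_zero_left h, Units.val_one]; ring)
    have := Nat.le_of_dvd two_pos (orderOf_dvd_of_pow_eq_one h2)
    omega

omit [Fintype F] in
/-- A transvection is not a Kronecker product. -/
lemma kron_ne_transvection {a b : ℕ} (ha : 2 ≤ a) (hb : 2 ≤ b) {A : GL (Fin a) F}
    {B : GL (Fin b) F} {α β : Fin a × Fin b → F}
    (h : ∀ x y, (A : Matrix (Fin a) (Fin a) F) x.1 y.1 * (B : Matrix (Fin b) (Fin b) F) x.2 y.2 =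
      (if x = y then 1 else 0) + α x * β y)
    (hα : α ≠ 0) (hβ : β ≠ 0) (h0 : β ⬝ᵥ α = 0) : False := by
  classical
  have hrank : ∀ {κ : Type} [Fintype κ] [DecidableEq κ] (G : GL κ F) (u v : κ → F)
      {x y : κ}, x ≠ y → ((G : Matrix κ κ F) = Matrix.of fun p r => u p * v r) → False := by
    intro κ _ _ G u v x y hxy hG
    let z : κ → F := v y • Pi.single x 1 - v x • Pi.single y 1
    have hvz : v ⬝ᵥ z = 0 := by simp [z, dotProduct_sub, mul_comm]
    have hGz : (G : Matrix κ κ F) *ᵥ z = 0 := by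
      funext p
      rw [hG]
      simp only [Matrix.mulVec, dotProduct, Matrix.of_apply, mul_assoc, ← Finset.mul_sum]
      rw [show ∑ r, v r * z r = v ⬝ᵥ z from rfl, hvz, mul_zero, Pi.zero_apply]
    have hz : z = 0 := mulVec_injective G (hGz.trans (Matrix.mulVec_zero _).symm)
    have h1 : v y = 0 := by simpa [z, hxy] using congrFun hz x
    have h2 := congrFun (congrArg (fun M : Matrix κ κ F => M *ᵥ Pi.single y 1) hG)
    have h3 : (G : Matrix κ κ F) *ᵥ Pi.single y 1 = 0 := by
      funext p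
      rw [h2 p, Matrix.mulVec_single_one]
      simp [h1]
    have h4 := mulVec_injective G (h3.trans (Matrix.mulVec_zero _).symm)
    simpa using congrFun h4 y
  have hB : ∀ j l, j ≠ l → (B : Matrix (Fin b) (Fin b) F) j l = 0 := by
    intro j l hjl
    by_contra hne
    refine hrank A (fun p => α (p, j) / (B : Matrix (Fin b) (Fin b) F) j l) (fun r => β (r, l))
      (x := ⟨0, by omega⟩) (y := ⟨1, by omega⟩) (by simp [Fin.ext_iff]) (Matrix.ext fun p r => ?_)
    have := h (p, j) (r, l)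
    rw [if_neg (by simp [hjl]), zero_add] at this
    rw [Matrix.of_apply, div_mul_eq_mul_div, eq_div_iff hne]
    exact this
  have hA : ∀ i k, i ≠ k → (A : Matrix (Fin a) (Fin a) F) i k = 0 := by
    intro i k hik
    by_contra hne
    refine hrank B (fun p => α (i, p) / (A : Matrix (Fin a) (Fin a) F) i k) (fun r => β (k, r))
      (x := ⟨0, by omega⟩) (y := ⟨1, by omega⟩) (by simp [Fin.ext_iff]) (Matrix.ext fun p r => ?_)
    have := h (i, p) (k, r)
    rw [if_neg (by simp [hik]), zero_add, mul_comm] at this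
    rw [Matrix.of_apply, div_mul_eq_mul_div, eq_div_iff hne]
    exact this
  have hoff : ∀ x y, x ≠ y → α x * β y = 0 := by
    intro x y hxy
    have := h x y
    rw [if_neg hxy, zero_add] at this
    rw [← this]
    rcases not_and_or.1 (fun hh : x.1 = y.1 ∧ x.2 = y.2 => hxy (Prod.ext hh.1 hh.2)) with h' | h'
    · rw [hA _ _ h', zero_mul]
    · rw [hB _ _ h', mul_zero]
  obtain ⟨x₀, hx₀⟩ := Function.ne_iff.1 hα
  have hβ' : ∀ y, y ≠ x₀ → β y = 0 := fun y hy =>
    (mul_eq_zero.1 (hoff x₀ y (Ne.symm hy))).resolve_left hx₀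
  have : β x₀ * α x₀ = 0 := by
    rw [← h0]
    show β x₀ * α x₀ = ∑ y, β y * α y
    exact (Finset.sum_eq_single (f := fun y => β y * α y) x₀
      (fun y _ hy => by rw [hβ' y hy, zero_mul]) (fun h => absurd (Finset.mem_univ _) h)).symm
  refine hβ (funext fun y => ?_)
  by_cases hy : y = x₀
  · exact hy ▸ (mul_eq_zero.1 this).resolve_right hx₀
  · exact hβ' y hy

/-- A transvection lies in no tensor product group. -/
lemma transvection_not_tensor (hf : Cfsg.Geo.IsUnitaryForm σ (Cfsg.hermForm n F q)) {a b : ℕ}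
    (ha : 2 ≤ a) (hb : 2 ≤ b) {e : Fin n ≃ Fin a × Fin b} {P : GL (Fin n) F} {u : Fin n → F}
    (hu0 : u ≠ 0) (hu : Cfsg.hermForm n F q u u = 0) {l : F} (hl0 : l ≠ 0) {T : GL (Fin n) F}
    (hTv : ∀ v, (T : Matrix (Fin n) (Fin n) F) *ᵥ v = v + (l * Cfsg.hermForm n F q v u) • u) :
    T ∉ Cfsg.Geo.tensorProductSubgroup a b e P := by
  classical
  intro h
  have hs := isSesq_of_unitary hf
  rw [Cfsg.Geo.tensorProductSubgroup, map_glReindex_conj] at h
  obtain ⟨X, ⟨A, B, hX⟩, rfl⟩ := h
  set α : Fin a × Fin b → F := (((P⁻¹ : GL (Fin n) F) : Matrix (Fin n) (Fin n) F) *ᵥ u) ∘ e.symm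
    with hα
  set β : Fin a × Fin b → F := fun y =>
    l * Cfsg.hermForm n F q ((P : Matrix (Fin n) (Fin n) F) *ᵥ ((Pi.single y 1 : Fin a × Fin b → F) ∘ e)) u
    with hβ
  have hPα : (P : Matrix (Fin n) (Fin n) F) *ᵥ (α ∘ e) = u := by
    rw [hα, Function.comp_assoc, e.symm_comp_self, Function.comp_id, mulVec_inv_cancel]
  have hXv : ∀ z, (X : Matrix (Fin a × Fin b) (Fin a × Fin b) F) *ᵥ z =
      z + (l * Cfsg.hermForm n F q ((P : Matrix (Fin n) (Fin n) F) *ᵥ (z ∘ e)) u) • α := by
    intro z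
    have h1 := hTv ((P : Matrix (Fin n) (Fin n) F) *ᵥ (z ∘ e))
    change ((frU e P X : GL (Fin n) F) : Matrix (Fin n) (Fin n) F) *ᵥ _ = _ at h1
    rw [frU_val, frAlg_mulVec] at h1
    set d := l * Cfsg.hermForm n F q ((P : Matrix (Fin n) (Fin n) F) *ᵥ (z ∘ e)) u
    rw [← hPα, ← Matrix.mulVec_smul, ← Matrix.mulVec_add,
      show z ∘ e + d • (α ∘ e) = (z + d • α) ∘ e from rfl] at h1
    exact e.surjective.injective_comp_right (mulVec_injective P h1)
  refine kron_ne_transvection ha hb (A := A) (B := B) (α := α) (β := β) (fun x y => ?_) ?_ ?_ ?_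
  · have h1 := congrFun (hXv (Pi.single y 1)) x
    rw [Matrix.mulVec_single_one, Matrix.col_apply, Pi.add_apply, Pi.smul_apply, smul_eq_mul,
      Pi.single_apply, hX, Matrix.kroneckerMap_apply] at h1
    rw [h1, mul_comm (α x)]
  · intro h0
    exact hu0 (by rw [← hPα, h0, show (0 : Fin a × Fin b → F) ∘ e = 0 from rfl, Matrix.mulVec_zero])
  · intro h0
    obtain ⟨⟨y, hy⟩, -⟩ := hf.nondegenerate u hu0
    apply hy
    obtain ⟨z, rfl⟩ := pullForm_surj e P y
    have h1 : (X : Matrix (Fin a × Fin b) (Fin a × Fin b) F) = 1 := by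
      refine Matrix.ext fun p r => ?_
      have h2 := congrFun (hXv (Pi.single r 1)) p
      rw [Matrix.mulVec_single_one, Matrix.col_apply, Pi.add_apply, Pi.smul_apply, smul_eq_mul] at h2
      rw [h2, show l * Cfsg.hermForm n F q ((P : Matrix (Fin n) (Fin n) F) *ᵥ
        ((Pi.single r 1 : Fin a × Fin b → F) ∘ e)) u = 0 from congrFun h0 r, zero_mul, add_zero,
        Matrix.one_apply, Pi.single_apply]
    have h2 := hXv z
    rw [h1, Matrix.one_mulVec] at h2
    have h3 := (smul_eq_zero.1 (add_eq_left.1 h2.symm)).resolve_right (fun hα0 =>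
      hu0 (by rw [← hPα, hα0, show (0 : Fin a × Fin b → F) ∘ e = 0 from rfl, Matrix.mulVec_zero]))
    exact (mul_eq_zero.1 h3).resolve_left hl0
  · show ∑ y, β y * α y = 0
    have h1 : ∑ y, α y • (fun y => (P : Matrix (Fin n) (Fin n) F) *ᵥ
        ((Pi.single y 1 : Fin a × Fin b → F) ∘ e)) y = u := by
      conv_rhs => rw [← hPα]
      funext i
      simp only [Finset.sum_apply, Pi.smul_apply, smul_eq_mul, Matrix.mulVec, dotProduct,
        Function.comp_apply, Finset.mul_sum]
      rw [Finset.sum_comm]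
      refine Finset.sum_congr rfl fun k _ => ?_
      simp [Pi.single_apply, mul_comm]
    let L : (Fin n → F) →+ F :=
      AddMonoidHom.mk' (fun v => Cfsg.hermForm n F q v u) fun p q => hs.add_left p q u
    have h2 := congrArg L h1
    rw [map_sum] at h2
    simp only [L, AddMonoidHom.mk'_apply, hs.smul_left, hu] at h2
    calc ∑ y, β y * α y = l * ∑ y, α y * Cfsg.hermForm n F q ((P : Matrix (Fin n) (Fin n) F) *ᵥ
          ((Pi.single y 1 : Fin a × Fin b → F) ∘ e)) u := by
          rw [Finset.mul_sum]; exact Finset.sum_congr rfl fun y _ => by simp [hβ]; ring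
      _ = 0 := by rw [h2, mul_zero]

/-- The tensor product groups are proper. -/
theorem not_SU_le_tensor (hF : Fintype.card F = q ^ 2) (hn : 2 ≤ n) {a b : ℕ} (ha : 2 ≤ a)
    (hb : 2 ≤ b) (e : Fin n ≃ Fin a × Fin b) (P : GL (Fin n) F) :
    ¬ SUgl n F q ≤ Cfsg.Geo.tensorProductSubgroup a b e P := by
  intro hle
  obtain ⟨σ, hσ, hf⟩ := exists_unitary_hermForm (n := n) hF
  obtain ⟨c, hc0, hiso⟩ := exists_isotropic (n := n) hF
    (show (⟨0, by omega⟩ : Fin n) ≠ ⟨1, by omega⟩ by simp [Fin.ext_iff])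
  obtain ⟨l, hl0, hl⟩ := exists_trace_zero hf
  obtain ⟨T, hT, hTv⟩ := exists_transvection hσ hf hiso hl
  refine transvection_not_tensor hf ha hb (fun h => ?_) hiso hl0 hTv (hle hT)
  simpa [Fin.ext_iff] using congrFun h ⟨0, by omega⟩

/-- The wreathed tensor product groups with two factors are proper. -/
theorem not_SU_le_wreath_two (hF : Fintype.card F = q ^ 2) (hn : 2 ≤ n) (hq3 : 3 ≤ q) {m : ℕ}
    (hm : 2 ≤ m) (e : Fin n ≃ (Fin 2 → Fin m)) (P : GL (Fin n) F) :
    ¬ SUgl n F q ≤ Cfsg.Geo.tensorWreathSubgroup m 2 e P := by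
  classical
  intro hle
  obtain ⟨σ, hσ, hf⟩ := exists_unitary_hermForm (n := n) hF
  have hs := isSesq_of_unitary hf
  obtain ⟨c, hc0, hiso⟩ := exists_isotropic (n := n) hF
    (show (⟨0, by omega⟩ : Fin n) ≠ ⟨1, by omega⟩ by simp [Fin.ext_iff])
  set u := (Pi.single ⟨0, by omega⟩ 1 + c • Pi.single ⟨1, by omega⟩ 1 : Fin n → F)
  have hu0 : u ≠ 0 := fun h => by simpa [u, Fin.ext_iff] using congrFun h ⟨0, by omega⟩
  set e' : Fin n ≃ Fin m × Fin m := e.trans (finTwoArrowEquiv (Fin m)) with he'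
  -- pure elements lie in the tensor product group
  have hpure : ∀ A : Fin 2 → GL (Fin m) F,
      frU e P (pureGL A) ∈ Cfsg.Geo.tensorProductSubgroup m m e' P := by
    intro A
    rw [Cfsg.Geo.tensorProductSubgroup, map_glReindex_conj]
    refine ⟨kronHom m m F (A 0, A 1), ⟨A 0, A 1, kronHom_val _⟩, Units.ext ?_⟩
    show ((frU e' P _ : GL (Fin n) F) : Matrix (Fin n) (Fin n) F) = _
    rw [frU_val, frU_val, frAlg_apply, frAlg_apply, kronHom_val]
    congr 2
    ext i j
    show (A 0 : Matrix (Fin m) (Fin m) F) (e i 0) (e j 0) *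
      (A 1 : Matrix (Fin m) (Fin m) F) (e i 1) (e j 1) =
        pureMat (fun k => (A k : Matrix (Fin m) (Fin m) F)) (e i) (e j)
    rw [pureMat_apply, Fin.prod_univ_two]
  have hel : ∀ l, l + σ l = 0 → ∃ (A : Fin 2 → GL (Fin m) F) (π : Equiv.Perm (Fin 2))
      (T : GL (Fin n) F), T = frU e P (pureGL A * permGL m F π) ∧
        ∀ v, (T : Matrix (Fin n) (Fin n) F) *ᵥ v = v + (l * Cfsg.hermForm n F q v u) • u := by
    intro l hl
    obtain ⟨T, hT, hTv⟩ := exists_transvection hσ hf hiso hl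
    have h := hle hT
    rw [Cfsg.Geo.tensorWreathSubgroup, map_glReindex_conj] at h
    obtain ⟨g, hg, rfl⟩ := h
    obtain ⟨A, π, rfl⟩ := exists_pure_perm hg
    exact ⟨A, π, _, rfl, hTv⟩
  have hone : permGL m F (1 : Equiv.Perm (Fin 2)) = 1 := Units.ext permMat_one
  have hnot1 : ∀ l, l ≠ 0 → ∀ (A : Fin 2 → GL (Fin m) F) (π : Equiv.Perm (Fin 2))
      (T : GL (Fin n) F), T = frU e P (pureGL A * permGL m F π) →
        (∀ v, (T : Matrix (Fin n) (Fin n) F) *ᵥ v = v + (l * Cfsg.hermForm n F q v u) • u) →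
      π ≠ 1 := by
    rintro l hl0 A π T rfl hTv rfl
    rw [hone, mul_one] at hTv
    exact transvection_not_tensor hf hm hm hu0 hiso hl0 hTv (hpure A)
  obtain ⟨g, hg, hg0, hg1⟩ : ∃ g : F, σ g = g ∧ g ≠ 0 ∧ g ≠ -1 := by
    by_contra hcon
    push Not at hcon
    obtain ⟨gg, hgg⟩ := IsCyclic.exists_ofOrder_eq_natCard (α := Fˣ)
    have hord : orderOf gg = q ^ 2 - 1 := by
      rw [hgg, Nat.card_units, Nat.card_eq_fintype_card, hF]
    have hfix : σ ((gg ^ (q + 1) : Fˣ) : F) = ((gg ^ (q + 1) : Fˣ) : F) := by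
      rw [hσ, ← Units.val_pow_eq_pow_val, ← pow_mul]
      congr 1
      have h1 : gg ^ (q ^ 2 - 1) = 1 := hord ▸ pow_orderOf_eq_one gg
      calc gg ^ ((q + 1) * q) = gg ^ ((q ^ 2 - 1) + (q + 1)) := by
            congr 1
            have : (q + 1) * q = q ^ 2 + q := by ring
            have := Nat.one_le_pow 2 q (by omega)
            omega
        _ = gg ^ (q + 1) := by rw [pow_add, h1, one_mul]
    have h2 := hcon _ hfix (Units.ne_zero _)
    have h3 := hcon 1 (map_one σ) one_ne_zero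
    have h4 : gg ^ (q + 1) = 1 := Units.ext (h2.trans h3.symm)
    have h5 := Nat.le_of_dvd (by omega) (orderOf_dvd_of_pow_eq_one h4)
    rw [hord] at h5
    have : 3 * q ≤ q ^ 2 := by rw [pow_two]; exact Nat.mul_le_mul_right q hq3
    omega
  obtain ⟨l, hl0, hl⟩ := exists_trace_zero hf
  have hgl : g * l + σ (g * l) = 0 := by rw [map_mul, hg]; linear_combination g * hl
  obtain ⟨A₁, π₁, T₁, h₁, hv₁⟩ := hel l hl
  obtain ⟨A₂, π₂, T₂, h₂, hv₂⟩ := hel (g * l) hgl
  have hπ : π₁ * π₂ = 1 := by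
    have h1 := hnot1 l hl0 A₁ π₁ T₁ h₁ hv₁
    have h2 := hnot1 (g * l) (mul_ne_zero hg0 hl0) A₂ π₂ T₂ h₂ hv₂
    have key : ∀ a b : Equiv.Perm (Fin 2), a ≠ 1 → b ≠ 1 → a * b = 1 := by decide
    exact key π₁ π₂ h1 h2
  have hmul : T₁ * T₂ = frU e P (pureGL (A₁ * (A₂ ∘ π₁.symm))) := by
    have hswap : permGL m F π₁ * pureGL A₂ = pureGL (A₂ ∘ π₁.symm) * permGL m F π₁ :=
      Units.ext (permMat_mul_pureMat π₁ fun i => (A₂ i : Matrix (Fin m) (Fin m) F))
    have hpp : permGL m F π₁ * permGL m F π₂ = 1 := by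
      rw [← hone, ← hπ]; exact Units.ext (permMat_mul π₁ π₂)
    have hpm : pureGL A₁ * pureGL (A₂ ∘ π₁.symm) = pureGL (A₁ * (A₂ ∘ π₁.symm)) :=
      Units.ext (pureMat_mul _ _)
    rw [h₁, h₂, ← map_mul, ← hpm]
    congr 1
    calc pureGL A₁ * permGL m F π₁ * (pureGL A₂ * permGL m F π₂)
        = pureGL A₁ * (permGL m F π₁ * pureGL A₂) * permGL m F π₂ := by group
      _ = pureGL A₁ * pureGL (A₂ ∘ π₁.symm) * (permGL m F π₁ * permGL m F π₂) := by
          rw [hswap]; group
      _ = _ := by rw [hpp, mul_one]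
  have hsum : (1 + g) * l ≠ 0 := mul_ne_zero (fun h => hg1 (by linear_combination h)) hl0
  refine transvection_not_tensor hf hm hm hu0 hiso hsum (T := T₁ * T₂) (fun v => ?_)
    (hmul ▸ hpure _)
  rw [mul_mulVec, hv₂, hv₁, hs.add_left, hs.smul_left, hiso, mul_zero, add_zero, add_assoc,
    ← add_smul]
  congr 2
  ring

/-- The normalisers of irreducible groups with scalar commutators are proper. -/
theorem not_SU_le_normalizer (hF : Fintype.card F = q ^ 2) (hn : 5 ≤ n)
    {R : Subgroup (GL (Fin n) F)} (hR : AbsIrr R) (h2 : ScalarCommutators R) :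
    ¬ SUgl n F q ≤ Cfsg.Geo.subgroupNormalizer R := by
  classical
  intro hle
  have : Nonempty (Fin n) := ⟨⟨0, by omega⟩⟩
  obtain ⟨σ, hσ, hf⟩ := exists_unitary_hermForm (n := n) hF
  have hs := isSesq_of_unitary hf
  obtain ⟨c, hc0, hiso⟩ := exists_isotropic (n := n) hF
    (show (⟨0, by omega⟩ : Fin n) ≠ ⟨1, by omega⟩ by simp [Fin.ext_iff])
  set u := (Pi.single ⟨0, by omega⟩ 1 + c • Pi.single ⟨1, by omega⟩ 1 : Fin n → F)
  have hu0 : u ≠ 0 := fun h => by simpa [u, Fin.ext_iff] using congrFun h ⟨0, by omega⟩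
  obtain ⟨l, hl0, hl⟩ := exists_trace_zero hf
  obtain ⟨T, hT, hTv⟩ := exists_transvection hσ hf hiso hl
  have hline : ∀ x ∈ R, (x : Matrix (Fin n) (Fin n) F) *ᵥ u ∈ Submodule.span F {u} := by
    intro x hx
    set y := x * T * x⁻¹ * T⁻¹ with hy
    have hyR : y ∈ R := by
      have h1 : T * x⁻¹ * T⁻¹ ∈ R := (Subgroup.mem_normalizer_iff.1 (hle hT) x⁻¹).1 (R.inv_mem hx)
      have h2 := R.mul_mem hx h1
      convert h2 using 1
      simp only [hy, mul_assoc]
    let φ : (Fin n → F) →ₗ[F] F :=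
      { toFun := fun v => Cfsg.hermForm n F q v u
        map_add' := fun a b => hs.add_left a b u
        map_smul' := fun c a => hs.smul_left c a u }
    let S : Submodule F (Fin n → F) := LinearMap.ker
      (φ.prod (φ.comp (Matrix.toLin' ((x⁻¹ : GL (Fin n) F) : Matrix (Fin n) (Fin n) F))))
    have hS : n - 2 ≤ finrank F S := by
      have h1 := (φ.prod (φ.comp (Matrix.toLin'
        ((x⁻¹ : GL (Fin n) F) : Matrix (Fin n) (Fin n) F)))).finrank_range_add_finrank_ker
      have h2 := Submodule.finrank_le (LinearMap.range (φ.prod (φ.comp (Matrix.toLin'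
        ((x⁻¹ : GL (Fin n) F) : Matrix (Fin n) (Fin n) F)))))
      rw [Module.finrank_fintype_fun_eq_card, Fintype.card_fin] at h1
      rw [finrank_prod, finrank_self] at h2
      show n - 2 ≤ finrank F (LinearMap.ker _)
      omega
    have hTfix : ∀ v, Cfsg.hermForm n F q v u = 0 → (T : Matrix (Fin n) (Fin n) F) *ᵥ v = v :=
      fun v hv => by rw [hTv, hv, mul_zero, zero_smul, add_zero]
    have hfix : ∀ v ∈ S, (y : Matrix (Fin n) (Fin n) F) *ᵥ v = v := by
      intro v hv
      simp only [S, LinearMap.mem_ker, LinearMap.prod_apply, Function.prod_apply, Prod.mk_eq_zero,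
        LinearMap.comp_apply, Matrix.toLin'_apply] at hv
      have hTi : ((T⁻¹ : GL (Fin n) F) : Matrix (Fin n) (Fin n) F) *ᵥ v = v := by
        conv_lhs => rw [← hTfix v hv.1]
        rw [inv_mulVec_cancel]
      rw [hy, mul_mulVec, mul_mulVec, mul_mulVec, hTi, hTfix _ hv.2, mulVec_inv_cancel]
    have hy1 : y = 1 := by
      have hsc : y ∈ Cfsg.Geo.scalars (Fin n) F := by
        refine hR.mem_scalars fun z hz => ?_
        obtain ⟨d, hd⟩ := h2.exists_comm hz hyR
        by_cases hd1 : (d : F) = 1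
        · rw [hd, show d = 1 from Units.ext hd1, scalarGL_one, one_mul]
        exfalso
        let S' : Submodule F (Fin n → F) := S.map (Matrix.toLin' (z : Matrix (Fin n) (Fin n) F))
        have hdis : S ⊓ S' = ⊥ := by
          refine eq_bot_iff.2 ?_
          rintro v ⟨hv, w, hw, rfl⟩
          have h1 := hfix _ hv
          rw [Matrix.toLin'_apply] at h1 ⊢
          have h3 := congrArg (fun g : GL (Fin n) F => (g : Matrix (Fin n) (Fin n) F) *ᵥ w) hd
          simp only [mul_mulVec, scalarGL_mulVec] at h3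
          rw [hfix w hw, h1] at h3
          have h4 : ((d : F) - 1) • ((z : Matrix (Fin n) (Fin n) F) *ᵥ w) = 0 := by
            rw [sub_smul, one_smul, ← h3, sub_self]
          exact (Submodule.mem_bot F).2 ((smul_eq_zero.1 h4).resolve_left (sub_ne_zero.2 hd1))
        have h1 : finrank F S' = finrank F S :=
          (Submodule.equivMapOfInjective _ (fun a b h => mulVec_injective z (by simpa using h)) S).finrank_eq.symm
        have h3 := Submodule.finrank_sup_add_finrank_inf_eq S S'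
        rw [hdis, finrank_bot, h1] at h3
        have h4 := Submodule.finrank_le (S ⊔ S')
        rw [Module.finrank_fintype_fun_eq_card, Fintype.card_fin] at h4
        omega
      obtain ⟨d, hd⟩ := mem_scalars.1 hsc
      have hSne : S ≠ ⊥ := fun h => by rw [h, finrank_bot] at hS; omega
      obtain ⟨v, hv, hv0⟩ := Submodule.exists_mem_ne_zero_of_ne_bot hSne
      have h1 := hfix v hv
      rw [hd, scalarGL_mulVec] at h1
      have hd1 : (d : F) = 1 := by
        by_contra hne
        refine hv0 ((smul_eq_zero.1 (?_ : ((d : F) - 1) • v = 0)).resolve_left (sub_ne_zero.2 hne))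
        rw [sub_smul, one_smul, h1, sub_self]
      rw [hd, show d = 1 from Units.ext hd1, scalarGL_one]
    obtain ⟨⟨v, hv⟩, -⟩ := hf.nondegenerate u hu0
    have hcomm : x * T = T * x := by
      have : x * T * x⁻¹ * T⁻¹ = 1 := hy1
      rwa [mul_inv_eq_one, mul_inv_eq_iff_eq_mul] at this
    have h3 := congrArg (fun g : GL (Fin n) F => (g : Matrix (Fin n) (Fin n) F) *ᵥ v) hcomm
    simp only [mul_mulVec, hTv, Matrix.mulVec_add, Matrix.mulVec_smul, add_right_inj] at h3
    refine Submodule.mem_span_singleton.2 ⟨(l * Cfsg.hermForm n F q v u)⁻¹ *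
      (l * Cfsg.hermForm n F q ((x : Matrix (Fin n) (Fin n) F) *ᵥ v) u), ?_⟩
    rw [← smul_smul, ← h3, smul_smul, inv_mul_cancel₀ (mul_ne_zero hl0 hv), one_smul]
  rcases irr_iff.1 hR.1 (Submodule.span F {u}) (fun a ha w hw => by
    obtain ⟨d, rfl⟩ := Submodule.mem_span_singleton.1 hw
    rw [Matrix.mulVec_smul]
    exact Submodule.smul_mem _ _ (hline a ha)) with h | h
  · exact hu0 (Submodule.span_singleton_eq_bot.1 h)
  · have h1 := congrArg (fun V : Submodule F (Fin n → F) => finrank F V) h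
    rw [finrank_span_singleton hu0, finrank_top, Module.finrank_fin_fun] at h1
    omega

end CfsgLib.Aschbacher
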