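import Cfsg.Agent.Lib.Aschbacher.UnitaryThree
import Cfsg.Agent.Lib.Aschbacher.UnitaryPair
import Cfsg.Agent.Lib.Aschbacher.SympSmall

/-!
The Hermitian plane over four elements has exactly two anisotropic lines: decompositions into
planes refine to frames, and tensor factors of dimension two give two orthogonal subspaces.
-/

set_option autoImplicit false
set_option maxHeartbeats 800000

namespace CfsgLib.Aschbacher

open Matrix Module

open scoped Kronecker

variable {F : Type*} [Field F] [Fintype F] {n : ℕ} {σ : F ≃+* F}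

/-- Two orthogonal anisotropic vectors carry all anisotropic vectors of their plane. -/
lemma two_lines (hF : Fintype.card F = 2 ^ 2) (hσ : ∀ a, σ a = a ^ 2) {ι : Type} [Fintype ι]
    [DecidableEq ι] {f : (ι → F) → (ι → F) → F} (hf : Cfsg.Geo.IsUnitaryForm σ f) {w₀ w₁ : ι → F}
    (h01 : f w₀ w₁ = 0) (h0 : f w₀ w₀ ≠ 0) (h1 : f w₁ w₁ ≠ 0) {a b : F}
    (h : f (a • w₀ + b • w₁) (a • w₀ + b • w₁) ≠ 0) : a = 0 ∨ b = 0 := by
  have hs := isSesq_of_unitary hf
  have hone : ∀ w, f w w ≠ 0 → f w w = 1 := fun w hw => by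
    have h2 := hf.herm w w
    rw [hσ, sq] at h2
    exact (mul_left_cancel₀ hw ((mul_one _).trans h2)).symm
  by_contra hab
  push Not at hab
  apply h
  rw [hs.add_left, hs.add_right, hs.add_right, hs.smul_left, hs.smul_left, hs.smul_left,
    hs.smul_left, hs.smul_right, hs.smul_right, hs.smul_right, hs.smul_right, h01,
    (isRefl_of_unitary hf).zero_iff.1 h01, hone _ h0, hone _ h1, hσ, hσ]
  linear_combination cube_of_four hF hab.1 + cube_of_four hF hab.2 + two_zero_of_four hF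

/-- A nondegenerate plane has an orthogonal anisotropic pair. -/
lemma plane_pair {ι : Type} [Fintype ι] [DecidableEq ι] {f : (ι → F) → (ι → F) → F}
    (hf : Cfsg.Geo.IsUnitaryForm σ f) {W : Submodule F (ι → F)} (hW : finrank F W = 2)
    (hnd : Cfsg.Geo.IsNondegenerateOn f W) :
    ∃ w : Fin 2 → ι → F, (∀ i, w i ∈ W ∧ f (w i) (w i) ≠ 0) ∧ f (w 0) (w 1) = 0 ∧
      ∀ v ∈ W, ∃ a b : F, v = a • w 0 + b • w 1 := by
  have hs := isSesq_of_unitary hf
  have hr := isRefl_of_unitary hf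
  obtain ⟨w₀, hw₀, hw₀a⟩ : ∃ w ∈ W, f w w ≠ 0 := by
    by_contra h
    push Not at h
    obtain ⟨x, hx, hx0⟩ := Submodule.exists_mem_ne_zero_of_ne_bot (p := W)
      fun hb => by rw [hb, finrank_bot] at hW; omega
    obtain ⟨-, y, hy, hxy⟩ := hnd x hx hx0
    obtain ⟨μ, hμ⟩ : ∃ μ, σ μ ≠ μ := by
      by_contra hc
      push Not at hc
      exact hf.ne_refl (RingEquiv.ext hc)
    have e1 := h (x + y) (W.add_mem hx hy)
    have e2 := h (μ • x + y) (W.add_mem (W.smul_mem μ hx) hy)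
    simp only [hs.add_left, hs.add_right, hs.smul_left, hs.smul_right, h x hx, h y hy] at e1 e2
    refine hxy ((mul_eq_zero.1 (?_ : (μ - σ μ) * f x y = 0)).resolve_left (sub_ne_zero.2 (Ne.symm hμ)))
    linear_combination e2 - σ μ * e1
  let φ : W →ₗ[F] F :=
    { toFun := fun v => f (v : ι → F) w₀
      map_add' := fun a b => hs.add_left _ _ w₀
      map_smul' := fun c a => hs.smul_left c _ w₀ }
  have hker : LinearMap.ker φ ≠ ⊥ := by
    intro h
    have h1 := φ.finrank_range_add_finrank_ker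
    have h2 := Submodule.finrank_le (LinearMap.range φ)
    rw [h, finrank_bot, hW] at h1
    rw [finrank_self] at h2
    omega
  obtain ⟨⟨w₁, hw₁⟩, hφ, hne⟩ := Submodule.exists_mem_ne_zero_of_ne_bot hker
  have h10 : f w₁ w₀ = 0 := hφ
  have hw₁0 : w₁ ≠ 0 := fun h => hne (Subtype.ext h)
  have hli : LinearIndependent F ![w₀, w₁] := by
    refine LinearIndependent.pair_iff.2 fun a b hab => ?_
    have h1 := congrArg (fun v => f v w₀) hab
    simp only [hs.add_left, hs.smul_left, h10, mul_zero, add_zero, hs.zero_left] at h1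
    have ha := (mul_eq_zero.1 h1).resolve_right hw₀a
    rw [ha, zero_smul, zero_add] at hab
    exact ⟨ha, (smul_eq_zero.1 hab).resolve_right hw₁0⟩
  have hspan : Submodule.span F (Set.range ![w₀, w₁]) = W := by
    refine Submodule.eq_of_le_of_finrank_le (Submodule.span_le.2 ?_) ?_
    · rintro _ ⟨i, rfl⟩; fin_cases i <;> assumption
    · rw [hW, finrank_span_eq_card hli, Fintype.card_fin]
  have hdec : ∀ v ∈ W, ∃ a b : F, v = a • w₀ + b • w₁ := fun v hv => by
    obtain ⟨c, hc⟩ := (Submodule.mem_span_range_iff_exists_fun F).1 (hspan ▸ hv :)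
    exact ⟨c 0, c 1, by rw [← hc, Fin.sum_univ_two]; rfl⟩
  have hw₁a : f w₁ w₁ ≠ 0 := by
    intro h11
    obtain ⟨-, y, hy, hwy⟩ := hnd w₁ hw₁ hw₁0
    obtain ⟨a, b, rfl⟩ := hdec y hy
    rw [hs.add_right, hs.smul_right, hs.smul_right, h10, h11, mul_zero, mul_zero, add_zero] at hwy
    exact hwy rfl
  refine ⟨![w₀, w₁], fun i => ?_, hr.zero_iff.1 h10, hdec⟩
  fin_cases i
  · exact ⟨hw₀, hw₀a⟩
  · exact ⟨hw₁, hw₁a⟩

/-- Over four elements a decomposition into planes refines to a frame. -/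
theorem planes_frame_refined (hF : Fintype.card F = 2 ^ 2) (hσ : ∀ a, σ a = a ^ 2)
    {f : (Fin n → F) → (Fin n → F) → F} (hf : Cfsg.Geo.IsUnitaryForm σ f) {t : ℕ}
    {D : Fin t → Submodule F (Fin n → F)} (hD : Cfsg.Geo.IsNondegenerateMDecomposition f 2 D)
    {H : Subgroup (GL (Fin n) F)} (hH : Cfsg.Geo.FixesForm (Cfsg.Geo.matrixSet H) f)
    (hle : H ≤ Cfsg.Geo.decompositionStabilizer D) (htn : t * 2 = n) :
    ∃ D' : Fin n → Submodule F (Fin n → F), Cfsg.Geo.IsNondegenerateMDecomposition f 1 D' ∧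
      (∀ x, ∃ i, D' x ≤ D i) ∧ H ≤ Cfsg.Geo.decompositionStabilizer D' := by
  classical
  have hs := isSesq_of_unitary hf
  have hr := isRefl_of_unitary hf
  have := hD.decomp.two_le
  choose w hw h01 hdec using fun i => plane_pair hf (hD.decomp.finrank_eq i) (hD.nondegenerate i)
  let W : Fin t × Fin 2 → Fin n → F := fun p => w p.1 p.2
  have hWD : ∀ p, W p ∈ D p.1 := fun p => (hw p.1 p.2).1
  have hWa : ∀ p, f (W p) (W p) ≠ 0 := fun p => (hw p.1 p.2).2
  have hW0 : ∀ p, W p ≠ 0 := fun p h => hWa p (by rw [h, hs.zero_left])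
  have horthW : ∀ p r, p ≠ r → f (W p) (W r) = 0 := by
    rintro ⟨i, a⟩ ⟨j, b⟩ hpr
    by_cases hij : i = j
    · subst hij
      have hab : a ≠ b := fun h => hpr (by rw [h])
      have h10 := hr.zero_iff.1 (h01 i)
      fin_cases a <;> fin_cases b <;>
        first
          | exact absurd rfl hab
          | exact h01 i
          | exact h10
    · exact hD.orthogonal i j hij _ (hWD (i, a)) _ (hWD (j, b))
  let ee : Fin n ≃ Fin t × Fin 2 := Fintype.equivOfCardEq (by simp [htn])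
  let D' : Fin n → Submodule F (Fin n → F) := fun x => Submodule.span F {W (ee x)}
  have hnd : ∀ x, Cfsg.Geo.IsNondegenerateOn f (D' x) := by
    intro x v hv hv0
    obtain ⟨c, rfl⟩ := Submodule.mem_span_singleton.1 hv
    have hc : c ≠ 0 := fun h => hv0 (by rw [h, zero_smul])
    refine ⟨⟨W (ee x), Submodule.mem_span_singleton_self _, ?_⟩,
      W (ee x), Submodule.mem_span_singleton_self _, ?_⟩
    · rw [hs.smul_right]; exact mul_ne_zero (by simpa using hc) (hWa _)
    · rw [hs.smul_left]; exact mul_ne_zero hc (hWa _)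
  have horth : ∀ x y, x ≠ y → Cfsg.Geo.AreOrthogonalFor f (D' x) (D' y) := by
    intro x y hxy u hu v hv
    obtain ⟨c, rfl⟩ := Submodule.mem_span_singleton.1 hu
    obtain ⟨d, rfl⟩ := Submodule.mem_span_singleton.1 hv
    rw [hs.smul_left, hs.smul_right, horthW _ _ fun h => hxy (ee.injective h), mul_zero, mul_zero]
  have hmemD' : ∀ p, W p ∈ D' (ee.symm p) := fun p => by
    simp only [D', Equiv.apply_symm_apply]; exact Submodule.mem_span_singleton_self _
  refine ⟨D', ⟨⟨by omega, one_pos, fun x => finrank_span_singleton (hW0 _),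
    hr.indep_of_orth hnd horth, ?_⟩, hnd, horth⟩,
    fun x => ⟨(ee x).1, (Submodule.span_singleton_le_iff_mem _ _).2 (hWD (ee x))⟩, fun g hg => ?_⟩
  · refine eq_top_iff.2 (hD.decomp.iSup_eq_top ▸ iSup_le fun i v hv => ?_)
    obtain ⟨a, b, rfl⟩ := hdec i v hv
    exact add_mem (Submodule.smul_mem _ a (le_iSup D' _ (hmemD' (i, 0))))
      (Submodule.smul_mem _ b (le_iSup D' _ (hmemD' (i, 1))))
  obtain ⟨π, hπ⟩ := hle hg
  have himg : ∀ p, ∃ r, ∃ c : F, (g : Matrix (Fin n) (Fin n) F) *ᵥ W p = c • W r := by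
    intro p
    obtain ⟨a, b, hab⟩ := hdec (π p.1) ((g : Matrix (Fin n) (Fin n) F) *ᵥ W p)
      (hπ p.1 ▸ ⟨W p, hWD p, Matrix.toLin'_apply _ _⟩)
    rcases two_lines hF hσ hf (h01 (π p.1)) (hWa (π p.1, 0)) (hWa (π p.1, 1)) (a := a) (b := b)
      (by rw [← hab, isometry_apply hH hg]; exact hWa p) with rfl | rfl
    · exact ⟨(π p.1, 1), b, by rw [hab, zero_smul, zero_add]⟩
    · exact ⟨(π p.1, 0), a, by rw [hab, zero_smul, add_zero]⟩
  choose ρ c hc using himg
  have hρ : Function.Injective ρ := by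
    intro p r h
    by_contra hpr
    have h1 := horthW p r hpr
    rw [← isometry_apply hH hg, hc, hc, h, hs.smul_left, hs.smul_right] at h1
    have hc0 : ∀ p, c p ≠ 0 := fun p h0 =>
      hW0 p (mulVec_injective g (by simpa [h0] using hc p))
    exact mul_ne_zero (hc0 p) (mul_ne_zero (by simpa using hc0 r) (hWa (ρ r))) h1
  refine ⟨(ee.trans (Equiv.ofBijective ρ (Finite.injective_iff_bijective.1 hρ))).trans ee.symm,
    fun x => ?_⟩
  refine Submodule.eq_of_le_of_finrank_le ?_ ?_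
  · rintro _ ⟨v, hv, rfl⟩
    obtain ⟨d, rfl⟩ := Submodule.mem_span_singleton.1 hv
    rw [Matrix.toLin'_apply, Matrix.mulVec_smul, hc]
    exact Submodule.smul_mem _ _ (Submodule.smul_mem _ _ (by
      simpa only [Equiv.trans_apply, Equiv.ofBijective_apply] using hmemD' (ρ (ee x))))
  · rw [(Submodule.equivMapOfInjective _ (fun a b h => mulVec_injective g (by simpa using h))
      (D' x)).finrank_eq.symm, finrank_span_singleton (hW0 _), finrank_span_singleton (hW0 _)]

/-- Over four elements a decomposition into planes refines to a frame, stated without the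
refinement. -/
theorem planes_frame (hF : Fintype.card F = 2 ^ 2) (hσ : ∀ a, σ a = a ^ 2)
    {f : (Fin n → F) → (Fin n → F) → F} (hf : Cfsg.Geo.IsUnitaryForm σ f) {t : ℕ}
    {D : Fin t → Submodule F (Fin n → F)} (hD : Cfsg.Geo.IsNondegenerateMDecomposition f 2 D)
    {H : Subgroup (GL (Fin n) F)} (hH : Cfsg.Geo.FixesForm (Cfsg.Geo.matrixSet H) f)
    (hle : H ≤ Cfsg.Geo.decompositionStabilizer D) (htn : t * 2 = n) :
    ∃ D' : Fin n → Submodule F (Fin n → F), Cfsg.Geo.IsNondegenerateMDecomposition f 1 D' ∧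
      H ≤ Cfsg.Geo.decompositionStabilizer D' := by
  obtain ⟨D', h1, -, h3⟩ := planes_frame_refined hF hσ hf hD hH hle htn
  exact ⟨D', h1, h3⟩

omit [Fintype F] in
lemma formOfGram_kron_pure' {κ₁ κ₂ : Type} [Fintype κ₁] [Fintype κ₂] (G₁ : Matrix κ₁ κ₁ F)
    (G₂ : Matrix κ₂ κ₂ F) (x y : κ₁ → F) (x' y' : κ₂ → F) :
    Cfsg.Geo.formOfGram σ (G₁ ⊗ₖ G₂) (fun p : κ₁ × κ₂ => x p.1 * x' p.2)
        (fun p : κ₁ × κ₂ => y p.1 * y' p.2) =
      Cfsg.Geo.formOfGram σ G₁ x y * Cfsg.Geo.formOfGram σ G₂ x' y' := by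
  simp only [Cfsg.Geo.formOfGram, Fintype.sum_prod_type, Matrix.kroneckerMap_apply, map_mul]
  rw [Finset.sum_mul_sum]
  refine Finset.sum_congr rfl fun p _ => Finset.sum_congr rfl fun q _ => ?_
  rw [Finset.sum_mul_sum]
  exact Finset.sum_congr rfl fun p' _ => Finset.sum_congr rfl fun q' _ => by ring

/-- Over four elements a two-dimensional tensor factor gives two orthogonal subspaces. -/
theorem tensor_two_split (hF : Fintype.card F = 2 ^ 2) (hσ : ∀ a, σ a = a ^ 2)
    {f : (Fin n → F) → (Fin n → F) → F} (hf : Cfsg.Geo.IsUnitaryForm σ f) {b : ℕ} (hb : 0 < b)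
    {e : Fin n ≃ Fin 2 × Fin b} {P : GL (Fin n) F}
    {f₁ : (Fin 2 → F) → (Fin 2 → F) → F} {f₂ : (Fin b → F) → (Fin b → F) → F}
    (h₁ : Cfsg.Geo.IsUnitaryFormPow 2 f₁) (h₂ : Cfsg.Geo.IsUnitaryFormPow 2 f₂)
    (hT : Cfsg.Geo.IsTensorFormStructure (fun x : F => x ^ 2) f f₁ f₂ e P)
    {H : Subgroup (GL (Fin n) F)} (hH : Cfsg.Geo.FixesForm (Cfsg.Geo.matrixSet H) f)
    (hle : H ≤ Cfsg.Geo.tensorProductSubgroup 2 b e P) :
    ∃ D : Fin 2 → Submodule F (Fin n → F), Cfsg.Geo.IsNondegenerateMDecomposition f b D ∧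
      H ≤ Cfsg.Geo.decompositionStabilizer D := by
  classical
  obtain ⟨c₀, hc₀, hpull⟩ := hT
  have hu₁ : Cfsg.Geo.IsUnitaryForm σ f₁ := ⟨hf.ne_refl, hf.involutive, h₁.add_left, h₁.smul_left,
    fun v w => by rw [hσ]; exact h₁.herm v w, h₁.nondegenerate⟩
  have hu₂ : Cfsg.Geo.IsUnitaryForm σ f₂ := ⟨hf.ne_refl, hf.involutive, h₂.add_left, h₂.smul_left,
    fun v w => by rw [hσ]; exact h₂.herm v w, h₂.nondegenerate⟩
  have hs := isSesq_of_unitary hf
  have hs₁ := isSesq_of_unitary hu₁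
  have hs₂ := isSesq_of_unitary hu₂
  obtain ⟨C, hC⟩ := exists_orthonormal hf.ne_refl hf.involutive (hs₁.gram_isUnit hu₁.nondegenerate)
    (Matrix.ext fun p r => hu₁.herm _ _)
  rw [← hs₁.gram_comp] at hC
  let w : Fin 2 → Fin 2 → F := fun i => (C : Matrix (Fin 2) (Fin 2) F) *ᵥ Pi.single i 1
  have hw : ∀ i j, f₁ (w i) (w j) = if i = j then 1 else 0 := fun i j => by
    have := congrFun (congrFun hC i) j
    rw [Matrix.one_apply] at this
    exact this
  have hfun : (fun x : F => x ^ 2) = (σ : F → F) := funext fun x => (hσ x).symm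
  let L : Fin 2 → ((Fin b → F) →ₗ[F] (Fin n → F)) := fun i =>
    { toFun := fun x => (P : Matrix (Fin n) (Fin n) F) *ᵥ ((fun p : Fin 2 × Fin b => w i p.1 * x p.2) ∘ e)
      map_add' := fun x y => by
        rw [← Matrix.mulVec_add]; congr 1; funext k; simp [mul_add]
      map_smul' := fun c x => by
        rw [RingHom.id_apply, ← Matrix.mulVec_smul]; congr 1; funext k; simp [mul_left_comm] }
  have hLf : ∀ i j x y, f (L i x) (L j y) = c₀ * (f₁ (w i) (w j) * f₂ x y) := by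
    intro i j x y
    refine (hpull _ _).trans (congrArg (c₀ * ·) ?_)
    rw [hfun, hs₁.eq_formOfGram (w i) (w j), hs₂.eq_formOfGram x y]
    exact formOfGram_kron_pure' _ _ _ _ _ _
  have hLinj : ∀ i, Function.Injective (L i) := by
    intro i
    rw [injective_iff_map_eq_zero]
    intro x hx
    by_contra hx0
    obtain ⟨-, y, hy⟩ := hu₂.nondegenerate x hx0
    have := hLf i i x y
    rw [hx, hs.zero_left, hw, if_pos rfl, one_mul] at this
    exact mul_ne_zero hc₀ hy this.symm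
  let D : Fin 2 → Submodule F (Fin n → F) := fun i => LinearMap.range (L i)
  have horth : ∀ i j, i ≠ j → Cfsg.Geo.AreOrthogonalFor f (D i) (D j) := by
    rintro i j hij _ ⟨x, rfl⟩ _ ⟨y, rfl⟩
    rw [hLf, hw, if_neg hij, zero_mul, mul_zero]
  have hnd : ∀ i, Cfsg.Geo.IsNondegenerateOn f (D i) := by
    rintro i _ ⟨x, rfl⟩ hx0
    obtain ⟨⟨y, hy⟩, ⟨z, hz⟩⟩ := hu₂.nondegenerate x fun h => hx0 (by rw [h, map_zero])
    refine ⟨⟨L i y, ⟨y, rfl⟩, ?_⟩, L i z, ⟨z, rfl⟩, ?_⟩ <;>
      rw [hLf, hw, if_pos rfl, one_mul] <;> exact mul_ne_zero hc₀ ‹_›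
  have hindep := (isRefl_of_unitary hf).indep_of_orth hnd horth
  have hsup : iSup D = ⊤ := by
    refine eq_top_iff.2 fun v _ => ?_
    obtain ⟨x, rfl⟩ := pullForm_surj e P v
    let ξ : Fin 2 → Fin b → F := fun i r =>
      (((C⁻¹ : GL (Fin 2) F) : Matrix (Fin 2) (Fin 2) F) *ᵥ fun p => x (p, r)) i
    have hx : x = ∑ i, fun p : Fin 2 × Fin b => w i p.1 * ξ i p.2 := by
      funext p
      have h := congrFun (mulVec_inv_cancel C fun s => x (s, p.2)) p.1
      rw [Finset.sum_apply]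
      refine h.symm.trans ?_
      simp [w, ξ, Matrix.mulVec, dotProduct, Pi.single_apply]
    have hcomp : x ∘ e = ∑ i, (fun p : Fin 2 × Fin b => w i p.1 * ξ i p.2) ∘ e := by
      funext k
      conv_lhs => rw [hx]
      simp
    rw [hcomp, Matrix.mulVec_sum]
    exact sum_mem fun i _ => le_iSup D i ⟨ξ i, rfl⟩
  refine ⟨D, ⟨⟨le_rfl, hb, fun i => by
    rw [LinearMap.finrank_range_of_inj (hLinj i), Module.finrank_fin_fun], hindep, hsup⟩, hnd,
    horth⟩, fun g hg => ?_⟩
  have h := hle hg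
  rw [Cfsg.Geo.tensorProductSubgroup, map_glReindex_conj] at h
  obtain ⟨X, ⟨A, B, hX⟩, hXg⟩ := h
  set Am := (A : Matrix (Fin 2) (Fin 2) F) with hAm
  set Bm := (B : Matrix (Fin b) (Fin b) F) with hBm
  have hgX : (g : Matrix (Fin n) (Fin n) F) =
      frAlg e P (X : Matrix (Fin 2 × Fin b) (Fin 2 × Fin b) F) := by
    rw [← frU_val]; exact congrArg Units.val hXg.symm
  have hgL : ∀ i y, (g : Matrix (Fin n) (Fin n) F) *ᵥ L i y = (P : Matrix (Fin n) (Fin n) F) *ᵥ
      ((fun p : Fin 2 × Fin b => (Am *ᵥ w i) p.1 * (Bm *ᵥ y) p.2) ∘ e) := by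
    intro i y
    show (g : Matrix (Fin n) (Fin n) F) *ᵥ ((P : Matrix (Fin n) (Fin n) F) *ᵥ _) = _
    rw [hgX, frAlg_mulVec, hX, kron_mulVec_pure]
  -- every image of an anisotropic vector is anisotropic
  have haniso : ∀ i, f₁ (Am *ᵥ w i) (Am *ᵥ w i) ≠ 0 := by
    intro i h0
    let x₀ : Fin b → F := Pi.single ⟨0, hb⟩ 1
    obtain ⟨-, y₀, hy⟩ := hu₂.nondegenerate x₀ (by simp [x₀])
    have h1 := hLf i i x₀ y₀
    rw [← isometry_apply hH hg, hgL, hgL, hw, if_pos rfl, one_mul] at h1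
    have h3 := hs₁.eq_formOfGram (Am *ᵥ w i) (Am *ᵥ w i)
    rw [h0] at h3
    refine mul_ne_zero hc₀ hy ?_
    rw [← h1]
    refine (hpull _ _).trans ?_
    rw [hfun, formOfGram_kron_pure', ← h3, zero_mul, mul_zero]
  have himg : ∀ i, ∃ j, ∃ c : F, Am *ᵥ w i = c • w j := by
    intro i
    set ξ := ((C⁻¹ : GL (Fin 2) F) : Matrix (Fin 2) (Fin 2) F) *ᵥ (Am *ᵥ w i) with hξ
    have hdec : Am *ᵥ w i = ξ 0 • w 0 + ξ 1 • w 1 := by
      conv_lhs => rw [← mulVec_inv_cancel C (Am *ᵥ w i), ← hξ]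
      funext r
      simp [w, Matrix.mulVec, dotProduct, Fin.sum_univ_two, Pi.single_apply, mul_comm]
    rcases two_lines hF hσ hu₁ (w₀ := w 0) (w₁ := w 1) (by simp [hw]) (by simp [hw]) (by simp [hw])
      (a := ξ 0) (b := ξ 1) (by rw [← hdec]; exact haniso i) with h | h
    · exact ⟨1, ξ 1, by rw [hdec, h, zero_smul, zero_add]⟩
    · exact ⟨0, ξ 0, by rw [hdec, h, zero_smul, add_zero]⟩
  choose π c hc using himg
  have hπ : Function.Injective π := by
    intro i j h
    by_contra hij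
    have hc0 : ∀ i, c i ≠ 0 := fun i h0 => by
      have h1 : w i = 0 := mulVec_injective A
        ((hc i).trans (by rw [h0, zero_smul]; exact (Matrix.mulVec_zero _).symm))
      have := hw i i
      rw [h1, hs₁.zero_left, if_pos rfl] at this
      exact zero_ne_one this
    have h2 : c j • w i = c i • w j := mulVec_injective A (by
      show Am *ᵥ (c j • w i) = Am *ᵥ (c i • w j)
      rw [Matrix.mulVec_smul, Matrix.mulVec_smul, hc, hc, h, smul_comm])
    have h3 := congrArg (fun v => f₁ v (w i)) h2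
    simp only [hs₁.smul_left, hw, if_pos, if_neg (Ne.symm hij), mul_one, mul_zero] at h3
    exact hc0 j h3
  refine ⟨Equiv.ofBijective π (Finite.injective_iff_bijective.1 hπ), fun i => ?_⟩
  refine Submodule.eq_of_le_of_finrank_le ?_ ?_
  · rintro _ ⟨_, ⟨y, rfl⟩, rfl⟩
    refine ⟨c i • (Bm *ᵥ y), ?_⟩
    rw [Matrix.toLin'_apply, hgL, hc]
    show (P : Matrix (Fin n) (Fin n) F) *ᵥ _ = _
    congr 1
    funext k
    simp [mul_assoc, mul_left_comm]
  · rw [(Submodule.equivMapOfInjective _ (fun a b h => mulVec_injective g (by simpa using h))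
      (D i)).finrank_eq.symm, LinearMap.finrank_range_of_inj (hLinj _),
      LinearMap.finrank_range_of_inj (hLinj _)]

end CfsgLib.Aschbacher
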