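import Cfsg.Agent.Lib.Aschbacher.UnitaryGeneral
import Cfsg.Agent.Lib.Aschbacher.UnitaryProperGeneral
import Cfsg.Agent.Lib.Aschbacher.UnitarySmall
import Cfsg.Agent.Lib.Aschbacher.MaximalPrime

/-!
The shape of the maximal subgroups of the special unitary groups in dimension at least five.
-/

set_option autoImplicit false
set_option maxHeartbeats 800000

namespace CfsgLib.Aschbacher

open Matrix Module

variable {F : Type*} [Field F] [Fintype F] {n q : ℕ}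

open Cfsg.Geo in
/-- The possible shapes of a maximal subgroup of `SU_n`. -/
def UnitMaxShape (n q : ℕ) (H : Subgroup (GL (Fin n) F)) : Prop :=
  let f := Cfsg.hermForm n F q
  let I := SUgl n F q
  (∃ W : Submodule F (Fin n → F), W ≠ ⊥ ∧ IsTotallySingularFor f W ∧
      H = subspaceStabilizer W ⊓ I) ∨
  (∃ W : Submodule F (Fin n → F), W ≠ ⊥ ∧ IsNondegenerateOn f W ∧ 2 * finrank F W < n ∧
      H = subspaceStabilizer W ⊓ I) ∨
  (∃ (t k : ℕ) (D : Fin t → Submodule F (Fin n → F)), IsNondegenerateMDecomposition f k D ∧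
      2 ≤ t ∧ 1 ≤ k ∧ t * k = n ∧ (k = 2 → 3 ≤ q) ∧ H = decompositionStabilizer D ⊓ I) ∨
  (∃ (k : ℕ) (D : Fin 2 → Submodule F (Fin n → F)), 2 * k = n ∧ IsMDecomposition k D ∧
      (∀ i, IsTotallySingularFor f (D i)) ∧ H = decompositionStabilizer D ⊓ I) ∨
  (∃ (F₀ : Subfield F) (r : ℕ) (P : GL (Fin n) F), r.Prime ∧ Odd r ∧
      Fintype.card F = Nat.card F₀ ^ r ∧ IsFormRationalStructure f F₀ 1 P ∧
      H = subfieldSubgroup F₀ P ⊓ I) ∨
  (Odd q ∧ ∃ (F₀ : Subfield F) (P : GL (Fin n) F), Fintype.card F = Nat.card F₀ ^ 2 ∧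
      IsFormRationalStructure f F₀ 1 P ∧ H = subfieldSubgroup F₀ P ⊓ I) ∨
  (Even n ∧ ∃ (F₀ : Subfield F) (P : GL (Fin n) F) (ζ : F), Fintype.card F = Nat.card F₀ ^ 2 ∧
      ζ ≠ 0 ∧ ζ + ζ ^ q = 0 ∧ IsFormRationalStructure f F₀ ζ P ∧
      (∀ u : Fin n → F, (∀ i, u i ∈ F₀) →
        f ((P : Matrix (Fin n) (Fin n) F) *ᵥ u) ((P : Matrix (Fin n) (Fin n) F) *ᵥ u) = 0) ∧
      H = subfieldSubgroup F₀ P ⊓ I) ∨
  (∃ (r : ℕ) (R : Subgroup (GL (Fin n) F)) (p e k : ℕ), r.Prime ∧ n = r ^ k ∧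
      IsSymplecticTypeGroup r R ∧ ActsAbsolutelyIrreducibly (matrixSet R) ∧
      R ≤ similarityGroup f ∧ r ≠ p ∧ IsMinimalFieldFor (Nat.card (Subgroup.center R)) p e F ∧
      ((Odd r ∧ Nat.card (Subgroup.center R) = r ∧ 1 ≤ k ∧ Nat.card R = r ^ (1 + 2 * k)) ∨
       (r = 2 ∧ e = 2 ∧ Nat.card (Subgroup.center R) = 4 ∧ Nat.card R = 2 ^ (2 + 2 * k))) ∧
      H = subgroupNormalizer R ⊓ I) ∨
  (∃ (r : ℕ) (K : Subalgebra F (Matrix (Fin n) (Fin n) F)), r.Prime ∧ Odd r ∧ r ∣ n ∧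
      IsFieldSubalgebra r K ∧ IsAdjointClosedFor f K ∧ H = subalgebraNormalizer K ⊓ I) ∨
  (∃ (n₁ n₂ : ℕ) (e : Fin n ≃ Fin n₁ × Fin n₂) (P : GL (Fin n) F)
      (f₁ : (Fin n₁ → F) → (Fin n₁ → F) → F) (f₂ : (Fin n₂ → F) → (Fin n₂ → F) → F),
      2 ≤ n₁ ∧ n₁ < n₂ ∧ n₁ * n₂ = n ∧ (n₁ = 2 → 3 ≤ q) ∧
      IsUnitaryFormPow q f₁ ∧ IsUnitaryFormPow q f₂ ∧
      IsTensorFormStructure (fun x : F => x ^ q) f f₁ f₂ e P ∧
      H = tensorProductSubgroup n₁ n₂ e P ⊓ I) ∨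
  (∃ k t : ℕ, 3 ≤ k ∧ 2 ≤ t ∧ k ^ t = n ∧ (t = 2 → (k = 3 → 3 ≤ q) ∧ (3 ≤ q →
      ∃ (e : Fin n ≃ (Fin 2 → Fin k)) (P : GL (Fin n) F) (f₁ : (Fin k → F) → (Fin k → F) → F),
        IsUnitaryFormPow q f₁ ∧ IsTensorPowerFormStructure (fun x : F => x ^ q) f f₁ e P ∧
        H = tensorWreathSubgroup k 2 e P ⊓ I))) ∨
  Cfsg.Geo.InUnitaryResidualClass H

/-- Maximal subgroups of `SU_n`. -/
theorem maximal_unit (hn : 5 ≤ n) (hF : Fintype.card F = q ^ 2) {H : Subgroup (GL (Fin n) F)}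
    (hH : Cfsg.Geo.IsMaximalIn (SUgl n F q) H) : UnitMaxShape n q H := by
  classical
  obtain ⟨σ, hσ, hf⟩ := exists_unitary_hermForm (n := n) hF
  have hq := one_lt_q hF
  have hHG : H ≤ Cfsg.GU n F q := hH.1.le.trans inf_le_left
  have hfix := fixesForm_GU hHG
  have htop : ∀ W : Submodule F (Fin n → F), Cfsg.Geo.IsTotallySingularFor (Cfsg.hermForm n F q) W →
      W ≠ ⊤ := by
    intro W hts h
    obtain ⟨-, x, hx⟩ := hf.nondegenerate (Pi.single ⟨0, by omega⟩ 1) (by simp)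
    exact hx (hts _ (h ▸ Submodule.mem_top) _ (h ▸ Submodule.mem_top))
  rcases unit_aschbacher hF (by omega) hHG with ⟨M, hM, hle⟩ | hres
  swap
  · iterate 11 right
    exact hres
  rcases hM with ⟨W, h0, hts, rfl⟩ | ⟨W, h0, hnd, hlt, rfl⟩ | ⟨t, k, D, hD, rfl⟩ |
    ⟨k, D, hk, hD, hts, rfl⟩ | ⟨F₀, r, P, hr, hro, hc, hP, rfl⟩ | ⟨F₀, P, hqo, hc, hP, rfl⟩ |
    ⟨F₀, P, ζ, hne, hc, hζ, hζq, hP, hiso, rfl⟩ |
    ⟨r, R, p, e, k, hnk, hcomm, htype, habs, hsim, hrp, hmin, hcase, rfl⟩ |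
    ⟨r, K, hr, hro, hK, hadj, rfl⟩ |
    ⟨n₁, n₂, e, P, f₁, f₂, hn₁, hlt, hf₁, hf₂, hT, rfl⟩ |
    ⟨k, t, e, P, f₁, hk, ht, h23, hf₁, hT, rfl⟩
  · exact Or.inl ⟨W, h0, hts, eq_inf_of_maximal hH (hle.trans inf_le_left)
      (not_SU_le_subspaceStabilizer hF (by omega) h0 (htop W hts))⟩
  · exact Or.inr (Or.inl ⟨W, h0, hnd, hlt, eq_inf_of_maximal hH (hle.trans inf_le_left)
      (not_SU_le_subspaceStabilizer hF (by omega) h0 fun h => by
        rw [h, finrank_top, Module.finrank_fin_fun] at hlt; omega)⟩)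
  · have hprod := mDecomposition_mul_eq hD.decomp
    rw [Fintype.card_fin] at hprod
    have htwo := hD.decomp.two_le
    have hone : ∀ D' : Fin n → Submodule F (Fin n → F),
        Cfsg.Geo.IsNondegenerateMDecomposition (Cfsg.hermForm n F q) 1 D' →
        H ≤ Cfsg.Geo.decompositionStabilizer D' → UnitMaxShape n q H := fun D' hD' hle' =>
      Or.inr (Or.inr (Or.inl ⟨n, 1, D', hD', by omega, le_rfl, mul_one n, fun h => by omega,
        eq_inf_of_maximal hH hle'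
          (not_SU_le_decompositionStabilizer hF (by omega) (Or.inl (by omega)) hD'.decomp)⟩))
    rcases Nat.lt_or_ge k 2 with hk1 | hk2
    · obtain rfl : k = 1 := by have := hD.decomp.pos; omega
      obtain rfl : t = n := by omega
      exact hone D hD (hle.trans inf_le_left)
    by_cases hsmall : k = 2 ∧ q = 2
    · obtain ⟨rfl, rfl⟩ := hsmall
      obtain ⟨D', hD', h⟩ := planes_frame hF hσ hf hD hfix (hle.trans inf_le_left) hprod
      exact hone D' hD' h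
    exact Or.inr (Or.inr (Or.inl ⟨t, k, D, hD, htwo, by omega, hprod, fun h => by omega,
      eq_inf_of_maximal hH (hle.trans inf_le_left)
        (not_SU_le_decomposition hF (by omega) hk2 hD.decomp)⟩))
  · exact Or.inr (Or.inr (Or.inr (Or.inl ⟨k, D, hk, hD, hts, eq_inf_of_maximal hH
      (hle.trans inf_le_left) (not_SU_le_decomposition hF (by omega) (by omega) hD)⟩)))
  · exact Or.inr (Or.inr (Or.inr (Or.inr (Or.inl ⟨F₀, r, P, hr, hro, hc, hP, eq_inf_of_maximal hH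
      (hle.trans inf_le_left) (not_SU_le_subfield hF (by omega) hr hc P)⟩))))
  · exact Or.inr (Or.inr (Or.inr (Or.inr (Or.inr (Or.inl ⟨hqo, F₀, P, hc, hP, eq_inf_of_maximal hH
      (hle.trans inf_le_left) (not_SU_le_subfield hF (by omega) Nat.prime_two hc P)⟩)))))
  · exact Or.inr (Or.inr (Or.inr (Or.inr (Or.inr (Or.inr (Or.inl ⟨hne, F₀, P, ζ, hc, hζ, hζq, hP,
      hiso, eq_inf_of_maximal hH
      (hle.trans inf_le_left) (not_SU_le_subfield hF (by omega) Nat.prime_two hc P)⟩))))))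
  · iterate 7 right
    left
    exact ⟨r, R, p, e, k, htype.1, hnk, htype, habs, hsim, hrp, hmin, hcase,
      eq_inf_of_maximal hH (hle.trans inf_le_left) (not_SU_le_normalizer hF hn habs hcomm)⟩
  · have hdvd : r ∣ n := by
      have h := fieldSubalgebra_dvd hK
      rwa [Fintype.card_fin] at h
    iterate 8 right
    left
    exact ⟨r, K, hr, hro, hdvd, hK, hadj, eq_inf_of_maximal hH (hle.trans inf_le_left)
      (not_SU_le_subalgebraNormalizer hF (by omega) hK hr.one_lt)⟩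
  · have hprod : n₁ * n₂ = n := by
      have := Fintype.card_congr e
      simpa using this.symm
    by_cases hsmall : n₁ = 2 ∧ q = 2
    · obtain ⟨rfl, rfl⟩ := hsmall
      obtain ⟨D, hD, h⟩ := tensor_two_split hF hσ hf (by omega) hf₁ hf₂ hT hfix
        (hle.trans inf_le_left)
      exact Or.inr (Or.inr (Or.inl ⟨2, n₂, D, hD, le_rfl, by omega, hprod, fun h => by omega,
        eq_inf_of_maximal hH h (not_SU_le_decomposition hF (by omega) (by omega) hD.decomp)⟩))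
    iterate 9 right
    left
    exact ⟨n₁, n₂, e, P, f₁, f₂, hn₁, hlt, hprod, fun h => by omega, hf₁, hf₂, hT,
      eq_inf_of_maximal hH (hle.trans inf_le_left)
        (not_SU_le_tensor hF (by omega) hn₁ (by omega) e P)⟩
  · iterate 10 right
    left
    refine ⟨k, t, hk, ht, ?_, ?_⟩
    · have := Fintype.card_congr e
      simpa using this.symm
    · rintro rfl
      refine ⟨fun hk3 => ?_, fun hq3 => ⟨e, P, f₁, hf₁, hT, eq_inf_of_maximal hH
        (hle.trans inf_le_left) (not_SU_le_wreath_two hF (by omega) hq3 (by omega) e P)⟩⟩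
      by_contra h
      exact h23 ⟨by omega, hk3⟩

/-- The divisors of a product of two numbers. -/
lemma eq_of_mul_eq {a b n : ℕ} (hn : 0 < n) (h : a * b = n) : (a, b) ∈ Nat.divisorsAntidiagonal n :=
  Nat.mem_divisorsAntidiagonal.2 ⟨h, by omega⟩

/-- A field of characteristic `p` minimal for the cube roots of unity, of square order. -/
lemma minimal_three {p e : ℕ} (hF : Fintype.card F = q ^ 2) (h3 : 3 ≠ p)
    (h : Cfsg.Geo.IsMinimalFieldFor 3 p e F) : q = p ∧ p % 3 = 2 := by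
  obtain ⟨hp, -, hcard, hdvd, hmin⟩ := h
  obtain ⟨p', j, hp', -, hj, rfl⟩ := exists_prime_pow hF
  rw [hF, ← pow_mul] at hcard
  obtain ⟨rfl, he⟩ : p' = p ∧ j * 2 = e := by
    have h2 : p' = p := (Nat.prime_dvd_prime_iff_eq hp' hp).1
      (hp'.dvd_of_dvd_pow (hcard ▸ dvd_pow_self p' (by omega)))
    exact ⟨h2, Nat.pow_right_injective hp.two_le (h2 ▸ hcard)⟩
  have hmod : p' % 3 ≠ 0 := fun h0 =>
    h3 ((Nat.prime_dvd_prime_iff_eq Nat.prime_three hp).1 (Nat.dvd_of_mod_eq_zero h0))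
  have he2 : e = 2 := by
    by_contra hne
    refine hmin 2 two_pos (by omega) ?_
    have h1 : p' ^ 2 % 3 = 1 := by
      rw [Nat.pow_mod]
      rcases (show p' % 3 = 1 ∨ p' % 3 = 2 by omega) with h | h <;> rw [h] <;> rfl
    have := Nat.one_le_pow 2 p' hp.pos
    omega
  refine ⟨by rw [show j = 1 by omega, pow_one], ?_⟩
  by_contra hne
  refine hmin 1 one_pos (by omega) ?_
  rw [pow_one]
  have := hp.pos
  omega

/-- A field of characteristic `p` minimal for the fourth roots of unity, of square order. -/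
lemma minimal_four {p : ℕ} (hF : Fintype.card F = q ^ 2) (h2 : 2 ≠ p)
    (h : Cfsg.Geo.IsMinimalFieldFor 4 p 2 F) : q = p ∧ p % 4 = 3 := by
  obtain ⟨hp, -, hcard, hdvd, hmin⟩ := h
  refine ⟨Nat.pow_left_injective two_ne_zero (hF.symm.trans hcard), ?_⟩
  have h1 := hmin 1 one_pos one_lt_two
  rw [pow_one] at h1
  have hodd := Nat.odd_iff.1 (hp.odd_of_ne_two (Ne.symm h2))
  omega

lemma prime_pow_eq_eight {r k : ℕ} (hr : r.Prime) (h : 8 = r ^ k) : r = 2 ∧ k = 3 := by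
  have h2 : r = 2 := (Nat.prime_dvd_prime_iff_eq hr Nat.prime_two).1
    (hr.dvd_of_dvd_pow (n := 3) (show r ∣ 2 ^ 3 by
      rw [show (2 : ℕ) ^ 3 = r ^ k from h]; exact dvd_pow_self r (by rintro rfl; simp at h)))
  subst h2
  exact ⟨rfl, (Nat.pow_right_injective (a := 2) le_rfl h).symm⟩

lemma prime_pow_eq_nine {r k : ℕ} (hr : r.Prime) (h : 9 = r ^ k) : r = 3 ∧ k = 2 := by
  have h2 : r = 3 := (Nat.prime_dvd_prime_iff_eq hr Nat.prime_three).1
    (hr.dvd_of_dvd_pow (n := 2) (show r ∣ 3 ^ 2 by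
      rw [show (3 : ℕ) ^ 2 = r ^ k from h]; exact dvd_pow_self r (by rintro rfl; simp at h)))
  subst h2
  exact ⟨rfl, (Nat.pow_right_injective (a := 3) (by norm_num) h).symm⟩

lemma two_prime_dvd {r p s n : ℕ} (hp : p.Prime) (hs : s.Prime) (hps : p ≠ s) (hpn : p ∣ n)
    (hsn : s ∣ n) (hr : r.Prime) {k : ℕ} (h : n = r ^ k) : False := by
  subst h
  exact hps (((Nat.prime_dvd_prime_iff_eq hp hr).1 (hp.dvd_of_dvd_pow hpn)).trans
    ((Nat.prime_dvd_prime_iff_eq hs hr).1 (hs.dvd_of_dvd_pow hsn)).symm)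

lemma pow_dims {k t n : ℕ} (hn : n < 27) (hk : 3 ≤ k) (ht : 2 ≤ t) (h : k ^ t = n) :
    t = 2 ∧ k * k = n ∧ k ≤ 5 := by
  obtain rfl : t = 2 := by
    by_contra hne
    have h1 : k ^ 3 ≤ k ^ t := Nat.pow_le_pow_right (by omega) (by omega)
    have h2 : 3 ^ 3 ≤ k ^ 3 := Nat.pow_le_pow_left hk 3
    omega
  rw [sq] at h
  refine ⟨rfl, h, ?_⟩
  by_contra hne
  have : 6 * 6 ≤ k * k := Nat.mul_le_mul (by omega) (by omega)
  omega

end CfsgLib.Aschbacher
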