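import Cfsg.Agent.Lib.Aschbacher.UnitaryRational
import Cfsg.Agent.Lib.Aschbacher.Frame

/-!
Aschbacher's theorem for groups of isometries of a unitary form in odd prime dimension.
-/

set_option autoImplicit false

namespace CfsgLib.Aschbacher

open Matrix Module

variable {F : Type*} [Field F] {n : ℕ}

/-- The frame coming from a non-scalar normalised subgroup is orthogonal. -/
theorem frame_orthogonal [Fact n.Prime] (hodd : Odd n) {σ : F ≃+* F}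
    {f : (Fin n → F) → (Fin n → F) → F} (hf : Cfsg.Geo.IsUnitaryForm σ f)
    {H A : Subgroup (GL (Fin n) F)} (hirr : Irr H)
    (hHf : Cfsg.Geo.FixesForm (Cfsg.Geo.matrixSet H) f)
    (hAf : Cfsg.Geo.FixesForm (Cfsg.Geo.matrixSet A) f)
    (hn : ∀ g ∈ H, ∀ a ∈ A, g * a * g⁻¹ ∈ A) (hAs : ¬ A ≤ Cfsg.Geo.scalars (Fin n) F)
    {D : Fin n → Submodule F (Fin n → F)} (hD : Cfsg.Geo.IsMDecomposition 1 D)
    (hle : H ≤ Cfsg.Geo.decompositionStabilizer D) (hinv : ∀ i, Inv A (D i)) :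
    Cfsg.Geo.IsNondegenerateMDecomposition f 1 D :=
  (frame_orthogonal_of_sesq Fact.out hodd (isSesq_of_unitary hf) hf.nondegenerate
    (fun _ _ => (unitary_zero_iff hf).1) hirr hHf hAf hn hAs hD hle hinv).1

/-- The trichotomy for normalised groups of isometries. -/
lemma unitary_trichotomy [Fintype F] [Fact n.Prime] (hodd : Odd n) {σ : F ≃+* F}
    {f : (Fin n → F) → (Fin n → F) → F} (hf : Cfsg.Geo.IsUnitaryForm σ f)
    {H A : Subgroup (GL (Fin n) F)} (hirr : Irr H)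
    (hHf : Cfsg.Geo.FixesForm (Cfsg.Geo.matrixSet H) f)
    (hAf : Cfsg.Geo.FixesForm (Cfsg.Geo.matrixSet A) f)
    (hn : ∀ g ∈ H, ∀ a ∈ A, g * a * g⁻¹ ∈ A) :
    A ≤ Cfsg.Geo.scalars (Fin n) F ∨
      (∃ D : Fin n → Submodule F (Fin n → F),
        Cfsg.Geo.IsNondegenerateMDecomposition f 1 D ∧ H ≤ Cfsg.Geo.decompositionStabilizer D) ∨
      (∃ K, Cfsg.Geo.IsFieldSubalgebra n K ∧ Cfsg.Geo.IsAdjointClosedFor f K ∧
        H ≤ Cfsg.Geo.subalgebraNormalizer K) ∨ AbsIrr A := by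
  have hp : n.Prime := Fact.out
  by_cases hAs : A ≤ Cfsg.Geo.scalars (Fin n) F
  · exact Or.inl hAs
  right
  rcases decomposition_or_faithful' hirr hn with ⟨t, m, D, hD, hle, hinv⟩ | hfa
  · obtain ⟨rfl, rfl⟩ := decomposition_prime hD
    exact Or.inl ⟨D, frame_orthogonal hodd hf hirr hHf hAf hn hAs hD hle hinv, hle⟩
  obtain ⟨S, -, hS⟩ := exists_minInv (inv_top A) (top_ne_bot (α := Submodule F (Fin n → F)))
  have hdvd := finrank_dvd_card hirr hn hS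
  rw [Fintype.card_fin] at hdvd
  rcases hp.eq_one_or_self_of_dvd _ hdvd with h1 | h1
  · exfalso
    apply hAs
    obtain ⟨v, hv, hv0⟩ := Submodule.exists_mem_ne_zero_of_ne_bot hS.ne_bot
    have hspan : ∀ w ∈ S, ∃ c : F, w = c • v := by
      intro w hw
      obtain ⟨c, hc⟩ := (finrank_eq_one_iff_of_nonzero' (⟨v, hv⟩ : S) (by simpa using hv0)).1 h1 ⟨w, hw⟩
      exact ⟨c, (congrArg Subtype.val hc).symm⟩
    refine le_scalars_of_commutant fun a ha => ?_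
    obtain ⟨c, hc⟩ := hspan _ (hS.inv a ha v hv)
    refine ⟨c, sub_eq_zero.1 ((Submodule.mem_bot F).1 (hfa S hS ▸ (⟨?_, ?_⟩ :
      (a : Matrix (Fin n) (Fin n) F) - c • 1 ∈ ann A S)))⟩
    · exact sub_mem (mem_envelope ha) (Submodule.smul_mem _ c (one_mem_envelope A))
    · intro w hw
      obtain ⟨d, rfl⟩ := hspan w hw
      rw [Matrix.sub_mulVec, Matrix.smul_mulVec, Matrix.one_mulVec, Matrix.mulVec_smul, hc,
        smul_comm, sub_self]
  · have htop : S = ⊤ := Submodule.eq_top_of_finrank_eq (by simpa using h1)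
    have hAirr : Irr A := irr_iff.2 fun W hW => by
      rcases hS.min W (htop ▸ le_top) hW with h | h
      · exact Or.inl h
      · exact Or.inr (h.trans htop)
    have hK := commutant_isField hAirr
    have hdvd' := fieldSubalgebra_dvd hK
    rw [Fintype.card_fin] at hdvd'
    rcases hp.eq_one_or_self_of_dvd _ hdvd' with h2 | h2
    · right; right
      refine absIrr_of_commutant hAirr fun M hM => ?_
      obtain ⟨c, hc⟩ := (finrank_eq_one_iff_of_nonzero' (1 : ↥(commutant A))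
        one_ne_zero).1 h2 ⟨M, hM⟩
      exact ⟨c, (congrArg Subtype.val hc).symm⟩
    · exact Or.inr (Or.inl ⟨_, ⟨hK.comm, hK.inv, h2⟩,
        adjointClosed_commutant (isSesq_of_unitary hf) hf.nondegenerate hAf,
        le_normalizer_commutant hn⟩)

lemma dvd_pred_of_minimal {n p e : ℕ} [Fact n.Prime] (hp : p.Prime) (he0 : 0 < e)
    (he : n ∣ p ^ e - 1) (hmin : ∀ d, 0 < d → d < e → ¬ n ∣ p ^ d - 1) : e ∣ n - 1 := by
  have hn : n.Prime := Fact.out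
  have hne : n ≠ p := by
    rintro rfl
    have h3 := Nat.dvd_sub (dvd_pow_self n he0.ne') he
    rw [Nat.sub_sub_self (Nat.one_le_pow _ _ hp.pos)] at h3
    exact hn.one_lt.ne' (Nat.dvd_one.1 h3)
  have hfer : n ∣ p ^ (n - 1) - 1 := by
    have := Nat.ModEq.pow_totient ((Nat.coprime_primes hp hn).2 hne.symm)
    rw [Nat.totient_prime hn] at this
    exact (Nat.modEq_iff_dvd' (Nat.one_le_pow _ _ hp.pos)).1 this.symm
  have hgcd : n ∣ p ^ Nat.gcd e (n - 1) - 1 := by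
    rw [← Nat.pow_sub_one_gcd_pow_sub_one]
    exact Nat.dvd_gcd he hfer
  have hg : Nat.gcd e (n - 1) = e := by
    refine le_antisymm (Nat.gcd_le_left _ he0) (Nat.le_of_not_lt fun h => ?_)
    exact hmin _ (Nat.gcd_pos_of_pos_left _ he0) h hgcd
  exact hg ▸ Nat.gcd_dvd_right e (n - 1)

/-- Class two in the unitary case. -/
theorem extraspecial_unitary [Fintype F] [Fact n.Prime] (hodd : Odd n) {q : ℕ}
    (hF : Fintype.card F = q ^ 2) {σ : F ≃+* F} (hσ : ∀ a, σ a = a ^ q)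
    {f : (Fin n → F) → (Fin n → F) → F} (hf : Cfsg.Geo.IsUnitaryForm σ f)
    {H N : Subgroup (GL (Fin n) F)} (hSL : N ≤ Cfsg.Geo.specialLinear (Fin n) F) (hN : AbsIrr N)
    (hNf : Cfsg.Geo.FixesForm (Cfsg.Geo.matrixSet N) f)
    (hn : ∀ g ∈ H, ∀ a ∈ N, g * a * g⁻¹ ∈ N)
    (h2 : ∀ a ∈ N, ∀ b ∈ N, a * b * a⁻¹ * b⁻¹ ∈ Cfsg.Geo.scalars (Fin n) F)
    (hmin : ∀ M ≤ N, (∀ g ∈ H, ∀ a ∈ M, g * a * g⁻¹ ∈ M) →
      (∀ z ∈ N, z ∈ Cfsg.Geo.scalars (Fin n) F → z ∈ M) → M ≤ Cfsg.Geo.scalars (Fin n) F ∨ M = N) :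
    (∃ F₀ : Subfield F, F₀ ≠ ⊤ ∧ Cfsg.Geo.RealisableOver F₀ (Cfsg.Geo.matrixSet N)) ∨
    (∃ p h : ℕ, p.Prime ∧ CharP F p ∧ q = p ^ h ∧ 0 < h ∧ 2 * h ∣ n - 1 ∧ n ∣ p ^ h + 1 ∧
      (∀ d, 0 < d → d < 2 * h → ¬ n ∣ p ^ d - 1) ∧
      Cfsg.Geo.IsSymplecticTypeGroup n N ∧ Nat.card N = n ^ 3 ∧
      Nat.card (Subgroup.center N) = n) := by
  classical
  have hnp : n.Prime := Fact.out
  haveI : NeZero n := ⟨hnp.ne_zero⟩
  obtain ⟨D⟩ := exists_extraData hodd hSL hN h2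
  obtain ⟨p, h, hpp, hp, hh, rfl⟩ := exists_prime_pow hF
  haveI : Fact p.Prime := ⟨hpp⟩
  have hs := isSesq_of_unitary hf
  have huord : orderOf D.u = n := D.prim.eq_orderOf.symm
  have hu : D.u ^ (p ^ h + 1) = 1 := by
    let e : Fin n → F := Pi.single 0 1
    obtain ⟨-, x, hx⟩ := hf.nondegenerate e (fun h0 => by simpa [e] using congrFun h0 0)
    have h' := hNf _ ⟨_, D.hz, rfl⟩ e x
    rw [scalarGL_mulVec, scalarGL_mulVec, hs.smul_left, hs.smul_right, ← mul_assoc] at h'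
    have h'' := mul_right_cancel₀ hx (h'.trans (one_mul _).symm)
    rw [hσ, ← pow_succ'] at h''
    exact Units.ext (by simpa using h'')
  have hn1 : n ∣ p ^ h + 1 := huord ▸ orderOf_dvd_of_pow_eq_one hu
  have hF' : Fintype.card F = p ^ (2 * h) := by rw [hF, ← pow_mul, mul_comm]
  have hdvd : ∀ d : ℕ, n ∣ p ^ d - 1 ↔ D.u ^ (p ^ d - 1) = 1 := fun d => by
    have h' := orderOf_dvd_iff_pow_eq_one (x := D.u) (n := p ^ d - 1)
    rwa [huord] at h'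
  have hf2 : n ∣ p ^ (2 * h) - 1 := by
    have h' : orderOf D.u ∣ Fintype.card Fˣ := orderOf_dvd_card
    rwa [huord, Fintype.card_units, hF'] at h'
  by_cases hmin' : ∀ d, 0 < d → d < 2 * h → ¬ n ∣ p ^ d - 1
  · right
    obtain ⟨hst, hcz⟩ := D.symplecticType hodd hn hmin
    exact ⟨p, h, hpp, hp, rfl, hh, dvd_pred_of_minimal hpp (by omega) hf2 hmin', hn1, hmin', hst,
      D.card, hcz⟩
  · left
    push Not at hmin'
    obtain ⟨d, hd0, hdlt, hdn⟩ := hmin'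
    have hgcd : n ∣ p ^ Nat.gcd d (2 * h) - 1 := by
      rw [← Nat.pow_sub_one_gcd_pow_sub_one]
      exact Nat.dvd_gcd hdn hf2
    have hlt : Nat.gcd d (2 * h) < 2 * h := lt_of_le_of_lt (Nat.gcd_le_left _ hd0) hdlt
    obtain ⟨K, hK, hmem⟩ := exists_subfield_of_dvd (F := F) hF' (Nat.gcd_dvd_right d (2 * h))
    refine ⟨K, fun htop => ?_, D.realisableOver ((hmem _).2 ?_)⟩
    · have h1 : Nat.card K = Fintype.card F := by
        rw [htop, ← Nat.card_eq_fintype_card]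
        exact Nat.card_congr Subfield.topEquiv.toEquiv
      rw [hK, hF'] at h1
      have := Nat.pow_right_injective hpp.two_le h1
      omega
    · have h1 := congrArg (fun x : Fˣ => (x : F)) ((hdvd _).1 hgcd)
      simp only [Units.val_pow_eq_pow_val, Units.val_one] at h1
      rw [← Nat.sub_add_cancel (Nat.one_le_pow (Nat.gcd d (2 * h)) p hpp.pos), pow_succ, h1,
        one_mul]

/-- Aschbacher's theorem in odd prime dimension, unitary case. -/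
theorem unitary_prime_aschbacher [Fintype F] [Fact n.Prime] (hodd : Odd n) {q : ℕ}
    (hF : Fintype.card F = q ^ 2) {σ : F ≃+* F} (hσ : ∀ a, σ a = a ^ q)
    {f : (Fin n → F) → (Fin n → F) → F} (hf : Cfsg.Geo.IsUnitaryForm σ f)
    {H : Subgroup (GL (Fin n) F)} (hH : H ≤ Cfsg.Geo.specialLinear (Fin n) F)
    (hHf : Cfsg.Geo.FixesForm (Cfsg.Geo.matrixSet H) f) :
    (∃ W : Submodule F (Fin n → F), W ≠ ⊥ ∧ Cfsg.Geo.IsTotallySingularFor f W ∧ W ≠ ⊤ ∧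
        H ≤ Cfsg.Geo.subspaceStabilizer W) ∨
    (∃ W : Submodule F (Fin n → F), W ≠ ⊥ ∧ Cfsg.Geo.IsNondegenerateOn f W ∧
        2 * finrank F W < n ∧ W ≠ ⊤ ∧ H ≤ Cfsg.Geo.subspaceStabilizer W) ∨
    (∃ D : Fin n → Submodule F (Fin n → F), Cfsg.Geo.IsNondegenerateMDecomposition f 1 D ∧
        H ≤ Cfsg.Geo.decompositionStabilizer D) ∨
    (∃ K, Cfsg.Geo.IsFieldSubalgebra n K ∧ Cfsg.Geo.IsAdjointClosedFor f K ∧
        H ≤ Cfsg.Geo.subalgebraNormalizer K) ∨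
    (∃ (F₀ : Subfield F) (r : ℕ) (B : GL (Fin n) F), r.Prime ∧
        Fintype.card F = Nat.card F₀ ^ r ∧ (r = 2 → Odd q) ∧
        Cfsg.Geo.IsFormRationalStructure f F₀ 1 B ∧ H ≤ Cfsg.Geo.subfieldSubgroup F₀ B) ∨
    (∃ (p h : ℕ) (R : Subgroup (GL (Fin n) F)), p.Prime ∧ CharP F p ∧ q = p ^ h ∧ 0 < h ∧
        2 * h ∣ n - 1 ∧ n ∣ p ^ h + 1 ∧ (∀ d, 0 < d → d < 2 * h → ¬ n ∣ p ^ d - 1) ∧
        Cfsg.Geo.IsSymplecticTypeGroup n R ∧ AbsIrr R ∧ R ≤ H ∧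
        Nat.card R = n ^ 3 ∧ Nat.card (Subgroup.center R) = n ∧
        (∀ a ∈ R, ∀ b ∈ R, a * b * a⁻¹ * b⁻¹ ∈ Cfsg.Geo.scalars (Fin n) F) ∧
        H ≤ Cfsg.Geo.subgroupNormalizer R) ∨
    Cfsg.Geo.InUnitaryResidualClass H := by
  have hp : n.Prime := Fact.out
  have hcard : 1 < Fintype.card (Fin n) := by rw [Fintype.card_fin]; exact hp.one_lt
  have hodd' : Odd (Fintype.card (Fin n)) := by rwa [Fintype.card_fin]
  have hfix : ∀ P : Subgroup (GL (Fin n) F), P ≤ H →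
      Cfsg.Geo.FixesForm (Cfsg.Geo.matrixSet P) f :=
    fun P hP s hs => hHf s (Set.image_mono hP hs)
  by_cases hirr : Irr H
  swap
  · rcases reducible_unitary hf hodd' hHf hirr with h | ⟨W, h0, h1, h2, h3, h4⟩
    · exact Or.inl h
    · exact Or.inr (Or.inl ⟨W, h0, h1, by rwa [Fintype.card_fin] at h2, h3, h4⟩)
  right; right
  obtain ⟨N, ⟨hNH, hNn, hNZ, hNs⟩, hNmin⟩ := (Set.toFinite {N : Subgroup (GL (Fin n) F) |
    N ≤ H ∧ (∀ g ∈ H, ∀ a ∈ N, g * a * g⁻¹ ∈ N) ∧ H ⊓ Cfsg.Geo.scalars (Fin n) F ≤ N ∧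
      ¬ N ≤ Cfsg.Geo.scalars (Fin n) F}).exists_minimal
    ⟨H, le_rfl, fun g hg a ha => H.mul_mem (H.mul_mem hg ha) (H.inv_mem hg), inf_le_left,
      not_le_scalars_of_irr hcard hirr⟩
  have hmin : ∀ M ≤ N, (∀ g ∈ H, ∀ a ∈ M, g * a * g⁻¹ ∈ M) →
      (∀ z ∈ N, z ∈ Cfsg.Geo.scalars (Fin n) F → z ∈ M) →
      M ≤ Cfsg.Geo.scalars (Fin n) F ∨ M = N := by
    intro M hMN hMn hMZ
    by_cases hMs : M ≤ Cfsg.Geo.scalars (Fin n) F
    · exact Or.inl hMs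
    · exact Or.inr (le_antisymm hMN (hNmin ⟨hMN.trans hNH, hMn,
        fun z hz => hMZ z (hNZ hz) hz.2, hMs⟩ hMN))
  rcases unitary_trichotomy hodd hf hirr hHf (hfix N hNH) hNn with hs | hD | hK | hNabs
  · exact absurd hs hNs
  · exact Or.inl hD
  · exact Or.inr (Or.inl hK)
  right; right
  have hsub : ∀ (P : Subgroup (GL (Fin n) F)), P ≤ H → AbsIrr P →
      (∀ g ∈ H, ∀ a ∈ P, g * a * g⁻¹ ∈ P) → ∀ F₀ : Subfield F, F₀ ≠ ⊤ →
      Cfsg.Geo.RealisableOver F₀ (Cfsg.Geo.matrixSet P) →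
      ∃ (F₀ : Subfield F) (r : ℕ) (B : GL (Fin n) F), r.Prime ∧
        Fintype.card F = Nat.card F₀ ^ r ∧ (r = 2 → Odd q) ∧
        Cfsg.Geo.IsFormRationalStructure f F₀ 1 B ∧ H ≤ Cfsg.Geo.subfieldSubgroup F₀ B := by
    intro P hPH hP hPn F₀ hF₀ hreal
    obtain ⟨F₁, r, hle, hr, hc⟩ := exists_subfield_prime hF₀
    obtain ⟨B, hB⟩ := realisableOver_mono hle hreal
    obtain ⟨d, hd, hq⟩ :=
      exists_rational_structure hodd' hcard hF hσ hf hP (hfix P hPH) hc hB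
    refine ⟨F₁, r, _, hr, hc, hq, hd, ?_⟩
    rw [subfieldSubgroup_scalar_mul]
    exact le_subfieldSubgroup_of_entries hPn (envelope_eq_top hP) hB
  by_cases h2 : ∀ a ∈ N, ∀ b ∈ N, a * b * a⁻¹ * b⁻¹ ∈ Cfsg.Geo.scalars (Fin n) F
  · rcases extraspecial_unitary hodd hF hσ hf (hNH.trans hH) hNabs (hfix N hNH) hNn h2 hmin with
      ⟨F₀, hF₀, hreal⟩ | ⟨p, h, hpp, hpc, hq, hh, he, hn1, hmin', hst, hcardN, hcz⟩
    · exact Or.inl (hsub N hNH hNabs hNn F₀ hF₀ hreal)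
    · exact Or.inr (Or.inl ⟨p, h, N, hpp, hpc, hq, hh, he, hn1, hmin', hst, hNabs, hNH, hcardN,
        hcz, h2, le_subgroupNormalizer hNn⟩)
  · obtain ⟨hPabs, hPperf, hPn, hPsimp, hPna⟩ := residualCore_of_minimal (by rw [Fintype.card_fin]; exact hp) hNabs hNH hNn
      (fun z hz hzs => hNZ ⟨hz, hzs⟩) hmin h2
    have hPH : ⁅N, N⁆ ≤ H := (Subgroup.commutator_le.2 fun a ha b hb =>
        N.mul_mem (N.mul_mem (N.mul_mem ha hb) (N.inv_mem ha)) (N.inv_mem hb)).trans hNH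
    by_cases hreal : ∃ F₀ : Subfield F, F₀ ≠ ⊤ ∧
        Cfsg.Geo.RealisableOver F₀ (Cfsg.Geo.matrixSet ⁅N, N⁆)
    · obtain ⟨F₀, hF₀, hreal⟩ := hreal
      exact Or.inl (hsub _ hPH hPabs hPn F₀ hF₀ hreal)
    refine Or.inr (Or.inr ⟨⁅N, N⁆, ⟨hPH, hPn, hPperf, hPsimp, hPna, ?_, hPabs, ?_⟩,
      ?_, fun ⟨g, hg, _⟩ => not_isSymplecticForm_of_odd hodd' g hg⟩)
    · intro h _ hc
      exact hPabs.mem_scalars (commutator_mem_scalars_comm hPperf hc)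
    · exact fun F₀ hF₀ hr => hreal ⟨F₀, hF₀, hr⟩
    · rintro ⟨Q, hQ, hQfix⟩
      exact hreal (realisableOver_of_two_forms hF hσ hf hPabs (hfix _ hPH) hQ.polar_bilinear
        hQ.nondegenerate (fixesForm_polar hQfix))

end CfsgLib.Aschbacher
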