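import Cfsg.Agent.Lib.Aschbacher.UnitaryPrime
import Cfsg.Agent.Lib.Aschbacher.Proper

/-!
The special unitary group lies in none of the members of the geometric classes.
-/

set_option autoImplicit false

namespace CfsgLib.Aschbacher

open Matrix Module

variable {F : Type*} [Field F] [Fintype F] {n q : ℕ}

/-- The special unitary group inside `GL_n`. -/
abbrev SUgl (n : ℕ) (F : Type*) [Field F] (q : ℕ) : Subgroup (GL (Fin n) F) :=
  Cfsg.GU n F q ⊓ Cfsg.Geo.specialLinear (Fin n) F

/-- A root of unity of order `q + 1`. -/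
lemma exists_omega (hF : Fintype.card F = q ^ 2) :
    ∃ w : Fˣ, orderOf w = q + 1 := by
  obtain ⟨g, hg⟩ := IsCyclic.exists_ofOrder_eq_natCard (α := Fˣ)
  have hq := one_lt_q hF
  refine ⟨g ^ (q - 1), ?_⟩
  have h1 : orderOf g = (q + 1) * (q - 1) := by
    rw [hg, Nat.card_units, Nat.card_eq_fintype_card, hF, ← Nat.sq_sub_sq, one_pow]
  rw [orderOf_pow_of_dvd (by omega) (by rw [h1]; exact dvd_mul_left _ _), h1,
    Nat.mul_div_cancel _ (by omega)]

omit [Fintype F] in
lemma mul_pow_q_eq_one {w : Fˣ} (hw : w ^ (q + 1) = 1) : (w : F) * (w : F) ^ q = 1 := by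
  rw [← pow_succ', ← Units.val_pow_eq_pow_val, hw, Units.val_one]

/-- Diagonal unitary matrices. -/
noncomputable def diagU (d : Fin n → Fˣ) : GL (Fin n) F :=
  Matrix.GeneralLinearGroup.mkOfDetNeZero (Matrix.diagonal fun i => (d i : F)) (by
    rw [Matrix.det_diagonal]
    exact Finset.prod_ne_zero_iff.2 fun i _ => (d i).ne_zero)

omit [Fintype F] in
lemma diagU_mulVec (d : Fin n → Fˣ) (v : Fin n → F) (i : Fin n) :
    ((diagU d : GL (Fin n) F) : Matrix (Fin n) (Fin n) F).mulVec v i = d i * v i :=
  Matrix.mulVec_diagonal _ _ _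

omit [Fintype F] in
lemma diagU_mem {d : Fin n → Fˣ} (hd : ∀ i, d i ^ (q + 1) = 1) (hp : ∏ i, d i = 1) :
    diagU d ∈ SUgl n F q := by
  refine ⟨mem_GU.2 fun u v => ?_, ?_⟩
  · simp only [Cfsg.hermForm, diagU_mulVec, mul_pow]
    refine Finset.sum_congr rfl fun i _ => ?_
    linear_combination (u i * v i ^ q) * mul_pow_q_eq_one (hd i)
  · refine MonoidHom.mem_ker.2 (Units.ext ?_)
    show (Matrix.diagonal fun i => (d i : F)).det = 1
    rw [Matrix.det_diagonal, ← Units.coe_prod, hp, Units.val_one]

omit [Fintype F] in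
lemma diagU_mul (d e : Fin n → Fˣ) : (diagU d : GL (Fin n) F) * diagU e = diagU (d * e) := by
  refine Units.ext ?_
  show Matrix.diagonal _ * Matrix.diagonal _ = Matrix.diagonal _
  rw [Matrix.diagonal_mul_diagonal]
  rfl

omit [Fintype F] in
lemma diagU_inv (d : Fin n → Fˣ) : (diagU d : GL (Fin n) F)⁻¹ = diagU d⁻¹ := by
  refine inv_eq_of_mul_eq_one_right ?_
  rw [diagU_mul, mul_inv_cancel]
  exact Units.ext (Matrix.diagonal_one)

omit [Fintype F] in
lemma trace_diagU (d : Fin n → Fˣ) :
    Matrix.trace ((diagU d : GL (Fin n) F) : Matrix (Fin n) (Fin n) F) = ∑ i, (d i : F) :=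
  Matrix.trace_diagonal _

/-- Permutation matrices. -/
noncomputable def permU (π : Equiv.Perm (Fin n)) : GL (Fin n) F :=
  Matrix.GeneralLinearGroup.mkOfDetNeZero (π.permMatrix F) (by
    rw [Matrix.det_permutation]
    rcases Int.units_eq_one_or (Equiv.Perm.sign π) with h | h <;> simp [h])

omit [Fintype F] in
lemma permU_mulVec (π : Equiv.Perm (Fin n)) (v : Fin n → F) :
    ((permU π : GL (Fin n) F) : Matrix (Fin n) (Fin n) F).mulVec v = v ∘ π :=
  Matrix.permMatrix_mulVec π

omit [Fintype F] in
lemma permU_mem {π : Equiv.Perm (Fin n)} (hπ : Equiv.Perm.sign π = 1) :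
    (permU π : GL (Fin n) F) ∈ SUgl n F q := by
  refine ⟨mem_GU.2 fun u v => ?_, ?_⟩
  · simp only [Cfsg.hermForm, permU_mulVec, Function.comp_apply]
    exact Equiv.sum_comp π fun i => u i * v i ^ q
  · refine MonoidHom.mem_ker.2 (Units.ext ?_)
    show (π.permMatrix F).det = 1
    rw [Matrix.det_permutation, hπ]
    simp

/-- The three-cycle `i → j → k`. -/
def cyc (i j k : Fin n) : Equiv.Perm (Fin n) := Equiv.swap i j * Equiv.swap j k

lemma sign_cyc {i j k : Fin n} (hij : i ≠ j) (hjk : j ≠ k) :
    Equiv.Perm.sign (cyc i j k) = 1 := by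
  rw [cyc, map_mul, Equiv.Perm.sign_swap hij, Equiv.Perm.sign_swap hjk]
  rfl

lemma cyc_apply {i j k : Fin n} (hij : i ≠ j) (hjk : j ≠ k) (hik : i ≠ k) :
    cyc i j k i = j ∧ cyc i j k j = k ∧ cyc i j k k = i := by
  refine ⟨?_, ?_, ?_⟩
  · simp [cyc, Equiv.swap_apply_of_ne_of_ne hij hik]
  · simp [cyc, Equiv.swap_apply_of_ne_of_ne hik.symm hjk.symm]
  · simp [cyc]

lemma cyc_apply_other {i j k l : Fin n} (hi : l ≠ i) (hj : l ≠ j) (hk : l ≠ k) :
    cyc i j k l = l := by
  simp [cyc, Equiv.swap_apply_of_ne_of_ne hj hk, Equiv.swap_apply_of_ne_of_ne hi hj]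

lemma exists_third (hn : 3 ≤ n) (i j : Fin n) : ∃ k, k ≠ i ∧ k ≠ j := by
  by_contra h
  push Not at h
  have hsub : (Finset.univ : Finset (Fin n)) ⊆ {i, j} := fun k _ => by
    by_cases hk : k = i
    · simp [hk]
    · simp [h k hk]
  have := (Finset.card_le_card hsub).trans Finset.card_le_two
  rw [Finset.card_univ, Fintype.card_fin] at this
  omega

lemma prod_three {M : Type*} [CommMonoid M] {g : Fin n → M} {i j k : Fin n} (hij : i ≠ j)
    (hjk : j ≠ k) (hik : i ≠ k) (h : ∀ l, l ≠ i → l ≠ j → l ≠ k → g l = 1) :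
    ∏ l, g l = g i * g j * g k := by
  rw [← Finset.prod_subset (Finset.subset_univ {i, j, k}) (fun l _ hl => by
    simp only [Finset.mem_insert, Finset.mem_singleton, not_or] at hl
    exact h l hl.1 hl.2.1 hl.2.2)]
  rw [Finset.prod_insert (by simp [hij, hik]), Finset.prod_insert (by simp [hjk]),
    Finset.prod_singleton, mul_assoc]

theorem not_SU_le_subspaceStabilizer (hF : Fintype.card F = q ^ 2) (hn : 3 ≤ n)
    {W : Submodule F (Fin n → F)} (h0 : W ≠ ⊥) (h1 : W ≠ ⊤) :
    ¬ SUgl n F q ≤ Cfsg.Geo.subspaceStabilizer W := by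
  classical
  intro hle
  have hq := one_lt_q hF
  obtain ⟨w, hw⟩ := exists_omega hF
  have hw1 : (w : F) ≠ 1 := fun h => by
    rw [show w = 1 from Units.ext h, orderOf_one] at hw; omega
  have hwq : w ^ (q + 1) = 1 := hw ▸ pow_orderOf_eq_one w
  -- a vector of smallest support
  let supp : (Fin n → F) → Finset (Fin n) := fun v => Finset.univ.filter fun i => v i ≠ 0
  obtain ⟨v, ⟨hv, hv0⟩, hmin⟩ := Set.exists_min_image {v | v ∈ W ∧ v ≠ 0}
    (fun v => (supp v).card) (Set.toFinite _) (Submodule.exists_mem_ne_zero_of_ne_bot h0)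
  obtain ⟨i, hi⟩ := Function.ne_iff.1 hv0
  have honly : ∀ j, j ≠ i → v j = 0 := by
    intro j hji
    by_contra hj
    obtain ⟨k, hki, hkj⟩ := exists_third hn i j
    let d : Fin n → Fˣ := fun l => if l = i then w else if l = k then w⁻¹ else 1
    have hd : diagU d ∈ SUgl n F q := by
      refine diagU_mem (fun l => ?_) ?_
      · simp only [d]; split_ifs <;> simp [hwq]
      · rw [prod_three (i := i) (j := j) (k := k) hji.symm hkj.symm hki.symm
          (fun l h1 h2 h3 => by simp [d, h1, h3])]
        simp [d, hji, hki, hkj.symm]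
    set v' := ((diagU d : GL (Fin n) F) : Matrix (Fin n) (Fin n) F).mulVec v - v with hv'def
    have hv' : v' ∈ W := sub_mem ((hle hd v).1 hv) hv
    have hv'i : v' i ≠ 0 := by
      simp only [v', Pi.sub_apply, diagU_mulVec, d, if_pos]
      rw [sub_ne_zero]
      exact fun h => hw1 ((mul_eq_right₀ hi).1 h)
    have hlt : (supp v').card < (supp v).card := by
      refine Finset.card_lt_card ⟨fun l hl => ?_, fun hsub => ?_⟩
      · simp only [supp, Finset.mem_filter, Finset.mem_univ, true_and, v', Pi.sub_apply,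
          diagU_mulVec] at hl ⊢
        intro h; rw [h, mul_zero, sub_zero] at hl; exact hl rfl
      · have := hsub (show j ∈ supp v by simp [supp, hj])
        simp [supp, v', diagU_mulVec, d, hji, hkj.symm] at this
    exact absurd (hmin v' ⟨hv', fun h => hv'i (by rw [h]; rfl)⟩) (not_le.2 hlt)
  have hei : (Pi.single i 1 : Fin n → F) ∈ W := by
    have : (Pi.single i 1 : Fin n → F) = (v i)⁻¹ • v := by
      funext l
      by_cases hl : l = i
      · subst hl; simp [inv_mul_cancel₀ hi]
      · simp [hl, honly l hl]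
    rw [this]; exact W.smul_mem _ hv
  refine h1 (eq_top_iff.2 fun x _ => ?_)
  rw [pi_eq_sum_univ' x]
  refine sum_mem fun j _ => W.smul_mem _ ?_
  by_cases hji : j = i
  · rw [hji]; exact hei
  obtain ⟨k, hki, hkj⟩ := exists_third hn i j
  have hmem := (hle (permU_mem (F := F) (q := q) (sign_cyc hji hki.symm)) _).1 hei
  have : (Pi.single j 1 : Fin n → F) = (Pi.single i 1 : Fin n → F) ∘ (cyc j i k) := by
    funext l
    obtain ⟨c1, -, -⟩ := cyc_apply hji hki.symm hkj.symm
    have hiff : cyc j i k l = i ↔ l = j :=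
      ⟨fun h => (cyc j i k).injective (h.trans c1.symm), fun h => h ▸ c1⟩
    simp [Pi.single_apply, hiff]
  rw [this, ← permU_mulVec]
  exact hmem

omit [Fintype F] in
lemma exists_trace_zero {σ : F ≃+* F} {f : (Fin n → F) → (Fin n → F) → F}
    (hf : Cfsg.Geo.IsUnitaryForm σ f) : ∃ l : F, l ≠ 0 ∧ l + σ l = 0 := by
  obtain ⟨μ, hμ⟩ : ∃ μ, σ μ ≠ μ := by
    by_contra h
    push Not at h
    exact hf.ne_refl (RingEquiv.ext h)
  exact ⟨μ - σ μ, sub_ne_zero.2 (Ne.symm hμ), by rw [map_sub, hf.involutive]; ring⟩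

omit [Fintype F] in
/-- The unitary transvection attached to an isotropic vector. -/
lemma exists_transvection {σ : F ≃+* F} (hσ : ∀ a, σ a = a ^ q)
    (hf : Cfsg.Geo.IsUnitaryForm σ (Cfsg.hermForm n F q)) {u : Fin n → F}
    (hu : Cfsg.hermForm n F q u u = 0) {l : F} (hl : l + σ l = 0) :
    ∃ x ∈ SUgl n F q, ∀ v, ((x : GL (Fin n) F) : Matrix (Fin n) (Fin n) F).mulVec v =
      v + (l * Cfsg.hermForm n F q v u) • u := by
  let φ : Fin n → F := fun i => l * σ (u i)
  have hdot : ∀ v, φ ⬝ᵥ v = l * Cfsg.hermForm n F q v u := by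
    intro v
    simp only [φ, dotProduct, Cfsg.hermForm, hσ, Finset.mul_sum]
    exact Finset.sum_congr rfl fun i _ => by ring
  have h0 : φ ⬝ᵥ u = 0 := by rw [hdot, hu, mul_zero]
  refine ⟨transv u φ h0, ⟨mem_GU.2 fun v w => ?_, transv_mem h0⟩, fun v => ?_⟩
  · have hs := isSesq_of_unitary hf
    rw [transv_mulVec, transv_mulVec, hdot, hdot, hs.add_left, hs.smul_left, hs.add_right,
      hs.add_right, hs.smul_right, hs.smul_right, hu, map_mul, ← hf.herm u w]
    linear_combination (Cfsg.hermForm n F q v u * Cfsg.hermForm n F q u w) * hl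
  · rw [transv_mulVec, hdot]

lemma exists_isotropic (hF : Fintype.card F = q ^ 2) {i j : Fin n} (hij : i ≠ j) :
    ∃ c : F, c ≠ 0 ∧ Cfsg.hermForm n F q (Pi.single i 1 + c • Pi.single j 1)
      (Pi.single i 1 + c • Pi.single j 1) = 0 := by
  have hq := one_lt_q hF
  obtain ⟨σ, hσ, -⟩ := exists_unitary_hermForm (n := n) hF
  obtain ⟨d, hd0, hd⟩ := exists_mul_conj_eq hF (neg_ne_zero.2 one_ne_zero : (-1 : F) ≠ 0)
    (by rw [← hσ, map_neg, map_one])
  refine ⟨d, hd0, ?_⟩
  unfold Cfsg.hermForm
  rw [Finset.sum_eq_add i j hij (fun l _ hl => by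
      simp [hl.1, hl.2])
    (fun h => absurd (Finset.mem_univ _) h) (fun h => absurd (Finset.mem_univ _) h)]
  simp [hij, hij.symm, hd]

theorem not_SU_le_decompositionStabilizer (hF : Fintype.card F = q ^ 2) (hn : 3 ≤ n)
    (hsmall : 4 ≤ n ∨ 3 ≤ q) {D : Fin n → Submodule F (Fin n → F)}
    (hD : Cfsg.Geo.IsMDecomposition 1 D) :
    ¬ SUgl n F q ≤ Cfsg.Geo.decompositionStabilizer D := by
  classical
  intro hle
  have hq := one_lt_q hF
  obtain ⟨σ, hσ, hf⟩ := exists_unitary_hermForm (n := n) hF
  have hs := isSesq_of_unitary hf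
  have hne : ∀ i, ∃ b, b ∈ D i ∧ b ≠ 0 := fun i => by
    refine Submodule.exists_mem_ne_zero_of_ne_bot fun h => ?_
    have := hD.finrank_eq i
    rw [h, finrank_bot] at this
    omega
  choose b hb hb0 using hne
  have hli := hD.indep.linearIndependent D hb hb0
  let bb : Basis (Fin n) F (Fin n → F) := basisOfLinearIndependentOfCardEqFinrank' b hli (by simp)
  have hbb : ∀ i, bb i = b i := fun i => by simp [bb]
  have hline : ∀ i, ∀ w ∈ D i, ∃ c : F, c • b i = w := by
    intro i w hw
    obtain ⟨c, hc⟩ := (finrank_eq_one_iff_of_nonzero' (⟨b i, hb i⟩ : D i)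
      (by simpa using hb0 i)).1 (hD.finrank_eq i) ⟨w, hw⟩
    exact ⟨c, congrArg Subtype.val hc⟩
  let co : (Fin n → F) → Fin n → F := fun v => bb.equivFun v
  have hco : ∀ (c : F) i, co (c • b i) = Pi.single i c := fun c i => by
    funext k
    rw [← hbb]
    simp [co, Pi.single_apply, Finsupp.single_apply, eq_comm]
  have hlin : ∀ (c : F) x y, co (x + c • y) = co x + c • co y := fun c x y => by
    simp [co, map_add, map_smul]
  -- supports of isotropic vectors
  have hsupp : ∀ u, u ≠ 0 → Cfsg.hermForm n F q u u = 0 → ∀ l : F, l ≠ 0 → l + σ l = 0 →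
      ∃ a c, a ≠ c ∧ co u a ≠ 0 ∧ co u c ≠ 0 ∧ (∀ k, k ≠ a → k ≠ c → co u k = 0) ∧
        Cfsg.hermForm n F q (b a) u ≠ 0 ∧
        b a + (l * Cfsg.hermForm n F q (b a) u) • u ∈ D c := by
    intro u hu0 hu l hl0 hl
    obtain ⟨x, hx, hxv⟩ := exists_transvection hσ hf hu hl
    obtain ⟨π, hπ⟩ := hle hx
    have himg : ∀ a, b a + (l * Cfsg.hermForm n F q (b a) u) • u ∈ D (π a) := fun a => by
      rw [← hπ a, ← hxv]
      exact ⟨b a, hb a, rfl⟩
    by_cases hmove : ∃ a, π a ≠ a
    · obtain ⟨a, ha⟩ := hmove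
      obtain ⟨d, hd⟩ := hline _ _ (himg a)
      set m := l * Cfsg.hermForm n F q (b a) u with hm
      have hd' := congrArg co hd
      rw [hco, hlin] at hd'
      have hba : co (b a) = Pi.single a 1 := by
        have := hco 1 a
        rwa [one_smul] at this
      rw [hba] at hd'
      have hm0 : m ≠ 0 := by
        intro h
        have := congrFun hd' a
        simp [h, Ne.symm ha] at this
      have hd0 : d ≠ 0 := fun h => hb0 a (mulVec_injective x (by
        show (x : Matrix (Fin n) (Fin n) F).mulVec (b a) = (x : Matrix (Fin n) (Fin n) F).mulVec 0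
        rw [Matrix.mulVec_zero, hxv, ← hm, ← hd, h, zero_smul]))
      refine ⟨a, π a, Ne.symm ha, ?_, ?_, fun k hk1 hk2 => ?_,
        fun h => hm0 (by rw [hm, h, mul_zero]), himg a⟩
      · intro h
        have := congrFun hd' a
        simp [h, Ne.symm ha] at this
      · intro h
        have := congrFun hd' (π a)
        simp [h, ha, hd0] at this
      · have := congrFun hd' k
        simpa [hk1, hk2, hm0, eq_comm] using this
    · exfalso
      push Not at hmove
      obtain ⟨i, hi⟩ : ∃ i, Cfsg.hermForm n F q (b i) u ≠ 0 := by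
        by_contra hcon
        push Not at hcon
        obtain ⟨⟨y, hy⟩, -⟩ := hf.nondegenerate u hu0
        apply hy
        let Ker : Submodule F (Fin n → F) :=
          { carrier := {y | Cfsg.hermForm n F q y u = 0}
            add_mem' := fun {a b} ha hb => by
              show _ = _
              rw [hs.add_left, ha, hb, add_zero]
            zero_mem' := by simpa using hs.smul_left 0 0 u
            smul_mem' := fun c a ha => by
              show _ = _
              rw [hs.smul_left, ha, mul_zero] }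
        have hspan : Submodule.span F (Set.range b) ≤ Ker :=
          Submodule.span_le.2 (by rintro _ ⟨i, rfl⟩; exact hcon i)
        refine hspan ?_
        have := bb.span_eq
        rw [show (Set.range bb) = Set.range b by congr 1; exact funext hbb] at this
        rw [this]
        exact Submodule.mem_top
      set m := l * Cfsg.hermForm n F q (b i) u with hm
      have hm0 : m ≠ 0 := mul_ne_zero hl0 hi
      obtain ⟨d, hd⟩ := hline _ _ (himg i)
      rw [hmove i] at hd
      have hu' : u = (m⁻¹ * (d - 1)) • b i := by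
        rw [← smul_smul, sub_smul, one_smul, hd, add_sub_cancel_left, smul_smul,
          inv_mul_cancel₀ hm0, one_smul]
      rcases eq_or_ne (d - 1) 0 with h | h
      · exact hu0 (by rw [hu', h, mul_zero, zero_smul])
      · have h6 : b i = (m⁻¹ * (d - 1))⁻¹ • u := by
          rw [hu', smul_smul, inv_mul_cancel₀ (mul_ne_zero (inv_ne_zero hm0) h), one_smul]
        exact hi (by rw [h6, hs.smul_left, hu, mul_zero])
  obtain ⟨l₀, hl₀, hl₀'⟩ := exists_trace_zero hf
  rcases hsmall with h4 | h3
  · let i₀ : Fin n := ⟨0, by omega⟩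
    let i₁ : Fin n := ⟨1, by omega⟩
    let i₂ : Fin n := ⟨2, by omega⟩
    let i₃ : Fin n := ⟨3, by omega⟩
    obtain ⟨c, hc0, hc⟩ := exists_isotropic (n := n) hF (show i₀ ≠ i₁ by simp [i₀, i₁, Fin.ext_iff])
    obtain ⟨c', hc'0, hc'⟩ := exists_isotropic (n := n) hF
      (show i₂ ≠ i₃ by simp [i₂, i₃, Fin.ext_iff])
    set u := (Pi.single i₀ 1 + c • Pi.single i₁ 1 : Fin n → F)
    set u' := (Pi.single i₂ 1 + c' • Pi.single i₃ 1 : Fin n → F)
    have horth : Cfsg.hermForm n F q u u' = 0 := by
      refine Finset.sum_eq_zero fun k _ => ?_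
      by_cases h : k = i₀ ∨ k = i₁
      · rcases h with rfl | rfl <;>
          simp [u', i₀, i₁, i₂, i₃, Fin.ext_iff, zero_pow (show q ≠ 0 by omega)]
      · push Not at h
        simp [u, h.1, h.2]
    have horth' := (unitary_zero_iff hf).1 horth
    have hcomb : ∀ μ : F, ∀ v, v = u + μ • u' → v ≠ 0 ∧ Cfsg.hermForm n F q v v = 0 := by
      rintro μ v rfl
      refine ⟨fun h => ?_, ?_⟩
      · simpa [u, u', i₀, i₁, i₂, i₃, Fin.ext_iff] using congrFun h i₀
      · simp only [hs.add_left, hs.add_right, hs.smul_left, hs.smul_right, hc, hc', horth, horth',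
          mul_zero, add_zero]
    have hu'0 : u' ≠ 0 := fun h => by
      simpa [u', i₂, i₃, Fin.ext_iff] using congrFun h i₂
    obtain ⟨a, a', haa, ha, ha', hz, -, -⟩ := hsupp u (hcomb 0 u (by simp)).1 hc l₀ hl₀ hl₀'
    obtain ⟨e, e', hee, he, he', hz', -, -⟩ := hsupp u' hu'0 hc' l₀ hl₀ hl₀'
    by_cases hsame : co u' a ≠ 0 ∧ co u' a' ≠ 0
    · let μ := -(co u a / co u' a)
      obtain ⟨hv0, hv⟩ := hcomb μ _ rfl
      obtain ⟨s, s', hss, hs1, hs2, -, -, -⟩ := hsupp _ hv0 hv l₀ hl₀ hl₀'
      have hzero : ∀ k, k ≠ a' → co (u + μ • u') k = 0 := by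
        intro k hk
        rw [hlin, Pi.add_apply, Pi.smul_apply, smul_eq_mul]
        by_cases hka : k = a
        · subst hka
          simp only [μ]
          field_simp [hsame.1]
          ring
        · rw [hz k hka hk]
          have hk' : co u' k = 0 := by
            by_cases h1 : k = e
            · exfalso
              rcases (by
                by_contra hh; push Not at hh
                exact hsame.1 (hz' a hh.1 hh.2) : a = e ∨ a = e') with h | h
              · exact hka (h1.trans h.symm)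
              · rcases (by
                  by_contra hh; push Not at hh
                  exact hsame.2 (hz' a' hh.1 hh.2) : a' = e ∨ a' = e') with h2 | h2
                · exact hk (h1.trans h2.symm)
                · exact haa (h.trans h2.symm)
            · by_cases h3 : k = e'
              · exfalso
                rcases (by
                  by_contra hh; push Not at hh
                  exact hsame.1 (hz' a hh.1 hh.2) : a = e ∨ a = e') with h | h
                · rcases (by
                    by_contra hh; push Not at hh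
                    exact hsame.2 (hz' a' hh.1 hh.2) : a' = e ∨ a' = e') with h2 | h2
                  · exact haa (h.trans h2.symm)
                  · exact hk (h3.trans h2.symm)
                · exact hka (h3.trans h.symm)
              · exact hz' k h1 h3
          rw [hk', mul_zero, add_zero]
      have h1 : s = a' := by_contra fun h => hs1 (hzero s h)
      have h2 : s' = a' := by_contra fun h => hs2 (hzero s' h)
      exact hss (h1.trans h2.symm)
    · obtain ⟨s, hs0, hs'⟩ : ∃ s, co u s ≠ 0 ∧ co u' s = 0 := by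
        rw [not_and_or] at hsame
        rcases hsame with h | h
        · exact ⟨a, ha, not_not.1 h⟩
        · exact ⟨a', ha', not_not.1 h⟩
      obtain ⟨t, ht', ht⟩ : ∃ t, co u' t ≠ 0 ∧ co u t = 0 := by
        by_contra hcon
        push Not at hcon
        have h1 : ∀ k, co u' k ≠ 0 → k = a ∨ k = a' := fun k hk => by
          by_contra hh; push Not at hh
          exact hcon k hk (hz k hh.1 hh.2)
        have hb : s = a ∨ s = a' := by
          by_contra hh; push Not at hh
          exact hs0 (hz s hh.1 hh.2)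
        have h2 : ∀ k, co u' k ≠ 0 → k ≠ s := fun k hk h => hk (h ▸ hs')
        rcases hb with rfl | rfl
        · exact hee (((h1 e he).resolve_left (h2 e he)).trans
            ((h1 e' he').resolve_left (h2 e' he')).symm)
        · exact hee (((h1 e he).resolve_right (h2 e he)).trans
            ((h1 e' he').resolve_right (h2 e' he')).symm)
      have hkey : ∀ μ : F, μ ≠ 0 → ∀ k, k ≠ s → k ≠ t → co u k + μ * co u' k = 0 := by
        intro μ hμ k hks hkt
        obtain ⟨hv0, hv⟩ := hcomb μ _ rfl
        obtain ⟨r, r', hrr, -, -, hr, -, -⟩ := hsupp _ hv0 hv l₀ hl₀ hl₀'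
        by_contra hk
        have hk' : co (u + μ • u') k ≠ 0 := by rw [hlin]; simpa using hk
        have hs3 : co (u + μ • u') s ≠ 0 := by rw [hlin]; simpa [hs'] using hs0
        have ht3 : co (u + μ • u') t ≠ 0 := by rw [hlin]; simpa [ht] using ⟨hμ, ht'⟩
        have hmem : ∀ z, co (u + μ • u') z ≠ 0 → z = r ∨ z = r' := fun z hz => by
          by_contra hh; push Not at hh
          exact hz (hr z hh.1 hh.2)
        have hst : s ≠ t := fun h => hs0 (h ▸ ht)
        rcases hmem k hk' with h1 | h1 <;> rcases hmem s hs3 with h2 | h2 <;>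
          rcases hmem t ht3 with h3' | h3' <;>
          first | exact hks (h1.trans h2.symm) | exact hkt (h1.trans h3'.symm) |
            exact hst (h2.trans h3'.symm)
      obtain ⟨μ, hμ0, hμ1⟩ : ∃ μ : F, μ ≠ 0 ∧ μ ≠ 1 := by
        obtain ⟨w, hw⟩ := exists_omega hF
        exact ⟨w, w.ne_zero, fun h => by rw [show w = 1 from Units.ext h, orderOf_one] at hw; omega⟩
      obtain ⟨k, hk0, hks⟩ : ∃ k, co u k ≠ 0 ∧ k ≠ s := by
        by_cases h : a = s
        · exact ⟨a', ha', fun h' => haa (h.trans h'.symm)⟩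
        · exact ⟨a, ha, h⟩
      have hkt : k ≠ t := fun h => hk0 (h ▸ ht)
      have h1 := hkey 1 one_ne_zero k hks hkt
      have h2 := hkey μ hμ0 k hks hkt
      have h3 : (μ - 1) * co u' k = 0 := by linear_combination h2 - h1
      rw [(mul_eq_zero.1 h3).resolve_left (sub_ne_zero.2 hμ1), mul_zero, add_zero] at h1
      exact hk0 h1
  · obtain ⟨c, hc0, hc⟩ := exists_isotropic (n := n) hF
      (show (⟨0, by omega⟩ : Fin n) ≠ ⟨1, by omega⟩ by simp [Fin.ext_iff])
    set u := (Pi.single ⟨0, by omega⟩ 1 + c • Pi.single ⟨1, by omega⟩ 1 : Fin n → F)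
    have hu0 : u ≠ 0 := fun h => by
      simpa [u, Fin.ext_iff] using congrFun h ⟨0, by omega⟩
    obtain ⟨g, hg, hg1⟩ : ∃ g : F, σ g = g ∧ g ≠ 0 ∧ g ≠ 1 := by
      obtain ⟨gg, hgg⟩ := IsCyclic.exists_ofOrder_eq_natCard (α := Fˣ)
      refine ⟨((gg ^ (q + 1) : Fˣ) : F), ?_, Units.ne_zero _, ?_⟩
      · rw [hσ, ← Units.val_pow_eq_pow_val, ← pow_mul]
        congr 1
        have h1 : gg ^ (q ^ 2 - 1) = 1 := by
          rw [← hF, ← Fintype.card_units]; exact pow_card_eq_one
        calc gg ^ ((q + 1) * q) = gg ^ ((q ^ 2 - 1) + (q + 1)) := by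
              congr 1
              have : (q + 1) * q = q ^ 2 + q := by ring
              have := Nat.one_le_pow 2 q (by omega)
              omega
          _ = gg ^ (q + 1) := by rw [pow_add, h1, one_mul]
      · intro h
        have h' : gg ^ (q + 1) = 1 := Units.ext h
        have h2 := Nat.le_of_dvd (by omega) (orderOf_dvd_of_pow_eq_one h')
        rw [hgg, Nat.card_units, Nat.card_eq_fintype_card, hF] at h2
        have : 3 * q ≤ q ^ 2 := by rw [pow_two]; exact Nat.mul_le_mul_right q h3
        omega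
    obtain ⟨a, a', haa, ha, ha', hz, hfa, himg⟩ := hsupp u hu0 hc l₀ hl₀ hl₀'
    obtain ⟨e, e', hee, he, he', hz', hfe, himg'⟩ := hsupp u hu0 hc (g * l₀)
      (mul_ne_zero hg1.1 hl₀) (by rw [map_mul, hg]; linear_combination g * hl₀')
    obtain ⟨d, hd⟩ := hline _ _ himg
    obtain ⟨d', hd'⟩ := hline _ _ himg'
    have h1 := congrArg co hd
    have h2 := congrArg co hd'
    have hba : ∀ i, co (b i) = Pi.single i 1 := fun i => by
      have := hco 1 i
      rwa [one_smul] at this
    rw [hco, hlin, hba] at h1 h2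
    have hpair : (e = a ∧ e' = a') ∨ (e = a' ∧ e' = a) := by
      have h3' : e = a ∨ e = a' := by
        by_contra hh; push Not at hh; exact he (hz e hh.1 hh.2)
      have h4' : e' = a ∨ e' = a' := by
        by_contra hh; push Not at hh; exact he' (hz e' hh.1 hh.2)
      rcases h3' with h3' | h3' <;> rcases h4' with h4' | h4'
      · exact absurd (h3'.trans h4'.symm) hee
      · exact Or.inl ⟨h3', h4'⟩
      · exact Or.inr ⟨h3', h4'⟩
      · exact absurd (h3'.trans h4'.symm) hee
    rcases hpair with ⟨rfl, rfl⟩ | ⟨rfl, rfl⟩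
    · -- the same point is moved twice
      have hA := congrFun h1 e
      have hB := congrFun h2 e
      simp [hee] at hA hB
      have : (g - 1) * (l₀ * Cfsg.hermForm n F q (b e) u * co u e) = 0 := by
        linear_combination hA - hB
      simp [sub_ne_zero.2 hg1.2, hl₀, hfe, he] at this
    · -- the two points are exchanged
      let φ := bb.equivFun
      have hA := congrFun h1 e'
      have hB := congrFun h2 e
      simp [hee, hee.symm] at hA hB
      obtain ⟨x, hx, hxv⟩ := exists_transvection hσ hf hc hl₀'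
      obtain ⟨π, hπ⟩ := hle hx
      have himg2 : ∀ i, b i + (l₀ * Cfsg.hermForm n F q (b i) u) • u ∈ D (π i) := fun i => by
        rw [← hπ i, ← hxv]
        exact ⟨b i, hb i, rfl⟩
      obtain ⟨d₁, hd₁⟩ := hline _ _ (himg2 e)
      have h3' := congrArg co hd₁
      rw [hco, hlin, hba] at h3'
      obtain ⟨d₂, hd₂⟩ := hline _ _ (himg2 e')
      have h4' := congrArg co hd₂
      rw [hco, hlin, hba] at h4'
      have hπe' : π e' = e := by
        by_contra hne'
        have := congrFun h4' e
        simp [Ne.symm hne', hee, hl₀, hfa, ha'] at this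
      have hπe : π e = e' := by
        by_contra hne'
        have := congrFun h3' e'
        simp [Ne.symm hne', hee.symm, hl₀, hfe, ha] at this
      rw [hπe] at h3'
      have hC := congrFun h3' e
      simp [hee] at hC
      have : (g - 1) * (l₀ * Cfsg.hermForm n F q (b e) u * co u e) = 0 := by
        linear_combination hC - hB
      simp [sub_ne_zero.2 hg1.2, hl₀, hfe, he] at this

theorem not_SU_le_subalgebraNormalizer (hF : Fintype.card F = q ^ 2) (hn : 3 ≤ n) {r : ℕ}
    {K : Subalgebra F (Matrix (Fin n) (Fin n) F)} (hK : Cfsg.Geo.IsFieldSubalgebra r K)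
    (hr : 1 < r) : ¬ SUgl n F q ≤ Cfsg.Geo.subalgebraNormalizer K := by
  classical
  intro hle
  obtain ⟨σ, hσ, hf⟩ := exists_unitary_hermForm (n := n) hF
  have hs := isSesq_of_unitary hf
  obtain ⟨c, hc0, hc⟩ := exists_isotropic (n := n) hF
    (show (⟨0, by omega⟩ : Fin n) ≠ ⟨1, by omega⟩ by simp [Fin.ext_iff])
  set u := (Pi.single ⟨0, by omega⟩ 1 + c • Pi.single ⟨1, by omega⟩ 1 : Fin n → F)
  have hu0 : u ≠ 0 := fun h => by simpa [u, Fin.ext_iff] using congrFun h ⟨0, by omega⟩
  obtain ⟨l, hl0, hl⟩ := exists_trace_zero hf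
  obtain ⟨x, hx, hxv⟩ := exists_transvection hσ hf hc hl
  let φ : (Fin n → F) →ₗ[F] F :=
    { toFun := fun v => Cfsg.hermForm n F q v u
      map_add' := fun a b => hs.add_left a b u
      map_smul' := fun c a => hs.smul_left c a u }
  have hfixv : ∀ z, φ z = 0 → (x : Matrix (Fin n) (Fin n) F).mulVec z = z := fun z hz => by
    rw [hxv, show Cfsg.hermForm n F q z u = 0 from hz, mul_zero, zero_smul, add_zero]
  have hcomm : ∀ k ∈ K, ∀ z, (x : Matrix (Fin n) (Fin n) F).mulVec (k.mulVec z) =
      k.mulVec ((x : Matrix (Fin n) (Fin n) F).mulVec z) := by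
    intro k hk
    have hk' := (hle hx k).1 hk
    set k' := (x : Matrix (Fin n) (Fin n) F) * k * ((x⁻¹ : GL (Fin n) F) : Matrix (Fin n) (Fin n) F)
      with hk'def
    have heq : k' = k := by
      by_contra hne
      obtain ⟨y, -, hy⟩ := hK.inv _ (sub_mem hk' hk) (sub_ne_zero.2 hne)
      let ψ : (Fin n → F) →ₗ[F] (F × F) := φ.prod (φ.comp (Matrix.toLin' k))
      have hker : LinearMap.ker ψ ≠ ⊥ := by
        intro h
        have h1 := ψ.finrank_range_add_finrank_ker
        have h2 := Submodule.finrank_le (LinearMap.range ψ)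
        rw [h, finrank_bot, Module.finrank_fintype_fun_eq_card, Fintype.card_fin] at h1
        rw [finrank_prod, finrank_self] at h2
        omega
      obtain ⟨z, hz, hz0⟩ := Submodule.exists_mem_ne_zero_of_ne_bot hker
      simp only [ψ, LinearMap.mem_ker, LinearMap.prod_apply, Function.prod_apply, Prod.mk_eq_zero,
        LinearMap.comp_apply, Matrix.toLin'_apply] at hz
      apply hz0
      have hkz : k'.mulVec z = k.mulVec z := by
        conv_lhs => rw [← hfixv z hz.1]
        rw [hk'def, ← Matrix.mulVec_mulVec, inv_mulVec_cancel, ← Matrix.mulVec_mulVec,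
          hfixv _ hz.2]
      have hy' : y * (k' - k) = 1 := mul_eq_one_comm.1 hy
      rw [← Matrix.one_mulVec z, ← hy', ← Matrix.mulVec_mulVec, Matrix.sub_mulVec, hkz, sub_self,
        Matrix.mulVec_zero]
    intro z
    have h := congrArg (fun X : Matrix (Fin n) (Fin n) F =>
      X.mulVec ((x : Matrix (Fin n) (Fin n) F).mulVec z)) heq
    simp only [hk'def, ← Matrix.mulVec_mulVec, inv_mulVec_cancel] at h
    exact h
  obtain ⟨⟨y, hy⟩, -⟩ := hf.nondegenerate u hu0
  have hspan : ∀ k ∈ K, ∃ a : F, k.mulVec u = a • u := by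
    intro k hk
    have h := hcomm k hk y
    rw [hxv, hxv, Matrix.mulVec_add, Matrix.mulVec_smul] at h
    have h2 := add_left_cancel h
    refine ⟨(l * Cfsg.hermForm n F q y u)⁻¹ * (l * Cfsg.hermForm n F q (k.mulVec y) u), ?_⟩
    rw [← smul_smul, h2, smul_smul, inv_mul_cancel₀ (mul_ne_zero hl0 hy), one_smul]
  let f₁ : K →ₗ[F] (Fin n → F) := ((Matrix.mulVecBilin F F).flip u).comp K.val.toLinearMap
  have hinj : Function.Injective f₁ := by
    intro a b hab
    by_contra hne
    obtain ⟨y, -, hy⟩ := hK.inv ((a : Matrix (Fin n) (Fin n) F) - (b : Matrix (Fin n) (Fin n) F))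
      (sub_mem a.2 b.2) (fun h => hne (Subtype.ext (sub_eq_zero.1 h)))
    have h0 : ((a : Matrix (Fin n) (Fin n) F) - (b : Matrix (Fin n) (Fin n) F)).mulVec u = 0 := by
      rw [Matrix.sub_mulVec, sub_eq_zero]; exact hab
    apply hu0
    rw [← Matrix.one_mulVec u, ← mul_eq_one_comm.1 hy, ← Matrix.mulVec_mulVec, h0,
      Matrix.mulVec_zero]
  have hrange : LinearMap.range f₁ ≤ Submodule.span F {u} := by
    rintro _ ⟨a, rfl⟩
    obtain ⟨c, hc⟩ := hspan _ a.2
    exact Submodule.mem_span_singleton.2 ⟨c, hc.symm⟩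
  have h1 := Submodule.finrank_mono hrange
  rw [LinearMap.finrank_range_of_inj hinj, hK.finrank_eq, finrank_span_singleton hu0] at h1
  omega

omit [Fintype F] in
lemma commutator_scalar (c d : Fˣ) (A B : GL (Fin n) F) :
    scalarGL (Fin n) c * A * (scalarGL (Fin n) d * B) * (scalarGL (Fin n) c * A)⁻¹ *
      (scalarGL (Fin n) d * B)⁻¹ = A * B * A⁻¹ * B⁻¹ := by
  have h1 : ∀ (c : Fˣ) (g h : GL (Fin n) F),
      scalarGL (Fin n) c * g * h * (scalarGL (Fin n) c * g)⁻¹ = g * h * g⁻¹ := fun c g h => by
    calc _ = scalarGL (Fin n) c * (g * h * g⁻¹) * (scalarGL (Fin n) c)⁻¹ := by group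
      _ = _ := by rw [scalarGL_comm, mul_inv_cancel_right]
  rw [h1, ← mul_assoc A, ← scalarGL_comm d A]
  calc _ = scalarGL (Fin n) d * (A * B * A⁻¹ * B⁻¹) * (scalarGL (Fin n) d)⁻¹ := by group
    _ = _ := by rw [scalarGL_comm, mul_inv_cancel_right]

omit [Fintype F] in
lemma subfield_decomp {F₀ : Subfield F} {P g : GL (Fin n) F}
    (hg : g ∈ Cfsg.Geo.subfieldSubgroup F₀ P) :
    ∃ (c : Fˣ) (M : GL (Fin n) F₀), g = scalarGL (Fin n) c *
      (P * Matrix.GeneralLinearGroup.map F₀.subtype M * P⁻¹) := by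
  obtain ⟨X, hX, rfl⟩ := hg
  obtain ⟨a, ⟨M, rfl⟩, s, hs, hms⟩ := Subgroup.mem_sup_of_normal_right.1 hX
  obtain ⟨c, rfl⟩ := mem_scalars.1 hs
  refine ⟨c, M, ?_⟩
  show P * X * P⁻¹ = _
  rw [← hms, ← scalarGL_comm c]
  calc _ = P * scalarGL (Fin n) c * Matrix.GeneralLinearGroup.map F₀.subtype M * P⁻¹ := by group
    _ = scalarGL (Fin n) c * P * Matrix.GeneralLinearGroup.map F₀.subtype M * P⁻¹ := by
      rw [scalarGL_comm c P]
    _ = _ := by group

omit [Fintype F] in
lemma trace_conj (P g : GL (Fin n) F) :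
    Matrix.trace ((P * g * P⁻¹ : GL (Fin n) F) : Matrix (Fin n) (Fin n) F) =
      Matrix.trace (g : Matrix (Fin n) (Fin n) F) := by
  rw [Units.val_mul, Units.val_mul, Matrix.trace_mul_cycle, Units.inv_mul, one_mul]

omit [Fintype F] in
lemma trace_map_mem {F₀ : Subfield F} (M : GL (Fin n) F₀) :
    Matrix.trace ((Matrix.GeneralLinearGroup.map F₀.subtype M : GL (Fin n) F) :
      Matrix (Fin n) (Fin n) F) ∈ F₀ :=
  F₀.sum_mem fun i _ => ((M : Matrix (Fin n) (Fin n) F₀) i i).2

theorem not_SU_le_subfieldSubgroup (hF : Fintype.card F = q ^ 2) (hn : 3 ≤ n) (hodd : Odd n)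
    {F₀ : Subfield F} {r : ℕ} (hr : r.Prime) (hc : Fintype.card F = Nat.card F₀ ^ r)
    (P : GL (Fin n) F) : ¬ SUgl n F q ≤ Cfsg.Geo.subfieldSubgroup F₀ P := by
  classical
  intro hle
  have hq := one_lt_q hF
  obtain ⟨w, hw⟩ := exists_omega hF
  have hwq : w ^ (q + 1) = 1 := hw ▸ pow_orderOf_eq_one w
  obtain ⟨τ, hτ, hτfix⟩ := exists_frobenius_subfield F₀
  let i : Fin n := ⟨0, by omega⟩
  let j : Fin n := ⟨1, by omega⟩
  let k : Fin n := ⟨2, by omega⟩
  have hij : i ≠ j := by simp [i, j, Fin.ext_iff]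
  have hjk : j ≠ k := by simp [j, k, Fin.ext_iff]
  have hik : i ≠ k := by simp [i, k, Fin.ext_iff]
  have hsum : ∀ d : Fin n → Fˣ, (∀ l, l ≠ i → l ≠ j → l ≠ k → d l = 1) →
      ∑ l, (d l : F) = (n : F) + (((d i : F) - 1) + ((d j : F) - 1) + ((d k : F) - 1)) := by
    intro d hd
    have h1 : ∑ l, (d l : F) = ∑ l, (((d l : F) - 1) + 1) := by simp
    rw [h1, Finset.sum_add_distrib, Finset.sum_const, Finset.card_univ, Fintype.card_fin,
      nsmul_one, add_comm]
    congr 1
    rw [← Finset.sum_subset (Finset.subset_univ {i, j, k}) (fun l _ hl => by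
      simp only [Finset.mem_insert, Finset.mem_singleton, not_or] at hl
      rw [hd l hl.1 hl.2.1 hl.2.2, Units.val_one, sub_self])]
    rw [Finset.sum_insert (by simp [hij, hik]), Finset.sum_insert (by simp [hjk]),
      Finset.sum_singleton, add_assoc]
  rcases hr.eq_two_or_odd' with rfl | hrodd
  · -- index two
    let μ := w
    let d : Fin n → Fˣ := fun l => if l = i then μ else if l = k then μ⁻¹ else 1
    have hd : diagU d ∈ SUgl n F q := by
      refine diagU_mem (fun l => ?_) ?_
      · simp only [d]; split_ifs <;> simp [μ, hwq]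
      · rw [prod_three hij hjk hik (fun l h1 h2 h3 => by simp [d, h1, h3])]
        simp [d, hij.symm, hik.symm, hjk]
    let π := cyc i j k
    have hπ : (permU π : GL (Fin n) F) ∈ SUgl n F q := permU_mem (sign_cyc hij hjk)
    let e : Fin n → Fˣ := fun l => d l * (d (π l))⁻¹
    have hE : (permU π : GL (Fin n) F) * diagU d⁻¹ * (permU π)⁻¹ = diagU fun l => (d (π l))⁻¹ := by
      rw [mul_inv_eq_iff_eq_mul]
      refine Units.ext (Matrix.toLin'.injective (LinearMap.ext fun v => funext fun l => ?_))
      simp only [Units.val_mul, Matrix.toLin'_apply, ← Matrix.mulVec_mulVec, permU_mulVec,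
        Function.comp_apply, diagU_mulVec, Pi.inv_apply]
    obtain ⟨c₁, M₁, h1⟩ := subfield_decomp (hle hd)
    obtain ⟨c₂, M₂, h2⟩ := subfield_decomp (hle hπ)
    have hcom : diagU e = P * Matrix.GeneralLinearGroup.map F₀.subtype
        (M₁ * M₂ * M₁⁻¹ * M₂⁻¹) * P⁻¹ := by
      have he : diagU e = diagU d * ((permU π : GL (Fin n) F) * diagU d⁻¹ * (permU π)⁻¹) := by
        rw [hE, diagU_mul]; rfl
      rw [he, ← diagU_inv, h1, h2, ← mul_assoc, ← mul_assoc, commutator_scalar]
      simp only [map_mul, map_inv]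
      group
    have ht : (∑ l, (e l : F)) ∈ F₀ := by
      rw [← trace_diagU, hcom, trace_conj]
      exact trace_map_mem _
    obtain ⟨c1, c2, c3⟩ := cyc_apply hij hjk hik
    have hei : e i = μ := by simp [e, d, π, c1, hij.symm, hjk]
    have hej : e j = μ := by simp [e, d, π, c2, hij.symm, hjk, hik.symm]
    have hek : e k = μ⁻¹ * μ⁻¹ := by simp [e, d, π, c3, hik.symm]
    rw [hsum e (fun l h1 h2 h3 => by simp [e, d, π, cyc_apply_other h1 h2 h3, h1, h3]), hei, hej, hek] at ht
    have hq0 : Nat.card F₀ = q := by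
      rw [hF] at hc
      exact (Nat.pow_left_injective two_ne_zero hc).symm
    have hfix := (hτfix _).2 ht
    have hτw : τ (w : F) = (w : F)⁻¹ := by
      rw [hτ, hq0]
      exact eq_inv_of_mul_eq_one_right (mul_pow_q_eq_one hwq)
    rw [map_add, map_natCast, map_add, map_add, map_sub, map_sub, Units.val_mul,
      Units.val_inv_eq_inv_val, map_mul, map_inv₀, map_one, hτw] at hfix
    set z := (w : F) with hz
    have hz0 : z ≠ 0 := w.ne_zero
    have key : (z - 1) ^ 3 * (z + 1) = 0 := by
      have h5 := add_left_cancel hfix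
      simp only [inv_inv] at h5
      field_simp at h5
      linear_combination h5
    rcases mul_eq_zero.1 key with h | h
    · have hw1 : w = 1 := Units.ext (sub_eq_zero.1 (pow_eq_zero_iff three_ne_zero |>.1 h))
      rw [hw1, orderOf_one] at hw; omega
    · have h2 : w ^ 2 = 1 := Units.ext (by
        rw [Units.val_pow_eq_pow_val, ← hz, eq_neg_of_add_eq_zero_left h, Units.val_one]; ring)
      have := Nat.le_of_dvd two_pos (orderOf_dvd_of_pow_eq_one h2)
      omega
  · -- odd index
    let d : Fin n → Fˣ := fun l => if l = i then w else if l = j then w⁻¹ else 1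
    have hd : diagU d ∈ SUgl n F q := by
      refine diagU_mem (fun l => ?_) ?_
      · simp only [d]; split_ifs <;> simp [hwq]
      · rw [prod_three hij hjk hik (fun l h1 h2 h3 => by simp [d, h1, h2])]
        simp [d, hij.symm, hik.symm, hjk.symm]
    obtain ⟨c, M, h1⟩ := subfield_decomp (hle hd)
    set t := ∑ l, (d l : F) with htdef
    have hti : ∑ l, ((d⁻¹ l : Fˣ) : F) = t := by
      rw [htdef, hsum d (fun l h1 h2 h3 => by simp [d, h1, h2]),
        hsum d⁻¹ (fun l h1 h2 h3 => by simp [d, h1, h2])]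
      simp [d, hij.symm, hik.symm, hjk.symm]
      ring
    have htM : t = (c : F) * Matrix.trace ((Matrix.GeneralLinearGroup.map F₀.subtype M :
        GL (Fin n) F) : Matrix (Fin n) (Fin n) F) := by
      rw [htdef, ← trace_diagU, h1, Units.val_mul, scalarGL_val, Matrix.smul_mul, one_mul,
        Matrix.trace_smul, trace_conj, smul_eq_mul]
    have htM' : t = (c : F)⁻¹ * Matrix.trace ((Matrix.GeneralLinearGroup.map F₀.subtype M⁻¹ :
        GL (Fin n) F) : Matrix (Fin n) (Fin n) F) := by
      have h2 : (diagU d : GL (Fin n) F)⁻¹ = scalarGL (Fin n) c⁻¹ *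
          (P * Matrix.GeneralLinearGroup.map F₀.subtype M⁻¹ * P⁻¹) := by
        rw [h1, _root_.mul_inv_rev,
          show (scalarGL (Fin n) c)⁻¹ = scalarGL (Fin n) c⁻¹ from (map_inv _ c).symm, ← scalarGL_comm]
        simp [mul_assoc, map_inv]
      rw [← hti, ← trace_diagU, ← diagU_inv, h2, Units.val_mul, scalarGL_val, Matrix.smul_mul,
        one_mul, Matrix.trace_smul, trace_conj, smul_eq_mul, Units.val_inv_eq_inv_val]
    have ht2 : t ^ 2 ∈ F₀ := by
      have h3 := F₀.mul_mem (trace_map_mem M) (trace_map_mem M⁻¹)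
      have h4 : t ^ 2 = Matrix.trace ((Matrix.GeneralLinearGroup.map F₀.subtype M :
        GL (Fin n) F) : Matrix (Fin n) (Fin n) F) *
          Matrix.trace ((Matrix.GeneralLinearGroup.map F₀.subtype M⁻¹ :
        GL (Fin n) F) : Matrix (Fin n) (Fin n) F) := by
        rw [pow_two]
        nth_rewrite 1 [htM]
        rw [htM']
        field_simp
      rw [h4]
      exact h3
    have hdet : (c : F) ^ n * (((M : Matrix (Fin n) (Fin n) F₀).det : F₀) : F) = 1 := by
      have h3 := congrArg (fun g : GL (Fin n) F => (g : Matrix (Fin n) (Fin n) F).det) h1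
      simp only [Units.val_mul, Matrix.det_mul, scalarGL_val, Matrix.det_smul, Matrix.det_one,
        Fintype.card_fin, mul_one] at h3
      have h4 : (P : Matrix (Fin n) (Fin n) F).det *
          ((P⁻¹ : GL (Fin n) F) : Matrix (Fin n) (Fin n) F).det = 1 := by
        rw [← Matrix.det_mul, Units.mul_inv, Matrix.det_one]
      have h5 : (diagU d : GL (Fin n) F).1.det = 1 := by
        have := congrArg Units.val (MonoidHom.mem_ker.1 hd.2)
        exact this
      have h6 : ((Matrix.GeneralLinearGroup.map F₀.subtype M : GL (Fin n) F) :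
          Matrix (Fin n) (Fin n) F).det = (((M : Matrix (Fin n) (Fin n) F₀).det : F₀) : F) :=
        (RingHom.map_det F₀.subtype (M : Matrix (Fin n) (Fin n) F₀)).symm
      rw [h6] at h3
      linear_combination h5 - h3 - (c : F) ^ n *
        (((M : Matrix (Fin n) (Fin n) F₀).det : F₀) : F) * h4
    have htn : t ^ n ∈ F₀ := by
      have hcn : (c : F) ^ n ∈ F₀ := by
        rw [eq_inv_of_mul_eq_one_left hdet]
        exact F₀.inv_mem ((M : Matrix (Fin n) (Fin n) F₀).det).2
      rw [htM, mul_pow]
      exact F₀.mul_mem hcn (pow_mem (trace_map_mem M) n)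
    have ht : t ∈ F₀ := by
      obtain ⟨a, ha⟩ := hodd
      rcases eq_or_ne t 0 with h | h
      · rw [h]; exact F₀.zero_mem
      · have : t = t ^ n / (t ^ 2) ^ a := by
          rw [ha, ← pow_mul, pow_succ, mul_div_cancel_left₀ _ (pow_ne_zero _ h)]
        rw [this]
        exact F₀.div_mem htn (pow_mem ht2 a)
    have hfix := (hτfix _).2 ht
    rw [htdef, hsum d (fun l h1 h2 h3 => by simp [d, h1, h2])] at hfix
    simp only [d, hij.symm, hik.symm, hjk.symm, if_true, if_false, Units.val_inv_eq_inv_val,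
      Units.val_one, map_add, map_natCast, map_sub, map_one, map_inv₀] at hfix
    set z := (w : F) with hz
    have hz0 : z ≠ 0 := w.ne_zero
    have hτz0 : τ z ≠ 0 := (map_ne_zero_iff τ τ.injective).2 hz0
    have key : (τ z - z) * (τ z * z - 1) = 0 := by
      have h5 := add_left_cancel hfix
      field_simp at h5
      linear_combination h5
    set Q := Nat.card F₀
    have hQ1 : 1 < Q := by
      rcases Nat.lt_or_ge 1 Q with h | h
      · exact h
      · exfalso
        have := Fintype.one_lt_card (α := F)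
        have h' := Nat.pow_le_pow_left h r
        rw [one_pow, ← hc] at h'
        omega
    have hQq : Q < q := by
      by_contra h
      push Not at h
      obtain ⟨a, rfl⟩ := hrodd
      have h1 : q ^ (2 * a + 1) ≤ Q ^ (2 * a + 1) := Nat.pow_le_pow_left h _
      rw [← hc, hF] at h1
      have h2 := (Nat.pow_le_pow_iff_right hq).1 h1
      have := hr.two_le
      omega
    rcases mul_eq_zero.1 key with h | h
    · have h2 : w ^ (Q - 1) = 1 := by
        refine mul_right_cancel (b := w) ?_
        rw [← pow_succ, Nat.sub_add_cancel hQ1.le, one_mul]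
        exact Units.ext (by rw [Units.val_pow_eq_pow_val, ← hτ, ← hz]; exact sub_eq_zero.1 h)
      have := Nat.le_of_dvd (by omega) (orderOf_dvd_of_pow_eq_one h2)
      omega
    · have h2 : w ^ (Q + 1) = 1 := Units.ext (by
        rw [Units.val_pow_eq_pow_val, pow_succ, ← hτ, ← hz, Units.val_one]
        exact sub_eq_zero.1 h)
      have := Nat.le_of_dvd (by omega) (orderOf_dvd_of_pow_eq_one h2)
      omega

theorem not_SU_le_normalizer_extraspecial (hF : Fintype.card F = q ^ 2) [Fact n.Prime]
    (hodd : Odd n) {p : ℕ} [CharP F p] (hsmall : 5 ≤ n ∨ (p ≠ 2 ∧ p ≠ 3))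
    {R : Subgroup (GL (Fin n) F)} (hR : AbsIrr R) (hcard : Nat.card R = n ^ 3)
    (h2 : ∀ a ∈ R, ∀ b ∈ R, a * b * a⁻¹ * b⁻¹ ∈ Cfsg.Geo.scalars (Fin n) F) :
    ¬ SUgl n F q ≤ Cfsg.Geo.subgroupNormalizer R := by
  classical
  intro hle
  have hp : n.Prime := Fact.out
  have hn : 3 ≤ n := by
    obtain ⟨k, hk⟩ := hodd
    have := hp.two_le
    omega
  haveI : Nonempty (Fin n) := ⟨⟨0, by omega⟩⟩
  obtain ⟨σ, hσ, hf⟩ := exists_unitary_hermForm (n := n) hF
  have hs := isSesq_of_unitary hf
  obtain ⟨c, hc0, hc⟩ := exists_isotropic (n := n) hF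
    (show (⟨0, by omega⟩ : Fin n) ≠ ⟨1, by omega⟩ by simp [Fin.ext_iff])
  set u := (Pi.single ⟨0, by omega⟩ 1 + c • Pi.single ⟨1, by omega⟩ 1 : Fin n → F)
  have hu0 : u ≠ 0 := fun h => by simpa [u, Fin.ext_iff] using congrFun h ⟨0, by omega⟩
  obtain ⟨l, hl0, hl⟩ := exists_trace_zero hf
  obtain ⟨x, hx, hxv⟩ := exists_transvection hσ hf hc hl
  let φ : (Fin n → F) →ₗ[F] F :=
    { toFun := fun v => Cfsg.hermForm n F q v u
      map_add' := fun a b => hs.add_left a b u
      map_smul' := fun c a => hs.smul_left c a u }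
  have hfixv : ∀ z, φ z = 0 → (x : Matrix (Fin n) (Fin n) F).mulVec z = z := fun z hz => by
    rw [hxv, show Cfsg.hermForm n F q z u = 0 from hz, mul_zero, zero_smul, add_zero]
  have hxne : ∀ c : F, (x : Matrix (Fin n) (Fin n) F) ≠ c • 1 := by
    intro c hxc
    obtain ⟨⟨y, hy⟩, -⟩ := hf.nondegenerate u hu0
    have hker : LinearMap.ker φ ≠ ⊥ := by
      intro h
      have h1 := φ.finrank_range_add_finrank_ker
      have h2 := Submodule.finrank_le (LinearMap.range φ)
      rw [h, finrank_bot, Module.finrank_fintype_fun_eq_card, Fintype.card_fin] at h1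
      rw [finrank_self] at h2
      omega
    obtain ⟨z, hz, hz0⟩ := Submodule.exists_mem_ne_zero_of_ne_bot hker
    have h1 := hfixv z hz
    rw [hxc, Matrix.smul_mulVec, Matrix.one_mulVec] at h1
    have hc1 : c = 1 := smul_left_injective F hz0 (by simpa using h1)
    have h2 := hxv y
    rw [hxc, hc1, one_smul, Matrix.one_mulVec, left_eq_add, smul_eq_zero] at h2
    exact (h2.resolve_right hu0) |> fun h => mul_ne_zero hl0 hy h
  have hnotcomm : ¬ ∀ a ∈ R, x * a = a * x := fun h => by
    obtain ⟨c, hc⟩ := (Cfsg.Geo.mem_scalars_iff x).1 (hR.mem_scalars h)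
    exact hxne c hc
  obtain ⟨a, ha, hxa⟩ : ∃ a ∈ R, x * a ≠ a * x := by simpa using hnotcomm
  by_cases h5 : 5 ≤ n
  · -- large dimension: a commutator has a plane of fixed vectors
    let w := x * a * x⁻¹ * a⁻¹
    have hw : w ∈ R := R.mul_mem ((Subgroup.mem_normalizer_iff.1 (hle hx) a).1 ha) (R.inv_mem ha)
    let ψ : (Fin n → F) →ₗ[F] (F × F) :=
      φ.prod (φ.comp (Matrix.toLin' ((a⁻¹ : GL (Fin n) F) : Matrix (Fin n) (Fin n) F)))
    have hfix : ∀ v, ψ v = 0 → (w : Matrix (Fin n) (Fin n) F).mulVec v = v := by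
      intro v hv
      simp only [ψ, LinearMap.prod_apply, Function.prod_apply, Prod.mk_eq_zero, LinearMap.comp_apply,
        Matrix.toLin'_apply] at hv
      have h3 := hfixv _ hv.2
      have h4 : ((x⁻¹ : GL (Fin n) F) : Matrix (Fin n) (Fin n) F).mulVec
          (((a⁻¹ : GL (Fin n) F) : Matrix (Fin n) (Fin n) F).mulVec v) =
          ((a⁻¹ : GL (Fin n) F) : Matrix (Fin n) (Fin n) F).mulVec v := by
        conv_lhs => rw [← h3]
        rw [inv_mulVec_cancel]
      simp only [w, mul_mulVec, h4, mulVec_inv_cancel]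
      exact hfixv v hv.1
    by_cases hws : w ∈ Cfsg.Geo.scalars (Fin n) F
    · obtain ⟨c, hc⟩ := (Cfsg.Geo.mem_scalars_iff w).1 hws
      have hker : LinearMap.ker ψ ≠ ⊥ := by
        intro h
        have h1 := ψ.finrank_range_add_finrank_ker
        have h2 := Submodule.finrank_le (LinearMap.range ψ)
        rw [h, finrank_bot, Module.finrank_fintype_fun_eq_card, Fintype.card_fin] at h1
        rw [finrank_prod, finrank_self] at h2
        omega
      obtain ⟨z, hz, hz0⟩ := Submodule.exists_mem_ne_zero_of_ne_bot hker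
      have h1 := hfix z hz
      rw [hc, Matrix.smul_mulVec, Matrix.one_mulVec] at h1
      have hc1 : (c : F) = 1 := smul_left_injective F hz0 (by simpa using h1)
      apply hxa
      have hw1 : w = 1 := Units.ext (by rw [hc, hc1, one_smul, Units.val_one])
      calc x * a = w * a * x := by simp [w, mul_assoc]
        _ = a * x := by rw [hw1, one_mul]
    · clear_value w
      obtain ⟨b, hb, hwb⟩ : ∃ b ∈ R, w * b ≠ b * w := by
        by_contra hcon
        push Not at hcon
        exact hws (hR.mem_scalars hcon)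
      obtain ⟨z, hz⟩ := (Cfsg.Geo.mem_scalars_iff _).1 (h2 b hb w hw)
      have hbw : (b : Matrix (Fin n) (Fin n) F) * (w : Matrix (Fin n) (Fin n) F) =
          (z : F) • ((w : Matrix (Fin n) (Fin n) F) * (b : Matrix (Fin n) (Fin n) F)) := by
        have h3 : (b * w * b⁻¹ * w⁻¹) * (w * b) = b * w := by group
        have h4 := congrArg (fun g : GL (Fin n) F => (g : Matrix (Fin n) (Fin n) F)) h3
        rw [Units.val_mul, hz, Matrix.smul_mul, one_mul, Units.val_mul, Units.val_mul] at h4
        exact h4.symm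
      have hz1 : (z : F) ≠ 1 := fun h => hwb (Units.ext (by
        rw [Units.val_mul, Units.val_mul, hbw, h, one_smul]))
      have hzn : (z : F) ^ n = 1 := by
        have h3 := congrArg Matrix.det hbw
        rw [Matrix.det_mul, Matrix.det_smul, Matrix.det_mul, Fintype.card_fin] at h3
        refine mul_right_cancel₀ (mul_ne_zero w.det_ne_zero b.det_ne_zero) ?_
        rw [one_mul, ← h3]; ring
      have hzp : IsPrimitiveRoot (z : F) n := by
        refine IsPrimitiveRoot.iff_def _ _ |>.2 ⟨hzn, fun k hk => ?_⟩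
        have h3 : orderOf (z : F) = n := orderOf_eq_prime hzn hz1
        rw [← h3]
        exact orderOf_dvd_of_pow_eq_one hk
      -- powers of `b` carry the fixed vector to a basis of eigenvectors
      have heig : ∀ (i : ℕ) (v : Fin n → F), (w : Matrix (Fin n) (Fin n) F).mulVec v = v →
          (w : Matrix (Fin n) (Fin n) F).mulVec
            (((b ^ i : GL (Fin n) F) : Matrix (Fin n) (Fin n) F).mulVec v) =
          ((z : F)⁻¹) ^ i • ((b ^ i : GL (Fin n) F) : Matrix (Fin n) (Fin n) F).mulVec v := by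
        intro i v hv
        induction i with
        | zero => simpa using hv
        | succ i ih =>
          rw [pow_succ', mul_mulVec]
          generalize ((b ^ i : GL (Fin n) F) : Matrix (Fin n) (Fin n) F).mulVec v = y at ih ⊢
          have h4 : (w : Matrix (Fin n) (Fin n) F).mulVec ((b : Matrix (Fin n) (Fin n) F).mulVec y) =
              (z : F)⁻¹ • (b : Matrix (Fin n) (Fin n) F).mulVec
                ((w : Matrix (Fin n) (Fin n) F).mulVec y) := by
            rw [Matrix.mulVec_mulVec, Matrix.mulVec_mulVec, hbw, Matrix.smul_mulVec, smul_smul,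
              inv_mul_cancel₀ z.ne_zero, one_smul]
          rw [h4, ih, Matrix.mulVec_smul, smul_smul, pow_succ']
      have hker : 2 ≤ finrank F (LinearMap.ker ψ) := by
        have h1 := ψ.finrank_range_add_finrank_ker
        have h2 := Submodule.finrank_le (LinearMap.range ψ)
        rw [Module.finrank_fintype_fun_eq_card, Fintype.card_fin] at h1
        rw [finrank_prod, finrank_self] at h2
        omega
      obtain ⟨v, hv, hv0⟩ := Submodule.exists_mem_ne_zero_of_ne_bot
        (show LinearMap.ker ψ ≠ ⊥ by intro h; rw [h, finrank_bot] at hker; omega)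
      let vs : Fin n → Fin n → F := fun i =>
        ((b ^ (i : ℕ) : GL (Fin n) F) : Matrix (Fin n) (Fin n) F).mulVec v
      have hvs : ∀ i, vs i ≠ 0 := fun i h => hv0 (mulVec_injective (b ^ (i : ℕ))
        (show _ = Matrix.mulVec _ 0 by rw [Matrix.mulVec_zero]; exact h))
      let μ : Fin n → F := fun i => ((z : F)⁻¹) ^ (i : ℕ)
      have hμ : Function.Injective μ := fun i j h =>
        Fin.ext ((hzp.inv).pow_inj i.2 j.2 h)
      have hli : LinearIndependent F vs :=
        Module.End.eigenvectors_linearIndependent' (Matrix.toLin' (w : Matrix (Fin n) (Fin n) F))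
          μ hμ vs fun i => ⟨by
            rw [Module.End.mem_eigenspace_iff, Matrix.toLin'_apply]
            exact heig i v (hfix v hv), hvs i⟩
      let bs : Basis (Fin n) F (Fin n → F) :=
        basisOfLinearIndependentOfCardEqFinrank' vs hli (by simp)
      have hbs : ∀ i, bs i = vs i := fun i => by simp [bs]
      have hfixed : ∀ y, (w : Matrix (Fin n) (Fin n) F).mulVec y = y →
          y ∈ Submodule.span F {v} := by
        intro y hy
        have hy2 : ∑ j, bs.repr y j • (w : Matrix (Fin n) (Fin n) F).mulVec (vs j) = y := by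
          simp only [← Matrix.mulVec_smul, ← Matrix.mulVec_sum, ← hbs, bs.sum_repr, hy]
        have h4 : ∀ i, bs.repr y i * μ i = bs.repr y i := by
          intro i
          have h5 : ∑ j, (bs.repr y j * μ j) • bs j = y := by
            refine Eq.trans (Finset.sum_congr rfl fun j _ => ?_) hy2
            rw [← smul_smul, hbs, heig j v (hfix v hv)]
          have h6 := congrArg (fun t => bs.repr t i) h5
          simpa [map_sum, Finsupp.single_apply] using h6
        rw [← bs.sum_repr y]
        refine sum_mem fun i _ => ?_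
        rcases eq_or_ne i ⟨0, by omega⟩ with rfl | hi
        · refine Submodule.smul_mem _ _ ?_
          rw [hbs]
          simp [vs, Submodule.mem_span_singleton_self]
        · have h7 : μ i ≠ 1 := fun h => hi (hμ (by rw [h]; simp [μ]))
          have : bs.repr y i = 0 := by
            have h8 : bs.repr y i * (μ i - 1) = 0 := by linear_combination h4 i
            exact (mul_eq_zero.1 h8).resolve_right (sub_ne_zero.2 h7)
          rw [this, zero_smul]; exact zero_mem _
      have hle' : LinearMap.ker ψ ≤ Submodule.span F {v} := fun y hy => hfixed y (hfix y hy)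
      have := Submodule.finrank_mono hle'
      rw [finrank_span_singleton hv0] at this
      omega
  · -- dimension three: count fixed points of conjugation
    obtain ⟨hp2, hp3⟩ := hsmall.resolve_left h5
    have hn3 : n = 3 := by
      obtain ⟨k, hk⟩ := hodd
      omega
    subst hn3
    obtain ⟨-, hpp, -⟩ := FiniteField.card F p
    haveI : Fact p.Prime := ⟨hpp⟩
    have hxpow : ∀ m : ℕ, ∀ v, ((x ^ m : GL (Fin 3) F) : Matrix (Fin 3) (Fin 3) F).mulVec v =
        v + ((m : F) * (l * Cfsg.hermForm 3 F q v u)) • u := by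
      intro m v
      induction m with
      | zero => simp
      | succ m ih =>
        rw [pow_succ', mul_mulVec, ih, hxv, hs.add_left, hs.smul_left, hc, mul_zero, add_zero,
          add_assoc, ← add_smul]
        congr 2
        push_cast
        ring
    have hxp : x ^ p = 1 := by
      refine Units.ext (Matrix.toLin'.injective (LinearMap.ext fun v => ?_))
      rw [Matrix.toLin'_apply, hxpow, CharP.cast_eq_zero, zero_mul, zero_smul, add_zero,
        Units.val_one, Matrix.toLin'_one, LinearMap.id_apply]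
    have hnorm := Subgroup.mem_normalizer_iff.1 (hle hx)
    let π : Equiv.Perm R :=
      { toFun := fun a => ⟨x * a * x⁻¹, (hnorm a).1 a.2⟩
        invFun := fun a => ⟨x⁻¹ * a * x, (hnorm _).2 (by simp [mul_assoc])⟩
        left_inv := fun a => Subtype.ext (by simp [mul_assoc])
        right_inv := fun a => Subtype.ext (by simp [mul_assoc]) }
    have hπpow : ∀ (m : ℕ) (a : R), (((π ^ m) a : R) : GL (Fin 3) F) = x ^ m * a * (x ^ m)⁻¹ := by
      intro m a
      induction m with
      | zero => simp
      | succ m ih =>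
        rw [pow_succ' π, Equiv.Perm.mul_apply]
        show x * _ * x⁻¹ = _
        rw [ih, pow_succ']
        group
    have hπ : π ^ p ^ 1 = 1 := Equiv.ext fun a => Subtype.ext (by
      rw [hπpow, pow_one, hxp]; simp)
    haveI : Fintype R := Fintype.ofFinite _
    have hmod := Equiv.Perm.card_compl_support_modEq hπ
    let C : Subgroup R := (Subgroup.centralizer ({x} : Set (GL (Fin 3) F))).subgroupOf R
    have hC : π.supportᶜ.card = Nat.card C := by
      rw [← Fintype.card_coe, ← Nat.card_eq_fintype_card]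
      refine Nat.card_congr (Equiv.subtypeEquivRight fun a => ?_)
      rw [Finset.mem_compl, Equiv.Perm.mem_support, not_not, Subgroup.mem_subgroupOf,
        Subgroup.mem_centralizer_singleton_iff, Subtype.ext_iff]
      show x * (a : GL (Fin 3) F) * x⁻¹ = a ↔ _
      rw [mul_inv_eq_iff_eq_mul, eq_comm]
    rw [hC, ← Nat.card_eq_fintype_card, hcard] at hmod
    have hdvd : Nat.card C ∣ 3 ^ 3 := hcard ▸ Subgroup.card_subgroup_dvd_card C
    have hne : Nat.card C ≠ 3 ^ 3 := by
      intro h
      have htop : C = ⊤ := Subgroup.eq_top_of_card_eq C (by rw [h, hcard])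
      apply hxa
      have : (⟨a, ha⟩ : R) ∈ C := htop ▸ Subgroup.mem_top _
      rw [Subgroup.mem_subgroupOf, Subgroup.mem_centralizer_singleton_iff] at this
      exact this.symm
    have hne1 : Nat.card C ≠ 1 := by
      intro h
      obtain ⟨s, hs1, hsC⟩ : ∃ s : GL (Fin 3) F, s ≠ 1 ∧
          s ∈ R ∧ s ∈ Cfsg.Geo.scalars (Fin 3) F := by
        by_contra hcon
        push Not at hcon
        obtain ⟨b, hb, hab⟩ : ∃ b ∈ R, a * b ≠ b * a := by
          by_contra hcom
          push Not at hcom
          obtain ⟨c, hc⟩ := (Cfsg.Geo.mem_scalars_iff a).1 (hR.mem_scalars hcom)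
          exact hxa (Units.ext (by
            rw [Units.val_mul, Units.val_mul, hc, Matrix.mul_smul, Matrix.smul_mul, mul_one,
              one_mul]))
        refine hcon (a * b * a⁻¹ * b⁻¹) (fun h1 => hab ?_)
          (R.mul_mem (R.mul_mem (R.mul_mem ha hb) (R.inv_mem ha)) (R.inv_mem hb)) (h2 a ha b hb)
        rwa [mul_inv_eq_one, mul_inv_eq_iff_eq_mul] at h1
      have hbot := Subgroup.eq_bot_of_card_eq C h
      have hsmem : (⟨s, hsC.1⟩ : R) ∈ C := by
        rw [Subgroup.mem_subgroupOf, Subgroup.mem_centralizer_singleton_iff]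
        exact (scalars_comm hsC.2 x)
      rw [hbot, Subgroup.mem_bot] at hsmem
      exact hs1 (congrArg Subtype.val hsmem)
    obtain ⟨k, hk, hCk⟩ := (Nat.dvd_prime_pow Nat.prime_three).1 hdvd
    rw [hCk] at hne hne1 hmod
    have hd := (Nat.modEq_iff_dvd' (Nat.pow_le_pow_right (by norm_num) hk)).1 hmod
    interval_cases k
    · simp at hne1
    · rcases (Nat.Prime.dvd_mul hpp).1 (show p ∣ 8 * 3 by norm_num at hd ⊢; exact hd) with h | h
      · exact hp2 ((Nat.prime_dvd_prime_iff_eq hpp Nat.prime_two).1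
          (hpp.dvd_of_dvd_pow (show p ∣ 2 ^ 3 by norm_num; exact h)))
      · exact hp3 ((Nat.prime_dvd_prime_iff_eq hpp Nat.prime_three).1 h)
    · rcases (Nat.Prime.dvd_mul hpp).1 (show p ∣ 2 * 9 by norm_num at hd ⊢; exact hd) with h | h
      · exact hp2 ((Nat.prime_dvd_prime_iff_eq hpp Nat.prime_two).1 h)
      · exact hp3 ((Nat.prime_dvd_prime_iff_eq hpp Nat.prime_three).1
          (hpp.dvd_of_dvd_pow (show p ∣ 3 ^ 2 by norm_num; exact h)))
    · simp at hne

end CfsgLib.Aschbacher
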