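import Cfsg.Agent.Lib.Aschbacher.Basic

/-!
Systems of matrix units inside a matrix algebra: every system is, after a change of basis, the
standard one tensored with an identity; products of commuting systems.
-/

set_option autoImplicit false

namespace CfsgLib.Aschbacher

open Matrix Module

open scoped Kronecker

variable {F : Type*} [Field F] {ι : Type} [Fintype ι] [DecidableEq ι] {κ : Type} [Fintype κ]
  [DecidableEq κ]

/-- A system of matrix units indexed by `κ`. -/
structure IsUnits (E : κ → κ → Matrix ι ι F) : Prop where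
  mul : ∀ i j k l, E i j * E k l = if j = k then E i l else 0
  sum : ∑ i, E i i = 1

lemma IsUnits.mul_same {E : κ → κ → Matrix ι ι F} (hE : IsUnits E) (i j l : κ) :
    E i j * E j l = E i l := by
  rw [hE.mul, if_pos rfl]

lemma IsUnits.mul_ne {E : κ → κ → Matrix ι ι F} (hE : IsUnits E) {i j k l : κ} (h : j ≠ k) :
    E i j * E k l = 0 := by
  rw [hE.mul, if_neg h]

/-- Reindexing followed by conjugation, as an algebra isomorphism. -/
noncomputable def frAlg {κ' : Type} [Fintype κ'] [DecidableEq κ'] (e : ι ≃ κ') (P : GL ι F) :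
    Matrix κ' κ' F ≃ₐ[F] Matrix ι ι F :=
  (Matrix.reindexAlgEquiv F F e.symm).trans
    { toFun := fun X => (P : Matrix ι ι F) * X * ((P⁻¹ : GL ι F) : Matrix ι ι F)
      invFun := fun X => ((P⁻¹ : GL ι F) : Matrix ι ι F) * X * (P : Matrix ι ι F)
      left_inv := fun X => by simp [← mul_assoc]
      right_inv := fun X => by simp [← mul_assoc]
      map_mul' := fun X Y => by simp [mul_assoc]
      map_add' := fun X Y => by simp [mul_add, add_mul]
      commutes' := fun c => by
        simp [Algebra.algebraMap_eq_smul_one] }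

lemma frAlg_apply {κ' : Type} [Fintype κ'] [DecidableEq κ'] (e : ι ≃ κ') (P : GL ι F)
    (X : Matrix κ' κ' F) :
    frAlg e P X = (P : Matrix ι ι F) * X.submatrix e e * ((P⁻¹ : GL ι F) : Matrix ι ι F) := by
  simp [frAlg]

/-- Reindexing followed by conjugation, on invertible matrices. -/
noncomputable def frU {κ' : Type} [Fintype κ'] [DecidableEq κ'] (e : ι ≃ κ') (P : GL ι F) :
    GL κ' F ≃* GL ι F :=
  (Cfsg.Geo.glReindex e.symm).trans (MulAut.conj P)

lemma frU_val {κ' : Type} [Fintype κ'] [DecidableEq κ'] (e : ι ≃ κ') (P : GL ι F) (g : GL κ' F) :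
    ((frU e P g : GL ι F) : Matrix ι ι F) = frAlg e P (g : Matrix κ' κ' F) := by
  simp [frU, frAlg, Cfsg.Geo.glReindex]

lemma map_glReindex_conj {κ' : Type} [Fintype κ'] [DecidableEq κ'] (e : ι ≃ κ') (P : GL ι F)
    (S : Subgroup (GL κ' F)) :
    (S.map (Cfsg.Geo.glReindex e.symm).toMonoidHom).map (MulAut.conj P).toMonoidHom =
      S.map (frU e P).toMonoidHom := by
  rw [Subgroup.map_map]
  rfl

theorem IsUnits.map {ι' : Type} [Fintype ι'] [DecidableEq ι'] {E : κ → κ → Matrix ι ι F}
    (hE : IsUnits E) (φ : Matrix ι ι F →ₐ[F] Matrix ι' ι' F) :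
    IsUnits fun i j => φ (E i j) := by
  refine ⟨fun i j k l => ?_, ?_⟩
  · rw [← map_mul, hE.mul]; split <;> simp
  · rw [← map_sum, hE.sum, map_one]

theorem isUnits_single : IsUnits fun i j : κ => Matrix.single i j (1 : F) := by
  refine ⟨fun i j k l => ?_, ?_⟩
  · split <;> rename_i h
    · subst h; simp
    · simp [h]
  · ext a b
    rw [Matrix.sum_apply, Finset.sum_eq_single a]
    · simp [Matrix.single_apply, Matrix.one_apply]
    · intro c _ hc; simp [Matrix.single_apply, hc]
    · simp

/-- A system of matrix units is a standard one tensored with an identity. -/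
theorem IsUnits.exists_frame [Nonempty ι] {E : κ → κ → Matrix ι ι F} (hE : IsUnits E) :
    ∃ b, 0 < b ∧ Fintype.card ι = Fintype.card κ * b ∧
      ∀ e : ι ≃ κ × Fin b, ∃ P : GL ι F, ∀ y z,
        E y z = frAlg e P (Matrix.single y z (1 : F) ⊗ₖ (1 : Matrix (Fin b) (Fin b) F)) := by
  classical
  obtain ⟨x₀⟩ : Nonempty κ := by
    by_contra h
    rw [not_nonempty_iff] at h
    have h1 := hE.sum
    rw [Finset.univ_eq_empty, Finset.sum_empty] at h1
    exact zero_ne_one h1
  let W : Submodule F (ι → F) := LinearMap.range (Matrix.toLin' (E x₀ x₀))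
  have hW : ∀ w ∈ W, E x₀ x₀ *ᵥ w = w := by
    rintro w ⟨u, rfl⟩
    rw [Matrix.toLin'_apply, Matrix.mulVec_mulVec, hE.mul_same]
  let w := Module.finBasis F W
  let v : κ × Fin (finrank F W) → ι → F := fun p => E p.1 x₀ *ᵥ (w p.2 : ι → F)
  have hEv : ∀ y z x j, E y z *ᵥ v (x, j) = if z = x then v (y, j) else 0 := by
    intro y z x j
    simp only [v, Matrix.mulVec_mulVec, hE.mul]
    split <;> simp
  have hli : LinearIndependent F v := by
    rw [Fintype.linearIndependent_iff]
    rintro c hc ⟨x, j⟩
    have h0 := congrArg (fun u => E x₀ x *ᵥ u) hc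
    simp only [Matrix.mulVec_sum, Matrix.mulVec_smul, Matrix.mulVec_zero,
      Fintype.sum_prod_type, hEv, smul_ite, smul_zero, Finset.sum_ite_irrel,
      Finset.sum_const_zero, Finset.sum_ite_eq, Finset.mem_univ, if_true] at h0
    have h1 : ∑ k, c (x, k) • w k = 0 := Subtype.ext (by
      rw [Submodule.coe_sum]
      have h2 : ∀ k, v (x₀, k) = (w k : ι → F) := fun k => hW _ (w k).2
      simpa [h2] using h0)
    exact Fintype.linearIndependent_iff.1 w.linearIndependent _ h1 j
  have hspan : ⊤ ≤ Submodule.span F (Set.range v) := by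
    intro u _
    have hu : u = ∑ x, E x x₀ *ᵥ (E x₀ x *ᵥ u) := by
      conv_lhs => rw [← Matrix.one_mulVec u, ← hE.sum, Matrix.sum_mulVec]
      exact Finset.sum_congr rfl fun x _ => by rw [Matrix.mulVec_mulVec, hE.mul_same]
    rw [hu]
    refine sum_mem fun x _ => ?_
    have hmem : E x₀ x *ᵥ u ∈ W := ⟨E x₀ x *ᵥ u, by
      rw [Matrix.toLin'_apply, Matrix.mulVec_mulVec, hE.mul_same]⟩
    obtain ⟨z, hz⟩ : ∃ z : W, (z : ι → F) = E x₀ x *ᵥ u := ⟨⟨_, hmem⟩, rfl⟩
    rw [← hz, ← w.sum_repr z, Submodule.coe_sum, Matrix.mulVec_sum]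
    refine sum_mem fun j _ => ?_
    rw [Submodule.coe_smul, Matrix.mulVec_smul]
    exact Submodule.smul_mem _ _ (Submodule.subset_span ⟨(x, j), rfl⟩)
  have hcard : Fintype.card ι = Fintype.card κ * finrank F W := by
    have h := Module.finrank_eq_card_basis (Module.Basis.mk hli hspan)
    simpa using h
  refine ⟨finrank F W, ?_, hcard, fun e => ?_⟩
  · by_contra h
    have h0 : finrank F W = 0 := by omega
    rw [h0, mul_zero] at hcard
    exact Fintype.card_ne_zero hcard
  let M : Matrix ι ι F := Matrix.of fun r i => v (e i) r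
  have hM : IsUnit M := by
    rw [← Matrix.linearIndependent_cols_iff_isUnit]
    exact hli.comp e e.injective
  obtain ⟨P, hP⟩ := hM
  have hcol : ∀ i, (P : Matrix ι ι F) *ᵥ Pi.single i 1 = v (e i) := fun i => by
    rw [hP, Matrix.mulVec_single_one]; rfl
  refine ⟨P, fun y z => ?_⟩
  rw [frAlg_apply]
  refine (Units.eq_mul_inv_iff_mul_eq P).2 (Matrix.ext_of_mulVec_single fun i => ?_)
  rw [← Matrix.mulVec_mulVec, hcol, ← Prod.mk.eta (p := e i), hEv, ← Matrix.mulVec_mulVec]
  have hsingle : ((Matrix.single y z (1 : F) ⊗ₖ (1 : Matrix (Fin (finrank F W)) (Fin (finrank F W))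
      F)).submatrix e e) *ᵥ Pi.single i 1 =
      if z = (e i).1 then (Pi.single (e.symm (y, (e i).2)) 1 : ι → F) else 0 := by
    rw [Matrix.mulVec_single_one]
    funext r
    by_cases hz : z = (e i).1
    · rw [if_pos hz]
      by_cases hr : r = e.symm (y, (e i).2)
      · subst hr; simp [hz]
      · have : y ≠ (e r).1 ∨ (e r).2 ≠ (e i).2 := by
          by_contra h
          push Not at h
          apply hr
          rw [Equiv.eq_symm_apply]
          exact Prod.ext h.1.symm h.2
        rcases this with h | h <;> simp [hr, Matrix.single_apply, h]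
    · simp [hz, Matrix.single_apply]
  rw [hsingle]
  split
  · rw [hcol, Equiv.apply_symm_apply]
  · rw [Matrix.mulVec_zero]

/-- A full system of matrix units is conjugate to the standard one. -/
theorem IsUnits.exists_conj {E : ι → ι → Matrix ι ι F} (hE : IsUnits E) [Nonempty ι] :
    ∃ P : GL ι F, ∀ y z, (P : Matrix ι ι F) * Matrix.single y z (1 : F) = E y z * P := by
  obtain ⟨b, hb, hcard, hfr⟩ := hE.exists_frame
  have hb1 : b = 1 := by
    have h1 : Fintype.card ι * 1 = Fintype.card ι * b := by omega
    exact (Nat.eq_of_mul_eq_mul_left Fintype.card_pos h1).symm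
  subst hb1
  obtain ⟨P, hP⟩ := hfr (Equiv.prodUnique ι (Fin 1)).symm
  refine ⟨P, fun y z => ?_⟩
  rw [hP, frAlg_apply, mul_assoc, Units.inv_mul, mul_one]
  congr 1
  ext a c
  simp [Matrix.single_apply]

/-- Every endomorphism of the matrix algebra is inner. -/
theorem exists_conj_of_algHom [Nonempty ι] (φ : Matrix ι ι F →ₐ[F] Matrix ι ι F) :
    ∃ P : GL ι F, ∀ X, (P : Matrix ι ι F) * X = φ X * P := by
  obtain ⟨P, hP⟩ := (isUnits_single.map φ).exists_conj
  refine ⟨P, fun X => ?_⟩
  conv_lhs => rw [Matrix.matrix_eq_sum_single X]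
  conv_rhs => rw [Matrix.matrix_eq_sum_single X]
  simp only [Finset.mul_sum, map_sum, Finset.sum_mul]
  refine Finset.sum_congr rfl fun i _ => Finset.sum_congr rfl fun j _ => ?_
  have h : Matrix.single i j (X i j) = X i j • Matrix.single i j (1 : F) := by simp
  rw [h, Matrix.mul_smul, hP, map_smul, Matrix.smul_mul]

section family

variable {t m : ℕ} {E : Fin t → Fin m → Fin m → Matrix ι ι F}
  (hc : ∀ i j, i ≠ j → ∀ k l k' l', Commute (E i k l) (E j k' l'))

include hc in
lemma pairwise_units (s : Finset (Fin t)) (x y : Fin t → Fin m) :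
    (s : Set (Fin t)).Pairwise (Function.onFun Commute fun i => E i (x i) (y i)) :=
  fun i _ j _ h => hc i j h _ _ _ _

/-- The product of a family of commuting systems. -/
noncomputable def prodUnits (x y : Fin t → Fin m) : Matrix ι ι F :=
  Finset.univ.noncommProd (fun i => E i (x i) (y i)) (pairwise_units hc _ x y)

lemma prodUnits_mul (hE : ∀ i, IsUnits (E i)) (x y z w : Fin t → Fin m) :
    prodUnits hc x y * prodUnits hc z w = if y = z then prodUnits hc x w else 0 := by
  have h := Finset.noncommProd_mul_distrib (s := Finset.univ) (fun i => E i (x i) (y i))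
    (fun i => E i (z i) (w i)) (pairwise_units hc _ x y)
    (pairwise_units hc _ z w) (fun i _ j _ h => hc i j h _ _ _ _)
  rw [prodUnits, prodUnits, ← h]
  split <;> rename_i hyz
  · subst hyz
    exact Finset.noncommProd_congr rfl (fun i _ => by simp [(hE i).mul_same]) _
  · obtain ⟨i, hi⟩ := Function.ne_iff.1 hyz
    rw [← Finset.mul_noncommProd_erase Finset.univ (Finset.mem_univ i)]
    simp [(hE i).mul_ne hi]

lemma prodUnits_sum (hE : ∀ i, IsUnits (E i)) [NeZero m] :
    ∑ x, prodUnits hc x x = 1 := by
  classical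
  have key : ∀ (s : Finset (Fin t)) (M : Matrix ι ι F),
      (∀ x : Fin t → Fin m, s.noncommProd (fun i => E i 0 (x i))
        (pairwise_units hc s (fun _ => 0) x) * M = 0) → M = 0 := by
    intro s
    induction s using Finset.induction_on with
    | empty =>
      intro M h
      have h' := h 0
      rwa [Finset.noncommProd_empty, one_mul] at h'
    | @insert a s ha ih =>
      intro M h
      refine ih M fun x => ?_
      set R := s.noncommProd (fun i => E i 0 (x i)) (pairwise_units hc s (fun _ => 0) x) * M with hR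
      have h0 : ∀ k, E a 0 k * R = 0 := by
        intro k
        have hk := h (Function.update x a k)
        rw [Finset.noncommProd_insert_of_notMem _ _ _ _ ha, mul_assoc] at hk
        have e : s.noncommProd (fun i => E i 0 (Function.update x a k i))
            (pairwise_units hc s (fun _ => 0) (Function.update x a k)) =
            s.noncommProd (fun i => E i 0 (x i)) (pairwise_units hc s (fun _ => 0) x) :=
          Finset.noncommProd_congr rfl (fun i hi => by
            rw [Function.update_of_ne (fun h : i = a => ha (h ▸ hi))]) _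
        simpa [e, hR] using hk
      calc R = ∑ k, E a k k * R := by rw [← Finset.sum_mul, (hE a).sum, one_mul]
        _ = 0 := Finset.sum_eq_zero fun k _ => by
            rw [← (hE a).mul_same k 0 k, mul_assoc, h0, mul_zero]
  refine (sub_eq_zero.1 (key Finset.univ _ fun x => ?_)).symm
  show prodUnits hc (fun _ => 0) x * _ = 0
  simp [mul_sub, Finset.mul_sum, prodUnits_mul hc hE]

lemma isUnits_prodUnits (hE : ∀ i, IsUnits (E i)) [NeZero m] : IsUnits (prodUnits hc) :=
  ⟨prodUnits_mul hc hE, prodUnits_sum hc hE⟩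

lemma eq_sum_prodUnits (hE : ∀ i, IsUnits (E i)) [NeZero m] (i : Fin t) (k l : Fin m) :
    E i k l = ∑ x with x i = l, prodUnits hc (Function.update x i k) x := by
  classical
  conv_lhs => rw [← mul_one (E i k l), ← prodUnits_sum hc hE, Finset.mul_sum]
  rw [Finset.sum_filter]
  refine Finset.sum_congr rfl fun x _ => ?_
  unfold prodUnits
  rw [← Finset.mul_noncommProd_erase Finset.univ (Finset.mem_univ i)
    (fun j => E j (x j) (x j)), ← mul_assoc, (hE i).mul]
  by_cases h : l = x i
  · rw [if_pos h, if_pos h.symm, ← Finset.mul_noncommProd_erase Finset.univ (Finset.mem_univ i)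
      (fun j => E j (Function.update x i k j) (x j)), Function.update_self]
    congr 1
    exact Finset.noncommProd_congr rfl (fun j hj => by
      rw [Function.update_of_ne (Finset.ne_of_mem_erase hj)]) _
  · rw [if_neg h, if_neg (Ne.symm h), zero_mul]

end family

end CfsgLib.Aschbacher
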